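import Cfsg.Agent.H651.O9.Rep
import Cfsg.Agent.Lib.NodupNat
import Cfsg.Agent.Prune
set_option linter.all false
prune_inst 0x7f00000000000000000000000000000000000000000000000000000000000000000000000000000000000000000000000000000000000000000000000000000000000000000000000000000000000000003fffffffffffffffffffffffffffbeffbdffffffff
open scoped Cfsg.Agent.FastGrp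
private noncomputable def lq26c8b9c1d715 {T : Sort _} (f :
    (type_of% @_root_.List.cons.{0}) →
    (type_of% @_root_.List.nil.{0}) →
    ((List (Prod Nat Nat)) → (List (Prod Nat Nat))) →
    (type_of% @_root_.Prod.mk.{0, 0}) →
    (type_of% @_root_.Cfsg.Agent.H651.O9.iniF) →
    (type_of% @_root_.Cfsg.Agent.H651.O9.stF) →
    (type_of% @_root_.Cfsg.Agent.H651.O9.eqL) → T) : T :=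
  f (@_root_.List.cons.{0}) (@_root_.List.nil.{0}) (fun x => x) (@_root_.Prod.mk.{0, 0}) (@_root_.Cfsg.Agent.H651.O9.iniF) (@_root_.Cfsg.Agent.H651.O9.stF) (@_root_.Cfsg.Agent.H651.O9.eqL)

-- part: H651/O9/D0
section
/-!
# Classes of the orthogonal group in dimension 9 over the field with three elements, part 0 (helper651)
-/

set_option autoImplicit false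
set_option exponentiation.threshold 30000
set_option maxRecDepth 100000

namespace Cfsg.Agent.H651.O9

theorem a0 : Ok 161 113897138240453257200426 :=
  ok_of (beta% delta% lq26c8b9c1d715 fun vqc0 vqc1 _ _ _ _ _ =>
      (vqc0 (vqc0 2 (vqc0 2 (vqc0 0 (vqc0 1 (vqc0 0 (vqc0 1 (vqc0 1 (vqc0 0 (vqc0 1 vqc1))))))))) (vqc0 (vqc0 2 (vqc0 2 (vqc0 2 (vqc0 2 (vqc0 0 (vqc0 0 (vqc0 2 (vqc0 1 (vqc0 2 vqc1))))))))) (vqc0 (vqc0 1 (vqc0 0 (vqc0 1 (vqc0 0 (vqc0 0 (vqc0 2 (vqc0 2 (vqc0 2 (vqc0 1 vqc1))))))))) (vqc0 (vqc0 0 (vqc0 2 (vqc0 0 (vqc0 1 (vqc0 2 (vqc0 0 (vqc0 0 (vqc0 0 (vqc0 0 vqc1))))))))) (vqc0 (vqc0 2 (vqc0 0 (vqc0 0 (vqc0 2 (vqc0 1 (vqc0 1 (vqc0 2 (vqc0 0 (vqc0 1 vqc1))))))))) (vqc0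 (vqc0 0 (vqc0 1 (vqc0 0 (vqc0 0 (vqc0 1 (vqc0 0 (vqc0 1 (vqc0 1 (vqc0 2 vqc1))))))))) (vqc0 (vqc0 1 (vqc0 2 (vqc0 1 (vqc0 2 (vqc0 2 (vqc0 0 (vqc0 0 (vqc0 1 (vqc0 2 vqc1))))))))) (vqc0 (vqc0 0 (vqc0 0 (vqc0 1 (vqc0 2 (vqc0 0 (vqc0 1 (vqc0 2 (vqc0 1 (vqc0 1 vqc1))))))))) (vqc0 (vqc0 1 (vqc0 1 (vqc0 1 (vqc0 0 (vqc0 2 (vqc0 0 (vqc0 2 (vqc0 1 (vqc0 1 vqc1))))))))) vqc1))))))))))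
    (beta% delta% lq26c8b9c1d715 fun vqc0 vqc1 _ _ _ _ _ =>
        (vqc0 (vqc0 0 (vqc0 1 (vqc0 0 (vqc0 0 (vqc0 2 (vqc0 2 (vqc0 0 (vqc0 0 (vqc0 1 vqc1))))))))) (vqc0 (vqc0 1 (vqc0 1 (vqc0 2 (vqc0 0 (vqc0 1 (vqc0 2 (vqc0 0 (vqc0 1 (vqc0 0 vqc1))))))))) (vqc0 (vqc0 1 (vqc0 0 (vqc0 2 (vqc0 0 (vqc0 0 (vqc0 0 (vqc0 2 (vqc0 2 (vqc0 2 vqc1))))))))) (vqc0 (vqc0 2 (vqc0 0 (vqc0 0 (vqc0 2 (vqc0 0 (vqc0 1 (vqc0 2 (vqc0 2 (vqc0 2 vqc1))))))))) (vqc0 (vqc0 2 (vqc0 1 (vqc0 0 (vqc0 1 (vqc0 1 (vqc0 2 (vqc0 0 (vqc0 2 (vqc0 1 vqc1))))))))) (vqc0 (vqc0 0 (vqc0 1 (vqc0 2 (vqc0 2 (vqc0 2 (vqc0 1 (vqc0 2 (vqc0 0 (vqc0 0 vqc1))))))))) (vqc0 (vqc0 2 (vqc0 1 (vqc0 1 (vqc0 1 (vqc0 2 (vqc0 2 (vqc0 1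 (vqc0 0 (vqc0 2 vqc1))))))))) (vqc0 (vqc0 1 (vqc0 2 (vqc0 0 (vqc0 1 (vqc0 0 (vqc0 2 (vqc0 2 (vqc0 1 (vqc0 1 vqc1))))))))) (vqc0 (vqc0 2 (vqc0 1 (vqc0 0 (vqc0 0 (vqc0 2 (vqc0 2 (vqc0 0 (vqc0 2 (vqc0 2 vqc1))))))))) vqc1))))))))))
    [13494] (by decide +kernel)

theorem a1 : Ok 3887 115017789342319777284906 :=
  ok_of (beta% delta% lq26c8b9c1d715 fun vqc0 vqc1 _ _ _ _ _ =>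
      (vqc0 (vqc0 0 (vqc0 0 (vqc0 0 (vqc0 1 (vqc0 1 (vqc0 0 (vqc0 2 (vqc0 2 (vqc0 2 vqc1))))))))) (vqc0 (vqc0 0 (vqc0 1 (vqc0 2 (vqc0 1 (vqc0 0 (vqc0 0 (vqc0 2 (vqc0 1 (vqc0 1 vqc1))))))))) (vqc0 (vqc0 1 (vqc0 2 (vqc0 1 (vqc0 1 (vqc0 0 (vqc0 0 (vqc0 1 (vqc0 1 (vqc0 2 vqc1))))))))) (vqc0 (vqc0 1 (vqc0 1 (vqc0 0 (vqc0 0 (vqc0 2 (vqc0 0 (vqc0 0 (vqc0 2 (vqc0 1 vqc1))))))))) (vqc0 (vqc0 2 (vqc0 2 (vqc0 0 (vqc0 2 (vqc0 0 (vqc0 0 (vqc0 2 (vqc0 0 (vqc0 1 vqc1))))))))) (vqc0 (vqc0 1 (vqc0 1 (vqc0 1 (vqc0 0 (vqc0 1 (vqc0 0 (vqc0 0 (vqc0 0 (vqc0 1 vqc1))))))))) (vqc0 (vqc0 0 (vqc0 0 (vqc0 0 (vqc0 0 (vqc0 1 (vqc0 0 (vqc0 0 (vqc0 0 (vqc0 0 vqc1))))))))) (vqc0 (vqc0 2 (vqc0 1 (vqc0 2 (vqc0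 2 (vqc0 1 (vqc0 1 (vqc0 2 (vqc0 1 (vqc0 0 vqc1))))))))) (vqc0 (vqc0 0 (vqc0 2 (vqc0 0 (vqc0 1 (vqc0 2 (vqc0 0 (vqc0 2 (vqc0 1 (vqc0 0 vqc1))))))))) vqc1))))))))))
    (beta% delta% lq26c8b9c1d715 fun vqc0 vqc1 _ _ _ _ _ =>
        (vqc0 (vqc0 1 (vqc0 2 (vqc0 1 (vqc0 0 (vqc0 1 (vqc0 1 (vqc0 0 (vqc0 1 (vqc0 0 vqc1))))))))) (vqc0 (vqc0 0 (vqc0 0 (vqc0 0 (vqc0 0 (vqc0 1 (vqc0 2 (vqc0 1 (vqc0 2 (vqc0 1 vqc1))))))))) (vqc0 (vqc0 0 (vqc0 0 (vqc0 2 (vqc0 1 (vqc0 1 (vqc0 1 (vqc0 0 (vqc0 0 (vqc0 0 vqc1))))))))) (vqc0 (vqc0 1 (vqc0 1 (vqc0 2 (vqc0 1 (vqc0 2 (vqc0 1 (vqc0 2 (vqc0 1 (vqc0 2 vqc1))))))))) (vqc0 (vqc0 0 (vqc0 0 (vqc0 1 (vqc0 1 (vqc0 1 (vqc0 2 (vqc0 2 (vqc0 2 (vqc0 2 vqc1)))))))))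 (vqc0 (vqc0 2 (vqc0 1 (vqc0 2 (vqc0 2 (vqc0 2 (vqc0 1 (vqc0 2 (vqc0 1 (vqc0 2 vqc1))))))))) (vqc0 (vqc0 1 (vqc0 1 (vqc0 2 (vqc0 1 (vqc0 1 (vqc0 1 (vqc0 0 (vqc0 1 (vqc0 2 vqc1))))))))) (vqc0 (vqc0 1 (vqc0 0 (vqc0 0 (vqc0 1 (vqc0 2 (vqc0 2 (vqc0 2 (vqc0 0 (vqc0 2 vqc1))))))))) (vqc0 (vqc0 1 (vqc0 0 (vqc0 0 (vqc0 1 (vqc0 2 (vqc0 2 (vqc0 2 (vqc0 2 (vqc0 0 vqc1))))))))) vqc1))))))))))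
    [15756, 8076, 13732] (by decide +kernel)

theorem a2 : Ok 1943 566683995045005938066218 :=
  ok_of (beta% delta% lq26c8b9c1d715 fun vqc0 vqc1 _ _ _ _ _ =>
      (vqc0 (vqc0 2 (vqc0 1 (vqc0 1 (vqc0 0 (vqc0 1 (vqc0 2 (vqc0 1 (vqc0 0 (vqc0 1 vqc1))))))))) (vqc0 (vqc0 2 (vqc0 1 (vqc0 2 (vqc0 2 (vqc0 2 (vqc0 2 (vqc0 1 (vqc0 0 (vqc0 1 vqc1))))))))) (vqc0 (vqc0 1 (vqc0 2 (vqc0 0 (vqc0 1 (vqc0 2 (vqc0 2 (vqc0 1 (vqc0 1 (vqc0 2 vqc1))))))))) (vqc0 (vqc0 0 (vqc0 2 (vqc0 0 (vqc0 1 (vqc0 0 (vqc0 2 (vqc0 1 (vqc0 1 (vqc0 1 vqc1))))))))) (vqc0 (vqc0 2 (vqc0 2 (vqc0 1 (vqc0 0 (vqc0 1 (vqc0 1 (vqc0 2 (vqc0 1 (vqc0 2 vqc1))))))))) (vqc0 (vqc0 0 (vqc0 1 (vqc0 2 (vqc0 1 (vqc0 1 (vqc0 1 (vqc0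 2 (vqc0 0 (vqc0 0 vqc1))))))))) (vqc0 (vqc0 0 (vqc0 0 (vqc0 0 (vqc0 2 (vqc0 1 (vqc0 1 (vqc0 0 (vqc0 0 (vqc0 1 vqc1))))))))) (vqc0 (vqc0 1 (vqc0 2 (vqc0 2 (vqc0 1 (vqc0 0 (vqc0 1 (vqc0 0 (vqc0 0 (vqc0 2 vqc1))))))))) (vqc0 (vqc0 2 (vqc0 1 (vqc0 1 (vqc0 0 (vqc0 0 (vqc0 1 (vqc0 0 (vqc0 1 (vqc0 0 vqc1))))))))) vqc1))))))))))
    (beta% delta% lq26c8b9c1d715 fun vqc0 vqc1 _ _ _ _ _ =>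
        (vqc0 (vqc0 0 (vqc0 0 (vqc0 0 (vqc0 0 (vqc0 2 (vqc0 1 (vqc0 2 (vqc0 2 (vqc0 0 vqc1))))))))) (vqc0 (vqc0 1 (vqc0 1 (vqc0 0 (vqc0 1 (vqc0 0 (vqc0 2 (vqc0 0 (vqc0 0 (vqc0 1 vqc1))))))))) (vqc0 (vqc0 1 (vqc0 1 (vqc0 1 (vqc0 0 (vqc0 0 (vqc0 0 (vqc0 1 (vqc0 2 (vqc0 0 vqc1))))))))) (vqc0 (vqc0 2 (vqc0 2 (vqc0 0 (vqc0 1 (vqc0 2 (vqc0 2 (vqc0 2 (vqc0 1 (vqc0 1 vqc1))))))))) (vqc0 (vqc0 0 (vqc0 1 (vqc0 0 (vqc0 2 (vqc0 0 (vqc0 1 (vqc0 1 (vqc0 1 (vqc0 2 vqc1))))))))) (vqc0 (vqc0 0 (vqc0 2 (vqc0 2 (vqc0 2 (vqc0 2 (vqc0 0 (vqc0 0 (vqc0 2 (vqc0 1 vqc1))))))))) (vqc0 (vqc0 2 (vqc0 0 (vqc0 1 (vqc0 0 (vqc0 0 (vqc0 1 (vqc0 2 (vqc0 0 (vqc0 0 vqc1))))))))) (vqc0 (vqc0 2 (vqc0 0 (vqc0 1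 (vqc0 1 (vqc0 1 (vqc0 2 (vqc0 1 (vqc0 1 (vqc0 1 vqc1))))))))) (vqc0 (vqc0 0 (vqc0 1 (vqc0 2 (vqc0 2 (vqc0 0 (vqc0 1 (vqc0 1 (vqc0 1 (vqc0 0 vqc1))))))))) vqc1))))))))))
    [17482, 12224, 17285] (by decide +kernel)

theorem a3 : Ok 52487 340010386768179971556624 :=
  ok_of (beta% delta% lq26c8b9c1d715 fun vqc0 vqc1 _ _ _ _ _ =>
      (vqc0 (vqc0 2 (vqc0 2 (vqc0 1 (vqc0 0 (vqc0 0 (vqc0 0 (vqc0 0 (vqc0 2 (vqc0 2 vqc1))))))))) (vqc0 (vqc0 0 (vqc0 0 (vqc0 2 (vqc0 0 (vqc0 1 (vqc0 1 (vqc0 1 (vqc0 0 (vqc0 1 vqc1))))))))) (vqc0 (vqc0 0 (vqc0 0 (vqc0 0 (vqc0 0 (vqc0 0 (vqc0 0 (vqc0 2 (vqc0 2 (vqc0 1 vqc1))))))))) (vqc0 (vqc0 1 (vqc0 2 (vqc0 0 (vqc0 2 (vqc0 0 (vqc0 2 (vqc0 1 (vqc0 2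 (vqc0 1 vqc1))))))))) (vqc0 (vqc0 2 (vqc0 2 (vqc0 0 (vqc0 0 (vqc0 0 (vqc0 2 (vqc0 1 (vqc0 0 (vqc0 1 vqc1))))))))) (vqc0 (vqc0 2 (vqc0 2 (vqc0 1 (vqc0 0 (vqc0 2 (vqc0 0 (vqc0 1 (vqc0 0 (vqc0 1 vqc1))))))))) (vqc0 (vqc0 0 (vqc0 0 (vqc0 1 (vqc0 1 (vqc0 2 (vqc0 0 (vqc0 2 (vqc0 0 (vqc0 2 vqc1))))))))) (vqc0 (vqc0 2 (vqc0 1 (vqc0 2 (vqc0 1 (vqc0 2 (vqc0 0 (vqc0 0 (vqc0 1 (vqc0 1 vqc1))))))))) (vqc0 (vqc0 2 (vqc0 1 (vqc0 2 (vqc0 2 (vqc0 1 (vqc0 0 (vqc0 0 (vqc0 2 (vqc0 2 vqc1))))))))) vqc1))))))))))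
    (beta% delta% lq26c8b9c1d715 fun vqc0 vqc1 _ _ _ _ _ =>
        (vqc0 (vqc0 2 (vqc0 2 (vqc0 1 (vqc0 2 (vqc0 2 (vqc0 2 (vqc0 0 (vqc0 2 (vqc0 1 vqc1))))))))) (vqc0 (vqc0 1 (vqc0 2 (vqc0 1 (vqc0 0 (vqc0 0 (vqc0 1 (vqc0 1 (vqc0 2 (vqc0 1 vqc1))))))))) (vqc0 (vqc0 0 (vqc0 2 (vqc0 2 (vqc0 1 (vqc0 1 (vqc0 1 (vqc0 1 (vqc0 0 (vqc0 0 vqc1))))))))) (vqc0 (vqc0 1 (vqc0 2 (vqc0 0 (vqc0 1 (vqc0 2 (vqc0 1 (vqc0 2 (vqc0 0 (vqc0 1 vqc1))))))))) (vqc0 (vqc0 1 (vqc0 2 (vqc0 1 (vqc0 2 (vqc0 2 (vqc0 0 (vqc0 1 (vqc0 0 (vqc0 2 vqc1))))))))) (vqc0 (vqc0 1 (vqc0 2 (vqc0 2 (vqc0 1 (vqc0 0 (vqc0 1 (vqc0 1 (vqc0 2 (vqc0 0 vqc1))))))))) (vqc0 (vqc0 2 (vqc0 2 (vqc0 0 (vqc0 2 (vqc0 1 (vqc0 0 (vqc0 2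 (vqc0 0 (vqc0 2 vqc1))))))))) (vqc0 (vqc0 0 (vqc0 2 (vqc0 2 (vqc0 0 (vqc0 2 (vqc0 0 (vqc0 2 (vqc0 2 (vqc0 2 vqc1))))))))) (vqc0 (vqc0 0 (vqc0 1 (vqc0 0 (vqc0 0 (vqc0 1 (vqc0 0 (vqc0 1 (vqc0 2 (vqc0 0 vqc1))))))))) vqc1))))))))))
    [7466, 5852, 12501, 5440] (by decide +kernel)

theorem a4 : Ok 52487 340010386768179970965828 :=
  ok_of (beta% delta% lq26c8b9c1d715 fun vqc0 vqc1 _ _ _ _ _ =>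
      (vqc0 (vqc0 0 (vqc0 1 (vqc0 1 (vqc0 0 (vqc0 1 (vqc0 2 (vqc0 1 (vqc0 1 (vqc0 0 vqc1))))))))) (vqc0 (vqc0 1 (vqc0 1 (vqc0 2 (vqc0 1 (vqc0 1 (vqc0 1 (vqc0 0 (vqc0 2 (vqc0 2 vqc1))))))))) (vqc0 (vqc0 1 (vqc0 1 (vqc0 1 (vqc0 2 (vqc0 2 (vqc0 2 (vqc0 0 (vqc0 0 (vqc0 2 vqc1))))))))) (vqc0 (vqc0 2 (vqc0 1 (vqc0 1 (vqc0 2 (vqc0 0 (vqc0 1 (vqc0 1 (vqc0 0 (vqc0 2 vqc1))))))))) (vqc0 (vqc0 2 (vqc0 1 (vqc0 1 (vqc0 0 (vqc0 2 (vqc0 1 (vqc0 2 (vqc0 0 (vqc0 2 vqc1))))))))) (vqc0 (vqc0 1 (vqc0 1 (vqc0 1 (vqc0 1 (vqc0 2 (vqc0 2 (vqc0 2 (vqc0 2 (vqc0 1 vqc1))))))))) (vqc0 (vqc0 2 (vqc0 1 (vqc0 0 (vqc0 0 (vqc0 2 (vqc0 2 (vqc0 2 (vqc0 2 (vqc0 2 vqc1))))))))) (vqc0 (vqc0 0 (vqc0 0 (vqc0 2 (vqc0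 0 (vqc0 1 (vqc0 0 (vqc0 0 (vqc0 1 (vqc0 0 vqc1))))))))) (vqc0 (vqc0 2 (vqc0 0 (vqc0 2 (vqc0 2 (vqc0 1 (vqc0 0 (vqc0 2 (vqc0 1 (vqc0 1 vqc1))))))))) vqc1))))))))))
    (beta% delta% lq26c8b9c1d715 fun vqc0 vqc1 _ _ _ _ _ =>
        (vqc0 (vqc0 0 (vqc0 2 (vqc0 0 (vqc0 0 (vqc0 1 (vqc0 1 (vqc0 0 (vqc0 0 (vqc0 2 vqc1))))))))) (vqc0 (vqc0 2 (vqc0 1 (vqc0 0 (vqc0 0 (vqc0 0 (vqc0 2 (vqc0 2 (vqc0 1 (vqc0 2 vqc1))))))))) (vqc0 (vqc0 1 (vqc0 1 (vqc0 0 (vqc0 0 (vqc0 0 (vqc0 2 (vqc0 0 (vqc0 2 (vqc0 1 vqc1))))))))) (vqc0 (vqc0 2 (vqc0 1 (vqc0 0 (vqc0 0 (vqc0 2 (vqc0 2 (vqc0 2 (vqc0 2 (vqc0 2 vqc1))))))))) (vqc0 (vqc0 1 (vqc0 0 (vqc0 2 (vqc0 2 (vqc0 0 (vqc0 0 (vqc0 0 (vqc0 2 (vqc0 2 vqc1)))))))))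 (vqc0 (vqc0 1 (vqc0 0 (vqc0 2 (vqc0 0 (vqc0 1 (vqc0 0 (vqc0 0 (vqc0 0 (vqc0 0 vqc1))))))))) (vqc0 (vqc0 2 (vqc0 0 (vqc0 0 (vqc0 0 (vqc0 2 (vqc0 0 (vqc0 0 (vqc0 0 (vqc0 0 vqc1))))))))) (vqc0 (vqc0 2 (vqc0 0 (vqc0 0 (vqc0 2 (vqc0 2 (vqc0 2 (vqc0 2 (vqc0 0 (vqc0 2 vqc1))))))))) (vqc0 (vqc0 1 (vqc0 0 (vqc0 2 (vqc0 0 (vqc0 2 (vqc0 0 (vqc0 0 (vqc0 1 (vqc0 1 vqc1))))))))) vqc1))))))))))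
    [9176, 2542, 7379, 11922] (by decide +kernel)

theorem a5 : Ok 52487 340010438065428960903492 :=
  ok_of (beta% delta% lq26c8b9c1d715 fun vqc0 vqc1 _ _ _ _ _ =>
      (vqc0 (vqc0 0 (vqc0 2 (vqc0 2 (vqc0 2 (vqc0 2 (vqc0 0 (vqc0 1 (vqc0 0 (vqc0 2 vqc1))))))))) (vqc0 (vqc0 2 (vqc0 0 (vqc0 0 (vqc0 1 (vqc0 0 (vqc0 2 (vqc0 2 (vqc0 0 (vqc0 0 vqc1))))))))) (vqc0 (vqc0 1 (vqc0 1 (vqc0 1 (vqc0 0 (vqc0 0 (vqc0 0 (vqc0 0 (vqc0 0 (vqc0 1 vqc1))))))))) (vqc0 (vqc0 1 (vqc0 1 (vqc0 2 (vqc0 1 (vqc0 2 (vqc0 0 (vqc0 2 (vqc0 2 (vqc0 1 vqc1))))))))) (vqc0 (vqc0 0 (vqc0 0 (vqc0 1 (vqc0 2 (vqc0 1 (vqc0 2 (vqc0 1 (vqc0 0 (vqc0 1 vqc1))))))))) (vqc0 (vqc0 1 (vqc0 2 (vqc0 2 (vqc0 1 (vqc0 1 (vqc0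 2 (vqc0 2 (vqc0 2 (vqc0 2 vqc1))))))))) (vqc0 (vqc0 0 (vqc0 0 (vqc0 2 (vqc0 0 (vqc0 0 (vqc0 0 (vqc0 0 (vqc0 2 (vqc0 0 vqc1))))))))) (vqc0 (vqc0 2 (vqc0 2 (vqc0 1 (vqc0 1 (vqc0 2 (vqc0 1 (vqc0 1 (vqc0 0 (vqc0 1 vqc1))))))))) (vqc0 (vqc0 2 (vqc0 2 (vqc0 0 (vqc0 1 (vqc0 1 (vqc0 2 (vqc0 2 (vqc0 0 (vqc0 1 vqc1))))))))) vqc1))))))))))
    (beta% delta% lq26c8b9c1d715 fun vqc0 vqc1 _ _ _ _ _ =>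
        (vqc0 (vqc0 1 (vqc0 0 (vqc0 1 (vqc0 0 (vqc0 0 (vqc0 0 (vqc0 1 (vqc0 1 (vqc0 1 vqc1))))))))) (vqc0 (vqc0 1 (vqc0 1 (vqc0 0 (vqc0 1 (vqc0 2 (vqc0 0 (vqc0 0 (vqc0 1 (vqc0 1 vqc1))))))))) (vqc0 (vqc0 0 (vqc0 2 (vqc0 2 (vqc0 2 (vqc0 0 (vqc0 0 (vqc0 0 (vqc0 0 (vqc0 2 vqc1))))))))) (vqc0 (vqc0 0 (vqc0 2 (vqc0 2 (vqc0 1 (vqc0 2 (vqc0 1 (vqc0 1 (vqc0 0 (vqc0 2 vqc1))))))))) (vqc0 (vqc0 1 (vqc0 0 (vqc0 0 (vqc0 0 (vqc0 1 (vqc0 1 (vqc0 1 (vqc0 0 (vqc0 2 vqc1))))))))) (vqc0 (vqc0 2 (vqc0 1 (vqc0 2 (vqc0 0 (vqc0 1 (vqc0 0 (vqc0 2 (vqc0 1 (vqc0 2 vqc1))))))))) (vqc0 (vqc0 1 (vqc0 0 (vqc0 1 (vqc0 1 (vqc0 2 (vqc0 1 (vqc0 2 (vqc0 0 (vqc0 0 vqc1))))))))) (vqc0 (vqc0 1 (vqc0 0 (vqc0 2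 (vqc0 1 (vqc0 0 (vqc0 0 (vqc0 1 (vqc0 2 (vqc0 2 vqc1))))))))) (vqc0 (vqc0 2 (vqc0 1 (vqc0 0 (vqc0 0 (vqc0 1 (vqc0 0 (vqc0 2 (vqc0 2 (vqc0 1 vqc1))))))))) vqc1))))))))))
    [12744, 10899, 2469] (by decide +kernel)

theorem a6 : Ok 52487 340010438065428961494288 :=
  ok_of (beta% delta% lq26c8b9c1d715 fun vqc0 vqc1 _ _ _ _ _ =>
      (vqc0 (vqc0 0 (vqc0 2 (vqc0 2 (vqc0 0 (vqc0 2 (vqc0 2 (vqc0 0 (vqc0 2 (vqc0 1 vqc1))))))))) (vqc0 (vqc0 1 (vqc0 0 (vqc0 2 (vqc0 0 (vqc0 2 (vqc0 0 (vqc0 1 (vqc0 1 (vqc0 2 vqc1))))))))) (vqc0 (vqc0 1 (vqc0 2 (vqc0 0 (vqc0 0 (vqc0 1 (vqc0 1 (vqc0 0 (vqc0 2 (vqc0 0 vqc1))))))))) (vqc0 (vqc0 2 (vqc0 0 (vqc0 0 (vqc0 1 (vqc0 0 (vqc0 0 (vqc0 0 (vqc0 1 (vqc0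 0 vqc1))))))))) (vqc0 (vqc0 2 (vqc0 1 (vqc0 0 (vqc0 0 (vqc0 1 (vqc0 1 (vqc0 1 (vqc0 1 (vqc0 2 vqc1))))))))) (vqc0 (vqc0 2 (vqc0 1 (vqc0 1 (vqc0 2 (vqc0 0 (vqc0 1 (vqc0 0 (vqc0 1 (vqc0 2 vqc1))))))))) (vqc0 (vqc0 1 (vqc0 2 (vqc0 1 (vqc0 0 (vqc0 0 (vqc0 0 (vqc0 1 (vqc0 2 (vqc0 2 vqc1))))))))) (vqc0 (vqc0 0 (vqc0 0 (vqc0 2 (vqc0 1 (vqc0 0 (vqc0 1 (vqc0 1 (vqc0 1 (vqc0 0 vqc1))))))))) (vqc0 (vqc0 0 (vqc0 1 (vqc0 0 (vqc0 0 (vqc0 1 (vqc0 2 (vqc0 1 (vqc0 1 (vqc0 1 vqc1))))))))) vqc1))))))))))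
    (beta% delta% lq26c8b9c1d715 fun vqc0 vqc1 _ _ _ _ _ =>
        (vqc0 (vqc0 1 (vqc0 0 (vqc0 1 (vqc0 2 (vqc0 0 (vqc0 2 (vqc0 1 (vqc0 2 (vqc0 1 vqc1))))))))) (vqc0 (vqc0 2 (vqc0 1 (vqc0 0 (vqc0 1 (vqc0 0 (vqc0 1 (vqc0 1 (vqc0 2 (vqc0 1 vqc1))))))))) (vqc0 (vqc0 1 (vqc0 0 (vqc0 0 (vqc0 1 (vqc0 0 (vqc0 0 (vqc0 0 (vqc0 2 (vqc0 0 vqc1))))))))) (vqc0 (vqc0 2 (vqc0 0 (vqc0 0 (vqc0 2 (vqc0 0 (vqc0 1 (vqc0 2 (vqc0 0 (vqc0 0 vqc1))))))))) (vqc0 (vqc0 0 (vqc0 2 (vqc0 1 (vqc0 1 (vqc0 0 (vqc0 0 (vqc0 0 (vqc0 0 (vqc0 1 vqc1))))))))) (vqc0 (vqc0 2 (vqc0 1 (vqc0 2 (vqc0 0 (vqc0 1 (vqc0 2 (vqc0 0 (vqc0 1 (vqc0 1 vqc1))))))))) (vqc0 (vqc0 2 (vqc0 1 (vqc0 1 (vqc0 1 (vqc0 1 (vqc0 2 (vqc0 2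 (vqc0 2 (vqc0 0 vqc1))))))))) (vqc0 (vqc0 0 (vqc0 1 (vqc0 2 (vqc0 2 (vqc0 0 (vqc0 1 (vqc0 0 (vqc0 0 (vqc0 2 vqc1))))))))) (vqc0 (vqc0 1 (vqc0 0 (vqc0 1 (vqc0 0 (vqc0 0 (vqc0 1 (vqc0 1 (vqc0 2 (vqc0 0 vqc1))))))))) vqc1))))))))))
    [2819, 5977, 16963] (by decide +kernel)

theorem a7 : Ok 104975 1020031160301408881738538 :=
  ok_of (beta% delta% lq26c8b9c1d715 fun vqc0 vqc1 _ _ _ _ _ =>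
      (vqc0 (vqc0 2 (vqc0 0 (vqc0 1 (vqc0 2 (vqc0 0 (vqc0 1 (vqc0 2 (vqc0 1 (vqc0 2 vqc1))))))))) (vqc0 (vqc0 1 (vqc0 1 (vqc0 1 (vqc0 0 (vqc0 2 (vqc0 0 (vqc0 2 (vqc0 1 (vqc0 0 vqc1))))))))) (vqc0 (vqc0 1 (vqc0 0 (vqc0 2 (vqc0 2 (vqc0 2 (vqc0 1 (vqc0 0 (vqc0 2 (vqc0 0 vqc1))))))))) (vqc0 (vqc0 0 (vqc0 2 (vqc0 1 (vqc0 1 (vqc0 1 (vqc0 0 (vqc0 0 (vqc0 0 (vqc0 2 vqc1))))))))) (vqc0 (vqc0 1 (vqc0 2 (vqc0 2 (vqc0 0 (vqc0 2 (vqc0 1 (vqc0 1 (vqc0 0 (vqc0 2 vqc1))))))))) (vqc0 (vqc0 2 (vqc0 0 (vqc0 0 (vqc0 1 (vqc0 1 (vqc0 1 (vqc0 2 (vqc0 1 (vqc0 0 vqc1))))))))) (vqc0 (vqc0 2 (vqc0 0 (vqc0 1 (vqc0 1 (vqc0 0 (vqc0 1 (vqc0 0 (vqc0 2 (vqc0 1 vqc1))))))))) (vqc0 (vqc0 0 (vqc0 1 (vqc0 1 (vqc0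 2 (vqc0 0 (vqc0 0 (vqc0 1 (vqc0 1 (vqc0 0 vqc1))))))))) (vqc0 (vqc0 2 (vqc0 0 (vqc0 1 (vqc0 2 (vqc0 1 (vqc0 1 (vqc0 0 (vqc0 0 (vqc0 2 vqc1))))))))) vqc1))))))))))
    (beta% delta% lq26c8b9c1d715 fun vqc0 vqc1 _ _ _ _ _ =>
        (vqc0 (vqc0 2 (vqc0 1 (vqc0 1 (vqc0 2 (vqc0 0 (vqc0 1 (vqc0 0 (vqc0 2 (vqc0 2 vqc1))))))))) (vqc0 (vqc0 1 (vqc0 0 (vqc0 1 (vqc0 0 (vqc0 2 (vqc0 2 (vqc0 0 (vqc0 0 (vqc0 1 vqc1))))))))) (vqc0 (vqc0 1 (vqc0 0 (vqc0 0 (vqc0 0 (vqc0 1 (vqc0 1 (vqc0 0 (vqc0 0 (vqc0 2 vqc1))))))))) (vqc0 (vqc0 1 (vqc0 1 (vqc0 0 (vqc0 2 (vqc0 0 (vqc0 2 (vqc0 0 (vqc0 2 (vqc0 2 vqc1))))))))) (vqc0 (vqc0 2 (vqc0 1 (vqc0 0 (vqc0 1 (vqc0 2 (vqc0 1 (vqc0 0 (vqc0 0 (vqc0 1 vqc1)))))))))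 (vqc0 (vqc0 2 (vqc0 0 (vqc0 2 (vqc0 0 (vqc0 0 (vqc0 0 (vqc0 0 (vqc0 2 (vqc0 0 vqc1))))))))) (vqc0 (vqc0 0 (vqc0 0 (vqc0 0 (vqc0 0 (vqc0 0 (vqc0 0 (vqc0 0 (vqc0 1 (vqc0 0 vqc1))))))))) (vqc0 (vqc0 0 (vqc0 1 (vqc0 2 (vqc0 1 (vqc0 2 (vqc0 2 (vqc0 1 (vqc0 1 (vqc0 2 vqc1))))))))) (vqc0 (vqc0 1 (vqc0 0 (vqc0 2 (vqc0 0 (vqc0 0 (vqc0 2 (vqc0 0 (vqc0 1 (vqc0 2 vqc1))))))))) vqc1))))))))))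
    [19285, 15286, 17071] (by decide +kernel)

theorem a8 : Ok 1679615 3740114254434324527186730 :=
  ok_of (beta% delta% lq26c8b9c1d715 fun vqc0 vqc1 _ _ _ _ _ =>
      (vqc0 (vqc0 0 (vqc0 1 (vqc0 0 (vqc0 0 (vqc0 0 (vqc0 0 (vqc0 2 (vqc0 2 (vqc0 2 vqc1))))))))) (vqc0 (vqc0 0 (vqc0 1 (vqc0 1 (vqc0 0 (vqc0 0 (vqc0 1 (vqc0 2 (vqc0 0 (vqc0 0 vqc1))))))))) (vqc0 (vqc0 0 (vqc0 0 (vqc0 1 (vqc0 1 (vqc0 0 (vqc0 0 (vqc0 0 (vqc0 1 (vqc0 2 vqc1))))))))) (vqc0 (vqc0 2 (vqc0 0 (vqc0 1 (vqc0 2 (vqc0 0 (vqc0 0 (vqc0 1 (vqc0 1 (vqc0 0 vqc1))))))))) (vqc0 (vqc0 1 (vqc0 1 (vqc0 2 (vqc0 1 (vqc0 1 (vqc0 1 (vqc0 2 (vqc0 0 (vqc0 2 vqc1))))))))) (vqc0 (vqc0 0 (vqc0 0 (vqc0 0 (vqc0 0 (vqc0 0 (vqc0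 1 (vqc0 0 (vqc0 0 (vqc0 0 vqc1))))))))) (vqc0 (vqc0 1 (vqc0 2 (vqc0 0 (vqc0 1 (vqc0 0 (vqc0 0 (vqc0 2 (vqc0 2 (vqc0 0 vqc1))))))))) (vqc0 (vqc0 1 (vqc0 0 (vqc0 0 (vqc0 2 (vqc0 0 (vqc0 1 (vqc0 1 (vqc0 0 (vqc0 0 vqc1))))))))) (vqc0 (vqc0 2 (vqc0 1 (vqc0 2 (vqc0 2 (vqc0 0 (vqc0 2 (vqc0 0 (vqc0 1 (vqc0 1 vqc1))))))))) vqc1))))))))))
    (beta% delta% lq26c8b9c1d715 fun vqc0 vqc1 _ _ _ _ _ =>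
        (vqc0 (vqc0 1 (vqc0 1 (vqc0 0 (vqc0 1 (vqc0 2 (vqc0 2 (vqc0 2 (vqc0 1 (vqc0 2 vqc1))))))))) (vqc0 (vqc0 0 (vqc0 0 (vqc0 1 (vqc0 2 (vqc0 1 (vqc0 0 (vqc0 1 (vqc0 2 (vqc0 1 vqc1))))))))) (vqc0 (vqc0 1 (vqc0 0 (vqc0 2 (vqc0 0 (vqc0 1 (vqc0 0 (vqc0 1 (vqc0 1 (vqc0 2 vqc1))))))))) (vqc0 (vqc0 2 (vqc0 0 (vqc0 2 (vqc0 0 (vqc0 2 (vqc0 2 (vqc0 0 (vqc0 1 (vqc0 2 vqc1))))))))) (vqc0 (vqc0 2 (vqc0 0 (vqc0 0 (vqc0 0 (vqc0 2 (vqc0 1 (vqc0 1 (vqc0 2 (vqc0 1 vqc1))))))))) (vqc0 (vqc0 0 (vqc0 0 (vqc0 0 (vqc0 2 (vqc0 2 (vqc0 1 (vqc0 2 (vqc0 2 (vqc0 0 vqc1))))))))) (vqc0 (vqc0 2 (vqc0 0 (vqc0 1 (vqc0 2 (vqc0 1 (vqc0 0 (vqc0 1 (vqc0 2 (vqc0 1 vqc1))))))))) (vqc0 (vqc0 1 (vqc0 2 (vqc0 0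 (vqc0 1 (vqc0 1 (vqc0 2 (vqc0 2 (vqc0 0 (vqc0 2 vqc1))))))))) (vqc0 (vqc0 1 (vqc0 0 (vqc0 1 (vqc0 2 (vqc0 0 (vqc0 1 (vqc0 0 (vqc0 1 (vqc0 0 vqc1))))))))) vqc1))))))))))
    [14172, 7525, 14620, 11448, 1222] (by decide +kernel)

theorem a9 : Ok 2099519 2380072758665115696169770 :=
  ok_of (beta% delta% lq26c8b9c1d715 fun vqc0 vqc1 _ _ _ _ _ =>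
      (vqc0 (vqc0 2 (vqc0 0 (vqc0 2 (vqc0 0 (vqc0 0 (vqc0 2 (vqc0 0 (vqc0 2 (vqc0 0 vqc1))))))))) (vqc0 (vqc0 2 (vqc0 0 (vqc0 1 (vqc0 1 (vqc0 0 (vqc0 0 (vqc0 1 (vqc0 0 (vqc0 2 vqc1))))))))) (vqc0 (vqc0 1 (vqc0 2 (vqc0 1 (vqc0 2 (vqc0 2 (vqc0 1 (vqc0 0 (vqc0 2 (vqc0 0 vqc1))))))))) (vqc0 (vqc0 0 (vqc0 2 (vqc0 2 (vqc0 0 (vqc0 0 (vqc0 1 (vqc0 1 (vqc0 1 (vqc0 1 vqc1))))))))) (vqc0 (vqc0 2 (vqc0 2 (vqc0 0 (vqc0 1 (vqc0 0 (vqc0 1 (vqc0 0 (vqc0 2 (vqc0 1 vqc1))))))))) (vqc0 (vqc0 1 (vqc0 0 (vqc0 2 (vqc0 2 (vqc0 2 (vqc0 2 (vqc0 2 (vqc0 2 (vqc0 0 vqc1))))))))) (vqc0 (vqc0 1 (vqc0 2 (vqc0 1 (vqc0 2 (vqc0 0 (vqc0 0 (vqc0 2 (vqc0 0 (vqc0 1 vqc1))))))))) (vqc0 (vqc0 0 (vqc0 0 (vqc0 0 (vqc0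 2 (vqc0 2 (vqc0 2 (vqc0 2 (vqc0 1 (vqc0 0 vqc1))))))))) (vqc0 (vqc0 0 (vqc0 1 (vqc0 2 (vqc0 0 (vqc0 0 (vqc0 0 (vqc0 2 (vqc0 0 (vqc0 1 vqc1))))))))) vqc1))))))))))
    (beta% delta% lq26c8b9c1d715 fun vqc0 vqc1 _ _ _ _ _ =>
        (vqc0 (vqc0 1 (vqc0 1 (vqc0 2 (vqc0 0 (vqc0 2 (vqc0 1 (vqc0 0 (vqc0 1 (vqc0 0 vqc1))))))))) (vqc0 (vqc0 1 (vqc0 0 (vqc0 1 (vqc0 0 (vqc0 2 (vqc0 2 (vqc0 0 (vqc0 0 (vqc0 1 vqc1))))))))) (vqc0 (vqc0 2 (vqc0 1 (vqc0 1 (vqc0 2 (vqc0 2 (vqc0 0 (vqc0 0 (vqc0 2 (vqc0 2 vqc1))))))))) (vqc0 (vqc0 0 (vqc0 1 (vqc0 1 (vqc0 1 (vqc0 0 (vqc0 0 (vqc0 0 (vqc0 1 (vqc0 1 vqc1))))))))) (vqc0 (vqc0 0 (vqc0 0 (vqc0 2 (vqc0 2 (vqc0 0 (vqc0 1 (vqc0 0 (vqc0 0 (vqc0 2 vqc1)))))))))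 (vqc0 (vqc0 0 (vqc0 1 (vqc0 2 (vqc0 1 (vqc0 1 (vqc0 1 (vqc0 0 (vqc0 2 (vqc0 0 vqc1))))))))) (vqc0 (vqc0 1 (vqc0 1 (vqc0 2 (vqc0 2 (vqc0 1 (vqc0 2 (vqc0 1 (vqc0 2 (vqc0 0 vqc1))))))))) (vqc0 (vqc0 0 (vqc0 0 (vqc0 1 (vqc0 1 (vqc0 2 (vqc0 2 (vqc0 1 (vqc0 1 (vqc0 0 vqc1))))))))) (vqc0 (vqc0 2 (vqc0 2 (vqc0 0 (vqc0 0 (vqc0 0 (vqc0 2 (vqc0 1 (vqc0 1 (vqc0 0 vqc1))))))))) vqc1))))))))))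
    [7506, 16625, 7314, 5373, 8070] (by decide +kernel)

theorem a10 : Ok 104975 340010386766614455978690 :=
  ok_of (beta% delta% lq26c8b9c1d715 fun vqc0 vqc1 _ _ _ _ _ =>
      (vqc0 (vqc0 1 (vqc0 2 (vqc0 0 (vqc0 0 (vqc0 0 (vqc0 2 (vqc0 1 (vqc0 2 (vqc0 1 vqc1))))))))) (vqc0 (vqc0 0 (vqc0 2 (vqc0 0 (vqc0 0 (vqc0 2 (vqc0 2 (vqc0 1 (vqc0 2 (vqc0 0 vqc1))))))))) (vqc0 (vqc0 1 (vqc0 0 (vqc0 1 (vqc0 1 (vqc0 0 (vqc0 2 (vqc0 0 (vqc0 0 (vqc0 1 vqc1))))))))) (vqc0 (vqc0 2 (vqc0 2 (vqc0 2 (vqc0 2 (vqc0 0 (vqc0 0 (vqc0 2 (vqc0 1 (vqc0 1 vqc1))))))))) (vqc0 (vqc0 1 (vqc0 0 (vqc0 2 (vqc0 0 (vqc0 2 (vqc0 0 (vqc0 0 (vqc0 0 (vqc0 0 vqc1))))))))) (vqc0 (vqc0 1 (vqc0 0 (vqc0 2 (vqc0 1 (vqc0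 2 (vqc0 1 (vqc0 0 (vqc0 1 (vqc0 2 vqc1))))))))) (vqc0 (vqc0 2 (vqc0 0 (vqc0 2 (vqc0 1 (vqc0 1 (vqc0 2 (vqc0 1 (vqc0 0 (vqc0 1 vqc1))))))))) (vqc0 (vqc0 0 (vqc0 0 (vqc0 2 (vqc0 2 (vqc0 0 (vqc0 1 (vqc0 0 (vqc0 1 (vqc0 2 vqc1))))))))) (vqc0 (vqc0 0 (vqc0 2 (vqc0 2 (vqc0 2 (vqc0 1 (vqc0 0 (vqc0 1 (vqc0 2 (vqc0 1 vqc1))))))))) vqc1))))))))))
    (beta% delta% lq26c8b9c1d715 fun vqc0 vqc1 _ _ _ _ _ =>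
        (vqc0 (vqc0 0 (vqc0 2 (vqc0 0 (vqc0 1 (vqc0 1 (vqc0 1 (vqc0 1 (vqc0 0 (vqc0 1 vqc1))))))))) (vqc0 (vqc0 2 (vqc0 1 (vqc0 2 (vqc0 2 (vqc0 0 (vqc0 2 (vqc0 1 (vqc0 1 (vqc0 1 vqc1))))))))) (vqc0 (vqc0 1 (vqc0 0 (vqc0 1 (vqc0 2 (vqc0 1 (vqc0 1 (vqc0 2 (vqc0 2 (vqc0 2 vqc1))))))))) (vqc0 (vqc0 1 (vqc0 0 (vqc0 1 (vqc0 1 (vqc0 1 (vqc0 2 (vqc0 2 (vqc0 2 (vqc0 1 vqc1))))))))) (vqc0 (vqc0 1 (vqc0 1 (vqc0 0 (vqc0 0 (vqc0 0 (vqc0 2 (vqc0 1 (vqc0 2 (vqc0 0 vqc1))))))))) (vqc0 (vqc0 1 (vqc0 1 (vqc0 2 (vqc0 1 (vqc0 2 (vqc0 0 (vqc0 2 (vqc0 0 (vqc0 0 vqc1))))))))) (vqc0 (vqc0 2 (vqc0 1 (vqc0 0 (vqc0 2 (vqc0 2 (vqc0 1 (vqc0 1 (vqc0 0 (vqc0 2 vqc1))))))))) (vqc0 (vqc0 1 (vqc0 1 (vqc0 2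 (vqc0 0 (vqc0 0 (vqc0 0 (vqc0 0 (vqc0 1 (vqc0 1 vqc1))))))))) (vqc0 (vqc0 2 (vqc0 2 (vqc0 2 (vqc0 2 (vqc0 2 (vqc0 2 (vqc0 1 (vqc0 2 (vqc0 0 vqc1))))))))) vqc1))))))))))
    [4884, 19669, 15706] (by decide +kernel)

theorem a11 : Ok 944783 1020031160299843366160604 :=
  ok_of (beta% delta% lq26c8b9c1d715 fun vqc0 vqc1 _ _ _ _ _ =>
      (vqc0 (vqc0 2 (vqc0 1 (vqc0 2 (vqc0 0 (vqc0 1 (vqc0 0 (vqc0 2 (vqc0 1 (vqc0 1 vqc1))))))))) (vqc0 (vqc0 1 (vqc0 0 (vqc0 1 (vqc0 0 (vqc0 1 (vqc0 2 (vqc0 1 (vqc0 2 (vqc0 2 vqc1))))))))) (vqc0 (vqc0 0 (vqc0 1 (vqc0 2 (vqc0 0 (vqc0 0 (vqc0 0 (vqc0 2 (vqc0 2 (vqc0 1 vqc1))))))))) (vqc0 (vqc0 0 (vqc0 2 (vqc0 2 (vqc0 2 (vqc0 1 (vqc0 2 (vqc0 1 (vqc0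 1 (vqc0 2 vqc1))))))))) (vqc0 (vqc0 2 (vqc0 0 (vqc0 0 (vqc0 0 (vqc0 1 (vqc0 1 (vqc0 1 (vqc0 0 (vqc0 2 vqc1))))))))) (vqc0 (vqc0 1 (vqc0 0 (vqc0 2 (vqc0 2 (vqc0 2 (vqc0 2 (vqc0 2 (vqc0 1 (vqc0 1 vqc1))))))))) (vqc0 (vqc0 0 (vqc0 1 (vqc0 1 (vqc0 2 (vqc0 2 (vqc0 1 (vqc0 0 (vqc0 2 (vqc0 1 vqc1))))))))) (vqc0 (vqc0 0 (vqc0 1 (vqc0 1 (vqc0 2 (vqc0 2 (vqc0 1 (vqc0 0 (vqc0 0 (vqc0 2 vqc1))))))))) (vqc0 (vqc0 2 (vqc0 0 (vqc0 2 (vqc0 1 (vqc0 2 (vqc0 0 (vqc0 0 (vqc0 1 (vqc0 0 vqc1))))))))) vqc1))))))))))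
    (beta% delta% lq26c8b9c1d715 fun vqc0 vqc1 _ _ _ _ _ =>
        (vqc0 (vqc0 2 (vqc0 0 (vqc0 1 (vqc0 0 (vqc0 2 (vqc0 0 (vqc0 0 (vqc0 2 (vqc0 0 vqc1))))))))) (vqc0 (vqc0 1 (vqc0 0 (vqc0 2 (vqc0 2 (vqc0 0 (vqc0 2 (vqc0 2 (vqc0 0 (vqc0 2 vqc1))))))))) (vqc0 (vqc0 0 (vqc0 2 (vqc0 1 (vqc0 1 (vqc0 1 (vqc0 2 (vqc0 0 (vqc0 2 (vqc0 0 vqc1))))))))) (vqc0 (vqc0 1 (vqc0 2 (vqc0 2 (vqc0 1 (vqc0 0 (vqc0 2 (vqc0 0 (vqc0 1 (vqc0 1 vqc1))))))))) (vqc0 (vqc0 2 (vqc0 1 (vqc0 1 (vqc0 2 (vqc0 0 (vqc0 0 (vqc0 1 (vqc0 0 (vqc0 1 vqc1))))))))) (vqc0 (vqc0 1 (vqc0 0 (vqc0 2 (vqc0 0 (vqc0 2 (vqc0 2 (vqc0 1 (vqc0 2 (vqc0 0 vqc1))))))))) (vqc0 (vqc0 1 (vqc0 1 (vqc0 2 (vqc0 0 (vqc0 0 (vqc0 2 (vqc0 0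 (vqc0 1 (vqc0 1 vqc1))))))))) (vqc0 (vqc0 2 (vqc0 2 (vqc0 0 (vqc0 2 (vqc0 2 (vqc0 1 (vqc0 2 (vqc0 2 (vqc0 2 vqc1))))))))) (vqc0 (vqc0 0 (vqc0 0 (vqc0 0 (vqc0 1 (vqc0 0 (vqc0 0 (vqc0 1 (vqc0 2 (vqc0 0 vqc1))))))))) vqc1))))))))))
    [14551, 19246, 6124] (by decide +kernel)

theorem a12 : Ok 22674815 3060093480899530100245290 :=
  ok_of (beta% delta% lq26c8b9c1d715 fun vqc0 vqc1 _ _ _ _ _ =>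
      (vqc0 (vqc0 1 (vqc0 1 (vqc0 0 (vqc0 2 (vqc0 0 (vqc0 2 (vqc0 0 (vqc0 0 (vqc0 2 vqc1))))))))) (vqc0 (vqc0 2 (vqc0 2 (vqc0 0 (vqc0 0 (vqc0 1 (vqc0 1 (vqc0 2 (vqc0 1 (vqc0 2 vqc1))))))))) (vqc0 (vqc0 0 (vqc0 0 (vqc0 2 (vqc0 2 (vqc0 0 (vqc0 0 (vqc0 0 (vqc0 2 (vqc0 1 vqc1))))))))) (vqc0 (vqc0 1 (vqc0 1 (vqc0 2 (vqc0 0 (vqc0 2 (vqc0 0 (vqc0 1 (vqc0 0 (vqc0 1 vqc1))))))))) (vqc0 (vqc0 2 (vqc0 0 (vqc0 0 (vqc0 1 (vqc0 2 (vqc0 2 (vqc0 2 (vqc0 1 (vqc0 0 vqc1))))))))) (vqc0 (vqc0 1 (vqc0 2 (vqc0 0 (vqc0 0 (vqc0 2 (vqc0 0 (vqc0 1 (vqc0 2 (vqc0 1 vqc1))))))))) (vqc0 (vqc0 0 (vqc0 1 (vqc0 1 (vqc0 1 (vqc0 0 (vqc0 2 (vqc0 1 (vqc0 2 (vqc0 0 vqc1))))))))) (vqc0 (vqc0 1 (vqc0 2 (vqc0 2 (vqc0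 1 (vqc0 2 (vqc0 2 (vqc0 2 (vqc0 1 (vqc0 2 vqc1))))))))) (vqc0 (vqc0 2 (vqc0 2 (vqc0 0 (vqc0 2 (vqc0 1 (vqc0 0 (vqc0 1 (vqc0 1 (vqc0 0 vqc1))))))))) vqc1))))))))))
    (beta% delta% lq26c8b9c1d715 fun vqc0 vqc1 _ _ _ _ _ =>
        (vqc0 (vqc0 1 (vqc0 1 (vqc0 0 (vqc0 1 (vqc0 0 (vqc0 1 (vqc0 0 (vqc0 0 (vqc0 2 vqc1))))))))) (vqc0 (vqc0 2 (vqc0 2 (vqc0 0 (vqc0 0 (vqc0 2 (vqc0 0 (vqc0 0 (vqc0 2 (vqc0 2 vqc1))))))))) (vqc0 (vqc0 1 (vqc0 0 (vqc0 1 (vqc0 1 (vqc0 0 (vqc0 0 (vqc0 0 (vqc0 0 (vqc0 2 vqc1))))))))) (vqc0 (vqc0 2 (vqc0 1 (vqc0 0 (vqc0 2 (vqc0 2 (vqc0 0 (vqc0 1 (vqc0 2 (vqc0 2 vqc1))))))))) (vqc0 (vqc0 0 (vqc0 1 (vqc0 2 (vqc0 1 (vqc0 1 (vqc0 0 (vqc0 1 (vqc0 2 (vqc0 1 vqc1)))))))))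 (vqc0 (vqc0 1 (vqc0 0 (vqc0 0 (vqc0 1 (vqc0 0 (vqc0 0 (vqc0 1 (vqc0 1 (vqc0 1 vqc1))))))))) (vqc0 (vqc0 0 (vqc0 1 (vqc0 2 (vqc0 2 (vqc0 2 (vqc0 1 (vqc0 2 (vqc0 2 (vqc0 2 vqc1))))))))) (vqc0 (vqc0 1 (vqc0 1 (vqc0 0 (vqc0 0 (vqc0 2 (vqc0 0 (vqc0 0 (vqc0 1 (vqc0 1 vqc1))))))))) (vqc0 (vqc0 1 (vqc0 0 (vqc0 0 (vqc0 0 (vqc0 2 (vqc0 0 (vqc0 2 (vqc0 1 (vqc0 0 vqc1))))))))) vqc1))))))))))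
    [19192, 18336, 11789, 17407, 18489] (by decide +kernel)

theorem a13 : Ok 11337407 3060093480899530102017678 :=
  ok_of (beta% delta% lq26c8b9c1d715 fun vqc0 vqc1 _ _ _ _ _ =>
      (vqc0 (vqc0 1 (vqc0 1 (vqc0 2 (vqc0 1 (vqc0 0 (vqc0 0 (vqc0 0 (vqc0 1 (vqc0 0 vqc1))))))))) (vqc0 (vqc0 0 (vqc0 0 (vqc0 0 (vqc0 2 (vqc0 0 (vqc0 0 (vqc0 0 (vqc0 2 (vqc0 0 vqc1))))))))) (vqc0 (vqc0 1 (vqc0 2 (vqc0 1 (vqc0 0 (vqc0 1 (vqc0 2 (vqc0 2 (vqc0 1 (vqc0 0 vqc1))))))))) (vqc0 (vqc0 1 (vqc0 0 (vqc0 0 (vqc0 1 (vqc0 0 (vqc0 2 (vqc0 0 (vqc0 1 (vqc0 0 vqc1))))))))) (vqc0 (vqc0 0 (vqc0 1 (vqc0 0 (vqc0 1 (vqc0 1 (vqc0 0 (vqc0 0 (vqc0 1 (vqc0 0 vqc1))))))))) (vqc0 (vqc0 1 (vqc0 1 (vqc0 1 (vqc0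 2 (vqc0 1 (vqc0 0 (vqc0 2 (vqc0 0 (vqc0 0 vqc1))))))))) (vqc0 (vqc0 1 (vqc0 1 (vqc0 0 (vqc0 2 (vqc0 1 (vqc0 2 (vqc0 0 (vqc0 0 (vqc0 0 vqc1))))))))) (vqc0 (vqc0 2 (vqc0 2 (vqc0 2 (vqc0 1 (vqc0 2 (vqc0 1 (vqc0 1 (vqc0 1 (vqc0 0 vqc1))))))))) (vqc0 (vqc0 0 (vqc0 0 (vqc0 0 (vqc0 0 (vqc0 0 (vqc0 0 (vqc0 0 (vqc0 0 (vqc0 1 vqc1))))))))) vqc1))))))))))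
    (beta% delta% lq26c8b9c1d715 fun vqc0 vqc1 _ _ _ _ _ =>
        (vqc0 (vqc0 1 (vqc0 0 (vqc0 0 (vqc0 0 (vqc0 1 (vqc0 2 (vqc0 2 (vqc0 2 (vqc0 0 vqc1))))))))) (vqc0 (vqc0 0 (vqc0 1 (vqc0 1 (vqc0 1 (vqc0 0 (vqc0 0 (vqc0 0 (vqc0 0 (vqc0 1 vqc1))))))))) (vqc0 (vqc0 1 (vqc0 2 (vqc0 1 (vqc0 0 (vqc0 2 (vqc0 1 (vqc0 1 (vqc0 0 (vqc0 1 vqc1))))))))) (vqc0 (vqc0 2 (vqc0 0 (vqc0 0 (vqc0 0 (vqc0 1 (vqc0 0 (vqc0 1 (vqc0 1 (vqc0 1 vqc1))))))))) (vqc0 (vqc0 2 (vqc0 1 (vqc0 1 (vqc0 1 (vqc0 1 (vqc0 1 (vqc0 0 (vqc0 1 (vqc0 2 vqc1))))))))) (vqc0 (vqc0 2 (vqc0 1 (vqc0 1 (vqc0 2 (vqc0 1 (vqc0 0 (vqc0 0 (vqc0 0 (vqc0 1 vqc1))))))))) (vqc0 (vqc0 0 (vqc0 1 (vqc0 2 (vqc0 2 (vqc0 0 (vqc0 2 (vqc0 0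 (vqc0 0 (vqc0 2 vqc1))))))))) (vqc0 (vqc0 1 (vqc0 0 (vqc0 1 (vqc0 1 (vqc0 1 (vqc0 2 (vqc0 0 (vqc0 1 (vqc0 0 vqc1))))))))) (vqc0 (vqc0 0 (vqc0 1 (vqc0 0 (vqc0 2 (vqc0 0 (vqc0 1 (vqc0 2 (vqc0 0 (vqc0 1 vqc1))))))))) vqc1))))))))))
    [19020, 1423, 8563, 17713, 8684] (by decide +kernel)

theorem a14 : Ok 204073343 1020031160299843369699548 :=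
  ok_of (beta% delta% lq26c8b9c1d715 fun vqc0 vqc1 _ _ _ _ _ =>
      (vqc0 (vqc0 1 (vqc0 0 (vqc0 1 (vqc0 1 (vqc0 1 (vqc0 0 (vqc0 2 (vqc0 0 (vqc0 1 vqc1))))))))) (vqc0 (vqc0 2 (vqc0 1 (vqc0 1 (vqc0 2 (vqc0 1 (vqc0 0 (vqc0 0 (vqc0 2 (vqc0 2 vqc1))))))))) (vqc0 (vqc0 0 (vqc0 2 (vqc0 2 (vqc0 2 (vqc0 0 (vqc0 0 (vqc0 0 (vqc0 1 (vqc0 1 vqc1))))))))) (vqc0 (vqc0 1 (vqc0 2 (vqc0 2 (vqc0 1 (vqc0 2 (vqc0 1 (vqc0 2 (vqc0 0 (vqc0 0 vqc1))))))))) (vqc0 (vqc0 1 (vqc0 0 (vqc0 1 (vqc0 2 (vqc0 1 (vqc0 2 (vqc0 0 (vqc0 0 (vqc0 1 vqc1))))))))) (vqc0 (vqc0 2 (vqc0 2 (vqc0 1 (vqc0 0 (vqc0 0 (vqc0 1 (vqc0 1 (vqc0 0 (vqc0 2 vqc1))))))))) (vqc0 (vqc0 0 (vqc0 0 (vqc0 1 (vqc0 0 (vqc0 0 (vqc0 2 (vqc0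 2 (vqc0 2 (vqc0 2 vqc1))))))))) (vqc0 (vqc0 1 (vqc0 1 (vqc0 0 (vqc0 2 (vqc0 2 (vqc0 1 (vqc0 2 (vqc0 2 (vqc0 1 vqc1))))))))) (vqc0 (vqc0 1 (vqc0 2 (vqc0 0 (vqc0 2 (vqc0 1 (vqc0 2 (vqc0 2 (vqc0 1 (vqc0 1 vqc1))))))))) vqc1))))))))))
    (beta% delta% lq26c8b9c1d715 fun vqc0 vqc1 _ _ _ _ _ =>
        (vqc0 (vqc0 0 (vqc0 0 (vqc0 1 (vqc0 1 (vqc0 1 (vqc0 2 (vqc0 2 (vqc0 2 (vqc0 2 vqc1))))))))) (vqc0 (vqc0 0 (vqc0 0 (vqc0 2 (vqc0 0 (vqc0 2 (vqc0 0 (vqc0 2 (vqc0 2 (vqc0 1 vqc1))))))))) (vqc0 (vqc0 2 (vqc0 0 (vqc0 2 (vqc0 2 (vqc0 0 (vqc0 1 (vqc0 0 (vqc0 1 (vqc0 1 vqc1))))))))) (vqc0 (vqc0 1 (vqc0 1 (vqc0 2 (vqc0 1 (vqc0 2 (vqc0 1 (vqc0 1 (vqc0 2 (vqc0 2 vqc1))))))))) (vqc0 (vqc0 1 (vqc0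 0 (vqc0 1 (vqc0 0 (vqc0 1 (vqc0 2 (vqc0 1 (vqc0 2 (vqc0 2 vqc1))))))))) (vqc0 (vqc0 1 (vqc0 1 (vqc0 1 (vqc0 0 (vqc0 0 (vqc0 0 (vqc0 0 (vqc0 2 (vqc0 2 vqc1))))))))) (vqc0 (vqc0 0 (vqc0 2 (vqc0 2 (vqc0 1 (vqc0 2 (vqc0 2 (vqc0 0 (vqc0 0 (vqc0 0 vqc1))))))))) (vqc0 (vqc0 2 (vqc0 2 (vqc0 0 (vqc0 1 (vqc0 1 (vqc0 1 (vqc0 2 (vqc0 2 (vqc0 0 vqc1))))))))) (vqc0 (vqc0 0 (vqc0 1 (vqc0 2 (vqc0 0 (vqc0 2 (vqc0 0 (vqc0 1 (vqc0 2 (vqc0 0 vqc1))))))))) vqc1))))))))))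
    [13559, 6158, 6726, 1662, 2475] (by decide +kernel)

theorem a15 : Ok 102036671 5100155801499216832563420 :=
  ok_of (beta% delta% lq26c8b9c1d715 fun vqc0 vqc1 _ _ _ _ _ =>
      (vqc0 (vqc0 1 (vqc0 1 (vqc0 2 (vqc0 2 (vqc0 2 (vqc0 1 (vqc0 0 (vqc0 2 (vqc0 1 vqc1))))))))) (vqc0 (vqc0 0 (vqc0 1 (vqc0 1 (vqc0 1 (vqc0 0 (vqc0 2 (vqc0 1 (vqc0 0 (vqc0 2 vqc1))))))))) (vqc0 (vqc0 2 (vqc0 1 (vqc0 0 (vqc0 0 (vqc0 0 (vqc0 0 (vqc0 1 (vqc0 2 (vqc0 1 vqc1))))))))) (vqc0 (vqc0 2 (vqc0 0 (vqc0 1 (vqc0 2 (vqc0 0 (vqc0 2 (vqc0 1 (vqc0 2 (vqc0 1 vqc1))))))))) (vqc0 (vqc0 1 (vqc0 2 (vqc0 1 (vqc0 0 (vqc0 1 (vqc0 0 (vqc0 2 (vqc0 1 (vqc0 2 vqc1))))))))) (vqc0 (vqc0 0 (vqc0 0 (vqc0 2 (vqc0 0 (vqc0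 1 (vqc0 1 (vqc0 0 (vqc0 1 (vqc0 2 vqc1))))))))) (vqc0 (vqc0 0 (vqc0 0 (vqc0 0 (vqc0 1 (vqc0 1 (vqc0 2 (vqc0 2 (vqc0 1 (vqc0 1 vqc1))))))))) (vqc0 (vqc0 2 (vqc0 2 (vqc0 1 (vqc0 2 (vqc0 2 (vqc0 1 (vqc0 1 (vqc0 2 (vqc0 2 vqc1))))))))) (vqc0 (vqc0 1 (vqc0 1 (vqc0 1 (vqc0 2 (vqc0 0 (vqc0 1 (vqc0 0 (vqc0 1 (vqc0 2 vqc1))))))))) vqc1))))))))))
    (beta% delta% lq26c8b9c1d715 fun vqc0 vqc1 _ _ _ _ _ =>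
        (vqc0 (vqc0 2 (vqc0 0 (vqc0 2 (vqc0 0 (vqc0 0 (vqc0 2 (vqc0 1 (vqc0 1 (vqc0 2 vqc1))))))))) (vqc0 (vqc0 1 (vqc0 0 (vqc0 2 (vqc0 0 (vqc0 2 (vqc0 2 (vqc0 1 (vqc0 2 (vqc0 0 vqc1))))))))) (vqc0 (vqc0 0 (vqc0 1 (vqc0 0 (vqc0 2 (vqc0 0 (vqc0 2 (vqc0 0 (vqc0 0 (vqc0 0 vqc1))))))))) (vqc0 (vqc0 0 (vqc0 0 (vqc0 2 (vqc0 2 (vqc0 0 (vqc0 2 (vqc0 0 (vqc0 1 (vqc0 2 vqc1))))))))) (vqc0 (vqc0 0 (vqc0 0 (vqc0 1 (vqc0 2 (vqc0 2 (vqc0 0 (vqc0 1 (vqc0 2 (vqc0 2 vqc1))))))))) (vqc0 (vqc0 2 (vqc0 2 (vqc0 2 (vqc0 1 (vqc0 0 (vqc0 1 (vqc0 0 (vqc0 0 (vqc0 0 vqc1))))))))) (vqc0 (vqc0 2 (vqc0 1 (vqc0 2 (vqc0 2 (vqc0 0 (vqc0 2 (vqc0 2 (vqc0 2 (vqc0 1 vqc1))))))))) (vqc0 (vqc0 1 (vqc0 0 (vqc0 2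 (vqc0 0 (vqc0 2 (vqc0 1 (vqc0 1 (vqc0 1 (vqc0 0 vqc1))))))))) (vqc0 (vqc0 1 (vqc0 0 (vqc0 1 (vqc0 0 (vqc0 0 (vqc0 2 (vqc0 0 (vqc0 2 (vqc0 2 vqc1))))))))) vqc1))))))))))
    [18680, 1462, 1255, 6925, 7668] (by decide +kernel)

theorem a16 : Ok 114281072639 25500779007496084178733276 :=
  ok_of (beta% delta% lq26c8b9c1d715 fun vqc0 vqc1 _ _ _ _ _ =>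
      (vqc0 (vqc0 2 (vqc0 0 (vqc0 0 (vqc0 1 (vqc0 2 (vqc0 0 (vqc0 2 (vqc0 0 (vqc0 0 vqc1))))))))) (vqc0 (vqc0 2 (vqc0 0 (vqc0 2 (vqc0 1 (vqc0 2 (vqc0 2 (vqc0 0 (vqc0 2 (vqc0 0 vqc1))))))))) (vqc0 (vqc0 0 (vqc0 2 (vqc0 0 (vqc0 2 (vqc0 1 (vqc0 2 (vqc0 2 (vqc0 2 (vqc0 0 vqc1))))))))) (vqc0 (vqc0 1 (vqc0 0 (vqc0 0 (vqc0 2 (vqc0 2 (vqc0 0 (vqc0 2 (vqc0 0 (vqc0 0 vqc1))))))))) (vqc0 (vqc0 1 (vqc0 0 (vqc0 0 (vqc0 1 (vqc0 0 (vqc0 0 (vqc0 2 (vqc0 0 (vqc0 0 vqc1))))))))) (vqc0 (vqc0 0 (vqc0 1 (vqc0 1 (vqc0 1 (vqc0 2 (vqc0 2 (vqc0 1 (vqc0 1 (vqc0 0 vqc1))))))))) (vqc0 (vqc0 1 (vqc0 0 (vqc0 0 (vqc0 1 (vqc0 2 (vqc0 0 (vqc0 0 (vqc0 0 (vqc0 0 vqc1))))))))) (vqc0 (vqc0 2 (vqc0 1 (vqc0 1 (vqc0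 0 (vqc0 0 (vqc0 1 (vqc0 2 (vqc0 2 (vqc0 0 vqc1))))))))) (vqc0 (vqc0 0 (vqc0 0 (vqc0 0 (vqc0 0 (vqc0 0 (vqc0 0 (vqc0 0 (vqc0 0 (vqc0 1 vqc1))))))))) vqc1))))))))))
    (beta% delta% lq26c8b9c1d715 fun vqc0 vqc1 _ _ _ _ _ =>
        (vqc0 (vqc0 1 (vqc0 0 (vqc0 1 (vqc0 0 (vqc0 1 (vqc0 0 (vqc0 1 (vqc0 1 (vqc0 1 vqc1))))))))) (vqc0 (vqc0 1 (vqc0 1 (vqc0 1 (vqc0 1 (vqc0 2 (vqc0 2 (vqc0 1 (vqc0 1 (vqc0 1 vqc1))))))))) (vqc0 (vqc0 1 (vqc0 1 (vqc0 2 (vqc0 2 (vqc0 2 (vqc0 2 (vqc0 1 (vqc0 0 (vqc0 0 vqc1))))))))) (vqc0 (vqc0 0 (vqc0 0 (vqc0 2 (vqc0 1 (vqc0 1 (vqc0 2 (vqc0 2 (vqc0 1 (vqc0 0 vqc1))))))))) (vqc0 (vqc0 1 (vqc0 2 (vqc0 1 (vqc0 2 (vqc0 1 (vqc0 2 (vqc0 0 (vqc0 0 (vqc0 0 vqc1)))))))))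 (vqc0 (vqc0 0 (vqc0 2 (vqc0 0 (vqc0 2 (vqc0 0 (vqc0 0 (vqc0 2 (vqc0 0 (vqc0 0 vqc1))))))))) (vqc0 (vqc0 1 (vqc0 2 (vqc0 2 (vqc0 1 (vqc0 0 (vqc0 0 (vqc0 2 (vqc0 0 (vqc0 1 vqc1))))))))) (vqc0 (vqc0 0 (vqc0 0 (vqc0 2 (vqc0 1 (vqc0 0 (vqc0 1 (vqc0 2 (vqc0 1 (vqc0 1 vqc1))))))))) (vqc0 (vqc0 2 (vqc0 2 (vqc0 0 (vqc0 2 (vqc0 1 (vqc0 2 (vqc0 2 (vqc0 1 (vqc0 0 vqc1))))))))) vqc1))))))))))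
    [4936, 5148, 15080, 17515, 499, 17471, 19404] (by decide +kernel)

theorem a17 : Ok 106118138879 29580903648695457641597148 :=
  ok_of (beta% delta% lq26c8b9c1d715 fun vqc0 vqc1 _ _ _ _ _ =>
      (vqc0 (vqc0 1 (vqc0 0 (vqc0 0 (vqc0 0 (vqc0 0 (vqc0 0 (vqc0 0 (vqc0 0 (vqc0 0 vqc1))))))))) (vqc0 (vqc0 1 (vqc0 1 (vqc0 0 (vqc0 2 (vqc0 0 (vqc0 1 (vqc0 1 (vqc0 2 (vqc0 0 vqc1))))))))) (vqc0 (vqc0 0 (vqc0 0 (vqc0 0 (vqc0 1 (vqc0 0 (vqc0 2 (vqc0 2 (vqc0 2 (vqc0 2 vqc1))))))))) (vqc0 (vqc0 2 (vqc0 0 (vqc0 1 (vqc0 1 (vqc0 0 (vqc0 0 (vqc0 0 (vqc0 2 (vqc0 1 vqc1))))))))) (vqc0 (vqc0 0 (vqc0 0 (vqc0 1 (vqc0 2 (vqc0 1 (vqc0 1 (vqc0 1 (vqc0 1 (vqc0 1 vqc1))))))))) (vqc0 (vqc0 0 (vqc0 0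 (vqc0 0 (vqc0 0 (vqc0 0 (vqc0 1 (vqc0 0 (vqc0 0 (vqc0 0 vqc1))))))))) (vqc0 (vqc0 1 (vqc0 0 (vqc0 1 (vqc0 1 (vqc0 0 (vqc0 2 (vqc0 0 (vqc0 0 (vqc0 1 vqc1))))))))) (vqc0 (vqc0 0 (vqc0 0 (vqc0 1 (vqc0 2 (vqc0 0 (vqc0 1 (vqc0 1 (vqc0 2 (vqc0 1 vqc1))))))))) (vqc0 (vqc0 2 (vqc0 0 (vqc0 1 (vqc0 0 (vqc0 0 (vqc0 0 (vqc0 0 (vqc0 2 (vqc0 2 vqc1))))))))) vqc1))))))))))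
    (beta% delta% lq26c8b9c1d715 fun vqc0 vqc1 _ _ _ _ _ =>
        (vqc0 (vqc0 0 (vqc0 0 (vqc0 2 (vqc0 0 (vqc0 1 (vqc0 1 (vqc0 2 (vqc0 0 (vqc0 1 vqc1))))))))) (vqc0 (vqc0 2 (vqc0 0 (vqc0 0 (vqc0 1 (vqc0 2 (vqc0 2 (vqc0 1 (vqc0 2 (vqc0 0 vqc1))))))))) (vqc0 (vqc0 2 (vqc0 2 (vqc0 1 (vqc0 2 (vqc0 2 (vqc0 0 (vqc0 1 (vqc0 1 (vqc0 1 vqc1))))))))) (vqc0 (vqc0 0 (vqc0 0 (vqc0 2 (vqc0 1 (vqc0 2 (vqc0 2 (vqc0 1 (vqc0 0 (vqc0 0 vqc1))))))))) (vqc0 (vqc0 2 (vqc0 0 (vqc0 1 (vqc0 2 (vqc0 1 (vqc0 1 (vqc0 2 (vqc0 0 (vqc0 0 vqc1))))))))) (vqc0 (vqc0 2 (vqc0 2 (vqc0 2 (vqc0 1 (vqc0 1 (vqc0 1 (vqc0 2 (vqc0 1 (vqc0 0 vqc1))))))))) (vqc0 (vqc0 0 (vqc0 0 (vqc0 0 (vqc0 0 (vqc0 0 (vqc0 2 (vqc0 0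 (vqc0 2 (vqc0 0 vqc1))))))))) (vqc0 (vqc0 1 (vqc0 0 (vqc0 0 (vqc0 2 (vqc0 0 (vqc0 0 (vqc0 2 (vqc0 2 (vqc0 1 vqc1))))))))) (vqc0 (vqc0 1 (vqc0 0 (vqc0 1 (vqc0 1 (vqc0 2 (vqc0 0 (vqc0 1 (vqc0 2 (vqc0 1 vqc1))))))))) vqc1))))))))))
    [6503, 11435, 12037, 10157, 19189, 9461, 13947] (by decide +kernel)

theorem a18 : Ok 6122200319 3060093480899530103790066 :=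
  ok_of (beta% delta% lq26c8b9c1d715 fun vqc0 vqc1 _ _ _ _ _ =>
      (vqc0 (vqc0 2 (vqc0 0 (vqc0 0 (vqc0 1 (vqc0 1 (vqc0 2 (vqc0 1 (vqc0 1 (vqc0 0 vqc1))))))))) (vqc0 (vqc0 0 (vqc0 0 (vqc0 1 (vqc0 0 (vqc0 2 (vqc0 2 (vqc0 0 (vqc0 0 (vqc0 1 vqc1))))))))) (vqc0 (vqc0 0 (vqc0 2 (vqc0 1 (vqc0 0 (vqc0 2 (vqc0 2 (vqc0 1 (vqc0 0 (vqc0 1 vqc1))))))))) (vqc0 (vqc0 2 (vqc0 0 (vqc0 0 (vqc0 1 (vqc0 1 (vqc0 0 (vqc0 1 (vqc0 0 (vqc0 0 vqc1))))))))) (vqc0 (vqc0 1 (vqc0 1 (vqc0 0 (vqc0 1 (vqc0 0 (vqc0 0 (vqc0 0 (vqc0 1 (vqc0 2 vqc1))))))))) (vqc0 (vqc0 1 (vqc0 2 (vqc0 2 (vqc0 1 (vqc0 0 (vqc0 2 (vqc0 0 (vqc0 1 (vqc0 1 vqc1))))))))) (vqc0 (vqc0 0 (vqc0 2 (vqc0 0 (vqc0 0 (vqc0 2 (vqc0 2 (vqc0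 2 (vqc0 0 (vqc0 1 vqc1))))))))) (vqc0 (vqc0 0 (vqc0 2 (vqc0 2 (vqc0 2 (vqc0 0 (vqc0 0 (vqc0 0 (vqc0 0 (vqc0 1 vqc1))))))))) (vqc0 (vqc0 2 (vqc0 0 (vqc0 0 (vqc0 2 (vqc0 2 (vqc0 1 (vqc0 2 (vqc0 2 (vqc0 1 vqc1))))))))) vqc1))))))))))
    (beta% delta% lq26c8b9c1d715 fun vqc0 vqc1 _ _ _ _ _ =>
        (vqc0 (vqc0 1 (vqc0 0 (vqc0 2 (vqc0 1 (vqc0 1 (vqc0 2 (vqc0 0 (vqc0 0 (vqc0 1 vqc1))))))))) (vqc0 (vqc0 0 (vqc0 1 (vqc0 2 (vqc0 2 (vqc0 1 (vqc0 1 (vqc0 2 (vqc0 2 (vqc0 0 vqc1))))))))) (vqc0 (vqc0 0 (vqc0 2 (vqc0 2 (vqc0 0 (vqc0 0 (vqc0 0 (vqc0 2 (vqc0 2 (vqc0 2 vqc1))))))))) (vqc0 (vqc0 1 (vqc0 1 (vqc0 0 (vqc0 2 (vqc0 1 (vqc0 0 (vqc0 0 (vqc0 0 (vqc0 2 vqc1))))))))) (vqc0 (vqc0 2 (vqc0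 2 (vqc0 0 (vqc0 2 (vqc0 1 (vqc0 0 (vqc0 0 (vqc0 1 (vqc0 1 vqc1))))))))) (vqc0 (vqc0 0 (vqc0 2 (vqc0 1 (vqc0 2 (vqc0 1 (vqc0 1 (vqc0 1 (vqc0 1 (vqc0 2 vqc1))))))))) (vqc0 (vqc0 0 (vqc0 1 (vqc0 0 (vqc0 2 (vqc0 1 (vqc0 2 (vqc0 2 (vqc0 2 (vqc0 0 vqc1))))))))) (vqc0 (vqc0 0 (vqc0 1 (vqc0 1 (vqc0 2 (vqc0 2 (vqc0 1 (vqc0 0 (vqc0 0 (vqc0 1 vqc1))))))))) (vqc0 (vqc0 0 (vqc0 1 (vqc0 2 (vqc0 1 (vqc0 2 (vqc0 2 (vqc0 0 (vqc0 1 (vqc0 1 vqc1))))))))) vqc1))))))))))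
    [4797, 2555, 2291, 9415, 6148] (by decide +kernel)

theorem a19 : Ok 440798423039 27540841328095770912823794 :=
  ok_of (beta% delta% lq26c8b9c1d715 fun vqc0 vqc1 _ _ _ _ _ =>
      (vqc0 (vqc0 1 (vqc0 0 (vqc0 2 (vqc0 1 (vqc0 1 (vqc0 1 (vqc0 2 (vqc0 2 (vqc0 2 vqc1))))))))) (vqc0 (vqc0 0 (vqc0 1 (vqc0 0 (vqc0 0 (vqc0 0 (vqc0 0 (vqc0 0 (vqc0 0 (vqc0 0 vqc1))))))))) (vqc0 (vqc0 0 (vqc0 2 (vqc0 2 (vqc0 0 (vqc0 2 (vqc0 1 (vqc0 2 (vqc0 2 (vqc0 0 vqc1))))))))) (vqc0 (vqc0 0 (vqc0 1 (vqc0 0 (vqc0 0 (vqc0 0 (vqc0 1 (vqc0 2 (vqc0 2 (vqc0 1 vqc1))))))))) (vqc0 (vqc0 0 (vqc0 2 (vqc0 2 (vqc0 2 (vqc0 2 (vqc0 0 (vqc0 0 (vqc0 0 (vqc0 1 vqc1))))))))) (vqc0 (vqc0 0 (vqc0 2 (vqc0 0 (vqc0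 1 (vqc0 0 (vqc0 0 (vqc0 1 (vqc0 1 (vqc0 2 vqc1))))))))) (vqc0 (vqc0 0 (vqc0 1 (vqc0 1 (vqc0 1 (vqc0 2 (vqc0 0 (vqc0 1 (vqc0 0 (vqc0 2 vqc1))))))))) (vqc0 (vqc0 0 (vqc0 1 (vqc0 1 (vqc0 1 (vqc0 2 (vqc0 0 (vqc0 0 (vqc0 1 (vqc0 2 vqc1))))))))) (vqc0 (vqc0 0 (vqc0 1 (vqc0 2 (vqc0 0 (vqc0 1 (vqc0 2 (vqc0 1 (vqc0 1 (vqc0 1 vqc1))))))))) vqc1))))))))))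
    (beta% delta% lq26c8b9c1d715 fun vqc0 vqc1 _ _ _ _ _ =>
        (vqc0 (vqc0 1 (vqc0 0 (vqc0 0 (vqc0 0 (vqc0 0 (vqc0 0 (vqc0 2 (vqc0 2 (vqc0 2 vqc1))))))))) (vqc0 (vqc0 1 (vqc0 1 (vqc0 2 (vqc0 1 (vqc0 1 (vqc0 1 (vqc0 0 (vqc0 2 (vqc0 1 vqc1))))))))) (vqc0 (vqc0 0 (vqc0 1 (vqc0 2 (vqc0 0 (vqc0 2 (vqc0 2 (vqc0 0 (vqc0 2 (vqc0 2 vqc1))))))))) (vqc0 (vqc0 1 (vqc0 1 (vqc0 1 (vqc0 0 (vqc0 1 (vqc0 0 (vqc0 0 (vqc0 2 (vqc0 2 vqc1))))))))) (vqc0 (vqc0 2 (vqc0 0 (vqc0 2 (vqc0 0 (vqc0 2 (vqc0 2 (vqc0 0 (vqc0 2 (vqc0 1 vqc1))))))))) (vqc0 (vqc0 1 (vqc0 1 (vqc0 1 (vqc0 1 (vqc0 1 (vqc0 1 (vqc0 1 (vqc0 0 (vqc0 0 vqc1))))))))) (vqc0 (vqc0 0 (vqc0 0 (vqc0 2 (vqc0 0 (vqc0 1 (vqc0 1 (vqc0 1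 (vqc0 2 (vqc0 0 vqc1))))))))) (vqc0 (vqc0 2 (vqc0 2 (vqc0 1 (vqc0 1 (vqc0 0 (vqc0 1 (vqc0 1 (vqc0 2 (vqc0 2 vqc1))))))))) (vqc0 (vqc0 0 (vqc0 1 (vqc0 0 (vqc0 0 (vqc0 2 (vqc0 0 (vqc0 2 (vqc0 0 (vqc0 2 vqc1))))))))) vqc1))))))))))
    [3593, 17624, 11226, 13141, 4505, 9914, 12738] (by decide +kernel)

end Cfsg.Agent.H651.O9
end

-- part: H651/O9/D1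
section
/-!
# Classes of the orthogonal group in dimension 9 over the field with three elements, part 1 (helper651)
-/

set_option autoImplicit false
set_option exponentiation.threshold 30000
set_option maxRecDepth 100000

namespace Cfsg.Agent.H651.O9

theorem a21 : Ok 431 113523572673283747086390 :=
  ok_of (beta% delta% lq26c8b9c1d715 fun vqc0 vqc1 _ _ _ _ _ =>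
      (vqc0 (vqc0 1 (vqc0 0 (vqc0 0 (vqc0 2 (vqc0 0 (vqc0 2 (vqc0 1 (vqc0 1 (vqc0 1 vqc1))))))))) (vqc0 (vqc0 2 (vqc0 0 (vqc0 1 (vqc0 1 (vqc0 2 (vqc0 1 (vqc0 0 (vqc0 1 (vqc0 0 vqc1))))))))) (vqc0 (vqc0 2 (vqc0 0 (vqc0 2 (vqc0 1 (vqc0 1 (vqc0 2 (vqc0 1 (vqc0 2 (vqc0 0 vqc1))))))))) (vqc0 (vqc0 2 (vqc0 1 (vqc0 2 (vqc0 0 (vqc0 2 (vqc0 1 (vqc0 1 (vqc0 2 (vqc0 0 vqc1))))))))) (vqc0 (vqc0 2 (vqc0 1 (vqc0 0 (vqc0 2 (vqc0 1 (vqc0 2 (vqc0 0 (vqc0 2 (vqc0 1 vqc1))))))))) (vqc0 (vqc0 0 (vqc0 1 (vqc0 0 (vqc0 0 (vqc0 1 (vqc0 1 (vqc0 1 (vqc0 2 (vqc0 0 vqc1))))))))) (vqc0 (vqc0 0 (vqc0 0 (vqc0 0 (vqc0 2 (vqc0 2 (vqc0 2 (vqc0 1 (vqc0 0 (vqc0 1 vqc1))))))))) (vqc0 (vqc0 1 (vqc0 0 (vqc0 0 (vqc0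 2 (vqc0 0 (vqc0 2 (vqc0 0 (vqc0 0 (vqc0 0 vqc1))))))))) (vqc0 (vqc0 0 (vqc0 1 (vqc0 1 (vqc0 0 (vqc0 0 (vqc0 1 (vqc0 1 (vqc0 0 (vqc0 2 vqc1))))))))) vqc1))))))))))
    (beta% delta% lq26c8b9c1d715 fun vqc0 vqc1 _ _ _ _ _ =>
        (vqc0 (vqc0 1 (vqc0 0 (vqc0 1 (vqc0 1 (vqc0 1 (vqc0 2 (vqc0 0 (vqc0 0 (vqc0 0 vqc1))))))))) (vqc0 (vqc0 0 (vqc0 2 (vqc0 2 (vqc0 1 (vqc0 2 (vqc0 1 (vqc0 1 (vqc0 2 (vqc0 0 vqc1))))))))) (vqc0 (vqc0 1 (vqc0 2 (vqc0 2 (vqc0 2 (vqc0 0 (vqc0 0 (vqc0 0 (vqc0 1 (vqc0 0 vqc1))))))))) (vqc0 (vqc0 1 (vqc0 0 (vqc0 0 (vqc0 2 (vqc0 1 (vqc0 2 (vqc0 1 (vqc0 2 (vqc0 2 vqc1))))))))) (vqc0 (vqc0 2 (vqc0 1 (vqc0 0 (vqc0 0 (vqc0 0 (vqc0 2 (vqc0 1 (vqc0 2 (vqc0 1 vqc1)))))))))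 (vqc0 (vqc0 0 (vqc0 1 (vqc0 2 (vqc0 0 (vqc0 2 (vqc0 2 (vqc0 1 (vqc0 2 (vqc0 0 vqc1))))))))) (vqc0 (vqc0 0 (vqc0 0 (vqc0 2 (vqc0 1 (vqc0 2 (vqc0 2 (vqc0 0 (vqc0 2 (vqc0 0 vqc1))))))))) (vqc0 (vqc0 1 (vqc0 0 (vqc0 1 (vqc0 1 (vqc0 2 (vqc0 0 (vqc0 0 (vqc0 2 (vqc0 2 vqc1))))))))) (vqc0 (vqc0 2 (vqc0 2 (vqc0 1 (vqc0 0 (vqc0 0 (vqc0 0 (vqc0 1 (vqc0 2 (vqc0 2 vqc1))))))))) vqc1))))))))))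
    [10972, 3179] (by decide +kernel)

theorem a22 : Ok 10367 113336795589741218365494 :=
  ok_of (beta% delta% lq26c8b9c1d715 fun vqc0 vqc1 _ _ _ _ _ =>
      (vqc0 (vqc0 2 (vqc0 2 (vqc0 0 (vqc0 1 (vqc0 0 (vqc0 1 (vqc0 2 (vqc0 0 (vqc0 2 vqc1))))))))) (vqc0 (vqc0 2 (vqc0 2 (vqc0 1 (vqc0 0 (vqc0 1 (vqc0 1 (vqc0 1 (vqc0 2 (vqc0 1 vqc1))))))))) (vqc0 (vqc0 2 (vqc0 0 (vqc0 1 (vqc0 0 (vqc0 0 (vqc0 0 (vqc0 0 (vqc0 2 (vqc0 0 vqc1))))))))) (vqc0 (vqc0 0 (vqc0 0 (vqc0 2 (vqc0 1 (vqc0 1 (vqc0 1 (vqc0 0 (vqc0 0 (vqc0 0 vqc1))))))))) (vqc0 (vqc0 1 (vqc0 0 (vqc0 2 (vqc0 0 (vqc0 2 (vqc0 2 (vqc0 0 (vqc0 2 (vqc0 1 vqc1))))))))) (vqc0 (vqc0 0 (vqc0 1 (vqc0 1 (vqc0 2 (vqc0 2 (vqc0 2 (vqc0 1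 (vqc0 1 (vqc0 1 vqc1))))))))) (vqc0 (vqc0 1 (vqc0 2 (vqc0 0 (vqc0 1 (vqc0 0 (vqc0 1 (vqc0 2 (vqc0 1 (vqc0 2 vqc1))))))))) (vqc0 (vqc0 2 (vqc0 0 (vqc0 2 (vqc0 1 (vqc0 0 (vqc0 2 (vqc0 1 (vqc0 2 (vqc0 1 vqc1))))))))) (vqc0 (vqc0 0 (vqc0 1 (vqc0 1 (vqc0 2 (vqc0 2 (vqc0 2 (vqc0 1 (vqc0 2 (vqc0 0 vqc1))))))))) vqc1))))))))))
    (beta% delta% lq26c8b9c1d715 fun vqc0 vqc1 _ _ _ _ _ =>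
        (vqc0 (vqc0 2 (vqc0 0 (vqc0 2 (vqc0 0 (vqc0 0 (vqc0 0 (vqc0 2 (vqc0 2 (vqc0 2 vqc1))))))))) (vqc0 (vqc0 0 (vqc0 2 (vqc0 1 (vqc0 2 (vqc0 0 (vqc0 2 (vqc0 2 (vqc0 2 (vqc0 0 vqc1))))))))) (vqc0 (vqc0 1 (vqc0 1 (vqc0 1 (vqc0 2 (vqc0 0 (vqc0 2 (vqc0 0 (vqc0 0 (vqc0 0 vqc1))))))))) (vqc0 (vqc0 0 (vqc0 2 (vqc0 2 (vqc0 2 (vqc0 1 (vqc0 2 (vqc0 2 (vqc0 0 (vqc0 0 vqc1))))))))) (vqc0 (vqc0 1 (vqc0 0 (vqc0 0 (vqc0 1 (vqc0 2 (vqc0 2 (vqc0 0 (vqc0 1 (vqc0 1 vqc1))))))))) (vqc0 (vqc0 1 (vqc0 0 (vqc0 0 (vqc0 1 (vqc0 2 (vqc0 0 (vqc0 2 (vqc0 2 (vqc0 1 vqc1))))))))) (vqc0 (vqc0 0 (vqc0 1 (vqc0 1 (vqc0 2 (vqc0 2 (vqc0 1 (vqc0 0 (vqc0 2 (vqc0 1 vqc1))))))))) (vqc0 (vqc0 2 (vqc0 2 (vqc0 2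 (vqc0 2 (vqc0 1 (vqc0 0 (vqc0 1 (vqc0 2 (vqc0 2 vqc1))))))))) (vqc0 (vqc0 2 (vqc0 1 (vqc0 0 (vqc0 0 (vqc0 0 (vqc0 1 (vqc0 2 (vqc0 2 (vqc0 1 vqc1))))))))) vqc1))))))))))
    [12398, 5507, 12021] (by decide +kernel)

theorem a23 : Ok 5183 566683983644921491685430 :=
  ok_of (beta% delta% lq26c8b9c1d715 fun vqc0 vqc1 _ _ _ _ _ =>
      (vqc0 (vqc0 0 (vqc0 1 (vqc0 0 (vqc0 1 (vqc0 1 (vqc0 0 (vqc0 1 (vqc0 0 (vqc0 0 vqc1))))))))) (vqc0 (vqc0 0 (vqc0 2 (vqc0 0 (vqc0 0 (vqc0 1 (vqc0 1 (vqc0 0 (vqc0 0 (vqc0 2 vqc1))))))))) (vqc0 (vqc0 1 (vqc0 1 (vqc0 1 (vqc0 0 (vqc0 1 (vqc0 2 (vqc0 2 (vqc0 2 (vqc0 2 vqc1))))))))) (vqc0 (vqc0 0 (vqc0 0 (vqc0 0 (vqc0 1 (vqc0 0 (vqc0 0 (vqc0 0 (vqc0 0 (vqc0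 0 vqc1))))))))) (vqc0 (vqc0 1 (vqc0 1 (vqc0 0 (vqc0 0 (vqc0 2 (vqc0 1 (vqc0 1 (vqc0 1 (vqc0 2 vqc1))))))))) (vqc0 (vqc0 0 (vqc0 2 (vqc0 0 (vqc0 2 (vqc0 0 (vqc0 1 (vqc0 2 (vqc0 2 (vqc0 1 vqc1))))))))) (vqc0 (vqc0 2 (vqc0 2 (vqc0 0 (vqc0 1 (vqc0 2 (vqc0 0 (vqc0 2 (vqc0 1 (vqc0 0 vqc1))))))))) (vqc0 (vqc0 2 (vqc0 0 (vqc0 0 (vqc0 1 (vqc0 1 (vqc0 2 (vqc0 1 (vqc0 2 (vqc0 1 vqc1))))))))) (vqc0 (vqc0 2 (vqc0 2 (vqc0 0 (vqc0 1 (vqc0 0 (vqc0 2 (vqc0 2 (vqc0 2 (vqc0 0 vqc1))))))))) vqc1))))))))))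
    (beta% delta% lq26c8b9c1d715 fun vqc0 vqc1 _ _ _ _ _ =>
        (vqc0 (vqc0 2 (vqc0 2 (vqc0 2 (vqc0 0 (vqc0 0 (vqc0 0 (vqc0 0 (vqc0 1 (vqc0 1 vqc1))))))))) (vqc0 (vqc0 1 (vqc0 2 (vqc0 0 (vqc0 2 (vqc0 1 (vqc0 1 (vqc0 1 (vqc0 1 (vqc0 2 vqc1))))))))) (vqc0 (vqc0 2 (vqc0 1 (vqc0 1 (vqc0 1 (vqc0 1 (vqc0 2 (vqc0 1 (vqc0 1 (vqc0 0 vqc1))))))))) (vqc0 (vqc0 2 (vqc0 0 (vqc0 1 (vqc0 1 (vqc0 1 (vqc0 2 (vqc0 1 (vqc0 1 (vqc0 2 vqc1))))))))) (vqc0 (vqc0 1 (vqc0 1 (vqc0 2 (vqc0 0 (vqc0 0 (vqc0 1 (vqc0 0 (vqc0 0 (vqc0 2 vqc1))))))))) (vqc0 (vqc0 1 (vqc0 2 (vqc0 1 (vqc0 2 (vqc0 2 (vqc0 0 (vqc0 0 (vqc0 0 (vqc0 2 vqc1))))))))) (vqc0 (vqc0 2 (vqc0 0 (vqc0 2 (vqc0 2 (vqc0 1 (vqc0 0 (vqc0 0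 (vqc0 1 (vqc0 1 vqc1))))))))) (vqc0 (vqc0 0 (vqc0 1 (vqc0 2 (vqc0 1 (vqc0 0 (vqc0 0 (vqc0 2 (vqc0 2 (vqc0 0 vqc1))))))))) (vqc0 (vqc0 1 (vqc0 0 (vqc0 2 (vqc0 0 (vqc0 1 (vqc0 1 (vqc0 2 (vqc0 1 (vqc0 2 vqc1))))))))) vqc1))))))))))
    [3493, 12862, 15921] (by decide +kernel)

theorem a24 : Ok 93311 340010386768006026559542 :=
  ok_of (beta% delta% lq26c8b9c1d715 fun vqc0 vqc1 _ _ _ _ _ =>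
      (vqc0 (vqc0 2 (vqc0 0 (vqc0 1 (vqc0 2 (vqc0 1 (vqc0 2 (vqc0 1 (vqc0 0 (vqc0 2 vqc1))))))))) (vqc0 (vqc0 1 (vqc0 1 (vqc0 2 (vqc0 1 (vqc0 0 (vqc0 2 (vqc0 2 (vqc0 2 (vqc0 1 vqc1))))))))) (vqc0 (vqc0 2 (vqc0 1 (vqc0 2 (vqc0 0 (vqc0 2 (vqc0 1 (vqc0 2 (vqc0 1 (vqc0 0 vqc1))))))))) (vqc0 (vqc0 1 (vqc0 0 (vqc0 2 (vqc0 0 (vqc0 2 (vqc0 1 (vqc0 1 (vqc0 2 (vqc0 2 vqc1))))))))) (vqc0 (vqc0 0 (vqc0 1 (vqc0 1 (vqc0 2 (vqc0 1 (vqc0 0 (vqc0 1 (vqc0 2 (vqc0 1 vqc1))))))))) (vqc0 (vqc0 2 (vqc0 1 (vqc0 2 (vqc0 2 (vqc0 2 (vqc0 2 (vqc0 0 (vqc0 2 (vqc0 1 vqc1))))))))) (vqc0 (vqc0 2 (vqc0 2 (vqc0 1 (vqc0 1 (vqc0 2 (vqc0 2 (vqc0 0 (vqc0 2 (vqc0 0 vqc1))))))))) (vqc0 (vqc0 0 (vqc0 0 (vqc0 2 (vqc0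 1 (vqc0 0 (vqc0 1 (vqc0 1 (vqc0 2 (vqc0 2 vqc1))))))))) (vqc0 (vqc0 1 (vqc0 2 (vqc0 1 (vqc0 2 (vqc0 0 (vqc0 1 (vqc0 2 (vqc0 1 (vqc0 1 vqc1))))))))) vqc1))))))))))
    (beta% delta% lq26c8b9c1d715 fun vqc0 vqc1 _ _ _ _ _ =>
        (vqc0 (vqc0 0 (vqc0 2 (vqc0 2 (vqc0 0 (vqc0 2 (vqc0 0 (vqc0 1 (vqc0 1 (vqc0 1 vqc1))))))))) (vqc0 (vqc0 1 (vqc0 1 (vqc0 2 (vqc0 0 (vqc0 0 (vqc0 2 (vqc0 0 (vqc0 0 (vqc0 1 vqc1))))))))) (vqc0 (vqc0 0 (vqc0 0 (vqc0 0 (vqc0 1 (vqc0 1 (vqc0 1 (vqc0 0 (vqc0 0 (vqc0 2 vqc1))))))))) (vqc0 (vqc0 2 (vqc0 0 (vqc0 2 (vqc0 0 (vqc0 0 (vqc0 0 (vqc0 2 (vqc0 2 (vqc0 1 vqc1))))))))) (vqc0 (vqc0 2 (vqc0 1 (vqc0 1 (vqc0 0 (vqc0 1 (vqc0 2 (vqc0 0 (vqc0 0 (vqc0 1 vqc1)))))))))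 (vqc0 (vqc0 1 (vqc0 2 (vqc0 1 (vqc0 0 (vqc0 1 (vqc0 2 (vqc0 2 (vqc0 0 (vqc0 1 vqc1))))))))) (vqc0 (vqc0 2 (vqc0 1 (vqc0 1 (vqc0 1 (vqc0 0 (vqc0 0 (vqc0 1 (vqc0 1 (vqc0 1 vqc1))))))))) (vqc0 (vqc0 1 (vqc0 0 (vqc0 2 (vqc0 0 (vqc0 0 (vqc0 0 (vqc0 1 (vqc0 1 (vqc0 2 vqc1))))))))) (vqc0 (vqc0 1 (vqc0 2 (vqc0 2 (vqc0 0 (vqc0 2 (vqc0 1 (vqc0 1 (vqc0 2 (vqc0 2 vqc1))))))))) vqc1))))))))))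
    [7325, 6342, 19190, 5896] (by decide +kernel)

theorem a25 : Ok 46655 340010386767310243627386 :=
  ok_of (beta% delta% lq26c8b9c1d715 fun vqc0 vqc1 _ _ _ _ _ =>
      (vqc0 (vqc0 2 (vqc0 1 (vqc0 1 (vqc0 0 (vqc0 1 (vqc0 0 (vqc0 1 (vqc0 2 (vqc0 1 vqc1))))))))) (vqc0 (vqc0 1 (vqc0 1 (vqc0 1 (vqc0 1 (vqc0 2 (vqc0 1 (vqc0 2 (vqc0 0 (vqc0 1 vqc1))))))))) (vqc0 (vqc0 2 (vqc0 1 (vqc0 2 (vqc0 1 (vqc0 2 (vqc0 0 (vqc0 1 (vqc0 2 (vqc0 0 vqc1))))))))) (vqc0 (vqc0 0 (vqc0 1 (vqc0 2 (vqc0 0 (vqc0 0 (vqc0 0 (vqc0 1 (vqc0 1 (vqc0 1 vqc1))))))))) (vqc0 (vqc0 1 (vqc0 1 (vqc0 0 (vqc0 2 (vqc0 2 (vqc0 2 (vqc0 1 (vqc0 2 (vqc0 1 vqc1))))))))) (vqc0 (vqc0 2 (vqc0 0 (vqc0 0 (vqc0 0 (vqc0 2 (vqc0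 0 (vqc0 0 (vqc0 1 (vqc0 0 vqc1))))))))) (vqc0 (vqc0 0 (vqc0 1 (vqc0 1 (vqc0 0 (vqc0 1 (vqc0 0 (vqc0 1 (vqc0 1 (vqc0 1 vqc1))))))))) (vqc0 (vqc0 0 (vqc0 1 (vqc0 2 (vqc0 1 (vqc0 1 (vqc0 2 (vqc0 0 (vqc0 2 (vqc0 2 vqc1))))))))) (vqc0 (vqc0 2 (vqc0 0 (vqc0 1 (vqc0 0 (vqc0 2 (vqc0 0 (vqc0 0 (vqc0 0 (vqc0 1 vqc1))))))))) vqc1))))))))))
    (beta% delta% lq26c8b9c1d715 fun vqc0 vqc1 _ _ _ _ _ =>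
        (vqc0 (vqc0 1 (vqc0 0 (vqc0 0 (vqc0 0 (vqc0 2 (vqc0 1 (vqc0 2 (vqc0 2 (vqc0 0 vqc1))))))))) (vqc0 (vqc0 2 (vqc0 0 (vqc0 0 (vqc0 0 (vqc0 2 (vqc0 1 (vqc0 1 (vqc0 2 (vqc0 2 vqc1))))))))) (vqc0 (vqc0 2 (vqc0 1 (vqc0 1 (vqc0 2 (vqc0 2 (vqc0 0 (vqc0 0 (vqc0 0 (vqc0 1 vqc1))))))))) (vqc0 (vqc0 0 (vqc0 0 (vqc0 2 (vqc0 2 (vqc0 1 (vqc0 1 (vqc0 2 (vqc0 1 (vqc0 2 vqc1))))))))) (vqc0 (vqc0 0 (vqc0 1 (vqc0 1 (vqc0 0 (vqc0 0 (vqc0 0 (vqc0 2 (vqc0 2 (vqc0 2 vqc1))))))))) (vqc0 (vqc0 1 (vqc0 2 (vqc0 2 (vqc0 0 (vqc0 1 (vqc0 2 (vqc0 1 (vqc0 0 (vqc0 2 vqc1))))))))) (vqc0 (vqc0 2 (vqc0 2 (vqc0 2 (vqc0 0 (vqc0 1 (vqc0 0 (vqc0 0 (vqc0 0 (vqc0 2 vqc1))))))))) (vqc0 (vqc0 2 (vqc0 1 (vqc0 0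 (vqc0 1 (vqc0 1 (vqc0 2 (vqc0 2 (vqc0 1 (vqc0 0 vqc1))))))))) (vqc0 (vqc0 0 (vqc0 1 (vqc0 1 (vqc0 2 (vqc0 1 (vqc0 2 (vqc0 1 (vqc0 2 (vqc0 2 vqc1))))))))) vqc1))))))))))
    [3256, 5426, 12081, 9385] (by decide +kernel)

theorem a26 : Ok 279935 1020031160299843369697496 :=
  ok_of (beta% delta% lq26c8b9c1d715 fun vqc0 vqc1 _ _ _ _ _ =>
      (vqc0 (vqc0 1 (vqc0 1 (vqc0 0 (vqc0 0 (vqc0 0 (vqc0 2 (vqc0 2 (vqc0 0 (vqc0 2 vqc1))))))))) (vqc0 (vqc0 1 (vqc0 0 (vqc0 0 (vqc0 1 (vqc0 1 (vqc0 1 (vqc0 1 (vqc0 2 (vqc0 0 vqc1))))))))) (vqc0 (vqc0 0 (vqc0 1 (vqc0 0 (vqc0 1 (vqc0 2 (vqc0 2 (vqc0 2 (vqc0 0 (vqc0 2 vqc1))))))))) (vqc0 (vqc0 2 (vqc0 2 (vqc0 1 (vqc0 0 (vqc0 0 (vqc0 1 (vqc0 2 (vqc0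 1 (vqc0 0 vqc1))))))))) (vqc0 (vqc0 1 (vqc0 0 (vqc0 1 (vqc0 2 (vqc0 0 (vqc0 1 (vqc0 1 (vqc0 2 (vqc0 2 vqc1))))))))) (vqc0 (vqc0 0 (vqc0 1 (vqc0 1 (vqc0 0 (vqc0 1 (vqc0 0 (vqc0 0 (vqc0 0 (vqc0 0 vqc1))))))))) (vqc0 (vqc0 2 (vqc0 1 (vqc0 0 (vqc0 2 (vqc0 2 (vqc0 2 (vqc0 0 (vqc0 1 (vqc0 0 vqc1))))))))) (vqc0 (vqc0 1 (vqc0 1 (vqc0 1 (vqc0 2 (vqc0 2 (vqc0 0 (vqc0 1 (vqc0 0 (vqc0 0 vqc1))))))))) (vqc0 (vqc0 0 (vqc0 0 (vqc0 2 (vqc0 1 (vqc0 2 (vqc0 2 (vqc0 0 (vqc0 0 (vqc0 1 vqc1))))))))) vqc1))))))))))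
    (beta% delta% lq26c8b9c1d715 fun vqc0 vqc1 _ _ _ _ _ =>
        (vqc0 (vqc0 0 (vqc0 2 (vqc0 2 (vqc0 0 (vqc0 0 (vqc0 0 (vqc0 2 (vqc0 2 (vqc0 1 vqc1))))))))) (vqc0 (vqc0 0 (vqc0 2 (vqc0 2 (vqc0 0 (vqc0 2 (vqc0 2 (vqc0 0 (vqc0 0 (vqc0 1 vqc1))))))))) (vqc0 (vqc0 0 (vqc0 2 (vqc0 0 (vqc0 0 (vqc0 0 (vqc0 0 (vqc0 0 (vqc0 0 (vqc0 0 vqc1))))))))) (vqc0 (vqc0 2 (vqc0 1 (vqc0 2 (vqc0 1 (vqc0 0 (vqc0 2 (vqc0 2 (vqc0 0 (vqc0 2 vqc1))))))))) (vqc0 (vqc0 0 (vqc0 2 (vqc0 0 (vqc0 2 (vqc0 1 (vqc0 2 (vqc0 1 (vqc0 2 (vqc0 2 vqc1))))))))) (vqc0 (vqc0 0 (vqc0 2 (vqc0 0 (vqc0 2 (vqc0 0 (vqc0 2 (vqc0 1 (vqc0 1 (vqc0 1 vqc1))))))))) (vqc0 (vqc0 0 (vqc0 0 (vqc0 2 (vqc0 1 (vqc0 0 (vqc0 2 (vqc0 1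 (vqc0 1 (vqc0 0 vqc1))))))))) (vqc0 (vqc0 0 (vqc0 0 (vqc0 1 (vqc0 0 (vqc0 1 (vqc0 0 (vqc0 2 (vqc0 2 (vqc0 1 vqc1))))))))) (vqc0 (vqc0 0 (vqc0 1 (vqc0 0 (vqc0 2 (vqc0 0 (vqc0 2 (vqc0 0 (vqc0 2 (vqc0 1 vqc1))))))))) vqc1))))))))))
    [10010, 2000, 7539] (by decide +kernel)

theorem a27 : Ok 4478975 3740114254432759034020056 :=
  ok_of (beta% delta% lq26c8b9c1d715 fun vqc0 vqc1 _ _ _ _ _ =>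
      (vqc0 (vqc0 0 (vqc0 2 (vqc0 0 (vqc0 0 (vqc0 1 (vqc0 2 (vqc0 2 (vqc0 2 (vqc0 0 vqc1))))))))) (vqc0 (vqc0 1 (vqc0 0 (vqc0 1 (vqc0 1 (vqc0 2 (vqc0 0 (vqc0 0 (vqc0 2 (vqc0 1 vqc1))))))))) (vqc0 (vqc0 1 (vqc0 0 (vqc0 2 (vqc0 2 (vqc0 0 (vqc0 0 (vqc0 0 (vqc0 2 (vqc0 2 vqc1))))))))) (vqc0 (vqc0 0 (vqc0 2 (vqc0 0 (vqc0 1 (vqc0 0 (vqc0 0 (vqc0 0 (vqc0 0 (vqc0 0 vqc1))))))))) (vqc0 (vqc0 1 (vqc0 0 (vqc0 1 (vqc0 1 (vqc0 0 (vqc0 0 (vqc0 0 (vqc0 2 (vqc0 1 vqc1))))))))) (vqc0 (vqc0 0 (vqc0 2 (vqc0 0 (vqc0 1 (vqc0 1 (vqc0 1 (vqc0 0 (vqc0 0 (vqc0 1 vqc1))))))))) (vqc0 (vqc0 1 (vqc0 1 (vqc0 1 (vqc0 1 (vqc0 2 (vqc0 0 (vqc0 1 (vqc0 2 (vqc0 1 vqc1))))))))) (vqc0 (vqc0 1 (vqc0 0 (vqc0 1 (vqc0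 1 (vqc0 2 (vqc0 0 (vqc0 0 (vqc0 0 (vqc0 1 vqc1))))))))) (vqc0 (vqc0 1 (vqc0 0 (vqc0 1 (vqc0 2 (vqc0 0 (vqc0 0 (vqc0 0 (vqc0 2 (vqc0 0 vqc1))))))))) vqc1))))))))))
    (beta% delta% lq26c8b9c1d715 fun vqc0 vqc1 _ _ _ _ _ =>
        (vqc0 (vqc0 0 (vqc0 0 (vqc0 1 (vqc0 0 (vqc0 2 (vqc0 2 (vqc0 1 (vqc0 0 (vqc0 1 vqc1))))))))) (vqc0 (vqc0 1 (vqc0 0 (vqc0 2 (vqc0 1 (vqc0 2 (vqc0 1 (vqc0 0 (vqc0 2 (vqc0 1 vqc1))))))))) (vqc0 (vqc0 1 (vqc0 1 (vqc0 0 (vqc0 2 (vqc0 2 (vqc0 2 (vqc0 2 (vqc0 2 (vqc0 0 vqc1))))))))) (vqc0 (vqc0 1 (vqc0 1 (vqc0 2 (vqc0 0 (vqc0 0 (vqc0 2 (vqc0 0 (vqc0 0 (vqc0 2 vqc1))))))))) (vqc0 (vqc0 2 (vqc0 2 (vqc0 2 (vqc0 2 (vqc0 0 (vqc0 2 (vqc0 2 (vqc0 1 (vqc0 2 vqc1)))))))))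 (vqc0 (vqc0 0 (vqc0 0 (vqc0 2 (vqc0 0 (vqc0 2 (vqc0 2 (vqc0 0 (vqc0 0 (vqc0 1 vqc1))))))))) (vqc0 (vqc0 0 (vqc0 0 (vqc0 2 (vqc0 2 (vqc0 1 (vqc0 0 (vqc0 1 (vqc0 2 (vqc0 0 vqc1))))))))) (vqc0 (vqc0 0 (vqc0 1 (vqc0 2 (vqc0 2 (vqc0 0 (vqc0 0 (vqc0 0 (vqc0 2 (vqc0 2 vqc1))))))))) (vqc0 (vqc0 2 (vqc0 1 (vqc0 1 (vqc0 2 (vqc0 2 (vqc0 1 (vqc0 0 (vqc0 2 (vqc0 2 vqc1))))))))) vqc1))))))))))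
    [11173, 19209, 6325, 1361, 16086] (by decide +kernel)

theorem a28 : Ok 5598719 2380072707368388564811992 :=
  ok_of (beta% delta% lq26c8b9c1d715 fun vqc0 vqc1 _ _ _ _ _ =>
      (vqc0 (vqc0 1 (vqc0 2 (vqc0 0 (vqc0 0 (vqc0 1 (vqc0 2 (vqc0 0 (vqc0 0 (vqc0 2 vqc1))))))))) (vqc0 (vqc0 2 (vqc0 2 (vqc0 1 (vqc0 0 (vqc0 0 (vqc0 2 (vqc0 1 (vqc0 0 (vqc0 1 vqc1))))))))) (vqc0 (vqc0 0 (vqc0 1 (vqc0 1 (vqc0 2 (vqc0 1 (vqc0 1 (vqc0 2 (vqc0 2 (vqc0 1 vqc1))))))))) (vqc0 (vqc0 1 (vqc0 2 (vqc0 2 (vqc0 1 (vqc0 0 (vqc0 1 (vqc0 2 (vqc0 0 (vqc0 2 vqc1))))))))) (vqc0 (vqc0 0 (vqc0 1 (vqc0 0 (vqc0 2 (vqc0 1 (vqc0 0 (vqc0 0 (vqc0 0 (vqc0 0 vqc1))))))))) (vqc0 (vqc0 0 (vqc0 1 (vqc0 0 (vqc0 1 (vqc0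 2 (vqc0 1 (vqc0 2 (vqc0 2 (vqc0 0 vqc1))))))))) (vqc0 (vqc0 1 (vqc0 1 (vqc0 2 (vqc0 0 (vqc0 2 (vqc0 1 (vqc0 2 (vqc0 2 (vqc0 2 vqc1))))))))) (vqc0 (vqc0 2 (vqc0 0 (vqc0 1 (vqc0 0 (vqc0 2 (vqc0 2 (vqc0 0 (vqc0 0 (vqc0 1 vqc1))))))))) (vqc0 (vqc0 2 (vqc0 2 (vqc0 1 (vqc0 2 (vqc0 0 (vqc0 2 (vqc0 1 (vqc0 0 (vqc0 2 vqc1))))))))) vqc1))))))))))
    (beta% delta% lq26c8b9c1d715 fun vqc0 vqc1 _ _ _ _ _ =>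
        (vqc0 (vqc0 1 (vqc0 0 (vqc0 1 (vqc0 1 (vqc0 2 (vqc0 1 (vqc0 2 (vqc0 2 (vqc0 1 vqc1))))))))) (vqc0 (vqc0 1 (vqc0 1 (vqc0 1 (vqc0 2 (vqc0 0 (vqc0 2 (vqc0 1 (vqc0 1 (vqc0 1 vqc1))))))))) (vqc0 (vqc0 2 (vqc0 2 (vqc0 1 (vqc0 2 (vqc0 0 (vqc0 1 (vqc0 1 (vqc0 0 (vqc0 0 vqc1))))))))) (vqc0 (vqc0 0 (vqc0 2 (vqc0 2 (vqc0 2 (vqc0 0 (vqc0 0 (vqc0 2 (vqc0 0 (vqc0 2 vqc1))))))))) (vqc0 (vqc0 1 (vqc0 2 (vqc0 2 (vqc0 0 (vqc0 2 (vqc0 2 (vqc0 1 (vqc0 0 (vqc0 0 vqc1))))))))) (vqc0 (vqc0 0 (vqc0 0 (vqc0 2 (vqc0 2 (vqc0 1 (vqc0 1 (vqc0 2 (vqc0 2 (vqc0 0 vqc1))))))))) (vqc0 (vqc0 0 (vqc0 0 (vqc0 2 (vqc0 2 (vqc0 2 (vqc0 0 (vqc0 0 (vqc0 1 (vqc0 1 vqc1))))))))) (vqc0 (vqc0 1 (vqc0 0 (vqc0 0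 (vqc0 2 (vqc0 1 (vqc0 0 (vqc0 1 (vqc0 1 (vqc0 2 vqc1))))))))) (vqc0 (vqc0 1 (vqc0 2 (vqc0 2 (vqc0 1 (vqc0 1 (vqc0 2 (vqc0 0 (vqc0 0 (vqc0 2 vqc1))))))))) vqc1))))))))))
    [11864, 18361, 4505, 4883, 8135, 4506] (by decide +kernel)

theorem a29 : Ok 20155391 3060093480899530125017790 :=
  ok_of (beta% delta% lq26c8b9c1d715 fun vqc0 vqc1 _ _ _ _ _ =>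
      (vqc0 (vqc0 1 (vqc0 2 (vqc0 1 (vqc0 2 (vqc0 2 (vqc0 1 (vqc0 0 (vqc0 2 (vqc0 0 vqc1))))))))) (vqc0 (vqc0 2 (vqc0 0 (vqc0 2 (vqc0 2 (vqc0 0 (vqc0 0 (vqc0 0 (vqc0 0 (vqc0 1 vqc1))))))))) (vqc0 (vqc0 1 (vqc0 1 (vqc0 1 (vqc0 0 (vqc0 1 (vqc0 0 (vqc0 0 (vqc0 0 (vqc0 2 vqc1))))))))) (vqc0 (vqc0 2 (vqc0 1 (vqc0 2 (vqc0 1 (vqc0 0 (vqc0 1 (vqc0 0 (vqc0 2 (vqc0 1 vqc1))))))))) (vqc0 (vqc0 2 (vqc0 0 (vqc0 1 (vqc0 0 (vqc0 2 (vqc0 2 (vqc0 0 (vqc0 1 (vqc0 1 vqc1))))))))) (vqc0 (vqc0 0 (vqc0 1 (vqc0 0 (vqc0 2 (vqc0 2 (vqc0 0 (vqc0 2 (vqc0 0 (vqc0 0 vqc1))))))))) (vqc0 (vqc0 1 (vqc0 0 (vqc0 2 (vqc0 0 (vqc0 1 (vqc0 1 (vqc0 0 (vqc0 1 (vqc0 2 vqc1))))))))) (vqc0 (vqc0 0 (vqc0 0 (vqc0 0 (vqc0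 0 (vqc0 2 (vqc0 0 (vqc0 2 (vqc0 0 (vqc0 0 vqc1))))))))) (vqc0 (vqc0 1 (vqc0 1 (vqc0 1 (vqc0 1 (vqc0 0 (vqc0 0 (vqc0 0 (vqc0 0 (vqc0 0 vqc1))))))))) vqc1))))))))))
    (beta% delta% lq26c8b9c1d715 fun vqc0 vqc1 _ _ _ _ _ =>
        (vqc0 (vqc0 2 (vqc0 2 (vqc0 0 (vqc0 0 (vqc0 0 (vqc0 0 (vqc0 1 (vqc0 0 (vqc0 1 vqc1))))))))) (vqc0 (vqc0 2 (vqc0 0 (vqc0 2 (vqc0 0 (vqc0 1 (vqc0 2 (vqc0 1 (vqc0 2 (vqc0 1 vqc1))))))))) (vqc0 (vqc0 1 (vqc0 0 (vqc0 2 (vqc0 1 (vqc0 1 (vqc0 1 (vqc0 0 (vqc0 1 (vqc0 0 vqc1))))))))) (vqc0 (vqc0 1 (vqc0 0 (vqc0 1 (vqc0 2 (vqc0 1 (vqc0 0 (vqc0 1 (vqc0 2 (vqc0 2 vqc1))))))))) (vqc0 (vqc0 1 (vqc0 0 (vqc0 2 (vqc0 1 (vqc0 0 (vqc0 1 (vqc0 1 (vqc0 1 (vqc0 0 vqc1)))))))))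 (vqc0 (vqc0 1 (vqc0 2 (vqc0 1 (vqc0 0 (vqc0 2 (vqc0 1 (vqc0 0 (vqc0 2 (vqc0 1 vqc1))))))))) (vqc0 (vqc0 2 (vqc0 2 (vqc0 0 (vqc0 1 (vqc0 1 (vqc0 2 (vqc0 2 (vqc0 2 (vqc0 2 vqc1))))))))) (vqc0 (vqc0 2 (vqc0 2 (vqc0 0 (vqc0 2 (vqc0 0 (vqc0 0 (vqc0 0 (vqc0 0 (vqc0 1 vqc1))))))))) (vqc0 (vqc0 2 (vqc0 1 (vqc0 1 (vqc0 1 (vqc0 2 (vqc0 2 (vqc0 1 (vqc0 2 (vqc0 1 vqc1))))))))) vqc1))))))))))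
    [15492, 15999, 11791, 5316, 14989] (by decide +kernel)

theorem a30 : Ok 146731253759 27540841328095771103920830 :=
  ok_of (beta% delta% lq26c8b9c1d715 fun vqc0 vqc1 _ _ _ _ _ =>
      (vqc0 (vqc0 2 (vqc0 1 (vqc0 1 (vqc0 2 (vqc0 2 (vqc0 0 (vqc0 1 (vqc0 0 (vqc0 2 vqc1))))))))) (vqc0 (vqc0 2 (vqc0 2 (vqc0 0 (vqc0 0 (vqc0 1 (vqc0 2 (vqc0 2 (vqc0 0 (vqc0 0 vqc1))))))))) (vqc0 (vqc0 0 (vqc0 2 (vqc0 2 (vqc0 2 (vqc0 0 (vqc0 2 (vqc0 0 (vqc0 0 (vqc0 2 vqc1))))))))) (vqc0 (vqc0 0 (vqc0 1 (vqc0 2 (vqc0 2 (vqc0 0 (vqc0 1 (vqc0 0 (vqc0 0 (vqc0 1 vqc1))))))))) (vqc0 (vqc0 2 (vqc0 0 (vqc0 1 (vqc0 2 (vqc0 2 (vqc0 1 (vqc0 2 (vqc0 0 (vqc0 2 vqc1))))))))) (vqc0 (vqc0 1 (vqc0 2 (vqc0 0 (vqc0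 0 (vqc0 2 (vqc0 2 (vqc0 1 (vqc0 0 (vqc0 0 vqc1))))))))) (vqc0 (vqc0 0 (vqc0 0 (vqc0 0 (vqc0 0 (vqc0 0 (vqc0 0 (vqc0 1 (vqc0 0 (vqc0 0 vqc1))))))))) (vqc0 (vqc0 2 (vqc0 1 (vqc0 0 (vqc0 0 (vqc0 1 (vqc0 2 (vqc0 2 (vqc0 1 (vqc0 0 vqc1))))))))) (vqc0 (vqc0 0 (vqc0 2 (vqc0 1 (vqc0 2 (vqc0 0 (vqc0 2 (vqc0 0 (vqc0 0 (vqc0 0 vqc1))))))))) vqc1))))))))))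
    (beta% delta% lq26c8b9c1d715 fun vqc0 vqc1 _ _ _ _ _ =>
        (vqc0 (vqc0 2 (vqc0 2 (vqc0 2 (vqc0 1 (vqc0 2 (vqc0 0 (vqc0 2 (vqc0 2 (vqc0 2 vqc1))))))))) (vqc0 (vqc0 1 (vqc0 0 (vqc0 0 (vqc0 0 (vqc0 1 (vqc0 1 (vqc0 2 (vqc0 1 (vqc0 0 vqc1))))))))) (vqc0 (vqc0 1 (vqc0 1 (vqc0 0 (vqc0 2 (vqc0 1 (vqc0 0 (vqc0 1 (vqc0 0 (vqc0 1 vqc1))))))))) (vqc0 (vqc0 0 (vqc0 2 (vqc0 2 (vqc0 0 (vqc0 2 (vqc0 1 (vqc0 2 (vqc0 1 (vqc0 2 vqc1))))))))) (vqc0 (vqc0 0 (vqc0 2 (vqc0 1 (vqc0 2 (vqc0 0 (vqc0 2 (vqc0 1 (vqc0 2 (vqc0 1 vqc1))))))))) (vqc0 (vqc0 2 (vqc0 2 (vqc0 1 (vqc0 0 (vqc0 2 (vqc0 0 (vqc0 0 (vqc0 1 (vqc0 2 vqc1))))))))) (vqc0 (vqc0 1 (vqc0 1 (vqc0 2 (vqc0 1 (vqc0 0 (vqc0 2 (vqc0 2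 (vqc0 2 (vqc0 2 vqc1))))))))) (vqc0 (vqc0 1 (vqc0 1 (vqc0 1 (vqc0 0 (vqc0 0 (vqc0 0 (vqc0 0 (vqc0 1 (vqc0 1 vqc1))))))))) (vqc0 (vqc0 0 (vqc0 1 (vqc0 0 (vqc0 0 (vqc0 2 (vqc0 0 (vqc0 0 (vqc0 0 (vqc0 2 vqc1))))))))) vqc1))))))))))
    [10224, 13001, 7239, 12425, 14912, 11506, 15440, 4607] (by decide +kernel)

theorem a31 : Ok 647 113336795589625251889746 :=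
  ok_of (beta% delta% lq26c8b9c1d715 fun vqc0 vqc1 _ _ _ _ _ =>
      (vqc0 (vqc0 0 (vqc0 0 (vqc0 1 (vqc0 1 (vqc0 2 (vqc0 1 (vqc0 2 (vqc0 2 (vqc0 2 vqc1))))))))) (vqc0 (vqc0 1 (vqc0 1 (vqc0 2 (vqc0 1 (vqc0 1 (vqc0 1 (vqc0 0 (vqc0 1 (vqc0 1 vqc1))))))))) (vqc0 (vqc0 2 (vqc0 2 (vqc0 1 (vqc0 2 (vqc0 1 (vqc0 1 (vqc0 1 (vqc0 2 (vqc0 0 vqc1))))))))) (vqc0 (vqc0 2 (vqc0 2 (vqc0 2 (vqc0 1 (vqc0 1 (vqc0 2 (vqc0 1 (vqc0 1 (vqc0 0 vqc1))))))))) (vqc0 (vqc0 1 (vqc0 1 (vqc0 1 (vqc0 0 (vqc0 0 (vqc0 1 (vqc0 2 (vqc0 1 (vqc0 0 vqc1))))))))) (vqc0 (vqc0 2 (vqc0 0 (vqc0 2 (vqc0 2 (vqc0 0 (vqc0 2 (vqc0 0 (vqc0 0 (vqc0 2 vqc1))))))))) (vqc0 (vqc0 1 (vqc0 2 (vqc0 1 (vqc0 0 (vqc0 1 (vqc0 2 (vqc0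 0 (vqc0 1 (vqc0 2 vqc1))))))))) (vqc0 (vqc0 1 (vqc0 0 (vqc0 0 (vqc0 0 (vqc0 1 (vqc0 1 (vqc0 1 (vqc0 0 (vqc0 2 vqc1))))))))) (vqc0 (vqc0 2 (vqc0 2 (vqc0 0 (vqc0 0 (vqc0 2 (vqc0 2 (vqc0 2 (vqc0 2 (vqc0 2 vqc1))))))))) vqc1))))))))))
    (beta% delta% lq26c8b9c1d715 fun vqc0 vqc1 _ _ _ _ _ =>
        (vqc0 (vqc0 0 (vqc0 2 (vqc0 2 (vqc0 2 (vqc0 1 (vqc0 0 (vqc0 1 (vqc0 0 (vqc0 2 vqc1))))))))) (vqc0 (vqc0 1 (vqc0 1 (vqc0 2 (vqc0 2 (vqc0 1 (vqc0 2 (vqc0 0 (vqc0 0 (vqc0 2 vqc1))))))))) (vqc0 (vqc0 1 (vqc0 2 (vqc0 1 (vqc0 2 (vqc0 2 (vqc0 1 (vqc0 2 (vqc0 2 (vqc0 2 vqc1))))))))) (vqc0 (vqc0 1 (vqc0 1 (vqc0 2 (vqc0 0 (vqc0 1 (vqc0 0 (vqc0 0 (vqc0 2 (vqc0 2 vqc1))))))))) (vqc0 (vqc0 0 (vqc0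 1 (vqc0 2 (vqc0 1 (vqc0 0 (vqc0 1 (vqc0 2 (vqc0 1 (vqc0 2 vqc1))))))))) (vqc0 (vqc0 2 (vqc0 1 (vqc0 0 (vqc0 2 (vqc0 1 (vqc0 0 (vqc0 1 (vqc0 1 (vqc0 0 vqc1))))))))) (vqc0 (vqc0 0 (vqc0 1 (vqc0 2 (vqc0 1 (vqc0 2 (vqc0 0 (vqc0 1 (vqc0 2 (vqc0 2 vqc1))))))))) (vqc0 (vqc0 1 (vqc0 2 (vqc0 2 (vqc0 1 (vqc0 0 (vqc0 0 (vqc0 2 (vqc0 1 (vqc0 0 vqc1))))))))) (vqc0 (vqc0 2 (vqc0 1 (vqc0 2 (vqc0 1 (vqc0 0 (vqc0 0 (vqc0 2 (vqc0 2 (vqc0 0 vqc1))))))))) vqc1))))))))))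
    [17164, 2322] (by decide +kernel)

theorem a32 : Ok 647 114083888724784435495182 :=
  ok_of (beta% delta% lq26c8b9c1d715 fun vqc0 vqc1 _ _ _ _ _ =>
      (vqc0 (vqc0 2 (vqc0 1 (vqc0 2 (vqc0 2 (vqc0 0 (vqc0 0 (vqc0 2 (vqc0 2 (vqc0 1 vqc1))))))))) (vqc0 (vqc0 0 (vqc0 2 (vqc0 1 (vqc0 0 (vqc0 2 (vqc0 1 (vqc0 2 (vqc0 1 (vqc0 1 vqc1))))))))) (vqc0 (vqc0 1 (vqc0 0 (vqc0 2 (vqc0 1 (vqc0 0 (vqc0 1 (vqc0 1 (vqc0 2 (vqc0 2 vqc1))))))))) (vqc0 (vqc0 0 (vqc0 2 (vqc0 1 (vqc0 2 (vqc0 1 (vqc0 1 (vqc0 1 (vqc0 0 (vqc0 0 vqc1))))))))) (vqc0 (vqc0 2 (vqc0 2 (vqc0 0 (vqc0 0 (vqc0 2 (vqc0 1 (vqc0 2 (vqc0 2 (vqc0 1 vqc1))))))))) (vqc0 (vqc0 2 (vqc0 0 (vqc0 1 (vqc0 0 (vqc0 0 (vqc0 2 (vqc0 1 (vqc0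 1 (vqc0 1 vqc1))))))))) (vqc0 (vqc0 0 (vqc0 2 (vqc0 0 (vqc0 1 (vqc0 2 (vqc0 0 (vqc0 0 (vqc0 0 (vqc0 0 vqc1))))))))) (vqc0 (vqc0 2 (vqc0 1 (vqc0 1 (vqc0 2 (vqc0 2 (vqc0 1 (vqc0 0 (vqc0 1 (vqc0 0 vqc1))))))))) (vqc0 (vqc0 2 (vqc0 1 (vqc0 2 (vqc0 1 (vqc0 1 (vqc0 0 (vqc0 2 (vqc0 2 (vqc0 0 vqc1))))))))) vqc1))))))))))
    (beta% delta% lq26c8b9c1d715 fun vqc0 vqc1 _ _ _ _ _ =>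
        (vqc0 (vqc0 1 (vqc0 0 (vqc0 1 (vqc0 2 (vqc0 0 (vqc0 2 (vqc0 1 (vqc0 1 (vqc0 0 vqc1))))))))) (vqc0 (vqc0 0 (vqc0 1 (vqc0 0 (vqc0 1 (vqc0 1 (vqc0 1 (vqc0 1 (vqc0 2 (vqc0 0 vqc1))))))))) (vqc0 (vqc0 2 (vqc0 1 (vqc0 1 (vqc0 2 (vqc0 1 (vqc0 2 (vqc0 1 (vqc0 1 (vqc0 1 vqc1))))))))) (vqc0 (vqc0 2 (vqc0 1 (vqc0 2 (vqc0 2 (vqc0 2 (vqc0 2 (vqc0 0 (vqc0 1 (vqc0 2 vqc1))))))))) (vqc0 (vqc0 1 (vqc0 0 (vqc0 1 (vqc0 0 (vqc0 0 (vqc0 1 (vqc0 2 (vqc0 2 (vqc0 1 vqc1))))))))) (vqc0 (vqc0 1 (vqc0 2 (vqc0 1 (vqc0 2 (vqc0 0 (vqc0 0 (vqc0 1 (vqc0 2 (vqc0 0 vqc1))))))))) (vqc0 (vqc0 2 (vqc0 0 (vqc0 0 (vqc0 2 (vqc0 2 (vqc0 2 (vqc0 0 (vqc0 0 (vqc0 2 vqc1))))))))) (vqc0 (vqc0 2 (vqc0 0 (vqc0 2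 (vqc0 0 (vqc0 2 (vqc0 2 (vqc0 0 (vqc0 1 (vqc0 2 vqc1))))))))) (vqc0 (vqc0 0 (vqc0 1 (vqc0 0 (vqc0 0 (vqc0 0 (vqc0 1 (vqc0 0 (vqc0 2 (vqc0 1 vqc1))))))))) vqc1))))))))))
    [14214, 896] (by decide +kernel)

theorem a33 : Ok 1295 113336795589973144240722 :=
  ok_of (beta% delta% lq26c8b9c1d715 fun vqc0 vqc1 _ _ _ _ _ =>
      (vqc0 (vqc0 2 (vqc0 1 (vqc0 2 (vqc0 1 (vqc0 0 (vqc0 2 (vqc0 1 (vqc0 0 (vqc0 2 vqc1))))))))) (vqc0 (vqc0 2 (vqc0 1 (vqc0 2 (vqc0 2 (vqc0 0 (vqc0 2 (vqc0 1 (vqc0 0 (vqc0 0 vqc1))))))))) (vqc0 (vqc0 2 (vqc0 1 (vqc0 1 (vqc0 2 (vqc0 2 (vqc0 2 (vqc0 2 (vqc0 1 (vqc0 2 vqc1))))))))) (vqc0 (vqc0 0 (vqc0 2 (vqc0 0 (vqc0 1 (vqc0 0 (vqc0 1 (vqc0 0 (vqc0 0 (vqc0 0 vqc1)))))))))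 (vqc0 (vqc0 1 (vqc0 0 (vqc0 1 (vqc0 2 (vqc0 0 (vqc0 2 (vqc0 1 (vqc0 2 (vqc0 2 vqc1))))))))) (vqc0 (vqc0 0 (vqc0 0 (vqc0 0 (vqc0 2 (vqc0 0 (vqc0 0 (vqc0 0 (vqc0 2 (vqc0 0 vqc1))))))))) (vqc0 (vqc0 2 (vqc0 0 (vqc0 0 (vqc0 1 (vqc0 2 (vqc0 0 (vqc0 0 (vqc0 1 (vqc0 0 vqc1))))))))) (vqc0 (vqc0 0 (vqc0 1 (vqc0 0 (vqc0 2 (vqc0 0 (vqc0 1 (vqc0 0 (vqc0 0 (vqc0 0 vqc1))))))))) (vqc0 (vqc0 1 (vqc0 0 (vqc0 1 (vqc0 1 (vqc0 0 (vqc0 0 (vqc0 2 (vqc0 1 (vqc0 2 vqc1))))))))) vqc1))))))))))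
    (beta% delta% lq26c8b9c1d715 fun vqc0 vqc1 _ _ _ _ _ =>
        (vqc0 (vqc0 2 (vqc0 2 (vqc0 2 (vqc0 0 (vqc0 0 (vqc0 2 (vqc0 1 (vqc0 0 (vqc0 2 vqc1))))))))) (vqc0 (vqc0 2 (vqc0 1 (vqc0 2 (vqc0 1 (vqc0 0 (vqc0 0 (vqc0 0 (vqc0 0 (vqc0 1 vqc1))))))))) (vqc0 (vqc0 1 (vqc0 2 (vqc0 2 (vqc0 0 (vqc0 0 (vqc0 1 (vqc0 1 (vqc0 2 (vqc0 2 vqc1))))))))) (vqc0 (vqc0 2 (vqc0 0 (vqc0 0 (vqc0 2 (vqc0 1 (vqc0 1 (vqc0 1 (vqc0 2 (vqc0 0 vqc1))))))))) (vqc0 (vqc0 2 (vqc0 2 (vqc0 0 (vqc0 1 (vqc0 0 (vqc0 0 (vqc0 1 (vqc0 0 (vqc0 1 vqc1))))))))) (vqc0 (vqc0 2 (vqc0 1 (vqc0 1 (vqc0 0 (vqc0 1 (vqc0 0 (vqc0 1 (vqc0 2 (vqc0 1 vqc1))))))))) (vqc0 (vqc0 0 (vqc0 2 (vqc0 0 (vqc0 0 (vqc0 2 (vqc0 2 (vqc0 2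 (vqc0 0 (vqc0 2 vqc1))))))))) (vqc0 (vqc0 0 (vqc0 1 (vqc0 2 (vqc0 1 (vqc0 0 (vqc0 0 (vqc0 2 (vqc0 2 (vqc0 0 vqc1))))))))) (vqc0 (vqc0 1 (vqc0 0 (vqc0 1 (vqc0 0 (vqc0 0 (vqc0 2 (vqc0 0 (vqc0 2 (vqc0 1 vqc1))))))))) vqc1))))))))))
    [8166, 7979] (by decide +kernel)

theorem a34 : Ok 20735 113336795589973146600018 :=
  ok_of (beta% delta% lq26c8b9c1d715 fun vqc0 vqc1 _ _ _ _ _ =>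
      (vqc0 (vqc0 2 (vqc0 1 (vqc0 1 (vqc0 0 (vqc0 1 (vqc0 2 (vqc0 0 (vqc0 0 (vqc0 1 vqc1))))))))) (vqc0 (vqc0 0 (vqc0 2 (vqc0 2 (vqc0 2 (vqc0 1 (vqc0 2 (vqc0 2 (vqc0 0 (vqc0 0 vqc1))))))))) (vqc0 (vqc0 2 (vqc0 1 (vqc0 2 (vqc0 1 (vqc0 0 (vqc0 2 (vqc0 0 (vqc0 0 (vqc0 2 vqc1))))))))) (vqc0 (vqc0 1 (vqc0 0 (vqc0 2 (vqc0 0 (vqc0 2 (vqc0 1 (vqc0 2 (vqc0 2 (vqc0 0 vqc1))))))))) (vqc0 (vqc0 0 (vqc0 2 (vqc0 2 (vqc0 2 (vqc0 2 (vqc0 0 (vqc0 2 (vqc0 0 (vqc0 2 vqc1))))))))) (vqc0 (vqc0 1 (vqc0 0 (vqc0 1 (vqc0 2 (vqc0 1 (vqc0 2 (vqc0 0 (vqc0 0 (vqc0 2 vqc1))))))))) (vqc0 (vqc0 1 (vqc0 2 (vqc0 1 (vqc0 2 (vqc0 0 (vqc0 1 (vqc0 2 (vqc0 0 (vqc0 1 vqc1))))))))) (vqc0 (vqc0 2 (vqc0 1 (vqc0 2 (vqc0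 0 (vqc0 1 (vqc0 1 (vqc0 2 (vqc0 2 (vqc0 2 vqc1))))))))) (vqc0 (vqc0 2 (vqc0 2 (vqc0 1 (vqc0 2 (vqc0 0 (vqc0 2 (vqc0 1 (vqc0 0 (vqc0 2 vqc1))))))))) vqc1))))))))))
    (beta% delta% lq26c8b9c1d715 fun vqc0 vqc1 _ _ _ _ _ =>
        (vqc0 (vqc0 2 (vqc0 1 (vqc0 2 (vqc0 0 (vqc0 2 (vqc0 1 (vqc0 2 (vqc0 0 (vqc0 1 vqc1))))))))) (vqc0 (vqc0 2 (vqc0 2 (vqc0 2 (vqc0 0 (vqc0 1 (vqc0 0 (vqc0 0 (vqc0 1 (vqc0 1 vqc1))))))))) (vqc0 (vqc0 1 (vqc0 2 (vqc0 2 (vqc0 1 (vqc0 0 (vqc0 0 (vqc0 0 (vqc0 2 (vqc0 1 vqc1))))))))) (vqc0 (vqc0 1 (vqc0 1 (vqc0 2 (vqc0 1 (vqc0 0 (vqc0 0 (vqc0 0 (vqc0 2 (vqc0 0 vqc1))))))))) (vqc0 (vqc0 1 (vqc0 1 (vqc0 2 (vqc0 1 (vqc0 1 (vqc0 1 (vqc0 0 (vqc0 1 (vqc0 2 vqc1)))))))))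 (vqc0 (vqc0 0 (vqc0 0 (vqc0 0 (vqc0 0 (vqc0 1 (vqc0 0 (vqc0 0 (vqc0 1 (vqc0 0 vqc1))))))))) (vqc0 (vqc0 1 (vqc0 1 (vqc0 2 (vqc0 0 (vqc0 1 (vqc0 2 (vqc0 1 (vqc0 1 (vqc0 2 vqc1))))))))) (vqc0 (vqc0 1 (vqc0 0 (vqc0 1 (vqc0 1 (vqc0 1 (vqc0 2 (vqc0 1 (vqc0 1 (vqc0 2 vqc1))))))))) (vqc0 (vqc0 0 (vqc0 1 (vqc0 2 (vqc0 2 (vqc0 2 (vqc0 2 (vqc0 1 (vqc0 0 (vqc0 0 vqc1))))))))) vqc1))))))))))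
    [2410, 4806, 13872, 3495] (by decide +kernel)

theorem a35 : Ok 15551 113336795589915165721116 :=
  ok_of (beta% delta% lq26c8b9c1d715 fun vqc0 vqc1 _ _ _ _ _ =>
      (vqc0 (vqc0 1 (vqc0 2 (vqc0 1 (vqc0 2 (vqc0 2 (vqc0 0 (vqc0 0 (vqc0 0 (vqc0 1 vqc1))))))))) (vqc0 (vqc0 1 (vqc0 2 (vqc0 2 (vqc0 0 (vqc0 1 (vqc0 0 (vqc0 1 (vqc0 2 (vqc0 2 vqc1))))))))) (vqc0 (vqc0 1 (vqc0 2 (vqc0 1 (vqc0 2 (vqc0 0 (vqc0 1 (vqc0 1 (vqc0 0 (vqc0 2 vqc1))))))))) (vqc0 (vqc0 1 (vqc0 0 (vqc0 0 (vqc0 0 (vqc0 0 (vqc0 2 (vqc0 0 (vqc0 2 (vqc0 0 vqc1))))))))) (vqc0 (vqc0 0 (vqc0 0 (vqc0 1 (vqc0 0 (vqc0 2 (vqc0 2 (vqc0 1 (vqc0 2 (vqc0 0 vqc1))))))))) (vqc0 (vqc0 2 (vqc0 0 (vqc0 1 (vqc0 0 (vqc0 2 (vqc0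 2 (vqc0 1 (vqc0 0 (vqc0 2 vqc1))))))))) (vqc0 (vqc0 2 (vqc0 2 (vqc0 0 (vqc0 0 (vqc0 1 (vqc0 2 (vqc0 1 (vqc0 1 (vqc0 2 vqc1))))))))) (vqc0 (vqc0 1 (vqc0 1 (vqc0 0 (vqc0 1 (vqc0 1 (vqc0 0 (vqc0 0 (vqc0 0 (vqc0 2 vqc1))))))))) (vqc0 (vqc0 1 (vqc0 0 (vqc0 0 (vqc0 0 (vqc0 2 (vqc0 0 (vqc0 1 (vqc0 0 (vqc0 1 vqc1))))))))) vqc1))))))))))
    (beta% delta% lq26c8b9c1d715 fun vqc0 vqc1 _ _ _ _ _ =>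
        (vqc0 (vqc0 2 (vqc0 2 (vqc0 0 (vqc0 2 (vqc0 0 (vqc0 0 (vqc0 2 (vqc0 0 (vqc0 1 vqc1))))))))) (vqc0 (vqc0 1 (vqc0 2 (vqc0 1 (vqc0 0 (vqc0 2 (vqc0 1 (vqc0 0 (vqc0 2 (vqc0 1 vqc1))))))))) (vqc0 (vqc0 1 (vqc0 1 (vqc0 0 (vqc0 0 (vqc0 2 (vqc0 0 (vqc0 0 (vqc0 2 (vqc0 1 vqc1))))))))) (vqc0 (vqc0 1 (vqc0 1 (vqc0 2 (vqc0 1 (vqc0 0 (vqc0 2 (vqc0 1 (vqc0 1 (vqc0 2 vqc1))))))))) (vqc0 (vqc0 2 (vqc0 2 (vqc0 0 (vqc0 0 (vqc0 1 (vqc0 0 (vqc0 1 (vqc0 2 (vqc0 0 vqc1))))))))) (vqc0 (vqc0 0 (vqc0 2 (vqc0 2 (vqc0 2 (vqc0 1 (vqc0 0 (vqc0 0 (vqc0 0 (vqc0 1 vqc1))))))))) (vqc0 (vqc0 2 (vqc0 0 (vqc0 2 (vqc0 0 (vqc0 1 (vqc0 1 (vqc0 1 (vqc0 2 (vqc0 0 vqc1))))))))) (vqc0 (vqc0 2 (vqc0 2 (vqc0 2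 (vqc0 1 (vqc0 0 (vqc0 1 (vqc0 1 (vqc0 1 (vqc0 1 vqc1))))))))) (vqc0 (vqc0 1 (vqc0 0 (vqc0 2 (vqc0 0 (vqc0 2 (vqc0 1 (vqc0 2 (vqc0 2 (vqc0 2 vqc1))))))))) vqc1))))))))))
    [1205, 1109, 17738, 9907] (by decide +kernel)

theorem a36 : Ok 15551 113336795589393325426152 :=
  ok_of (beta% delta% lq26c8b9c1d715 fun vqc0 vqc1 _ _ _ _ _ =>
      (vqc0 (vqc0 1 (vqc0 1 (vqc0 2 (vqc0 2 (vqc0 0 (vqc0 1 (vqc0 2 (vqc0 2 (vqc0 0 vqc1))))))))) (vqc0 (vqc0 0 (vqc0 2 (vqc0 2 (vqc0 1 (vqc0 1 (vqc0 1 (vqc0 1 (vqc0 1 (vqc0 2 vqc1))))))))) (vqc0 (vqc0 2 (vqc0 2 (vqc0 2 (vqc0 0 (vqc0 1 (vqc0 1 (vqc0 1 (vqc0 2 (vqc0 2 vqc1))))))))) (vqc0 (vqc0 0 (vqc0 2 (vqc0 0 (vqc0 2 (vqc0 1 (vqc0 0 (vqc0 0 (vqc0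 1 (vqc0 0 vqc1))))))))) (vqc0 (vqc0 1 (vqc0 1 (vqc0 0 (vqc0 0 (vqc0 2 (vqc0 0 (vqc0 1 (vqc0 0 (vqc0 2 vqc1))))))))) (vqc0 (vqc0 2 (vqc0 1 (vqc0 0 (vqc0 1 (vqc0 2 (vqc0 1 (vqc0 1 (vqc0 0 (vqc0 1 vqc1))))))))) (vqc0 (vqc0 1 (vqc0 0 (vqc0 0 (vqc0 1 (vqc0 1 (vqc0 1 (vqc0 0 (vqc0 1 (vqc0 1 vqc1))))))))) (vqc0 (vqc0 2 (vqc0 0 (vqc0 2 (vqc0 2 (vqc0 1 (vqc0 2 (vqc0 2 (vqc0 0 (vqc0 0 vqc1))))))))) (vqc0 (vqc0 1 (vqc0 1 (vqc0 2 (vqc0 2 (vqc0 0 (vqc0 0 (vqc0 0 (vqc0 1 (vqc0 0 vqc1))))))))) vqc1))))))))))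
    (beta% delta% lq26c8b9c1d715 fun vqc0 vqc1 _ _ _ _ _ =>
        (vqc0 (vqc0 0 (vqc0 0 (vqc0 2 (vqc0 0 (vqc0 1 (vqc0 1 (vqc0 1 (vqc0 0 (vqc0 1 vqc1))))))))) (vqc0 (vqc0 1 (vqc0 0 (vqc0 2 (vqc0 0 (vqc0 2 (vqc0 2 (vqc0 0 (vqc0 1 (vqc0 2 vqc1))))))))) (vqc0 (vqc0 2 (vqc0 1 (vqc0 2 (vqc0 0 (vqc0 2 (vqc0 0 (vqc0 1 (vqc0 1 (vqc0 0 vqc1))))))))) (vqc0 (vqc0 0 (vqc0 1 (vqc0 0 (vqc0 0 (vqc0 1 (vqc0 0 (vqc0 1 (vqc0 1 (vqc0 1 vqc1))))))))) (vqc0 (vqc0 2 (vqc0 1 (vqc0 2 (vqc0 1 (vqc0 0 (vqc0 1 (vqc0 0 (vqc0 1 (vqc0 2 vqc1))))))))) (vqc0 (vqc0 0 (vqc0 2 (vqc0 1 (vqc0 2 (vqc0 0 (vqc0 1 (vqc0 1 (vqc0 1 (vqc0 0 vqc1))))))))) (vqc0 (vqc0 0 (vqc0 1 (vqc0 2 (vqc0 2 (vqc0 0 (vqc0 0 (vqc0 1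 (vqc0 2 (vqc0 0 vqc1))))))))) (vqc0 (vqc0 1 (vqc0 0 (vqc0 2 (vqc0 2 (vqc0 0 (vqc0 0 (vqc0 0 (vqc0 1 (vqc0 1 vqc1))))))))) (vqc0 (vqc0 0 (vqc0 0 (vqc0 2 (vqc0 0 (vqc0 2 (vqc0 0 (vqc0 2 (vqc0 1 (vqc0 0 vqc1))))))))) vqc1))))))))))
    [11578, 4744, 9306, 9572] (by decide +kernel)

theorem a37 : Ok 31103 113336795588871488668836 :=
  ok_of (beta% delta% lq26c8b9c1d715 fun vqc0 vqc1 _ _ _ _ _ =>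
      (vqc0 (vqc0 0 (vqc0 2 (vqc0 0 (vqc0 1 (vqc0 0 (vqc0 1 (vqc0 0 (vqc0 2 (vqc0 0 vqc1))))))))) (vqc0 (vqc0 2 (vqc0 0 (vqc0 2 (vqc0 0 (vqc0 2 (vqc0 1 (vqc0 1 (vqc0 2 (vqc0 1 vqc1))))))))) (vqc0 (vqc0 2 (vqc0 0 (vqc0 0 (vqc0 0 (vqc0 1 (vqc0 1 (vqc0 2 (vqc0 0 (vqc0 2 vqc1))))))))) (vqc0 (vqc0 0 (vqc0 1 (vqc0 0 (vqc0 1 (vqc0 1 (vqc0 2 (vqc0 1 (vqc0 1 (vqc0 0 vqc1))))))))) (vqc0 (vqc0 1 (vqc0 0 (vqc0 1 (vqc0 2 (vqc0 2 (vqc0 0 (vqc0 2 (vqc0 1 (vqc0 1 vqc1))))))))) (vqc0 (vqc0 2 (vqc0 2 (vqc0 1 (vqc0 1 (vqc0 1 (vqc0 1 (vqc0 0 (vqc0 0 (vqc0 0 vqc1))))))))) (vqc0 (vqc0 1 (vqc0 1 (vqc0 1 (vqc0 2 (vqc0 1 (vqc0 1 (vqc0 1 (vqc0 0 (vqc0 1 vqc1))))))))) (vqc0 (vqc0 2 (vqc0 1 (vqc0 0 (vqc0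 1 (vqc0 1 (vqc0 1 (vqc0 2 (vqc0 2 (vqc0 2 vqc1))))))))) (vqc0 (vqc0 1 (vqc0 2 (vqc0 1 (vqc0 1 (vqc0 2 (vqc0 2 (vqc0 2 (vqc0 2 (vqc0 0 vqc1))))))))) vqc1))))))))))
    (beta% delta% lq26c8b9c1d715 fun vqc0 vqc1 _ _ _ _ _ =>
        (vqc0 (vqc0 2 (vqc0 0 (vqc0 0 (vqc0 2 (vqc0 2 (vqc0 2 (vqc0 2 (vqc0 0 (vqc0 2 vqc1))))))))) (vqc0 (vqc0 2 (vqc0 2 (vqc0 1 (vqc0 1 (vqc0 2 (vqc0 0 (vqc0 1 (vqc0 2 (vqc0 1 vqc1))))))))) (vqc0 (vqc0 2 (vqc0 0 (vqc0 1 (vqc0 1 (vqc0 1 (vqc0 1 (vqc0 2 (vqc0 1 (vqc0 2 vqc1))))))))) (vqc0 (vqc0 2 (vqc0 0 (vqc0 0 (vqc0 0 (vqc0 0 (vqc0 0 (vqc0 1 (vqc0 1 (vqc0 2 vqc1))))))))) (vqc0 (vqc0 2 (vqc0 1 (vqc0 0 (vqc0 0 (vqc0 1 (vqc0 2 (vqc0 0 (vqc0 0 (vqc0 2 vqc1)))))))))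 (vqc0 (vqc0 0 (vqc0 1 (vqc0 0 (vqc0 1 (vqc0 0 (vqc0 2 (vqc0 1 (vqc0 0 (vqc0 0 vqc1))))))))) (vqc0 (vqc0 1 (vqc0 0 (vqc0 0 (vqc0 1 (vqc0 2 (vqc0 2 (vqc0 0 (vqc0 1 (vqc0 1 vqc1))))))))) (vqc0 (vqc0 1 (vqc0 1 (vqc0 2 (vqc0 1 (vqc0 0 (vqc0 0 (vqc0 1 (vqc0 0 (vqc0 0 vqc1))))))))) (vqc0 (vqc0 0 (vqc0 1 (vqc0 0 (vqc0 0 (vqc0 2 (vqc0 2 (vqc0 1 (vqc0 2 (vqc0 2 vqc1))))))))) vqc1))))))))))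
    [16647, 4333, 10860] (by decide +kernel)

theorem a38 : Ok 497663 113336795588871509902500 :=
  ok_of (beta% delta% lq26c8b9c1d715 fun vqc0 vqc1 _ _ _ _ _ =>
      (vqc0 (vqc0 2 (vqc0 0 (vqc0 0 (vqc0 0 (vqc0 0 (vqc0 0 (vqc0 0 (vqc0 0 (vqc0 0 vqc1))))))))) (vqc0 (vqc0 0 (vqc0 2 (vqc0 0 (vqc0 1 (vqc0 1 (vqc0 0 (vqc0 2 (vqc0 2 (vqc0 1 vqc1))))))))) (vqc0 (vqc0 1 (vqc0 0 (vqc0 1 (vqc0 2 (vqc0 1 (vqc0 1 (vqc0 0 (vqc0 1 (vqc0 0 vqc1))))))))) (vqc0 (vqc0 0 (vqc0 0 (vqc0 0 (vqc0 1 (vqc0 1 (vqc0 0 (vqc0 2 (vqc0 2 (vqc0 1 vqc1))))))))) (vqc0 (vqc0 0 (vqc0 0 (vqc0 0 (vqc0 1 (vqc0 0 (vqc0 0 (vqc0 2 (vqc0 2 (vqc0 1 vqc1))))))))) (vqc0 (vqc0 0 (vqc0 0 (vqc0 2 (vqc0 2 (vqc0 2 (vqc0 2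 (vqc0 2 (vqc0 2 (vqc0 0 vqc1))))))))) (vqc0 (vqc0 0 (vqc0 0 (vqc0 1 (vqc0 0 (vqc0 0 (vqc0 0 (vqc0 1 (vqc0 1 (vqc0 1 vqc1))))))))) (vqc0 (vqc0 0 (vqc0 0 (vqc0 1 (vqc0 2 (vqc0 0 (vqc0 0 (vqc0 2 (vqc0 1 (vqc0 2 vqc1))))))))) (vqc0 (vqc0 0 (vqc0 0 (vqc0 2 (vqc0 1 (vqc0 1 (vqc0 0 (vqc0 0 (vqc0 2 (vqc0 0 vqc1))))))))) vqc1))))))))))
    (beta% delta% lq26c8b9c1d715 fun vqc0 vqc1 _ _ _ _ _ =>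
        (vqc0 (vqc0 2 (vqc0 0 (vqc0 2 (vqc0 0 (vqc0 2 (vqc0 2 (vqc0 0 (vqc0 0 (vqc0 1 vqc1))))))))) (vqc0 (vqc0 1 (vqc0 0 (vqc0 1 (vqc0 1 (vqc0 1 (vqc0 1 (vqc0 1 (vqc0 2 (vqc0 1 vqc1))))))))) (vqc0 (vqc0 0 (vqc0 2 (vqc0 0 (vqc0 2 (vqc0 2 (vqc0 1 (vqc0 1 (vqc0 2 (vqc0 1 vqc1))))))))) (vqc0 (vqc0 1 (vqc0 2 (vqc0 1 (vqc0 2 (vqc0 0 (vqc0 2 (vqc0 2 (vqc0 1 (vqc0 0 vqc1))))))))) (vqc0 (vqc0 1 (vqc0 0 (vqc0 2 (vqc0 0 (vqc0 0 (vqc0 2 (vqc0 2 (vqc0 2 (vqc0 2 vqc1))))))))) (vqc0 (vqc0 2 (vqc0 0 (vqc0 0 (vqc0 2 (vqc0 0 (vqc0 1 (vqc0 0 (vqc0 0 (vqc0 0 vqc1))))))))) (vqc0 (vqc0 0 (vqc0 1 (vqc0 1 (vqc0 2 (vqc0 2 (vqc0 2 (vqc0 1 (vqc0 1 (vqc0 1 vqc1))))))))) (vqc0 (vqc0 0 (vqc0 0 (vqc0 2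 (vqc0 1 (vqc0 2 (vqc0 2 (vqc0 2 (vqc0 2 (vqc0 2 vqc1))))))))) (vqc0 (vqc0 2 (vqc0 1 (vqc0 2 (vqc0 0 (vqc0 0 (vqc0 1 (vqc0 1 (vqc0 1 (vqc0 2 vqc1))))))))) vqc1))))))))))
    [3269, 16035, 11814, 2396, 8163] (by decide +kernel)

theorem a39 : Ok 7775 566683977944705319765480 :=
  ok_of (beta% delta% lq26c8b9c1d715 fun vqc0 vqc1 _ _ _ _ _ =>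
      (vqc0 (vqc0 2 (vqc0 0 (vqc0 2 (vqc0 0 (vqc0 0 (vqc0 2 (vqc0 1 (vqc0 1 (vqc0 2 vqc1))))))))) (vqc0 (vqc0 2 (vqc0 2 (vqc0 0 (vqc0 0 (vqc0 2 (vqc0 0 (vqc0 0 (vqc0 1 (vqc0 2 vqc1))))))))) (vqc0 (vqc0 0 (vqc0 1 (vqc0 2 (vqc0 2 (vqc0 0 (vqc0 2 (vqc0 1 (vqc0 0 (vqc0 1 vqc1))))))))) (vqc0 (vqc0 2 (vqc0 1 (vqc0 1 (vqc0 0 (vqc0 1 (vqc0 2 (vqc0 0 (vqc0 0 (vqc0 1 vqc1))))))))) (vqc0 (vqc0 0 (vqc0 2 (vqc0 1 (vqc0 1 (vqc0 2 (vqc0 1 (vqc0 2 (vqc0 2 (vqc0 2 vqc1))))))))) (vqc0 (vqc0 0 (vqc0 0 (vqc0 2 (vqc0 1 (vqc0 0 (vqc0 0 (vqc0 2 (vqc0 1 (vqc0 2 vqc1))))))))) (vqc0 (vqc0 0 (vqc0 0 (vqc0 0 (vqc0 2 (vqc0 2 (vqc0 0 (vqc0 0 (vqc0 1 (vqc0 0 vqc1))))))))) (vqc0 (vqc0 0 (vqc0 0 (vqc0 0 (vqc0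 0 (vqc0 2 (vqc0 1 (vqc0 2 (vqc0 1 (vqc0 1 vqc1))))))))) (vqc0 (vqc0 2 (vqc0 2 (vqc0 2 (vqc0 1 (vqc0 1 (vqc0 2 (vqc0 1 (vqc0 1 (vqc0 1 vqc1))))))))) vqc1))))))))))
    (beta% delta% lq26c8b9c1d715 fun vqc0 vqc1 _ _ _ _ _ =>
        (vqc0 (vqc0 1 (vqc0 2 (vqc0 2 (vqc0 1 (vqc0 1 (vqc0 2 (vqc0 2 (vqc0 0 (vqc0 0 vqc1))))))))) (vqc0 (vqc0 0 (vqc0 2 (vqc0 0 (vqc0 1 (vqc0 2 (vqc0 2 (vqc0 0 (vqc0 0 (vqc0 1 vqc1))))))))) (vqc0 (vqc0 1 (vqc0 0 (vqc0 2 (vqc0 2 (vqc0 2 (vqc0 0 (vqc0 2 (vqc0 0 (vqc0 1 vqc1))))))))) (vqc0 (vqc0 2 (vqc0 2 (vqc0 1 (vqc0 0 (vqc0 1 (vqc0 2 (vqc0 2 (vqc0 2 (vqc0 1 vqc1))))))))) (vqc0 (vqc0 0 (vqc0 2 (vqc0 2 (vqc0 1 (vqc0 2 (vqc0 1 (vqc0 0 (vqc0 2 (vqc0 1 vqc1)))))))))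 (vqc0 (vqc0 1 (vqc0 1 (vqc0 2 (vqc0 1 (vqc0 2 (vqc0 0 (vqc0 2 (vqc0 2 (vqc0 1 vqc1))))))))) (vqc0 (vqc0 1 (vqc0 1 (vqc0 1 (vqc0 2 (vqc0 1 (vqc0 1 (vqc0 0 (vqc0 2 (vqc0 2 vqc1))))))))) (vqc0 (vqc0 2 (vqc0 1 (vqc0 0 (vqc0 2 (vqc0 2 (vqc0 2 (vqc0 2 (vqc0 0 (vqc0 0 vqc1))))))))) (vqc0 (vqc0 2 (vqc0 2 (vqc0 0 (vqc0 0 (vqc0 1 (vqc0 0 (vqc0 2 (vqc0 2 (vqc0 0 vqc1))))))))) vqc1))))))))))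
    [18995, 4485, 19572] (by decide +kernel)

theorem a40 : Ok 7775 567804617647705015321116 :=
  ok_of (beta% delta% lq26c8b9c1d715 fun vqc0 vqc1 _ _ _ _ _ =>
      (vqc0 (vqc0 1 (vqc0 2 (vqc0 0 (vqc0 2 (vqc0 0 (vqc0 0 (vqc0 2 (vqc0 2 (vqc0 0 vqc1))))))))) (vqc0 (vqc0 1 (vqc0 1 (vqc0 1 (vqc0 2 (vqc0 2 (vqc0 2 (vqc0 1 (vqc0 0 (vqc0 2 vqc1))))))))) (vqc0 (vqc0 1 (vqc0 1 (vqc0 0 (vqc0 0 (vqc0 2 (vqc0 2 (vqc0 2 (vqc0 1 (vqc0 2 vqc1))))))))) (vqc0 (vqc0 1 (vqc0 1 (vqc0 1 (vqc0 2 (vqc0 2 (vqc0 2 (vqc0 2 (vqc0 0 (vqc0 2 vqc1))))))))) (vqc0 (vqc0 1 (vqc0 2 (vqc0 0 (vqc0 1 (vqc0 1 (vqc0 2 (vqc0 1 (vqc0 0 (vqc0 1 vqc1))))))))) (vqc0 (vqc0 0 (vqc0 2 (vqc0 0 (vqc0 2 (vqc0 1 (vqc0 0 (vqc0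 2 (vqc0 0 (vqc0 0 vqc1))))))))) (vqc0 (vqc0 2 (vqc0 2 (vqc0 1 (vqc0 0 (vqc0 2 (vqc0 0 (vqc0 2 (vqc0 0 (vqc0 1 vqc1))))))))) (vqc0 (vqc0 1 (vqc0 0 (vqc0 0 (vqc0 2 (vqc0 1 (vqc0 1 (vqc0 2 (vqc0 0 (vqc0 1 vqc1))))))))) (vqc0 (vqc0 2 (vqc0 2 (vqc0 0 (vqc0 0 (vqc0 2 (vqc0 2 (vqc0 0 (vqc0 0 (vqc0 0 vqc1))))))))) vqc1))))))))))
    (beta% delta% lq26c8b9c1d715 fun vqc0 vqc1 _ _ _ _ _ =>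
        (vqc0 (vqc0 2 (vqc0 2 (vqc0 2 (vqc0 2 (vqc0 0 (vqc0 2 (vqc0 2 (vqc0 1 (vqc0 2 vqc1))))))))) (vqc0 (vqc0 1 (vqc0 1 (vqc0 0 (vqc0 0 (vqc0 0 (vqc0 2 (vqc0 0 (vqc0 2 (vqc0 1 vqc1))))))))) (vqc0 (vqc0 1 (vqc0 1 (vqc0 1 (vqc0 1 (vqc0 1 (vqc0 2 (vqc0 1 (vqc0 2 (vqc0 0 vqc1))))))))) (vqc0 (vqc0 2 (vqc0 0 (vqc0 1 (vqc0 1 (vqc0 0 (vqc0 1 (vqc0 2 (vqc0 1 (vqc0 0 vqc1))))))))) (vqc0 (vqc0 2 (vqc0 1 (vqc0 2 (vqc0 1 (vqc0 0 (vqc0 1 (vqc0 1 (vqc0 0 (vqc0 1 vqc1))))))))) (vqc0 (vqc0 1 (vqc0 2 (vqc0 1 (vqc0 1 (vqc0 0 (vqc0 1 (vqc0 1 (vqc0 1 (vqc0 1 vqc1))))))))) (vqc0 (vqc0 0 (vqc0 1 (vqc0 0 (vqc0 2 (vqc0 2 (vqc0 2 (vqc0 0 (vqc0 0 (vqc0 1 vqc1))))))))) (vqc0 (vqc0 2 (vqc0 0 (vqc0 1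 (vqc0 1 (vqc0 2 (vqc0 0 (vqc0 2 (vqc0 0 (vqc0 2 vqc1))))))))) (vqc0 (vqc0 0 (vqc0 1 (vqc0 0 (vqc0 2 (vqc0 1 (vqc0 2 (vqc0 0 (vqc0 2 (vqc0 0 vqc1))))))))) vqc1))))))))))
    [433, 8893, 18700, 2254] (by decide +kernel)

end Cfsg.Agent.H651.O9
end

-- part: H651/O9/D2
section
/-!
# Classes of the orthogonal group in dimension 9 over the field with three elements, part 2 (helper651)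
-/

set_option autoImplicit false
set_option exponentiation.threshold 30000
set_option maxRecDepth 100000

namespace Cfsg.Agent.H651.O9

theorem a41 : Ok 15551 566683977945748996818084 :=
  ok_of (beta% delta% lq26c8b9c1d715 fun vqc0 vqc1 _ _ _ _ _ =>
      (vqc0 (vqc0 0 (vqc0 2 (vqc0 0 (vqc0 1 (vqc0 0 (vqc0 0 (vqc0 1 (vqc0 1 (vqc0 2 vqc1))))))))) (vqc0 (vqc0 1 (vqc0 1 (vqc0 1 (vqc0 1 (vqc0 0 (vqc0 0 (vqc0 1 (vqc0 2 (vqc0 2 vqc1))))))))) (vqc0 (vqc0 1 (vqc0 2 (vqc0 1 (vqc0 2 (vqc0 1 (vqc0 0 (vqc0 0 (vqc0 1 (vqc0 1 vqc1))))))))) (vqc0 (vqc0 0 (vqc0 2 (vqc0 2 (vqc0 1 (vqc0 2 (vqc0 1 (vqc0 0 (vqc0 0 (vqc0 2 vqc1))))))))) (vqc0 (vqc0 2 (vqc0 2 (vqc0 2 (vqc0 2 (vqc0 1 (vqc0 2 (vqc0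 1 (vqc0 2 (vqc0 0 vqc1))))))))) (vqc0 (vqc0 1 (vqc0 2 (vqc0 1 (vqc0 2 (vqc0 0 (vqc0 2 (vqc0 0 (vqc0 2 (vqc0 2 vqc1))))))))) (vqc0 (vqc0 2 (vqc0 1 (vqc0 1 (vqc0 2 (vqc0 1 (vqc0 1 (vqc0 2 (vqc0 2 (vqc0 0 vqc1))))))))) (vqc0 (vqc0 1 (vqc0 0 (vqc0 0 (vqc0 0 (vqc0 1 (vqc0 0 (vqc0 1 (vqc0 0 (vqc0 0 vqc1))))))))) (vqc0 (vqc0 2 (vqc0 1 (vqc0 1 (vqc0 1 (vqc0 0 (vqc0 2 (vqc0 0 (vqc0 0 (vqc0 2 vqc1))))))))) vqc1))))))))))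
    (beta% delta% lq26c8b9c1d715 fun vqc0 vqc1 _ _ _ _ _ =>
        (vqc0 (vqc0 0 (vqc0 0 (vqc0 1 (vqc0 1 (vqc0 2 (vqc0 0 (vqc0 0 (vqc0 0 (vqc0 2 vqc1))))))))) (vqc0 (vqc0 2 (vqc0 2 (vqc0 0 (vqc0 0 (vqc0 1 (vqc0 0 (vqc0 0 (vqc0 1 (vqc0 2 vqc1))))))))) (vqc0 (vqc0 0 (vqc0 0 (vqc0 2 (vqc0 0 (vqc0 1 (vqc0 2 (vqc0 1 (vqc0 1 (vqc0 0 vqc1))))))))) (vqc0 (vqc0 1 (vqc0 0 (vqc0 1 (vqc0 0 (vqc0 0 (vqc0 0 (vqc0 2 (vqc0 2 (vqc0 1 vqc1))))))))) (vqc0 (vqc0 2 (vqc0 1 (vqc0 1 (vqc0 1 (vqc0 0 (vqc0 0 (vqc0 2 (vqc0 2 (vqc0 2 vqc1))))))))) (vqc0 (vqc0 1 (vqc0 2 (vqc0 2 (vqc0 1 (vqc0 2 (vqc0 1 (vqc0 1 (vqc0 1 (vqc0 2 vqc1))))))))) (vqc0 (vqc0 1 (vqc0 1 (vqc0 2 (vqc0 1 (vqc0 1 (vqc0 1 (vqc0 0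 (vqc0 1 (vqc0 2 vqc1))))))))) (vqc0 (vqc0 2 (vqc0 2 (vqc0 0 (vqc0 2 (vqc0 1 (vqc0 0 (vqc0 0 (vqc0 0 (vqc0 2 vqc1))))))))) (vqc0 (vqc0 2 (vqc0 2 (vqc0 1 (vqc0 0 (vqc0 0 (vqc0 0 (vqc0 2 (vqc0 1 (vqc0 1 vqc1))))))))) vqc1))))))))))
    [12456, 16566, 19008] (by decide +kernel)

theorem a42 : Ok 248831 566683977945749018051748 :=
  ok_of (beta% delta% lq26c8b9c1d715 fun vqc0 vqc1 _ _ _ _ _ =>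
      (vqc0 (vqc0 0 (vqc0 2 (vqc0 0 (vqc0 1 (vqc0 0 (vqc0 1 (vqc0 1 (vqc0 0 (vqc0 0 vqc1))))))))) (vqc0 (vqc0 2 (vqc0 0 (vqc0 1 (vqc0 1 (vqc0 0 (vqc0 0 (vqc0 0 (vqc0 2 (vqc0 2 vqc1))))))))) (vqc0 (vqc0 1 (vqc0 0 (vqc0 1 (vqc0 0 (vqc0 2 (vqc0 2 (vqc0 0 (vqc0 1 (vqc0 1 vqc1))))))))) (vqc0 (vqc0 1 (vqc0 0 (vqc0 1 (vqc0 0 (vqc0 2 (vqc0 1 (vqc0 2 (vqc0 1 (vqc0 2 vqc1))))))))) (vqc0 (vqc0 0 (vqc0 1 (vqc0 1 (vqc0 0 (vqc0 1 (vqc0 0 (vqc0 1 (vqc0 1 (vqc0 2 vqc1))))))))) (vqc0 (vqc0 0 (vqc0 2 (vqc0 0 (vqc0 2 (vqc0 1 (vqc0 0 (vqc0 0 (vqc0 2 (vqc0 0 vqc1))))))))) (vqc0 (vqc0 2 (vqc0 1 (vqc0 0 (vqc0 0 (vqc0 1 (vqc0 2 (vqc0 0 (vqc0 1 (vqc0 2 vqc1))))))))) (vqc0 (vqc0 0 (vqc0 2 (vqc0 1 (vqc0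 1 (vqc0 1 (vqc0 2 (vqc0 1 (vqc0 1 (vqc0 2 vqc1))))))))) (vqc0 (vqc0 2 (vqc0 1 (vqc0 1 (vqc0 1 (vqc0 0 (vqc0 0 (vqc0 0 (vqc0 1 (vqc0 1 vqc1))))))))) vqc1))))))))))
    (beta% delta% lq26c8b9c1d715 fun vqc0 vqc1 _ _ _ _ _ =>
        (vqc0 (vqc0 0 (vqc0 0 (vqc0 1 (vqc0 1 (vqc0 2 (vqc0 1 (vqc0 2 (vqc0 0 (vqc0 0 vqc1))))))))) (vqc0 (vqc0 2 (vqc0 0 (vqc0 2 (vqc0 0 (vqc0 2 (vqc0 0 (vqc0 0 (vqc0 0 (vqc0 0 vqc1))))))))) (vqc0 (vqc0 2 (vqc0 2 (vqc0 1 (vqc0 0 (vqc0 0 (vqc0 1 (vqc0 2 (vqc0 0 (vqc0 1 vqc1))))))))) (vqc0 (vqc0 0 (vqc0 1 (vqc0 2 (vqc0 2 (vqc0 1 (vqc0 0 (vqc0 0 (vqc0 2 (vqc0 1 vqc1))))))))) (vqc0 (vqc0 2 (vqc0 1 (vqc0 1 (vqc0 2 (vqc0 1 (vqc0 0 (vqc0 0 (vqc0 1 (vqc0 1 vqc1)))))))))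 (vqc0 (vqc0 2 (vqc0 2 (vqc0 1 (vqc0 0 (vqc0 0 (vqc0 1 (vqc0 0 (vqc0 0 (vqc0 1 vqc1))))))))) (vqc0 (vqc0 1 (vqc0 2 (vqc0 2 (vqc0 1 (vqc0 0 (vqc0 0 (vqc0 0 (vqc0 0 (vqc0 2 vqc1))))))))) (vqc0 (vqc0 2 (vqc0 1 (vqc0 1 (vqc0 0 (vqc0 1 (vqc0 2 (vqc0 2 (vqc0 0 (vqc0 2 vqc1))))))))) (vqc0 (vqc0 0 (vqc0 0 (vqc0 1 (vqc0 0 (vqc0 2 (vqc0 0 (vqc0 0 (vqc0 0 (vqc0 1 vqc1))))))))) vqc1))))))))))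
    [12364, 17474, 8510, 16081] (by decide +kernel)

theorem a43 : Ok 46655 340010386766614457156934 :=
  ok_of (beta% delta% lq26c8b9c1d715 fun vqc0 vqc1 _ _ _ _ _ =>
      (vqc0 (vqc0 2 (vqc0 1 (vqc0 1 (vqc0 0 (vqc0 2 (vqc0 2 (vqc0 0 (vqc0 2 (vqc0 0 vqc1))))))))) (vqc0 (vqc0 0 (vqc0 1 (vqc0 2 (vqc0 0 (vqc0 1 (vqc0 1 (vqc0 2 (vqc0 1 (vqc0 0 vqc1))))))))) (vqc0 (vqc0 2 (vqc0 0 (vqc0 0 (vqc0 2 (vqc0 2 (vqc0 2 (vqc0 0 (vqc0 1 (vqc0 2 vqc1))))))))) (vqc0 (vqc0 1 (vqc0 2 (vqc0 0 (vqc0 2 (vqc0 1 (vqc0 2 (vqc0 1 (vqc0 0 (vqc0 1 vqc1))))))))) (vqc0 (vqc0 0 (vqc0 1 (vqc0 0 (vqc0 2 (vqc0 2 (vqc0 0 (vqc0 2 (vqc0 2 (vqc0 2 vqc1))))))))) (vqc0 (vqc0 0 (vqc0 2 (vqc0 2 (vqc0 2 (vqc0 0 (vqc0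 0 (vqc0 0 (vqc0 1 (vqc0 2 vqc1))))))))) (vqc0 (vqc0 1 (vqc0 0 (vqc0 1 (vqc0 2 (vqc0 1 (vqc0 2 (vqc0 0 (vqc0 2 (vqc0 2 vqc1))))))))) (vqc0 (vqc0 2 (vqc0 1 (vqc0 2 (vqc0 1 (vqc0 0 (vqc0 2 (vqc0 0 (vqc0 0 (vqc0 1 vqc1))))))))) (vqc0 (vqc0 2 (vqc0 0 (vqc0 2 (vqc0 2 (vqc0 2 (vqc0 2 (vqc0 0 (vqc0 1 (vqc0 0 vqc1))))))))) vqc1))))))))))
    (beta% delta% lq26c8b9c1d715 fun vqc0 vqc1 _ _ _ _ _ =>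
        (vqc0 (vqc0 2 (vqc0 1 (vqc0 1 (vqc0 2 (vqc0 0 (vqc0 1 (vqc0 0 (vqc0 0 (vqc0 2 vqc1))))))))) (vqc0 (vqc0 1 (vqc0 0 (vqc0 1 (vqc0 2 (vqc0 1 (vqc0 2 (vqc0 0 (vqc0 2 (vqc0 2 vqc1))))))))) (vqc0 (vqc0 2 (vqc0 1 (vqc0 0 (vqc0 0 (vqc0 0 (vqc0 2 (vqc0 2 (vqc0 1 (vqc0 1 vqc1))))))))) (vqc0 (vqc0 2 (vqc0 0 (vqc0 1 (vqc0 1 (vqc0 2 (vqc0 0 (vqc0 0 (vqc0 0 (vqc0 1 vqc1))))))))) (vqc0 (vqc0 1 (vqc0 2 (vqc0 0 (vqc0 0 (vqc0 1 (vqc0 1 (vqc0 2 (vqc0 0 (vqc0 0 vqc1))))))))) (vqc0 (vqc0 0 (vqc0 0 (vqc0 2 (vqc0 1 (vqc0 0 (vqc0 2 (vqc0 2 (vqc0 1 (vqc0 2 vqc1))))))))) (vqc0 (vqc0 1 (vqc0 0 (vqc0 0 (vqc0 1 (vqc0 0 (vqc0 0 (vqc0 2 (vqc0 2 (vqc0 2 vqc1))))))))) (vqc0 (vqc0 1 (vqc0 1 (vqc0 0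 (vqc0 2 (vqc0 0 (vqc0 0 (vqc0 1 (vqc0 0 (vqc0 2 vqc1))))))))) (vqc0 (vqc0 1 (vqc0 0 (vqc0 2 (vqc0 0 (vqc0 0 (vqc0 1 (vqc0 0 (vqc0 0 (vqc0 2 vqc1))))))))) vqc1))))))))))
    [18940, 7207, 19262, 6136] (by decide +kernel)

theorem a44 : Ok 46655 340010386768179974505798 :=
  ok_of (beta% delta% lq26c8b9c1d715 fun vqc0 vqc1 _ _ _ _ _ =>
      (vqc0 (vqc0 2 (vqc0 0 (vqc0 0 (vqc0 2 (vqc0 1 (vqc0 0 (vqc0 1 (vqc0 1 (vqc0 2 vqc1))))))))) (vqc0 (vqc0 1 (vqc0 1 (vqc0 2 (vqc0 2 (vqc0 2 (vqc0 0 (vqc0 1 (vqc0 2 (vqc0 2 vqc1))))))))) (vqc0 (vqc0 0 (vqc0 0 (vqc0 1 (vqc0 0 (vqc0 1 (vqc0 1 (vqc0 2 (vqc0 1 (vqc0 0 vqc1))))))))) (vqc0 (vqc0 2 (vqc0 1 (vqc0 2 (vqc0 0 (vqc0 1 (vqc0 2 (vqc0 0 (vqc0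 2 (vqc0 1 vqc1))))))))) (vqc0 (vqc0 0 (vqc0 0 (vqc0 2 (vqc0 1 (vqc0 1 (vqc0 2 (vqc0 2 (vqc0 0 (vqc0 2 vqc1))))))))) (vqc0 (vqc0 0 (vqc0 0 (vqc0 0 (vqc0 1 (vqc0 1 (vqc0 1 (vqc0 0 (vqc0 0 (vqc0 1 vqc1))))))))) (vqc0 (vqc0 2 (vqc0 2 (vqc0 2 (vqc0 1 (vqc0 1 (vqc0 0 (vqc0 1 (vqc0 0 (vqc0 0 vqc1))))))))) (vqc0 (vqc0 2 (vqc0 2 (vqc0 1 (vqc0 2 (vqc0 0 (vqc0 2 (vqc0 0 (vqc0 1 (vqc0 0 vqc1))))))))) (vqc0 (vqc0 0 (vqc0 2 (vqc0 1 (vqc0 2 (vqc0 1 (vqc0 2 (vqc0 2 (vqc0 1 (vqc0 2 vqc1))))))))) vqc1))))))))))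
    (beta% delta% lq26c8b9c1d715 fun vqc0 vqc1 _ _ _ _ _ =>
        (vqc0 (vqc0 1 (vqc0 0 (vqc0 2 (vqc0 2 (vqc0 1 (vqc0 2 (vqc0 0 (vqc0 2 (vqc0 0 vqc1))))))))) (vqc0 (vqc0 0 (vqc0 2 (vqc0 1 (vqc0 0 (vqc0 0 (vqc0 0 (vqc0 0 (vqc0 2 (vqc0 0 vqc1))))))))) (vqc0 (vqc0 0 (vqc0 1 (vqc0 0 (vqc0 2 (vqc0 1 (vqc0 1 (vqc0 2 (vqc0 1 (vqc0 0 vqc1))))))))) (vqc0 (vqc0 0 (vqc0 0 (vqc0 2 (vqc0 0 (vqc0 0 (vqc0 2 (vqc0 0 (vqc0 2 (vqc0 0 vqc1))))))))) (vqc0 (vqc0 2 (vqc0 1 (vqc0 0 (vqc0 2 (vqc0 1 (vqc0 2 (vqc0 0 (vqc0 2 (vqc0 2 vqc1))))))))) (vqc0 (vqc0 2 (vqc0 1 (vqc0 2 (vqc0 2 (vqc0 1 (vqc0 1 (vqc0 0 (vqc0 2 (vqc0 1 vqc1))))))))) (vqc0 (vqc0 1 (vqc0 1 (vqc0 1 (vqc0 2 (vqc0 0 (vqc0 0 (vqc0 1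 (vqc0 1 (vqc0 1 vqc1))))))))) (vqc0 (vqc0 0 (vqc0 0 (vqc0 2 (vqc0 0 (vqc0 0 (vqc0 2 (vqc0 0 (vqc0 0 (vqc0 0 vqc1))))))))) (vqc0 (vqc0 2 (vqc0 2 (vqc0 1 (vqc0 2 (vqc0 1 (vqc0 2 (vqc0 0 (vqc0 1 (vqc0 0 vqc1))))))))) vqc1))))))))))
    [16618, 5308, 11650, 5184] (by decide +kernel)

theorem a45 : Ok 93311 340010386766614460697498 :=
  ok_of (beta% delta% lq26c8b9c1d715 fun vqc0 vqc1 _ _ _ _ _ =>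
      (vqc0 (vqc0 1 (vqc0 0 (vqc0 0 (vqc0 1 (vqc0 1 (vqc0 2 (vqc0 1 (vqc0 1 (vqc0 0 vqc1))))))))) (vqc0 (vqc0 1 (vqc0 2 (vqc0 0 (vqc0 0 (vqc0 0 (vqc0 2 (vqc0 1 (vqc0 2 (vqc0 2 vqc1))))))))) (vqc0 (vqc0 2 (vqc0 0 (vqc0 1 (vqc0 0 (vqc0 0 (vqc0 1 (vqc0 1 (vqc0 0 (vqc0 0 vqc1))))))))) (vqc0 (vqc0 0 (vqc0 2 (vqc0 1 (vqc0 0 (vqc0 0 (vqc0 1 (vqc0 2 (vqc0 0 (vqc0 0 vqc1))))))))) (vqc0 (vqc0 1 (vqc0 0 (vqc0 0 (vqc0 2 (vqc0 0 (vqc0 2 (vqc0 0 (vqc0 1 (vqc0 0 vqc1))))))))) (vqc0 (vqc0 0 (vqc0 0 (vqc0 2 (vqc0 0 (vqc0 0 (vqc0 1 (vqc0 0 (vqc0 0 (vqc0 0 vqc1))))))))) (vqc0 (vqc0 0 (vqc0 1 (vqc0 0 (vqc0 1 (vqc0 1 (vqc0 1 (vqc0 0 (vqc0 2 (vqc0 2 vqc1))))))))) (vqc0 (vqc0 1 (vqc0 0 (vqc0 1 (vqc0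 1 (vqc0 1 (vqc0 0 (vqc0 2 (vqc0 1 (vqc0 0 vqc1))))))))) (vqc0 (vqc0 2 (vqc0 0 (vqc0 1 (vqc0 2 (vqc0 2 (vqc0 2 (vqc0 0 (vqc0 2 (vqc0 1 vqc1))))))))) vqc1))))))))))
    (beta% delta% lq26c8b9c1d715 fun vqc0 vqc1 _ _ _ _ _ =>
        (vqc0 (vqc0 0 (vqc0 0 (vqc0 2 (vqc0 0 (vqc0 0 (vqc0 1 (vqc0 0 (vqc0 2 (vqc0 0 vqc1))))))))) (vqc0 (vqc0 0 (vqc0 2 (vqc0 1 (vqc0 1 (vqc0 0 (vqc0 1 (vqc0 1 (vqc0 0 (vqc0 2 vqc1))))))))) (vqc0 (vqc0 1 (vqc0 0 (vqc0 1 (vqc0 2 (vqc0 0 (vqc0 1 (vqc0 1 (vqc0 2 (vqc0 1 vqc1))))))))) (vqc0 (vqc0 1 (vqc0 1 (vqc0 0 (vqc0 0 (vqc0 2 (vqc0 2 (vqc0 2 (vqc0 1 (vqc0 2 vqc1))))))))) (vqc0 (vqc0 2 (vqc0 2 (vqc0 2 (vqc0 2 (vqc0 1 (vqc0 0 (vqc0 2 (vqc0 1 (vqc0 1 vqc1)))))))))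 (vqc0 (vqc0 0 (vqc0 0 (vqc0 1 (vqc0 0 (vqc0 1 (vqc0 2 (vqc0 1 (vqc0 1 (vqc0 0 vqc1))))))))) (vqc0 (vqc0 0 (vqc0 1 (vqc0 1 (vqc0 1 (vqc0 0 (vqc0 2 (vqc0 2 (vqc0 1 (vqc0 0 vqc1))))))))) (vqc0 (vqc0 2 (vqc0 1 (vqc0 0 (vqc0 1 (vqc0 2 (vqc0 2 (vqc0 1 (vqc0 1 (vqc0 2 vqc1))))))))) (vqc0 (vqc0 2 (vqc0 2 (vqc0 2 (vqc0 1 (vqc0 1 (vqc0 2 (vqc0 0 (vqc0 1 (vqc0 0 vqc1))))))))) vqc1))))))))))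
    [15803, 8971, 8229] (by decide +kernel)

theorem a46 : Ok 1492991 340010386766614481931162 :=
  ok_of (beta% delta% lq26c8b9c1d715 fun vqc0 vqc1 _ _ _ _ _ =>
      (vqc0 (vqc0 0 (vqc0 1 (vqc0 0 (vqc0 0 (vqc0 2 (vqc0 2 (vqc0 0 (vqc0 1 (vqc0 1 vqc1))))))))) (vqc0 (vqc0 0 (vqc0 1 (vqc0 2 (vqc0 1 (vqc0 2 (vqc0 1 (vqc0 0 (vqc0 2 (vqc0 1 vqc1))))))))) (vqc0 (vqc0 1 (vqc0 2 (vqc0 0 (vqc0 1 (vqc0 2 (vqc0 1 (vqc0 0 (vqc0 1 (vqc0 2 vqc1))))))))) (vqc0 (vqc0 1 (vqc0 2 (vqc0 0 (vqc0 1 (vqc0 2 (vqc0 2 (vqc0 0 (vqc0 2 (vqc0 0 vqc1))))))))) (vqc0 (vqc0 2 (vqc0 2 (vqc0 1 (vqc0 0 (vqc0 1 (vqc0 0 (vqc0 0 (vqc0 2 (vqc0 2 vqc1))))))))) (vqc0 (vqc0 0 (vqc0 1 (vqc0 0 (vqc0 1 (vqc0 2 (vqc0 2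 (vqc0 0 (vqc0 0 (vqc0 1 vqc1))))))))) (vqc0 (vqc0 0 (vqc0 2 (vqc0 2 (vqc0 0 (vqc0 1 (vqc0 1 (vqc0 2 (vqc0 1 (vqc0 0 vqc1))))))))) (vqc0 (vqc0 0 (vqc0 0 (vqc0 0 (vqc0 0 (vqc0 0 (vqc0 0 (vqc0 0 (vqc0 2 (vqc0 0 vqc1))))))))) (vqc0 (vqc0 2 (vqc0 2 (vqc0 0 (vqc0 1 (vqc0 2 (vqc0 1 (vqc0 0 (vqc0 0 (vqc0 1 vqc1))))))))) vqc1))))))))))
    (beta% delta% lq26c8b9c1d715 fun vqc0 vqc1 _ _ _ _ _ =>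
        (vqc0 (vqc0 0 (vqc0 0 (vqc0 2 (vqc0 1 (vqc0 0 (vqc0 1 (vqc0 1 (vqc0 2 (vqc0 2 vqc1))))))))) (vqc0 (vqc0 0 (vqc0 1 (vqc0 0 (vqc0 1 (vqc0 1 (vqc0 1 (vqc0 1 (vqc0 0 (vqc0 1 vqc1))))))))) (vqc0 (vqc0 1 (vqc0 1 (vqc0 0 (vqc0 1 (vqc0 1 (vqc0 0 (vqc0 0 (vqc0 2 (vqc0 2 vqc1))))))))) (vqc0 (vqc0 0 (vqc0 1 (vqc0 2 (vqc0 0 (vqc0 1 (vqc0 2 (vqc0 1 (vqc0 1 (vqc0 0 vqc1))))))))) (vqc0 (vqc0 2 (vqc0 2 (vqc0 2 (vqc0 1 (vqc0 0 (vqc0 0 (vqc0 0 (vqc0 2 (vqc0 0 vqc1))))))))) (vqc0 (vqc0 2 (vqc0 1 (vqc0 0 (vqc0 0 (vqc0 2 (vqc0 0 (vqc0 2 (vqc0 1 (vqc0 1 vqc1))))))))) (vqc0 (vqc0 0 (vqc0 0 (vqc0 0 (vqc0 0 (vqc0 2 (vqc0 2 (vqc0 0 (vqc0 0 (vqc0 2 vqc1))))))))) (vqc0 (vqc0 2 (vqc0 0 (vqc0 2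 (vqc0 1 (vqc0 1 (vqc0 1 (vqc0 2 (vqc0 0 (vqc0 0 vqc1))))))))) (vqc0 (vqc0 1 (vqc0 0 (vqc0 0 (vqc0 1 (vqc0 0 (vqc0 0 (vqc0 1 (vqc0 2 (vqc0 0 vqc1))))))))) vqc1))))))))))
    [11842, 10969, 8113, 7914, 4565] (by decide +kernel)

theorem a47 : Ok 3732479 3060093480899530121479494 :=
  ok_of (beta% delta% lq26c8b9c1d715 fun vqc0 vqc1 _ _ _ _ _ =>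
      (vqc0 (vqc0 0 (vqc0 2 (vqc0 1 (vqc0 0 (vqc0 1 (vqc0 2 (vqc0 1 (vqc0 2 (vqc0 2 vqc1))))))))) (vqc0 (vqc0 0 (vqc0 2 (vqc0 0 (vqc0 0 (vqc0 1 (vqc0 1 (vqc0 0 (vqc0 2 (vqc0 1 vqc1))))))))) (vqc0 (vqc0 1 (vqc0 1 (vqc0 1 (vqc0 1 (vqc0 2 (vqc0 2 (vqc0 0 (vqc0 0 (vqc0 0 vqc1))))))))) (vqc0 (vqc0 1 (vqc0 0 (vqc0 1 (vqc0 2 (vqc0 1 (vqc0 2 (vqc0 0 (vqc0 2 (vqc0 1 vqc1))))))))) (vqc0 (vqc0 0 (vqc0 0 (vqc0 2 (vqc0 1 (vqc0 1 (vqc0 2 (vqc0 1 (vqc0 0 (vqc0 1 vqc1))))))))) (vqc0 (vqc0 2 (vqc0 0 (vqc0 1 (vqc0 0 (vqc0 2 (vqc0 1 (vqc0 1 (vqc0 1 (vqc0 0 vqc1))))))))) (vqc0 (vqc0 0 (vqc0 2 (vqc0 0 (vqc0 2 (vqc0 2 (vqc0 2 (vqc0 0 (vqc0 0 (vqc0 2 vqc1))))))))) (vqc0 (vqc0 1 (vqc0 0 (vqc0 0 (vqc0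 1 (vqc0 1 (vqc0 1 (vqc0 0 (vqc0 2 (vqc0 2 vqc1))))))))) (vqc0 (vqc0 1 (vqc0 1 (vqc0 0 (vqc0 2 (vqc0 2 (vqc0 2 (vqc0 1 (vqc0 1 (vqc0 1 vqc1))))))))) vqc1))))))))))
    (beta% delta% lq26c8b9c1d715 fun vqc0 vqc1 _ _ _ _ _ =>
        (vqc0 (vqc0 2 (vqc0 2 (vqc0 0 (vqc0 2 (vqc0 0 (vqc0 0 (vqc0 2 (vqc0 1 (vqc0 0 vqc1))))))))) (vqc0 (vqc0 1 (vqc0 0 (vqc0 2 (vqc0 0 (vqc0 1 (vqc0 0 (vqc0 1 (vqc0 0 (vqc0 0 vqc1))))))))) (vqc0 (vqc0 0 (vqc0 0 (vqc0 0 (vqc0 2 (vqc0 1 (vqc0 0 (vqc0 2 (vqc0 2 (vqc0 2 vqc1))))))))) (vqc0 (vqc0 2 (vqc0 0 (vqc0 1 (vqc0 2 (vqc0 1 (vqc0 0 (vqc0 2 (vqc0 2 (vqc0 0 vqc1))))))))) (vqc0 (vqc0 0 (vqc0 0 (vqc0 0 (vqc0 0 (vqc0 1 (vqc0 2 (vqc0 1 (vqc0 1 (vqc0 0 vqc1)))))))))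 (vqc0 (vqc0 2 (vqc0 2 (vqc0 0 (vqc0 1 (vqc0 1 (vqc0 0 (vqc0 0 (vqc0 2 (vqc0 1 vqc1))))))))) (vqc0 (vqc0 1 (vqc0 1 (vqc0 0 (vqc0 2 (vqc0 1 (vqc0 0 (vqc0 0 (vqc0 1 (vqc0 2 vqc1))))))))) (vqc0 (vqc0 1 (vqc0 1 (vqc0 2 (vqc0 1 (vqc0 2 (vqc0 2 (vqc0 2 (vqc0 1 (vqc0 0 vqc1))))))))) (vqc0 (vqc0 0 (vqc0 1 (vqc0 0 (vqc0 0 (vqc0 2 (vqc0 0 (vqc0 0 (vqc0 2 (vqc0 1 vqc1))))))))) vqc1))))))))))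
    [1036, 12367, 11845, 18949, 9320] (by decide +kernel)

theorem a48 : Ok 3732479 3060093480901095638828358 :=
  ok_of (beta% delta% lq26c8b9c1d715 fun vqc0 vqc1 _ _ _ _ _ =>
      (vqc0 (vqc0 0 (vqc0 2 (vqc0 2 (vqc0 2 (vqc0 0 (vqc0 2 (vqc0 2 (vqc0 0 (vqc0 2 vqc1))))))))) (vqc0 (vqc0 2 (vqc0 1 (vqc0 1 (vqc0 0 (vqc0 2 (vqc0 0 (vqc0 1 (vqc0 2 (vqc0 1 vqc1))))))))) (vqc0 (vqc0 2 (vqc0 0 (vqc0 2 (vqc0 0 (vqc0 1 (vqc0 0 (vqc0 0 (vqc0 1 (vqc0 0 vqc1))))))))) (vqc0 (vqc0 2 (vqc0 2 (vqc0 2 (vqc0 0 (vqc0 2 (vqc0 2 (vqc0 1 (vqc0 2 (vqc0 1 vqc1))))))))) (vqc0 (vqc0 2 (vqc0 0 (vqc0 1 (vqc0 0 (vqc0 2 (vqc0 0 (vqc0 0 (vqc0 1 (vqc0 0 vqc1))))))))) (vqc0 (vqc0 2 (vqc0 1 (vqc0 1 (vqc0 2 (vqc0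 1 (vqc0 0 (vqc0 0 (vqc0 1 (vqc0 2 vqc1))))))))) (vqc0 (vqc0 2 (vqc0 1 (vqc0 1 (vqc0 2 (vqc0 1 (vqc0 2 (vqc0 1 (vqc0 1 (vqc0 2 vqc1))))))))) (vqc0 (vqc0 1 (vqc0 1 (vqc0 2 (vqc0 2 (vqc0 0 (vqc0 2 (vqc0 1 (vqc0 1 (vqc0 0 vqc1))))))))) (vqc0 (vqc0 1 (vqc0 0 (vqc0 0 (vqc0 1 (vqc0 2 (vqc0 1 (vqc0 0 (vqc0 2 (vqc0 0 vqc1))))))))) vqc1))))))))))
    (beta% delta% lq26c8b9c1d715 fun vqc0 vqc1 _ _ _ _ _ =>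
        (vqc0 (vqc0 0 (vqc0 2 (vqc0 1 (vqc0 0 (vqc0 0 (vqc0 2 (vqc0 1 (vqc0 0 (vqc0 0 vqc1))))))))) (vqc0 (vqc0 2 (vqc0 2 (vqc0 0 (vqc0 2 (vqc0 2 (vqc0 0 (vqc0 1 (vqc0 0 (vqc0 1 vqc1))))))))) (vqc0 (vqc0 2 (vqc0 1 (vqc0 1 (vqc0 2 (vqc0 1 (vqc0 2 (vqc0 1 (vqc0 1 (vqc0 2 vqc1))))))))) (vqc0 (vqc0 2 (vqc0 1 (vqc0 2 (vqc0 2 (vqc0 2 (vqc0 0 (vqc0 0 (vqc0 2 (vqc0 0 vqc1))))))))) (vqc0 (vqc0 2 (vqc0 1 (vqc0 0 (vqc0 2 (vqc0 1 (vqc0 0 (vqc0 2 (vqc0 1 (vqc0 2 vqc1))))))))) (vqc0 (vqc0 0 (vqc0 1 (vqc0 2 (vqc0 1 (vqc0 0 (vqc0 1 (vqc0 1 (vqc0 2 (vqc0 2 vqc1))))))))) (vqc0 (vqc0 0 (vqc0 0 (vqc0 2 (vqc0 1 (vqc0 1 (vqc0 2 (vqc0 1 (vqc0 0 (vqc0 1 vqc1))))))))) (vqc0 (vqc0 2 (vqc0 1 (vqc0 1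 (vqc0 0 (vqc0 2 (vqc0 2 (vqc0 1 (vqc0 1 (vqc0 2 vqc1))))))))) (vqc0 (vqc0 1 (vqc0 0 (vqc0 2 (vqc0 0 (vqc0 1 (vqc0 1 (vqc0 1 (vqc0 2 (vqc0 2 vqc1))))))))) vqc1))))))))))
    [548, 3671, 12821, 17335, 5428] (by decide +kernel)

theorem a49 : Ok 7464959 3060093480899530125020058 :=
  ok_of (beta% delta% lq26c8b9c1d715 fun vqc0 vqc1 _ _ _ _ _ =>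
      (vqc0 (vqc0 0 (vqc0 2 (vqc0 1 (vqc0 2 (vqc0 0 (vqc0 0 (vqc0 1 (vqc0 1 (vqc0 0 vqc1))))))))) (vqc0 (vqc0 2 (vqc0 0 (vqc0 1 (vqc0 2 (vqc0 0 (vqc0 0 (vqc0 1 (vqc0 1 (vqc0 0 vqc1))))))))) (vqc0 (vqc0 0 (vqc0 0 (vqc0 2 (vqc0 2 (vqc0 2 (vqc0 0 (vqc0 0 (vqc0 0 (vqc0 1 vqc1))))))))) (vqc0 (vqc0 2 (vqc0 2 (vqc0 0 (vqc0 2 (vqc0 1 (vqc0 0 (vqc0 1 (vqc0 2 (vqc0 0 vqc1))))))))) (vqc0 (vqc0 1 (vqc0 1 (vqc0 1 (vqc0 1 (vqc0 1 (vqc0 1 (vqc0 1 (vqc0 0 (vqc0 0 vqc1))))))))) (vqc0 (vqc0 1 (vqc0 1 (vqc0 1 (vqc0 2 (vqc0 2 (vqc0 0 (vqc0 0 (vqc0 0 (vqc0 0 vqc1))))))))) (vqc0 (vqc0 2 (vqc0 2 (vqc0 2 (vqc0 0 (vqc0 0 (vqc0 2 (vqc0 0 (vqc0 1 (vqc0 1 vqc1))))))))) (vqc0 (vqc0 0 (vqc0 0 (vqc0 1 (vqc0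 0 (vqc0 0 (vqc0 2 (vqc0 1 (vqc0 0 (vqc0 0 vqc1))))))))) (vqc0 (vqc0 2 (vqc0 2 (vqc0 1 (vqc0 2 (vqc0 1 (vqc0 2 (vqc0 2 (vqc0 2 (vqc0 2 vqc1))))))))) vqc1))))))))))
    (beta% delta% lq26c8b9c1d715 fun vqc0 vqc1 _ _ _ _ _ =>
        (vqc0 (vqc0 1 (vqc0 1 (vqc0 1 (vqc0 1 (vqc0 1 (vqc0 2 (vqc0 1 (vqc0 0 (vqc0 2 vqc1))))))))) (vqc0 (vqc0 2 (vqc0 2 (vqc0 2 (vqc0 2 (vqc0 0 (vqc0 2 (vqc0 2 (vqc0 1 (vqc0 1 vqc1))))))))) (vqc0 (vqc0 2 (vqc0 1 (vqc0 2 (vqc0 2 (vqc0 1 (vqc0 1 (vqc0 1 (vqc0 0 (vqc0 1 vqc1))))))))) (vqc0 (vqc0 0 (vqc0 0 (vqc0 2 (vqc0 1 (vqc0 1 (vqc0 1 (vqc0 1 (vqc0 1 (vqc0 1 vqc1))))))))) (vqc0 (vqc0 0 (vqc0 0 (vqc0 1 (vqc0 2 (vqc0 0 (vqc0 2 (vqc0 1 (vqc0 1 (vqc0 0 vqc1)))))))))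 (vqc0 (vqc0 0 (vqc0 0 (vqc0 2 (vqc0 2 (vqc0 2 (vqc0 2 (vqc0 2 (vqc0 1 (vqc0 2 vqc1))))))))) (vqc0 (vqc0 2 (vqc0 1 (vqc0 1 (vqc0 2 (vqc0 1 (vqc0 0 (vqc0 2 (vqc0 1 (vqc0 0 vqc1))))))))) (vqc0 (vqc0 1 (vqc0 2 (vqc0 2 (vqc0 1 (vqc0 0 (vqc0 2 (vqc0 1 (vqc0 0 (vqc0 2 vqc1))))))))) (vqc0 (vqc0 2 (vqc0 2 (vqc0 1 (vqc0 1 (vqc0 2 (vqc0 0 (vqc0 1 (vqc0 1 (vqc0 2 vqc1))))))))) vqc1))))))))))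
    [1021, 3100, 4008, 7686, 623] (by decide +kernel)

theorem a50 : Ok 119439359 3060093480899530316123034 :=
  ok_of (beta% delta% lq26c8b9c1d715 fun vqc0 vqc1 _ _ _ _ _ =>
      (vqc0 (vqc0 1 (vqc0 2 (vqc0 0 (vqc0 0 (vqc0 1 (vqc0 2 (vqc0 0 (vqc0 0 (vqc0 2 vqc1))))))))) (vqc0 (vqc0 1 (vqc0 1 (vqc0 0 (vqc0 1 (vqc0 1 (vqc0 1 (vqc0 1 (vqc0 2 (vqc0 2 vqc1))))))))) (vqc0 (vqc0 1 (vqc0 0 (vqc0 1 (vqc0 2 (vqc0 1 (vqc0 0 (vqc0 1 (vqc0 2 (vqc0 1 vqc1))))))))) (vqc0 (vqc0 0 (vqc0 0 (vqc0 0 (vqc0 1 (vqc0 0 (vqc0 0 (vqc0 0 (vqc0 0 (vqc0 0 vqc1))))))))) (vqc0 (vqc0 1 (vqc0 2 (vqc0 0 (vqc0 0 (vqc0 0 (vqc0 1 (vqc0 1 (vqc0 2 (vqc0 2 vqc1))))))))) (vqc0 (vqc0 1 (vqc0 1 (vqc0 0 (vqc0 1 (vqc0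 2 (vqc0 0 (vqc0 0 (vqc0 0 (vqc0 1 vqc1))))))))) (vqc0 (vqc0 2 (vqc0 0 (vqc0 0 (vqc0 2 (vqc0 0 (vqc0 2 (vqc0 1 (vqc0 0 (vqc0 0 vqc1))))))))) (vqc0 (vqc0 1 (vqc0 0 (vqc0 0 (vqc0 1 (vqc0 0 (vqc0 1 (vqc0 0 (vqc0 1 (vqc0 0 vqc1))))))))) (vqc0 (vqc0 2 (vqc0 2 (vqc0 0 (vqc0 1 (vqc0 1 (vqc0 2 (vqc0 0 (vqc0 0 (vqc0 1 vqc1))))))))) vqc1))))))))))
    (beta% delta% lq26c8b9c1d715 fun vqc0 vqc1 _ _ _ _ _ =>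
        (vqc0 (vqc0 1 (vqc0 1 (vqc0 1 (vqc0 2 (vqc0 2 (vqc0 1 (vqc0 2 (vqc0 1 (vqc0 2 vqc1))))))))) (vqc0 (vqc0 2 (vqc0 2 (vqc0 2 (vqc0 1 (vqc0 0 (vqc0 0 (vqc0 1 (vqc0 0 (vqc0 0 vqc1))))))))) (vqc0 (vqc0 1 (vqc0 2 (vqc0 0 (vqc0 0 (vqc0 1 (vqc0 1 (vqc0 0 (vqc0 0 (vqc0 0 vqc1))))))))) (vqc0 (vqc0 2 (vqc0 1 (vqc0 2 (vqc0 2 (vqc0 1 (vqc0 1 (vqc0 1 (vqc0 0 (vqc0 1 vqc1))))))))) (vqc0 (vqc0 0 (vqc0 2 (vqc0 1 (vqc0 1 (vqc0 1 (vqc0 0 (vqc0 0 (vqc0 2 (vqc0 1 vqc1))))))))) (vqc0 (vqc0 0 (vqc0 0 (vqc0 1 (vqc0 2 (vqc0 1 (vqc0 2 (vqc0 0 (vqc0 1 (vqc0 2 vqc1))))))))) (vqc0 (vqc0 0 (vqc0 2 (vqc0 0 (vqc0 2 (vqc0 1 (vqc0 0 (vqc0 1 (vqc0 1 (vqc0 2 vqc1))))))))) (vqc0 (vqc0 1 (vqc0 0 (vqc0 1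 (vqc0 1 (vqc0 2 (vqc0 2 (vqc0 2 (vqc0 1 (vqc0 2 vqc1))))))))) (vqc0 (vqc0 2 (vqc0 1 (vqc0 0 (vqc0 0 (vqc0 2 (vqc0 2 (vqc0 1 (vqc0 0 (vqc0 1 vqc1))))))))) vqc1))))))))))
    [2311, 711, 17428, 19469, 11039] (by decide +kernel)

theorem a51 : Ok 647 113336812688998158827844 :=
  ok_of (beta% delta% lq26c8b9c1d715 fun vqc0 vqc1 _ _ _ _ _ =>
      (vqc0 (vqc0 2 (vqc0 1 (vqc0 2 (vqc0 0 (vqc0 2 (vqc0 1 (vqc0 1 (vqc0 0 (vqc0 2 vqc1))))))))) (vqc0 (vqc0 2 (vqc0 1 (vqc0 1 (vqc0 0 (vqc0 0 (vqc0 1 (vqc0 1 (vqc0 2 (vqc0 1 vqc1))))))))) (vqc0 (vqc0 0 (vqc0 1 (vqc0 2 (vqc0 2 (vqc0 0 (vqc0 1 (vqc0 0 (vqc0 0 (vqc0 2 vqc1))))))))) (vqc0 (vqc0 2 (vqc0 2 (vqc0 0 (vqc0 1 (vqc0 0 (vqc0 0 (vqc0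 2 (vqc0 1 (vqc0 0 vqc1))))))))) (vqc0 (vqc0 0 (vqc0 2 (vqc0 1 (vqc0 0 (vqc0 2 (vqc0 2 (vqc0 1 (vqc0 0 (vqc0 1 vqc1))))))))) (vqc0 (vqc0 2 (vqc0 1 (vqc0 0 (vqc0 2 (vqc0 0 (vqc0 1 (vqc0 2 (vqc0 2 (vqc0 0 vqc1))))))))) (vqc0 (vqc0 2 (vqc0 1 (vqc0 2 (vqc0 1 (vqc0 0 (vqc0 0 (vqc0 0 (vqc0 2 (vqc0 2 vqc1))))))))) (vqc0 (vqc0 0 (vqc0 2 (vqc0 1 (vqc0 2 (vqc0 2 (vqc0 1 (vqc0 0 (vqc0 2 (vqc0 2 vqc1))))))))) (vqc0 (vqc0 2 (vqc0 1 (vqc0 2 (vqc0 2 (vqc0 0 (vqc0 0 (vqc0 0 (vqc0 2 (vqc0 1 vqc1))))))))) vqc1))))))))))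
    (beta% delta% lq26c8b9c1d715 fun vqc0 vqc1 _ _ _ _ _ =>
        (vqc0 (vqc0 2 (vqc0 1 (vqc0 2 (vqc0 0 (vqc0 2 (vqc0 1 (vqc0 0 (vqc0 1 (vqc0 2 vqc1))))))))) (vqc0 (vqc0 1 (vqc0 0 (vqc0 2 (vqc0 0 (vqc0 2 (vqc0 2 (vqc0 1 (vqc0 0 (vqc0 1 vqc1))))))))) (vqc0 (vqc0 1 (vqc0 1 (vqc0 1 (vqc0 1 (vqc0 0 (vqc0 1 (vqc0 1 (vqc0 2 (vqc0 2 vqc1))))))))) (vqc0 (vqc0 1 (vqc0 0 (vqc0 1 (vqc0 1 (vqc0 1 (vqc0 0 (vqc0 1 (vqc0 0 (vqc0 2 vqc1))))))))) (vqc0 (vqc0 1 (vqc0 1 (vqc0 2 (vqc0 0 (vqc0 2 (vqc0 2 (vqc0 1 (vqc0 2 (vqc0 1 vqc1))))))))) (vqc0 (vqc0 2 (vqc0 1 (vqc0 2 (vqc0 1 (vqc0 1 (vqc0 2 (vqc0 1 (vqc0 0 (vqc0 0 vqc1))))))))) (vqc0 (vqc0 2 (vqc0 0 (vqc0 2 (vqc0 0 (vqc0 0 (vqc0 0 (vqc0 2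 (vqc0 2 (vqc0 1 vqc1))))))))) (vqc0 (vqc0 1 (vqc0 2 (vqc0 2 (vqc0 1 (vqc0 0 (vqc0 0 (vqc0 1 (vqc0 0 (vqc0 2 vqc1))))))))) (vqc0 (vqc0 2 (vqc0 2 (vqc0 2 (vqc0 2 (vqc0 0 (vqc0 0 (vqc0 2 (vqc0 0 (vqc0 0 vqc1))))))))) vqc1))))))))))
    [12968, 2204] (by decide +kernel)

theorem a52 : Ok 647 113336795589915162771456 :=
  ok_of (beta% delta% lq26c8b9c1d715 fun vqc0 vqc1 _ _ _ _ _ =>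
      (vqc0 (vqc0 1 (vqc0 1 (vqc0 1 (vqc0 2 (vqc0 0 (vqc0 2 (vqc0 0 (vqc0 0 (vqc0 0 vqc1))))))))) (vqc0 (vqc0 2 (vqc0 0 (vqc0 2 (vqc0 0 (vqc0 2 (vqc0 2 (vqc0 0 (vqc0 0 (vqc0 1 vqc1))))))))) (vqc0 (vqc0 1 (vqc0 1 (vqc0 1 (vqc0 1 (vqc0 2 (vqc0 2 (vqc0 0 (vqc0 0 (vqc0 0 vqc1))))))))) (vqc0 (vqc0 1 (vqc0 1 (vqc0 0 (vqc0 2 (vqc0 1 (vqc0 2 (vqc0 0 (vqc0 1 (vqc0 0 vqc1))))))))) (vqc0 (vqc0 1 (vqc0 1 (vqc0 2 (vqc0 0 (vqc0 0 (vqc0 1 (vqc0 2 (vqc0 0 (vqc0 2 vqc1))))))))) (vqc0 (vqc0 2 (vqc0 0 (vqc0 2 (vqc0 1 (vqc0 1 (vqc0 1 (vqc0 0 (vqc0 1 (vqc0 0 vqc1))))))))) (vqc0 (vqc0 2 (vqc0 0 (vqc0 1 (vqc0 1 (vqc0 2 (vqc0 2 (vqc0 2 (vqc0 1 (vqc0 2 vqc1))))))))) (vqc0 (vqc0 1 (vqc0 0 (vqc0 1 (vqc0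 2 (vqc0 2 (vqc0 2 (vqc0 0 (vqc0 1 (vqc0 0 vqc1))))))))) (vqc0 (vqc0 2 (vqc0 2 (vqc0 2 (vqc0 1 (vqc0 0 (vqc0 1 (vqc0 0 (vqc0 2 (vqc0 1 vqc1))))))))) vqc1))))))))))
    (beta% delta% lq26c8b9c1d715 fun vqc0 vqc1 _ _ _ _ _ =>
        (vqc0 (vqc0 2 (vqc0 0 (vqc0 0 (vqc0 0 (vqc0 0 (vqc0 2 (vqc0 1 (vqc0 1 (vqc0 2 vqc1))))))))) (vqc0 (vqc0 0 (vqc0 1 (vqc0 1 (vqc0 1 (vqc0 1 (vqc0 2 (vqc0 0 (vqc0 0 (vqc0 0 vqc1))))))))) (vqc0 (vqc0 2 (vqc0 0 (vqc0 1 (vqc0 1 (vqc0 0 (vqc0 2 (vqc0 2 (vqc0 0 (vqc0 2 vqc1))))))))) (vqc0 (vqc0 2 (vqc0 0 (vqc0 1 (vqc0 2 (vqc0 1 (vqc0 2 (vqc0 2 (vqc0 0 (vqc0 1 vqc1))))))))) (vqc0 (vqc0 2 (vqc0 1 (vqc0 0 (vqc0 2 (vqc0 0 (vqc0 2 (vqc0 1 (vqc0 2 (vqc0 2 vqc1)))))))))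 (vqc0 (vqc0 0 (vqc0 1 (vqc0 1 (vqc0 2 (vqc0 1 (vqc0 1 (vqc0 2 (vqc0 2 (vqc0 2 vqc1))))))))) (vqc0 (vqc0 0 (vqc0 1 (vqc0 1 (vqc0 0 (vqc0 0 (vqc0 2 (vqc0 1 (vqc0 0 (vqc0 0 vqc1))))))))) (vqc0 (vqc0 1 (vqc0 0 (vqc0 2 (vqc0 2 (vqc0 2 (vqc0 0 (vqc0 1 (vqc0 0 (vqc0 2 vqc1))))))))) (vqc0 (vqc0 2 (vqc0 1 (vqc0 0 (vqc0 0 (vqc0 0 (vqc0 1 (vqc0 1 (vqc0 1 (vqc0 1 vqc1))))))))) vqc1))))))))))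
    [14433, 12621] (by decide +kernel)

theorem a53 : Ok 3887 113336795589915162182280 :=
  ok_of (beta% delta% lq26c8b9c1d715 fun vqc0 vqc1 _ _ _ _ _ =>
      (vqc0 (vqc0 1 (vqc0 1 (vqc0 2 (vqc0 2 (vqc0 1 (vqc0 1 (vqc0 1 (vqc0 1 (vqc0 1 vqc1))))))))) (vqc0 (vqc0 2 (vqc0 1 (vqc0 2 (vqc0 0 (vqc0 1 (vqc0 1 (vqc0 1 (vqc0 1 (vqc0 2 vqc1))))))))) (vqc0 (vqc0 2 (vqc0 0 (vqc0 1 (vqc0 1 (vqc0 0 (vqc0 2 (vqc0 0 (vqc0 2 (vqc0 2 vqc1))))))))) (vqc0 (vqc0 2 (vqc0 2 (vqc0 0 (vqc0 1 (vqc0 0 (vqc0 2 (vqc0 0 (vqc0 0 (vqc0 1 vqc1))))))))) (vqc0 (vqc0 2 (vqc0 1 (vqc0 2 (vqc0 2 (vqc0 2 (vqc0 2 (vqc0 1 (vqc0 2 (vqc0 0 vqc1))))))))) (vqc0 (vqc0 1 (vqc0 2 (vqc0 0 (vqc0 2 (vqc0 1 (vqc0 1 (vqc0 1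 (vqc0 1 (vqc0 1 vqc1))))))))) (vqc0 (vqc0 2 (vqc0 1 (vqc0 0 (vqc0 1 (vqc0 2 (vqc0 0 (vqc0 2 (vqc0 1 (vqc0 2 vqc1))))))))) (vqc0 (vqc0 1 (vqc0 1 (vqc0 0 (vqc0 2 (vqc0 0 (vqc0 2 (vqc0 2 (vqc0 0 (vqc0 2 vqc1))))))))) (vqc0 (vqc0 2 (vqc0 2 (vqc0 1 (vqc0 1 (vqc0 0 (vqc0 1 (vqc0 0 (vqc0 0 (vqc0 0 vqc1))))))))) vqc1))))))))))
    (beta% delta% lq26c8b9c1d715 fun vqc0 vqc1 _ _ _ _ _ =>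
        (vqc0 (vqc0 1 (vqc0 1 (vqc0 0 (vqc0 2 (vqc0 1 (vqc0 0 (vqc0 1 (vqc0 2 (vqc0 0 vqc1))))))))) (vqc0 (vqc0 2 (vqc0 1 (vqc0 1 (vqc0 1 (vqc0 0 (vqc0 1 (vqc0 0 (vqc0 1 (vqc0 0 vqc1))))))))) (vqc0 (vqc0 1 (vqc0 0 (vqc0 2 (vqc0 2 (vqc0 2 (vqc0 1 (vqc0 2 (vqc0 2 (vqc0 2 vqc1))))))))) (vqc0 (vqc0 1 (vqc0 1 (vqc0 2 (vqc0 2 (vqc0 0 (vqc0 1 (vqc0 2 (vqc0 1 (vqc0 1 vqc1))))))))) (vqc0 (vqc0 2 (vqc0 0 (vqc0 2 (vqc0 1 (vqc0 1 (vqc0 2 (vqc0 0 (vqc0 1 (vqc0 1 vqc1))))))))) (vqc0 (vqc0 0 (vqc0 0 (vqc0 0 (vqc0 2 (vqc0 0 (vqc0 0 (vqc0 1 (vqc0 1 (vqc0 2 vqc1))))))))) (vqc0 (vqc0 0 (vqc0 0 (vqc0 1 (vqc0 2 (vqc0 2 (vqc0 0 (vqc0 1 (vqc0 2 (vqc0 2 vqc1))))))))) (vqc0 (vqc0 1 (vqc0 0 (vqc0 2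 (vqc0 1 (vqc0 0 (vqc0 2 (vqc0 2 (vqc0 1 (vqc0 1 vqc1))))))))) (vqc0 (vqc0 0 (vqc0 1 (vqc0 0 (vqc0 1 (vqc0 0 (vqc0 1 (vqc0 0 (vqc0 1 (vqc0 1 vqc1))))))))) vqc1))))))))))
    [5333, 3225] (by decide +kernel)

theorem a54 : Ok 46655 113336795589915165720576 :=
  ok_of (beta% delta% lq26c8b9c1d715 fun vqc0 vqc1 _ _ _ _ _ =>
      (vqc0 (vqc0 1 (vqc0 0 (vqc0 1 (vqc0 1 (vqc0 0 (vqc0 0 (vqc0 2 (vqc0 0 (vqc0 2 vqc1))))))))) (vqc0 (vqc0 2 (vqc0 0 (vqc0 0 (vqc0 2 (vqc0 2 (vqc0 2 (vqc0 1 (vqc0 0 (vqc0 1 vqc1))))))))) (vqc0 (vqc0 2 (vqc0 0 (vqc0 1 (vqc0 1 (vqc0 0 (vqc0 1 (vqc0 1 (vqc0 0 (vqc0 2 vqc1))))))))) (vqc0 (vqc0 1 (vqc0 0 (vqc0 0 (vqc0 2 (vqc0 1 (vqc0 1 (vqc0 1 (vqc0 0 (vqc0 2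 vqc1))))))))) (vqc0 (vqc0 2 (vqc0 1 (vqc0 2 (vqc0 0 (vqc0 1 (vqc0 2 (vqc0 0 (vqc0 2 (vqc0 1 vqc1))))))))) (vqc0 (vqc0 1 (vqc0 1 (vqc0 1 (vqc0 0 (vqc0 0 (vqc0 0 (vqc0 0 (vqc0 1 (vqc0 1 vqc1))))))))) (vqc0 (vqc0 1 (vqc0 0 (vqc0 1 (vqc0 2 (vqc0 1 (vqc0 1 (vqc0 1 (vqc0 1 (vqc0 2 vqc1))))))))) (vqc0 (vqc0 0 (vqc0 1 (vqc0 2 (vqc0 0 (vqc0 1 (vqc0 2 (vqc0 1 (vqc0 2 (vqc0 1 vqc1))))))))) (vqc0 (vqc0 0 (vqc0 2 (vqc0 1 (vqc0 2 (vqc0 2 (vqc0 0 (vqc0 1 (vqc0 1 (vqc0 1 vqc1))))))))) vqc1))))))))))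
    (beta% delta% lq26c8b9c1d715 fun vqc0 vqc1 _ _ _ _ _ =>
        (vqc0 (vqc0 1 (vqc0 1 (vqc0 0 (vqc0 0 (vqc0 0 (vqc0 1 (vqc0 0 (vqc0 0 (vqc0 1 vqc1))))))))) (vqc0 (vqc0 2 (vqc0 1 (vqc0 0 (vqc0 2 (vqc0 1 (vqc0 2 (vqc0 2 (vqc0 1 (vqc0 0 vqc1))))))))) (vqc0 (vqc0 1 (vqc0 1 (vqc0 0 (vqc0 0 (vqc0 0 (vqc0 1 (vqc0 0 (vqc0 1 (vqc0 1 vqc1))))))))) (vqc0 (vqc0 0 (vqc0 1 (vqc0 2 (vqc0 2 (vqc0 1 (vqc0 0 (vqc0 1 (vqc0 0 (vqc0 1 vqc1))))))))) (vqc0 (vqc0 2 (vqc0 1 (vqc0 2 (vqc0 0 (vqc0 2 (vqc0 1 (vqc0 0 (vqc0 1 (vqc0 1 vqc1))))))))) (vqc0 (vqc0 2 (vqc0 1 (vqc0 2 (vqc0 2 (vqc0 1 (vqc0 1 (vqc0 0 (vqc0 2 (vqc0 2 vqc1))))))))) (vqc0 (vqc0 2 (vqc0 1 (vqc0 0 (vqc0 2 (vqc0 1 (vqc0 2 (vqc0 0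 (vqc0 2 (vqc0 2 vqc1))))))))) (vqc0 (vqc0 2 (vqc0 1 (vqc0 2 (vqc0 2 (vqc0 2 (vqc0 2 (vqc0 0 (vqc0 2 (vqc0 1 vqc1))))))))) (vqc0 (vqc0 2 (vqc0 2 (vqc0 2 (vqc0 1 (vqc0 2 (vqc0 1 (vqc0 0 (vqc0 0 (vqc0 0 vqc1))))))))) vqc1))))))))))
    [15098, 3660, 13614, 11629] (by decide +kernel)

theorem a55 : Ok 46655 113336795589393325425612 :=
  ok_of (beta% delta% lq26c8b9c1d715 fun vqc0 vqc1 _ _ _ _ _ =>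
      (vqc0 (vqc0 0 (vqc0 2 (vqc0 2 (vqc0 0 (vqc0 0 (vqc0 1 (vqc0 0 (vqc0 1 (vqc0 0 vqc1))))))))) (vqc0 (vqc0 0 (vqc0 1 (vqc0 2 (vqc0 1 (vqc0 1 (vqc0 1 (vqc0 1 (vqc0 0 (vqc0 0 vqc1))))))))) (vqc0 (vqc0 0 (vqc0 1 (vqc0 1 (vqc0 1 (vqc0 2 (vqc0 0 (vqc0 2 (vqc0 1 (vqc0 0 vqc1))))))))) (vqc0 (vqc0 2 (vqc0 1 (vqc0 1 (vqc0 2 (vqc0 2 (vqc0 0 (vqc0 2 (vqc0 0 (vqc0 1 vqc1))))))))) (vqc0 (vqc0 1 (vqc0 0 (vqc0 2 (vqc0 2 (vqc0 2 (vqc0 0 (vqc0 1 (vqc0 0 (vqc0 2 vqc1))))))))) (vqc0 (vqc0 0 (vqc0 0 (vqc0 2 (vqc0 2 (vqc0 0 (vqc0 2 (vqc0 2 (vqc0 1 (vqc0 0 vqc1))))))))) (vqc0 (vqc0 1 (vqc0 2 (vqc0 2 (vqc0 2 (vqc0 0 (vqc0 0 (vqc0 0 (vqc0 2 (vqc0 0 vqc1))))))))) (vqc0 (vqc0 1 (vqc0 2 (vqc0 0 (vqc0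 0 (vqc0 1 (vqc0 2 (vqc0 0 (vqc0 2 (vqc0 2 vqc1))))))))) (vqc0 (vqc0 2 (vqc0 2 (vqc0 0 (vqc0 0 (vqc0 2 (vqc0 1 (vqc0 0 (vqc0 1 (vqc0 2 vqc1))))))))) vqc1))))))))))
    (beta% delta% lq26c8b9c1d715 fun vqc0 vqc1 _ _ _ _ _ =>
        (vqc0 (vqc0 1 (vqc0 0 (vqc0 0 (vqc0 2 (vqc0 1 (vqc0 2 (vqc0 1 (vqc0 2 (vqc0 1 vqc1))))))))) (vqc0 (vqc0 0 (vqc0 0 (vqc0 1 (vqc0 0 (vqc0 2 (vqc0 2 (vqc0 0 (vqc0 0 (vqc0 2 vqc1))))))))) (vqc0 (vqc0 1 (vqc0 0 (vqc0 1 (vqc0 0 (vqc0 1 (vqc0 2 (vqc0 1 (vqc0 1 (vqc0 0 vqc1))))))))) (vqc0 (vqc0 2 (vqc0 1 (vqc0 2 (vqc0 2 (vqc0 1 (vqc0 2 (vqc0 1 (vqc0 2 (vqc0 2 vqc1))))))))) (vqc0 (vqc0 2 (vqc0 1 (vqc0 2 (vqc0 0 (vqc0 2 (vqc0 1 (vqc0 2 (vqc0 1 (vqc0 0 vqc1)))))))))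 (vqc0 (vqc0 1 (vqc0 2 (vqc0 0 (vqc0 1 (vqc0 1 (vqc0 2 (vqc0 0 (vqc0 2 (vqc0 1 vqc1))))))))) (vqc0 (vqc0 2 (vqc0 2 (vqc0 1 (vqc0 0 (vqc0 1 (vqc0 0 (vqc0 2 (vqc0 0 (vqc0 2 vqc1))))))))) (vqc0 (vqc0 0 (vqc0 2 (vqc0 1 (vqc0 1 (vqc0 2 (vqc0 0 (vqc0 0 (vqc0 2 (vqc0 2 vqc1))))))))) (vqc0 (vqc0 1 (vqc0 0 (vqc0 0 (vqc0 0 (vqc0 2 (vqc0 2 (vqc0 1 (vqc0 2 (vqc0 2 vqc1))))))))) vqc1))))))))))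
    [6017, 2393, 3224, 1508] (by decide +kernel)

theorem a56 : Ok 279935 113336795588871488667648 :=
  ok_of (beta% delta% lq26c8b9c1d715 fun vqc0 vqc1 _ _ _ _ _ =>
      (vqc0 (vqc0 1 (vqc0 1 (vqc0 0 (vqc0 0 (vqc0 0 (vqc0 0 (vqc0 0 (vqc0 0 (vqc0 1 vqc1))))))))) (vqc0 (vqc0 2 (vqc0 2 (vqc0 1 (vqc0 2 (vqc0 0 (vqc0 1 (vqc0 1 (vqc0 0 (vqc0 0 vqc1))))))))) (vqc0 (vqc0 1 (vqc0 2 (vqc0 2 (vqc0 1 (vqc0 1 (vqc0 2 (vqc0 1 (vqc0 0 (vqc0 0 vqc1))))))))) (vqc0 (vqc0 2 (vqc0 2 (vqc0 2 (vqc0 0 (vqc0 0 (vqc0 2 (vqc0 0 (vqc0 0 (vqc0 2 vqc1))))))))) (vqc0 (vqc0 2 (vqc0 1 (vqc0 0 (vqc0 2 (vqc0 1 (vqc0 1 (vqc0 1 (vqc0 0 (vqc0 0 vqc1))))))))) (vqc0 (vqc0 0 (vqc0 1 (vqc0 2 (vqc0 2 (vqc0 1 (vqc0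 0 (vqc0 0 (vqc0 0 (vqc0 2 vqc1))))))))) (vqc0 (vqc0 0 (vqc0 0 (vqc0 0 (vqc0 0 (vqc0 0 (vqc0 0 (vqc0 2 (vqc0 0 (vqc0 0 vqc1))))))))) (vqc0 (vqc0 0 (vqc0 1 (vqc0 1 (vqc0 2 (vqc0 1 (vqc0 2 (vqc0 0 (vqc0 2 (vqc0 2 vqc1))))))))) (vqc0 (vqc0 2 (vqc0 2 (vqc0 2 (vqc0 2 (vqc0 1 (vqc0 1 (vqc0 0 (vqc0 0 (vqc0 2 vqc1))))))))) vqc1))))))))))
    (beta% delta% lq26c8b9c1d715 fun vqc0 vqc1 _ _ _ _ _ =>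
        (vqc0 (vqc0 2 (vqc0 1 (vqc0 0 (vqc0 2 (vqc0 0 (vqc0 2 (vqc0 2 (vqc0 1 (vqc0 2 vqc1))))))))) (vqc0 (vqc0 2 (vqc0 2 (vqc0 2 (vqc0 1 (vqc0 2 (vqc0 2 (vqc0 0 (vqc0 0 (vqc0 1 vqc1))))))))) (vqc0 (vqc0 0 (vqc0 1 (vqc0 2 (vqc0 0 (vqc0 2 (vqc0 2 (vqc0 1 (vqc0 2 (vqc0 0 vqc1))))))))) (vqc0 (vqc0 2 (vqc0 0 (vqc0 1 (vqc0 1 (vqc0 1 (vqc0 1 (vqc0 2 (vqc0 1 (vqc0 1 vqc1))))))))) (vqc0 (vqc0 2 (vqc0 1 (vqc0 1 (vqc0 2 (vqc0 2 (vqc0 1 (vqc0 2 (vqc0 2 (vqc0 1 vqc1))))))))) (vqc0 (vqc0 0 (vqc0 0 (vqc0 2 (vqc0 0 (vqc0 0 (vqc0 0 (vqc0 2 (vqc0 2 (vqc0 1 vqc1))))))))) (vqc0 (vqc0 0 (vqc0 2 (vqc0 2 (vqc0 1 (vqc0 2 (vqc0 0 (vqc0 1 (vqc0 1 (vqc0 0 vqc1))))))))) (vqc0 (vqc0 0 (vqc0 1 (vqc0 1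 (vqc0 1 (vqc0 1 (vqc0 1 (vqc0 1 (vqc0 1 (vqc0 0 vqc1))))))))) (vqc0 (vqc0 2 (vqc0 1 (vqc0 0 (vqc0 0 (vqc0 2 (vqc0 0 (vqc0 1 (vqc0 1 (vqc0 2 vqc1))))))))) vqc1))))))))))
    [670, 16132, 8507, 15242] (by decide +kernel)

theorem a57 : Ok 156764159 113336795588871509901312 :=
  ok_of (beta% delta% lq26c8b9c1d715 fun vqc0 vqc1 _ _ _ _ _ =>
      (vqc0 (vqc0 0 (vqc0 1 (vqc0 2 (vqc0 1 (vqc0 2 (vqc0 0 (vqc0 1 (vqc0 2 (vqc0 2 vqc1))))))))) (vqc0 (vqc0 1 (vqc0 2 (vqc0 2 (vqc0 2 (vqc0 0 (vqc0 1 (vqc0 2 (vqc0 2 (vqc0 2 vqc1))))))))) (vqc0 (vqc0 1 (vqc0 0 (vqc0 1 (vqc0 1 (vqc0 1 (vqc0 0 (vqc0 0 (vqc0 0 (vqc0 1 vqc1))))))))) (vqc0 (vqc0 2 (vqc0 0 (vqc0 1 (vqc0 0 (vqc0 0 (vqc0 2 (vqc0 1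 (vqc0 1 (vqc0 1 vqc1))))))))) (vqc0 (vqc0 0 (vqc0 0 (vqc0 0 (vqc0 2 (vqc0 0 (vqc0 2 (vqc0 1 (vqc0 1 (vqc0 2 vqc1))))))))) (vqc0 (vqc0 2 (vqc0 1 (vqc0 1 (vqc0 1 (vqc0 1 (vqc0 1 (vqc0 2 (vqc0 0 (vqc0 2 vqc1))))))))) (vqc0 (vqc0 2 (vqc0 2 (vqc0 1 (vqc0 0 (vqc0 0 (vqc0 1 (vqc0 0 (vqc0 0 (vqc0 2 vqc1))))))))) (vqc0 (vqc0 1 (vqc0 1 (vqc0 2 (vqc0 2 (vqc0 1 (vqc0 1 (vqc0 0 (vqc0 0 (vqc0 0 vqc1))))))))) (vqc0 (vqc0 2 (vqc0 1 (vqc0 1 (vqc0 2 (vqc0 0 (vqc0 0 (vqc0 1 (vqc0 2 (vqc0 2 vqc1))))))))) vqc1))))))))))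
    (beta% delta% lq26c8b9c1d715 fun vqc0 vqc1 _ _ _ _ _ =>
        (vqc0 (vqc0 1 (vqc0 0 (vqc0 0 (vqc0 1 (vqc0 1 (vqc0 2 (vqc0 2 (vqc0 1 (vqc0 2 vqc1))))))))) (vqc0 (vqc0 0 (vqc0 1 (vqc0 1 (vqc0 1 (vqc0 2 (vqc0 0 (vqc0 2 (vqc0 0 (vqc0 1 vqc1))))))))) (vqc0 (vqc0 1 (vqc0 2 (vqc0 2 (vqc0 0 (vqc0 2 (vqc0 1 (vqc0 0 (vqc0 1 (vqc0 2 vqc1))))))))) (vqc0 (vqc0 1 (vqc0 2 (vqc0 1 (vqc0 0 (vqc0 1 (vqc0 2 (vqc0 0 (vqc0 2 (vqc0 2 vqc1))))))))) (vqc0 (vqc0 0 (vqc0 0 (vqc0 0 (vqc0 2 (vqc0 0 (vqc0 1 (vqc0 0 (vqc0 1 (vqc0 0 vqc1))))))))) (vqc0 (vqc0 2 (vqc0 2 (vqc0 1 (vqc0 0 (vqc0 0 (vqc0 2 (vqc0 2 (vqc0 1 (vqc0 0 vqc1))))))))) (vqc0 (vqc0 0 (vqc0 1 (vqc0 1 (vqc0 0 (vqc0 1 (vqc0 1 (vqc0 0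 (vqc0 1 (vqc0 1 vqc1))))))))) (vqc0 (vqc0 0 (vqc0 0 (vqc0 2 (vqc0 2 (vqc0 0 (vqc0 0 (vqc0 2 (vqc0 1 (vqc0 0 vqc1))))))))) (vqc0 (vqc0 2 (vqc0 1 (vqc0 1 (vqc0 2 (vqc0 2 (vqc0 2 (vqc0 2 (vqc0 2 (vqc0 2 vqc1))))))))) vqc1))))))))))
    [15925, 11190, 189, 2070, 14189, 8184] (by decide +kernel)

theorem a58 : Ok 5183 340010403867089024385078 :=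
  ok_of (beta% delta% lq26c8b9c1d715 fun vqc0 vqc1 _ _ _ _ _ =>
      (vqc0 (vqc0 1 (vqc0 0 (vqc0 0 (vqc0 0 (vqc0 2 (vqc0 0 (vqc0 0 (vqc0 1 (vqc0 0 vqc1))))))))) (vqc0 (vqc0 0 (vqc0 2 (vqc0 0 (vqc0 2 (vqc0 1 (vqc0 1 (vqc0 0 (vqc0 2 (vqc0 1 vqc1))))))))) (vqc0 (vqc0 2 (vqc0 2 (vqc0 2 (vqc0 0 (vqc0 0 (vqc0 2 (vqc0 0 (vqc0 2 (vqc0 2 vqc1))))))))) (vqc0 (vqc0 1 (vqc0 1 (vqc0 2 (vqc0 1 (vqc0 1 (vqc0 1 (vqc0 0 (vqc0 1 (vqc0 1 vqc1))))))))) (vqc0 (vqc0 2 (vqc0 1 (vqc0 1 (vqc0 1 (vqc0 1 (vqc0 1 (vqc0 0 (vqc0 1 (vqc0 1 vqc1))))))))) (vqc0 (vqc0 2 (vqc0 1 (vqc0 1 (vqc0 0 (vqc0 1 (vqc0 2 (vqc0 1 (vqc0 0 (vqc0 1 vqc1))))))))) (vqc0 (vqc0 1 (vqc0 2 (vqc0 1 (vqc0 2 (vqc0 0 (vqc0 0 (vqc0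 1 (vqc0 2 (vqc0 0 vqc1))))))))) (vqc0 (vqc0 1 (vqc0 2 (vqc0 2 (vqc0 2 (vqc0 2 (vqc0 2 (vqc0 0 (vqc0 0 (vqc0 2 vqc1))))))))) (vqc0 (vqc0 2 (vqc0 1 (vqc0 1 (vqc0 1 (vqc0 0 (vqc0 1 (vqc0 0 (vqc0 1 (vqc0 2 vqc1))))))))) vqc1))))))))))
    (beta% delta% lq26c8b9c1d715 fun vqc0 vqc1 _ _ _ _ _ =>
        (vqc0 (vqc0 0 (vqc0 1 (vqc0 0 (vqc0 2 (vqc0 2 (vqc0 1 (vqc0 2 (vqc0 2 (vqc0 0 vqc1))))))))) (vqc0 (vqc0 2 (vqc0 1 (vqc0 0 (vqc0 1 (vqc0 2 (vqc0 0 (vqc0 1 (vqc0 2 (vqc0 2 vqc1))))))))) (vqc0 (vqc0 0 (vqc0 1 (vqc0 2 (vqc0 0 (vqc0 0 (vqc0 2 (vqc0 1 (vqc0 1 (vqc0 2 vqc1))))))))) (vqc0 (vqc0 0 (vqc0 1 (vqc0 1 (vqc0 0 (vqc0 0 (vqc0 1 (vqc0 0 (vqc0 1 (vqc0 0 vqc1))))))))) (vqc0 (vqc0 0 (vqc0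 2 (vqc0 1 (vqc0 0 (vqc0 0 (vqc0 2 (vqc0 0 (vqc0 0 (vqc0 0 vqc1))))))))) (vqc0 (vqc0 2 (vqc0 1 (vqc0 2 (vqc0 2 (vqc0 2 (vqc0 2 (vqc0 0 (vqc0 0 (vqc0 1 vqc1))))))))) (vqc0 (vqc0 0 (vqc0 1 (vqc0 1 (vqc0 2 (vqc0 2 (vqc0 0 (vqc0 2 (vqc0 2 (vqc0 0 vqc1))))))))) (vqc0 (vqc0 1 (vqc0 0 (vqc0 0 (vqc0 1 (vqc0 0 (vqc0 2 (vqc0 1 (vqc0 1 (vqc0 2 vqc1))))))))) (vqc0 (vqc0 0 (vqc0 1 (vqc0 1 (vqc0 1 (vqc0 1 (vqc0 0 (vqc0 1 (vqc0 2 (vqc0 1 vqc1))))))))) vqc1))))))))))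
    [120, 8981, 17136, 13017] (by decide +kernel)

theorem a59 : Ok 5183 340010386767310242447414 :=
  ok_of (beta% delta% lq26c8b9c1d715 fun vqc0 vqc1 _ _ _ _ _ =>
      (vqc0 (vqc0 1 (vqc0 2 (vqc0 2 (vqc0 1 (vqc0 0 (vqc0 1 (vqc0 1 (vqc0 0 (vqc0 2 vqc1))))))))) (vqc0 (vqc0 0 (vqc0 1 (vqc0 2 (vqc0 1 (vqc0 2 (vqc0 2 (vqc0 1 (vqc0 1 (vqc0 1 vqc1))))))))) (vqc0 (vqc0 0 (vqc0 0 (vqc0 1 (vqc0 1 (vqc0 2 (vqc0 0 (vqc0 0 (vqc0 0 (vqc0 2 vqc1))))))))) (vqc0 (vqc0 1 (vqc0 1 (vqc0 0 (vqc0 0 (vqc0 1 (vqc0 2 (vqc0 0 (vqc0 2 (vqc0 0 vqc1))))))))) (vqc0 (vqc0 2 (vqc0 1 (vqc0 2 (vqc0 0 (vqc0 2 (vqc0 2 (vqc0 0 (vqc0 0 (vqc0 0 vqc1))))))))) (vqc0 (vqc0 1 (vqc0 2 (vqc0 1 (vqc0 1 (vqc0 1 (vqc0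 2 (vqc0 1 (vqc0 1 (vqc0 0 vqc1))))))))) (vqc0 (vqc0 1 (vqc0 0 (vqc0 1 (vqc0 0 (vqc0 0 (vqc0 1 (vqc0 2 (vqc0 0 (vqc0 0 vqc1))))))))) (vqc0 (vqc0 2 (vqc0 2 (vqc0 1 (vqc0 0 (vqc0 2 (vqc0 1 (vqc0 0 (vqc0 0 (vqc0 0 vqc1))))))))) (vqc0 (vqc0 1 (vqc0 2 (vqc0 2 (vqc0 2 (vqc0 2 (vqc0 1 (vqc0 2 (vqc0 0 (vqc0 0 vqc1))))))))) vqc1))))))))))
    (beta% delta% lq26c8b9c1d715 fun vqc0 vqc1 _ _ _ _ _ =>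
        (vqc0 (vqc0 2 (vqc0 2 (vqc0 0 (vqc0 2 (vqc0 2 (vqc0 2 (vqc0 2 (vqc0 2 (vqc0 0 vqc1))))))))) (vqc0 (vqc0 1 (vqc0 1 (vqc0 2 (vqc0 0 (vqc0 1 (vqc0 2 (vqc0 2 (vqc0 2 (vqc0 1 vqc1))))))))) (vqc0 (vqc0 2 (vqc0 2 (vqc0 2 (vqc0 2 (vqc0 0 (vqc0 2 (vqc0 2 (vqc0 2 (vqc0 0 vqc1))))))))) (vqc0 (vqc0 1 (vqc0 0 (vqc0 1 (vqc0 2 (vqc0 1 (vqc0 0 (vqc0 1 (vqc0 2 (vqc0 2 vqc1))))))))) (vqc0 (vqc0 1 (vqc0 0 (vqc0 0 (vqc0 1 (vqc0 0 (vqc0 1 (vqc0 0 (vqc0 1 (vqc0 0 vqc1))))))))) (vqc0 (vqc0 2 (vqc0 0 (vqc0 2 (vqc0 1 (vqc0 2 (vqc0 1 (vqc0 0 (vqc0 2 (vqc0 2 vqc1))))))))) (vqc0 (vqc0 2 (vqc0 1 (vqc0 1 (vqc0 2 (vqc0 1 (vqc0 2 (vqc0 0 (vqc0 2 (vqc0 0 vqc1))))))))) (vqc0 (vqc0 2 (vqc0 1 (vqc0 2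 (vqc0 1 (vqc0 2 (vqc0 1 (vqc0 1 (vqc0 0 (vqc0 0 vqc1))))))))) (vqc0 (vqc0 1 (vqc0 0 (vqc0 2 (vqc0 1 (vqc0 1 (vqc0 1 (vqc0 0 (vqc0 1 (vqc0 1 vqc1))))))))) vqc1))))))))))
    [6556, 14273, 18970] (by decide +kernel)

theorem a60 : Ok 31103 340010386767658134208566 :=
  ok_of (beta% delta% lq26c8b9c1d715 fun vqc0 vqc1 _ _ _ _ _ =>
      (vqc0 (vqc0 1 (vqc0 2 (vqc0 0 (vqc0 2 (vqc0 0 (vqc0 2 (vqc0 1 (vqc0 1 (vqc0 0 vqc1))))))))) (vqc0 (vqc0 0 (vqc0 0 (vqc0 0 (vqc0 0 (vqc0 0 (vqc0 0 (vqc0 2 (vqc0 2 (vqc0 2 vqc1))))))))) (vqc0 (vqc0 2 (vqc0 2 (vqc0 1 (vqc0 0 (vqc0 0 (vqc0 2 (vqc0 1 (vqc0 0 (vqc0 2 vqc1))))))))) (vqc0 (vqc0 2 (vqc0 1 (vqc0 1 (vqc0 1 (vqc0 2 (vqc0 2 (vqc0 0 (vqc0 1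 (vqc0 2 vqc1))))))))) (vqc0 (vqc0 2 (vqc0 1 (vqc0 2 (vqc0 2 (vqc0 2 (vqc0 0 (vqc0 1 (vqc0 1 (vqc0 1 vqc1))))))))) (vqc0 (vqc0 1 (vqc0 2 (vqc0 2 (vqc0 0 (vqc0 1 (vqc0 2 (vqc0 0 (vqc0 2 (vqc0 1 vqc1))))))))) (vqc0 (vqc0 2 (vqc0 0 (vqc0 2 (vqc0 0 (vqc0 1 (vqc0 0 (vqc0 1 (vqc0 1 (vqc0 1 vqc1))))))))) (vqc0 (vqc0 2 (vqc0 0 (vqc0 2 (vqc0 1 (vqc0 1 (vqc0 2 (vqc0 2 (vqc0 0 (vqc0 1 vqc1))))))))) (vqc0 (vqc0 1 (vqc0 2 (vqc0 0 (vqc0 0 (vqc0 0 (vqc0 2 (vqc0 1 (vqc0 1 (vqc0 1 vqc1))))))))) vqc1))))))))))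
    (beta% delta% lq26c8b9c1d715 fun vqc0 vqc1 _ _ _ _ _ =>
        (vqc0 (vqc0 2 (vqc0 0 (vqc0 2 (vqc0 1 (vqc0 1 (vqc0 2 (vqc0 2 (vqc0 0 (vqc0 1 vqc1))))))))) (vqc0 (vqc0 2 (vqc0 0 (vqc0 1 (vqc0 1 (vqc0 1 (vqc0 0 (vqc0 0 (vqc0 0 (vqc0 2 vqc1))))))))) (vqc0 (vqc0 1 (vqc0 0 (vqc0 1 (vqc0 1 (vqc0 0 (vqc0 2 (vqc0 1 (vqc0 0 (vqc0 1 vqc1))))))))) (vqc0 (vqc0 0 (vqc0 2 (vqc0 0 (vqc0 2 (vqc0 1 (vqc0 1 (vqc0 2 (vqc0 0 (vqc0 1 vqc1))))))))) (vqc0 (vqc0 1 (vqc0 0 (vqc0 2 (vqc0 2 (vqc0 0 (vqc0 1 (vqc0 2 (vqc0 0 (vqc0 2 vqc1))))))))) (vqc0 (vqc0 0 (vqc0 2 (vqc0 1 (vqc0 0 (vqc0 0 (vqc0 2 (vqc0 2 (vqc0 2 (vqc0 1 vqc1))))))))) (vqc0 (vqc0 0 (vqc0 0 (vqc0 0 (vqc0 1 (vqc0 1 (vqc0 0 (vqc0 2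 (vqc0 2 (vqc0 1 vqc1))))))))) (vqc0 (vqc0 1 (vqc0 0 (vqc0 2 (vqc0 1 (vqc0 2 (vqc0 0 (vqc0 2 (vqc0 2 (vqc0 0 vqc1))))))))) (vqc0 (vqc0 1 (vqc0 0 (vqc0 2 (vqc0 2 (vqc0 0 (vqc0 2 (vqc0 2 (vqc0 2 (vqc0 0 vqc1))))))))) vqc1))))))))))
    [3846, 15896, 10270] (by decide +kernel)

end Cfsg.Agent.H651.O9
end

-- part: H651/O9/D3
section
/-!
# Classes of the orthogonal group in dimension 9 over the field with three elements, part 3 (helper651)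
-/

set_option autoImplicit false
set_option exponentiation.threshold 30000
set_option maxRecDepth 100000

namespace Cfsg.Agent.H651.O9

theorem a61 : Ok 373247 340010386766614478389626 :=
  ok_of (beta% delta% lq26c8b9c1d715 fun vqc0 vqc1 _ _ _ _ _ =>
      (vqc0 (vqc0 2 (vqc0 1 (vqc0 0 (vqc0 2 (vqc0 0 (vqc0 0 (vqc0 1 (vqc0 2 (vqc0 1 vqc1))))))))) (vqc0 (vqc0 0 (vqc0 1 (vqc0 0 (vqc0 1 (vqc0 0 (vqc0 0 (vqc0 0 (vqc0 2 (vqc0 0 vqc1))))))))) (vqc0 (vqc0 1 (vqc0 2 (vqc0 2 (vqc0 0 (vqc0 1 (vqc0 1 (vqc0 0 (vqc0 0 (vqc0 0 vqc1))))))))) (vqc0 (vqc0 1 (vqc0 2 (vqc0 0 (vqc0 2 (vqc0 1 (vqc0 1 (vqc0 1 (vqc0 1 (vqc0 1 vqc1))))))))) (vqc0 (vqc0 1 (vqc0 1 (vqc0 0 (vqc0 1 (vqc0 2 (vqc0 2 (vqc0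 1 (vqc0 1 (vqc0 0 vqc1))))))))) (vqc0 (vqc0 1 (vqc0 1 (vqc0 0 (vqc0 1 (vqc0 2 (vqc0 2 (vqc0 1 (vqc0 2 (vqc0 2 vqc1))))))))) (vqc0 (vqc0 1 (vqc0 1 (vqc0 2 (vqc0 0 (vqc0 2 (vqc0 1 (vqc0 0 (vqc0 2 (vqc0 0 vqc1))))))))) (vqc0 (vqc0 2 (vqc0 0 (vqc0 2 (vqc0 0 (vqc0 1 (vqc0 1 (vqc0 1 (vqc0 0 (vqc0 1 vqc1))))))))) (vqc0 (vqc0 2 (vqc0 0 (vqc0 2 (vqc0 0 (vqc0 2 (vqc0 0 (vqc0 1 (vqc0 0 (vqc0 1 vqc1))))))))) vqc1))))))))))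
    (beta% delta% lq26c8b9c1d715 fun vqc0 vqc1 _ _ _ _ _ =>
        (vqc0 (vqc0 1 (vqc0 2 (vqc0 2 (vqc0 1 (vqc0 0 (vqc0 1 (vqc0 0 (vqc0 0 (vqc0 1 vqc1))))))))) (vqc0 (vqc0 0 (vqc0 1 (vqc0 0 (vqc0 0 (vqc0 0 (vqc0 0 (vqc0 0 (vqc0 0 (vqc0 0 vqc1))))))))) (vqc0 (vqc0 0 (vqc0 2 (vqc0 1 (vqc0 1 (vqc0 1 (vqc0 2 (vqc0 0 (vqc0 1 (vqc0 0 vqc1))))))))) (vqc0 (vqc0 0 (vqc0 2 (vqc0 2 (vqc0 0 (vqc0 1 (vqc0 2 (vqc0 1 (vqc0 2 (vqc0 1 vqc1))))))))) (vqc0 (vqc0 0 (vqc0 0 (vqc0 0 (vqc0 2 (vqc0 0 (vqc0 0 (vqc0 1 (vqc0 1 (vqc0 2 vqc1))))))))) (vqc0 (vqc0 0 (vqc0 1 (vqc0 2 (vqc0 0 (vqc0 2 (vqc0 2 (vqc0 1 (vqc0 0 (vqc0 1 vqc1))))))))) (vqc0 (vqc0 0 (vqc0 2 (vqc0 1 (vqc0 2 (vqc0 0 (vqc0 1 (vqc0 2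 (vqc0 1 (vqc0 2 vqc1))))))))) (vqc0 (vqc0 0 (vqc0 2 (vqc0 1 (vqc0 2 (vqc0 0 (vqc0 2 (vqc0 1 (vqc0 2 (vqc0 2 vqc1))))))))) (vqc0 (vqc0 0 (vqc0 1 (vqc0 0 (vqc0 2 (vqc0 2 (vqc0 0 (vqc0 0 (vqc0 2 (vqc0 2 vqc1))))))))) vqc1))))))))))
    [18009, 17109, 13669, 4398, 9491, 3916] (by decide +kernel)

theorem a62 : Ok 373247 340010386768179995738490 :=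
  ok_of (beta% delta% lq26c8b9c1d715 fun vqc0 vqc1 _ _ _ _ _ =>
      (vqc0 (vqc0 1 (vqc0 0 (vqc0 2 (vqc0 2 (vqc0 0 (vqc0 0 (vqc0 0 (vqc0 2 (vqc0 1 vqc1))))))))) (vqc0 (vqc0 2 (vqc0 0 (vqc0 1 (vqc0 0 (vqc0 1 (vqc0 2 (vqc0 1 (vqc0 1 (vqc0 0 vqc1))))))))) (vqc0 (vqc0 1 (vqc0 2 (vqc0 0 (vqc0 2 (vqc0 1 (vqc0 2 (vqc0 2 (vqc0 0 (vqc0 2 vqc1))))))))) (vqc0 (vqc0 1 (vqc0 1 (vqc0 0 (vqc0 2 (vqc0 1 (vqc0 0 (vqc0 2 (vqc0 1 (vqc0 0 vqc1))))))))) (vqc0 (vqc0 2 (vqc0 2 (vqc0 0 (vqc0 1 (vqc0 0 (vqc0 0 (vqc0 0 (vqc0 1 (vqc0 2 vqc1))))))))) (vqc0 (vqc0 0 (vqc0 1 (vqc0 0 (vqc0 2 (vqc0 1 (vqc0 2 (vqc0 2 (vqc0 2 (vqc0 0 vqc1))))))))) (vqc0 (vqc0 1 (vqc0 1 (vqc0 1 (vqc0 2 (vqc0 0 (vqc0 1 (vqc0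 1 (vqc0 0 (vqc0 0 vqc1))))))))) (vqc0 (vqc0 1 (vqc0 0 (vqc0 2 (vqc0 2 (vqc0 2 (vqc0 0 (vqc0 2 (vqc0 1 (vqc0 0 vqc1))))))))) (vqc0 (vqc0 1 (vqc0 1 (vqc0 1 (vqc0 2 (vqc0 2 (vqc0 0 (vqc0 0 (vqc0 1 (vqc0 2 vqc1))))))))) vqc1))))))))))
    (beta% delta% lq26c8b9c1d715 fun vqc0 vqc1 _ _ _ _ _ =>
        (vqc0 (vqc0 2 (vqc0 2 (vqc0 1 (vqc0 1 (vqc0 1 (vqc0 2 (vqc0 2 (vqc0 0 (vqc0 1 vqc1))))))))) (vqc0 (vqc0 0 (vqc0 1 (vqc0 1 (vqc0 0 (vqc0 1 (vqc0 2 (vqc0 2 (vqc0 1 (vqc0 1 vqc1))))))))) (vqc0 (vqc0 0 (vqc0 2 (vqc0 2 (vqc0 1 (vqc0 2 (vqc0 1 (vqc0 0 (vqc0 2 (vqc0 2 vqc1))))))))) (vqc0 (vqc0 0 (vqc0 2 (vqc0 1 (vqc0 2 (vqc0 1 (vqc0 2 (vqc0 2 (vqc0 0 (vqc0 1 vqc1))))))))) (vqc0 (vqc0 2 (vqc0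 0 (vqc0 0 (vqc0 1 (vqc0 2 (vqc0 0 (vqc0 2 (vqc0 0 (vqc0 0 vqc1))))))))) (vqc0 (vqc0 0 (vqc0 1 (vqc0 2 (vqc0 0 (vqc0 2 (vqc0 1 (vqc0 1 (vqc0 2 (vqc0 2 vqc1))))))))) (vqc0 (vqc0 0 (vqc0 2 (vqc0 1 (vqc0 2 (vqc0 0 (vqc0 1 (vqc0 2 (vqc0 1 (vqc0 2 vqc1))))))))) (vqc0 (vqc0 0 (vqc0 2 (vqc0 1 (vqc0 1 (vqc0 1 (vqc0 1 (vqc0 2 (vqc0 1 (vqc0 1 vqc1))))))))) (vqc0 (vqc0 0 (vqc0 1 (vqc0 2 (vqc0 1 (vqc0 2 (vqc0 2 (vqc0 1 (vqc0 2 (vqc0 0 vqc1))))))))) vqc1))))))))))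
    [672, 11157, 10089, 8638, 19384] (by decide +kernel)

theorem a63 : Ok 2239487 340010386766614481929542 :=
  ok_of (beta% delta% lq26c8b9c1d715 fun vqc0 vqc1 _ _ _ _ _ =>
      (vqc0 (vqc0 2 (vqc0 1 (vqc0 2 (vqc0 1 (vqc0 0 (vqc0 1 (vqc0 0 (vqc0 1 (vqc0 1 vqc1))))))))) (vqc0 (vqc0 2 (vqc0 2 (vqc0 2 (vqc0 1 (vqc0 0 (vqc0 1 (vqc0 0 (vqc0 0 (vqc0 0 vqc1))))))))) (vqc0 (vqc0 1 (vqc0 1 (vqc0 0 (vqc0 1 (vqc0 0 (vqc0 2 (vqc0 0 (vqc0 2 (vqc0 1 vqc1))))))))) (vqc0 (vqc0 0 (vqc0 0 (vqc0 1 (vqc0 2 (vqc0 1 (vqc0 1 (vqc0 1 (vqc0 1 (vqc0 2 vqc1))))))))) (vqc0 (vqc0 0 (vqc0 0 (vqc0 0 (vqc0 0 (vqc0 0 (vqc0 1 (vqc0 0 (vqc0 2 (vqc0 0 vqc1))))))))) (vqc0 (vqc0 2 (vqc0 2 (vqc0 1 (vqc0 1 (vqc0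 1 (vqc0 2 (vqc0 0 (vqc0 2 (vqc0 2 vqc1))))))))) (vqc0 (vqc0 0 (vqc0 1 (vqc0 2 (vqc0 2 (vqc0 1 (vqc0 1 (vqc0 1 (vqc0 2 (vqc0 2 vqc1))))))))) (vqc0 (vqc0 1 (vqc0 1 (vqc0 0 (vqc0 2 (vqc0 1 (vqc0 2 (vqc0 1 (vqc0 0 (vqc0 0 vqc1))))))))) (vqc0 (vqc0 2 (vqc0 0 (vqc0 2 (vqc0 2 (vqc0 2 (vqc0 2 (vqc0 2 (vqc0 0 (vqc0 0 vqc1))))))))) vqc1))))))))))
    (beta% delta% lq26c8b9c1d715 fun vqc0 vqc1 _ _ _ _ _ =>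
        (vqc0 (vqc0 2 (vqc0 0 (vqc0 1 (vqc0 0 (vqc0 2 (vqc0 2 (vqc0 1 (vqc0 0 (vqc0 1 vqc1))))))))) (vqc0 (vqc0 1 (vqc0 2 (vqc0 2 (vqc0 1 (vqc0 2 (vqc0 2 (vqc0 2 (vqc0 1 (vqc0 2 vqc1))))))))) (vqc0 (vqc0 1 (vqc0 1 (vqc0 0 (vqc0 1 (vqc0 0 (vqc0 1 (vqc0 0 (vqc0 0 (vqc0 1 vqc1))))))))) (vqc0 (vqc0 2 (vqc0 2 (vqc0 0 (vqc0 1 (vqc0 2 (vqc0 0 (vqc0 0 (vqc0 2 (vqc0 1 vqc1))))))))) (vqc0 (vqc0 1 (vqc0 0 (vqc0 0 (vqc0 2 (vqc0 2 (vqc0 0 (vqc0 2 (vqc0 0 (vqc0 0 vqc1))))))))) (vqc0 (vqc0 2 (vqc0 0 (vqc0 0 (vqc0 0 (vqc0 0 (vqc0 0 (vqc0 2 (vqc0 2 (vqc0 1 vqc1))))))))) (vqc0 (vqc0 2 (vqc0 1 (vqc0 2 (vqc0 0 (vqc0 0 (vqc0 1 (vqc0 2 (vqc0 1 (vqc0 1 vqc1))))))))) (vqc0 (vqc0 0 (vqc0 1 (vqc0 2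 (vqc0 0 (vqc0 0 (vqc0 2 (vqc0 2 (vqc0 0 (vqc0 0 vqc1))))))))) (vqc0 (vqc0 0 (vqc0 0 (vqc0 0 (vqc0 2 (vqc0 1 (vqc0 0 (vqc0 2 (vqc0 0 (vqc0 2 vqc1))))))))) vqc1))))))))))
    [6022, 16571, 12021, 1189] (by decide +kernel)

theorem a64 : Ok 1254113279 340010386766614673032518 :=
  ok_of (beta% delta% lq26c8b9c1d715 fun vqc0 vqc1 _ _ _ _ _ =>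
      (vqc0 (vqc0 2 (vqc0 1 (vqc0 0 (vqc0 2 (vqc0 1 (vqc0 1 (vqc0 1 (vqc0 0 (vqc0 0 vqc1))))))))) (vqc0 (vqc0 2 (vqc0 2 (vqc0 2 (vqc0 2 (vqc0 2 (vqc0 2 (vqc0 2 (vqc0 2 (vqc0 2 vqc1))))))))) (vqc0 (vqc0 2 (vqc0 2 (vqc0 0 (vqc0 1 (vqc0 1 (vqc0 2 (vqc0 1 (vqc0 0 (vqc0 0 vqc1))))))))) (vqc0 (vqc0 2 (vqc0 0 (vqc0 0 (vqc0 0 (vqc0 2 (vqc0 1 (vqc0 2 (vqc0 1 (vqc0 1 vqc1))))))))) (vqc0 (vqc0 2 (vqc0 1 (vqc0 1 (vqc0 2 (vqc0 2 (vqc0 1 (vqc0 0 (vqc0 0 (vqc0 0 vqc1))))))))) (vqc0 (vqc0 2 (vqc0 1 (vqc0 2 (vqc0 1 (vqc0 0 (vqc0 2 (vqc0 0 (vqc0 2 (vqc0 2 vqc1))))))))) (vqc0 (vqc0 2 (vqc0 0 (vqc0 1 (vqc0 0 (vqc0 2 (vqc0 0 (vqc0 1 (vqc0 0 (vqc0 0 vqc1))))))))) (vqc0 (vqc0 2 (vqc0 1 (vqc0 2 (vqc0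 1 (vqc0 0 (vqc0 0 (vqc0 0 (vqc0 1 (vqc0 2 vqc1))))))))) (vqc0 (vqc0 2 (vqc0 0 (vqc0 1 (vqc0 0 (vqc0 2 (vqc0 0 (vqc0 2 (vqc0 0 (vqc0 2 vqc1))))))))) vqc1))))))))))
    (beta% delta% lq26c8b9c1d715 fun vqc0 vqc1 _ _ _ _ _ =>
        (vqc0 (vqc0 2 (vqc0 1 (vqc0 2 (vqc0 0 (vqc0 2 (vqc0 0 (vqc0 1 (vqc0 2 (vqc0 2 vqc1))))))))) (vqc0 (vqc0 2 (vqc0 2 (vqc0 2 (vqc0 0 (vqc0 0 (vqc0 0 (vqc0 0 (vqc0 2 (vqc0 1 vqc1))))))))) (vqc0 (vqc0 2 (vqc0 1 (vqc0 1 (vqc0 2 (vqc0 1 (vqc0 0 (vqc0 1 (vqc0 2 (vqc0 0 vqc1))))))))) (vqc0 (vqc0 1 (vqc0 0 (vqc0 1 (vqc0 1 (vqc0 1 (vqc0 1 (vqc0 2 (vqc0 1 (vqc0 1 vqc1))))))))) (vqc0 (vqc0 2 (vqc0 2 (vqc0 0 (vqc0 2 (vqc0 1 (vqc0 0 (vqc0 2 (vqc0 0 (vqc0 2 vqc1)))))))))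 (vqc0 (vqc0 2 (vqc0 2 (vqc0 2 (vqc0 1 (vqc0 2 (vqc0 2 (vqc0 0 (vqc0 2 (vqc0 2 vqc1))))))))) (vqc0 (vqc0 0 (vqc0 1 (vqc0 2 (vqc0 0 (vqc0 1 (vqc0 0 (vqc0 1 (vqc0 1 (vqc0 2 vqc1))))))))) (vqc0 (vqc0 2 (vqc0 1 (vqc0 1 (vqc0 1 (vqc0 0 (vqc0 1 (vqc0 2 (vqc0 0 (vqc0 0 vqc1))))))))) (vqc0 (vqc0 2 (vqc0 1 (vqc0 1 (vqc0 1 (vqc0 0 (vqc0 0 (vqc0 1 (vqc0 0 (vqc0 2 vqc1))))))))) vqc1))))))))))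
    [18848, 5838, 10994, 5335, 1508, 7079] (by decide +kernel)

theorem a65 : Ok 647 38339257414586206454354 :=
  ok_of (beta% delta% lq26c8b9c1d715 fun vqc0 vqc1 _ _ _ _ _ =>
      (vqc0 (vqc0 1 (vqc0 0 (vqc0 2 (vqc0 2 (vqc0 1 (vqc0 0 (vqc0 0 (vqc0 0 (vqc0 1 vqc1))))))))) (vqc0 (vqc0 1 (vqc0 2 (vqc0 0 (vqc0 2 (vqc0 0 (vqc0 1 (vqc0 2 (vqc0 2 (vqc0 0 vqc1))))))))) (vqc0 (vqc0 0 (vqc0 1 (vqc0 0 (vqc0 2 (vqc0 0 (vqc0 0 (vqc0 2 (vqc0 2 (vqc0 1 vqc1))))))))) (vqc0 (vqc0 0 (vqc0 0 (vqc0 2 (vqc0 0 (vqc0 0 (vqc0 1 (vqc0 2 (vqc0 2 (vqc0 1 vqc1))))))))) (vqc0 (vqc0 0 (vqc0 2 (vqc0 2 (vqc0 0 (vqc0 1 (vqc0 0 (vqc0 0 (vqc0 1 (vqc0 0 vqc1))))))))) (vqc0 (vqc0 0 (vqc0 2 (vqc0 2 (vqc0 2 (vqc0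 0 (vqc0 0 (vqc0 0 (vqc0 0 (vqc0 2 vqc1))))))))) (vqc0 (vqc0 0 (vqc0 1 (vqc0 0 (vqc0 1 (vqc0 1 (vqc0 1 (vqc0 0 (vqc0 2 (vqc0 2 vqc1))))))))) (vqc0 (vqc0 0 (vqc0 0 (vqc0 2 (vqc0 0 (vqc0 1 (vqc0 1 (vqc0 2 (vqc0 0 (vqc0 1 vqc1))))))))) (vqc0 (vqc0 2 (vqc0 1 (vqc0 2 (vqc0 1 (vqc0 1 (vqc0 1 (vqc0 2 (vqc0 2 (vqc0 1 vqc1))))))))) vqc1))))))))))
    (beta% delta% lq26c8b9c1d715 fun vqc0 vqc1 _ _ _ _ _ =>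
        (vqc0 (vqc0 1 (vqc0 1 (vqc0 1 (vqc0 2 (vqc0 1 (vqc0 2 (vqc0 1 (vqc0 2 (vqc0 1 vqc1))))))))) (vqc0 (vqc0 1 (vqc0 2 (vqc0 2 (vqc0 1 (vqc0 0 (vqc0 2 (vqc0 0 (vqc0 1 (vqc0 2 vqc1))))))))) (vqc0 (vqc0 2 (vqc0 2 (vqc0 0 (vqc0 0 (vqc0 0 (vqc0 2 (vqc0 2 (vqc0 0 (vqc0 2 vqc1))))))))) (vqc0 (vqc0 0 (vqc0 0 (vqc0 1 (vqc0 1 (vqc0 1 (vqc0 0 (vqc0 0 (vqc0 2 (vqc0 2 vqc1))))))))) (vqc0 (vqc0 1 (vqc0 2 (vqc0 1 (vqc0 0 (vqc0 2 (vqc0 2 (vqc0 0 (vqc0 1 (vqc0 0 vqc1))))))))) (vqc0 (vqc0 0 (vqc0 1 (vqc0 1 (vqc0 2 (vqc0 2 (vqc0 2 (vqc0 2 (vqc0 0 (vqc0 0 vqc1))))))))) (vqc0 (vqc0 2 (vqc0 0 (vqc0 0 (vqc0 1 (vqc0 0 (vqc0 2 (vqc0 0 (vqc0 1 (vqc0 0 vqc1))))))))) (vqc0 (vqc0 1 (vqc0 0 (vqc0 0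 (vqc0 2 (vqc0 2 (vqc0 2 (vqc0 0 (vqc0 2 (vqc0 1 vqc1))))))))) (vqc0 (vqc0 0 (vqc0 1 (vqc0 0 (vqc0 1 (vqc0 2 (vqc0 0 (vqc0 0 (vqc0 2 (vqc0 1 vqc1))))))))) vqc1))))))))))
    [9387, 3579, 16409] (by decide +kernel)

theorem a66 : Ok 647 37778943263737395937874 :=
  ok_of (beta% delta% lq26c8b9c1d715 fun vqc0 vqc1 _ _ _ _ _ =>
      (vqc0 (vqc0 1 (vqc0 2 (vqc0 0 (vqc0 0 (vqc0 0 (vqc0 1 (vqc0 1 (vqc0 1 (vqc0 0 vqc1))))))))) (vqc0 (vqc0 1 (vqc0 0 (vqc0 2 (vqc0 1 (vqc0 0 (vqc0 0 (vqc0 1 (vqc0 1 (vqc0 0 vqc1))))))))) (vqc0 (vqc0 0 (vqc0 1 (vqc0 2 (vqc0 1 (vqc0 1 (vqc0 2 (vqc0 1 (vqc0 0 (vqc0 1 vqc1))))))))) (vqc0 (vqc0 0 (vqc0 2 (vqc0 1 (vqc0 0 (vqc0 1 (vqc0 2 (vqc0 2 (vqc0 1 (vqc0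 1 vqc1))))))))) (vqc0 (vqc0 0 (vqc0 1 (vqc0 1 (vqc0 1 (vqc0 0 (vqc0 2 (vqc0 2 (vqc0 0 (vqc0 1 vqc1))))))))) (vqc0 (vqc0 2 (vqc0 0 (vqc0 1 (vqc0 0 (vqc0 0 (vqc0 1 (vqc0 0 (vqc0 2 (vqc0 0 vqc1))))))))) (vqc0 (vqc0 0 (vqc0 2 (vqc0 2 (vqc0 0 (vqc0 2 (vqc0 2 (vqc0 0 (vqc0 2 (vqc0 2 vqc1))))))))) (vqc0 (vqc0 2 (vqc0 1 (vqc0 2 (vqc0 1 (vqc0 0 (vqc0 0 (vqc0 0 (vqc0 1 (vqc0 2 vqc1))))))))) (vqc0 (vqc0 1 (vqc0 2 (vqc0 1 (vqc0 0 (vqc0 2 (vqc0 0 (vqc0 0 (vqc0 0 (vqc0 0 vqc1))))))))) vqc1))))))))))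
    (beta% delta% lq26c8b9c1d715 fun vqc0 vqc1 _ _ _ _ _ =>
        (vqc0 (vqc0 1 (vqc0 0 (vqc0 1 (vqc0 1 (vqc0 2 (vqc0 2 (vqc0 1 (vqc0 2 (vqc0 1 vqc1))))))))) (vqc0 (vqc0 0 (vqc0 0 (vqc0 1 (vqc0 0 (vqc0 1 (vqc0 2 (vqc0 1 (vqc0 1 (vqc0 0 vqc1))))))))) (vqc0 (vqc0 2 (vqc0 2 (vqc0 0 (vqc0 0 (vqc0 2 (vqc0 0 (vqc0 0 (vqc0 2 (vqc0 1 vqc1))))))))) (vqc0 (vqc0 2 (vqc0 1 (vqc0 2 (vqc0 2 (vqc0 1 (vqc0 2 (vqc0 2 (vqc0 1 (vqc0 2 vqc1))))))))) (vqc0 (vqc0 2 (vqc0 2 (vqc0 0 (vqc0 0 (vqc0 1 (vqc0 1 (vqc0 2 (vqc0 1 (vqc0 1 vqc1))))))))) (vqc0 (vqc0 2 (vqc0 2 (vqc0 0 (vqc0 1 (vqc0 1 (vqc0 0 (vqc0 0 (vqc0 0 (vqc0 1 vqc1))))))))) (vqc0 (vqc0 1 (vqc0 1 (vqc0 0 (vqc0 0 (vqc0 2 (vqc0 0 (vqc0 0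 (vqc0 2 (vqc0 2 vqc1))))))))) (vqc0 (vqc0 1 (vqc0 1 (vqc0 1 (vqc0 0 (vqc0 2 (vqc0 1 (vqc0 0 (vqc0 1 (vqc0 0 vqc1))))))))) (vqc0 (vqc0 0 (vqc0 1 (vqc0 1 (vqc0 0 (vqc0 0 (vqc0 2 (vqc0 1 (vqc0 0 (vqc0 1 vqc1))))))))) vqc1))))))))))
    [11166, 18125, 3424] (by decide +kernel)

theorem a67 : Ok 5831 37778948963779620701078 :=
  ok_of (beta% delta% lq26c8b9c1d715 fun vqc0 vqc1 _ _ _ _ _ =>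
      (vqc0 (vqc0 2 (vqc0 2 (vqc0 1 (vqc0 2 (vqc0 1 (vqc0 0 (vqc0 0 (vqc0 0 (vqc0 0 vqc1))))))))) (vqc0 (vqc0 0 (vqc0 1 (vqc0 0 (vqc0 2 (vqc0 1 (vqc0 0 (vqc0 2 (vqc0 2 (vqc0 1 vqc1))))))))) (vqc0 (vqc0 2 (vqc0 2 (vqc0 0 (vqc0 0 (vqc0 0 (vqc0 1 (vqc0 1 (vqc0 2 (vqc0 0 vqc1))))))))) (vqc0 (vqc0 2 (vqc0 1 (vqc0 0 (vqc0 0 (vqc0 1 (vqc0 0 (vqc0 1 (vqc0 1 (vqc0 0 vqc1))))))))) (vqc0 (vqc0 2 (vqc0 2 (vqc0 2 (vqc0 0 (vqc0 2 (vqc0 0 (vqc0 2 (vqc0 1 (vqc0 0 vqc1))))))))) (vqc0 (vqc0 1 (vqc0 2 (vqc0 0 (vqc0 1 (vqc0 1 (vqc0 2 (vqc0 0 (vqc0 2 (vqc0 2 vqc1))))))))) (vqc0 (vqc0 0 (vqc0 1 (vqc0 2 (vqc0 0 (vqc0 2 (vqc0 0 (vqc0 1 (vqc0 0 (vqc0 0 vqc1))))))))) (vqc0 (vqc0 2 (vqc0 2 (vqc0 2 (vqc0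 2 (vqc0 2 (vqc0 1 (vqc0 0 (vqc0 2 (vqc0 1 vqc1))))))))) (vqc0 (vqc0 0 (vqc0 2 (vqc0 2 (vqc0 1 (vqc0 2 (vqc0 0 (vqc0 1 (vqc0 1 (vqc0 1 vqc1))))))))) vqc1))))))))))
    (beta% delta% lq26c8b9c1d715 fun vqc0 vqc1 _ _ _ _ _ =>
        (vqc0 (vqc0 0 (vqc0 0 (vqc0 2 (vqc0 2 (vqc0 1 (vqc0 1 (vqc0 2 (vqc0 2 (vqc0 0 vqc1))))))))) (vqc0 (vqc0 1 (vqc0 2 (vqc0 2 (vqc0 2 (vqc0 1 (vqc0 0 (vqc0 0 (vqc0 2 (vqc0 0 vqc1))))))))) (vqc0 (vqc0 0 (vqc0 1 (vqc0 1 (vqc0 1 (vqc0 2 (vqc0 1 (vqc0 0 (vqc0 1 (vqc0 0 vqc1))))))))) (vqc0 (vqc0 1 (vqc0 2 (vqc0 0 (vqc0 2 (vqc0 2 (vqc0 2 (vqc0 1 (vqc0 1 (vqc0 1 vqc1))))))))) (vqc0 (vqc0 2 (vqc0 2 (vqc0 2 (vqc0 2 (vqc0 1 (vqc0 1 (vqc0 0 (vqc0 1 (vqc0 0 vqc1)))))))))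 (vqc0 (vqc0 1 (vqc0 0 (vqc0 1 (vqc0 2 (vqc0 0 (vqc0 0 (vqc0 2 (vqc0 1 (vqc0 2 vqc1))))))))) (vqc0 (vqc0 1 (vqc0 2 (vqc0 0 (vqc0 0 (vqc0 1 (vqc0 2 (vqc0 0 (vqc0 0 (vqc0 2 vqc1))))))))) (vqc0 (vqc0 2 (vqc0 1 (vqc0 2 (vqc0 2 (vqc0 2 (vqc0 2 (vqc0 0 (vqc0 0 (vqc0 1 vqc1))))))))) (vqc0 (vqc0 2 (vqc0 1 (vqc0 0 (vqc0 2 (vqc0 2 (vqc0 0 (vqc0 0 (vqc0 0 (vqc0 0 vqc1))))))))) vqc1))))))))))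
    [13934, 12514] (by decide +kernel)

theorem a68 : Ok 5831 37778931863131108475798 :=
  ok_of (beta% delta% lq26c8b9c1d715 fun vqc0 vqc1 _ _ _ _ _ =>
      (vqc0 (vqc0 1 (vqc0 0 (vqc0 2 (vqc0 2 (vqc0 0 (vqc0 0 (vqc0 1 (vqc0 0 (vqc0 2 vqc1))))))))) (vqc0 (vqc0 2 (vqc0 2 (vqc0 0 (vqc0 1 (vqc0 2 (vqc0 2 (vqc0 1 (vqc0 2 (vqc0 2 vqc1))))))))) (vqc0 (vqc0 1 (vqc0 1 (vqc0 0 (vqc0 1 (vqc0 1 (vqc0 2 (vqc0 1 (vqc0 0 (vqc0 0 vqc1))))))))) (vqc0 (vqc0 0 (vqc0 0 (vqc0 1 (vqc0 2 (vqc0 2 (vqc0 2 (vqc0 0 (vqc0 0 (vqc0 0 vqc1))))))))) (vqc0 (vqc0 0 (vqc0 1 (vqc0 2 (vqc0 0 (vqc0 2 (vqc0 2 (vqc0 1 (vqc0 0 (vqc0 2 vqc1))))))))) (vqc0 (vqc0 2 (vqc0 2 (vqc0 2 (vqc0 0 (vqc0 1 (vqc0 0 (vqc0 0 (vqc0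 1 (vqc0 1 vqc1))))))))) (vqc0 (vqc0 1 (vqc0 1 (vqc0 0 (vqc0 0 (vqc0 0 (vqc0 0 (vqc0 0 (vqc0 1 (vqc0 2 vqc1))))))))) (vqc0 (vqc0 2 (vqc0 1 (vqc0 1 (vqc0 0 (vqc0 2 (vqc0 0 (vqc0 2 (vqc0 1 (vqc0 1 vqc1))))))))) (vqc0 (vqc0 2 (vqc0 0 (vqc0 1 (vqc0 1 (vqc0 1 (vqc0 2 (vqc0 1 (vqc0 2 (vqc0 0 vqc1))))))))) vqc1))))))))))
    (beta% delta% lq26c8b9c1d715 fun vqc0 vqc1 _ _ _ _ _ =>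
        (vqc0 (vqc0 0 (vqc0 2 (vqc0 0 (vqc0 2 (vqc0 1 (vqc0 0 (vqc0 2 (vqc0 0 (vqc0 0 vqc1))))))))) (vqc0 (vqc0 1 (vqc0 1 (vqc0 2 (vqc0 1 (vqc0 0 (vqc0 0 (vqc0 2 (vqc0 2 (vqc0 2 vqc1))))))))) (vqc0 (vqc0 1 (vqc0 0 (vqc0 0 (vqc0 0 (vqc0 1 (vqc0 1 (vqc0 0 (vqc0 0 (vqc0 1 vqc1))))))))) (vqc0 (vqc0 1 (vqc0 0 (vqc0 0 (vqc0 0 (vqc0 1 (vqc0 2 (vqc0 2 (vqc0 1 (vqc0 1 vqc1))))))))) (vqc0 (vqc0 2 (vqc0 1 (vqc0 2 (vqc0 2 (vqc0 0 (vqc0 0 (vqc0 2 (vqc0 2 (vqc0 2 vqc1))))))))) (vqc0 (vqc0 0 (vqc0 2 (vqc0 2 (vqc0 0 (vqc0 1 (vqc0 0 (vqc0 0 (vqc0 1 (vqc0 0 vqc1))))))))) (vqc0 (vqc0 0 (vqc0 0 (vqc0 0 (vqc0 2 (vqc0 0 (vqc0 1 (vqc0 1 (vqc0 1 (vqc0 2 vqc1))))))))) (vqc0 (vqc0 2 (vqc0 2 (vqc0 1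 (vqc0 2 (vqc0 0 (vqc0 2 (vqc0 2 (vqc0 2 (vqc0 2 vqc1))))))))) (vqc0 (vqc0 2 (vqc0 2 (vqc0 1 (vqc0 0 (vqc0 2 (vqc0 2 (vqc0 0 (vqc0 2 (vqc0 0 vqc1))))))))) vqc1))))))))))
    [19358, 4685] (by decide +kernel)

theorem a69 : Ok 46655 37778948964127515411026 :=
  ok_of (beta% delta% lq26c8b9c1d715 fun vqc0 vqc1 _ _ _ _ _ =>
      (vqc0 (vqc0 0 (vqc0 1 (vqc0 1 (vqc0 1 (vqc0 0 (vqc0 2 (vqc0 2 (vqc0 1 (vqc0 0 vqc1))))))))) (vqc0 (vqc0 2 (vqc0 2 (vqc0 1 (vqc0 1 (vqc0 1 (vqc0 2 (vqc0 2 (vqc0 1 (vqc0 0 vqc1))))))))) (vqc0 (vqc0 1 (vqc0 0 (vqc0 0 (vqc0 0 (vqc0 0 (vqc0 2 (vqc0 0 (vqc0 1 (vqc0 0 vqc1))))))))) (vqc0 (vqc0 1 (vqc0 1 (vqc0 2 (vqc0 0 (vqc0 2 (vqc0 0 (vqc0 2 (vqc0 0 (vqc0 1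 vqc1))))))))) (vqc0 (vqc0 2 (vqc0 2 (vqc0 1 (vqc0 0 (vqc0 1 (vqc0 0 (vqc0 2 (vqc0 1 (vqc0 0 vqc1))))))))) (vqc0 (vqc0 0 (vqc0 2 (vqc0 0 (vqc0 0 (vqc0 1 (vqc0 2 (vqc0 2 (vqc0 1 (vqc0 1 vqc1))))))))) (vqc0 (vqc0 0 (vqc0 1 (vqc0 0 (vqc0 0 (vqc0 0 (vqc0 1 (vqc0 2 (vqc0 2 (vqc0 2 vqc1))))))))) (vqc0 (vqc0 0 (vqc0 0 (vqc0 1 (vqc0 0 (vqc0 1 (vqc0 0 (vqc0 1 (vqc0 1 (vqc0 1 vqc1))))))))) (vqc0 (vqc0 2 (vqc0 0 (vqc0 1 (vqc0 2 (vqc0 1 (vqc0 1 (vqc0 1 (vqc0 2 (vqc0 0 vqc1))))))))) vqc1))))))))))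
    (beta% delta% lq26c8b9c1d715 fun vqc0 vqc1 _ _ _ _ _ =>
        (vqc0 (vqc0 1 (vqc0 2 (vqc0 2 (vqc0 2 (vqc0 0 (vqc0 0 (vqc0 0 (vqc0 0 (vqc0 0 vqc1))))))))) (vqc0 (vqc0 1 (vqc0 1 (vqc0 1 (vqc0 1 (vqc0 1 (vqc0 2 (vqc0 2 (vqc0 0 (vqc0 2 vqc1))))))))) (vqc0 (vqc0 0 (vqc0 1 (vqc0 1 (vqc0 0 (vqc0 0 (vqc0 1 (vqc0 2 (vqc0 0 (vqc0 0 vqc1))))))))) (vqc0 (vqc0 1 (vqc0 1 (vqc0 0 (vqc0 0 (vqc0 2 (vqc0 0 (vqc0 0 (vqc0 2 (vqc0 1 vqc1))))))))) (vqc0 (vqc0 0 (vqc0 0 (vqc0 2 (vqc0 1 (vqc0 2 (vqc0 1 (vqc0 1 (vqc0 0 (vqc0 2 vqc1))))))))) (vqc0 (vqc0 0 (vqc0 0 (vqc0 2 (vqc0 1 (vqc0 2 (vqc0 2 (vqc0 1 (vqc0 0 (vqc0 0 vqc1))))))))) (vqc0 (vqc0 2 (vqc0 1 (vqc0 0 (vqc0 2 (vqc0 0 (vqc0 2 (vqc0 1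 (vqc0 1 (vqc0 0 vqc1))))))))) (vqc0 (vqc0 0 (vqc0 1 (vqc0 1 (vqc0 0 (vqc0 0 (vqc0 1 (vqc0 0 (vqc0 0 (vqc0 0 vqc1))))))))) (vqc0 (vqc0 2 (vqc0 2 (vqc0 0 (vqc0 0 (vqc0 1 (vqc0 2 (vqc0 1 (vqc0 0 (vqc0 2 vqc1))))))))) vqc1))))))))))
    [14223, 3543, 1592, 3653] (by decide +kernel)

theorem a70 : Ok 46655 37778931862957164069458 :=
  ok_of (beta% delta% lq26c8b9c1d715 fun vqc0 vqc1 _ _ _ _ _ =>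
      (vqc0 (vqc0 2 (vqc0 1 (vqc0 0 (vqc0 0 (vqc0 2 (vqc0 2 (vqc0 0 (vqc0 2 (vqc0 0 vqc1))))))))) (vqc0 (vqc0 1 (vqc0 0 (vqc0 0 (vqc0 2 (vqc0 2 (vqc0 2 (vqc0 2 (vqc0 0 (vqc0 2 vqc1))))))))) (vqc0 (vqc0 1 (vqc0 2 (vqc0 1 (vqc0 1 (vqc0 1 (vqc0 0 (vqc0 1 (vqc0 0 (vqc0 0 vqc1))))))))) (vqc0 (vqc0 1 (vqc0 2 (vqc0 1 (vqc0 0 (vqc0 2 (vqc0 2 (vqc0 1 (vqc0 0 (vqc0 0 vqc1))))))))) (vqc0 (vqc0 1 (vqc0 1 (vqc0 1 (vqc0 1 (vqc0 2 (vqc0 0 (vqc0 1 (vqc0 1 (vqc0 0 vqc1))))))))) (vqc0 (vqc0 0 (vqc0 0 (vqc0 2 (vqc0 2 (vqc0 2 (vqc0 1 (vqc0 0 (vqc0 1 (vqc0 0 vqc1))))))))) (vqc0 (vqc0 2 (vqc0 0 (vqc0 1 (vqc0 2 (vqc0 0 (vqc0 1 (vqc0 1 (vqc0 1 (vqc0 0 vqc1))))))))) (vqc0 (vqc0 2 (vqc0 2 (vqc0 1 (vqc0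 1 (vqc0 1 (vqc0 2 (vqc0 0 (vqc0 2 (vqc0 2 vqc1))))))))) (vqc0 (vqc0 2 (vqc0 2 (vqc0 2 (vqc0 1 (vqc0 1 (vqc0 0 (vqc0 2 (vqc0 0 (vqc0 2 vqc1))))))))) vqc1))))))))))
    (beta% delta% lq26c8b9c1d715 fun vqc0 vqc1 _ _ _ _ _ =>
        (vqc0 (vqc0 1 (vqc0 1 (vqc0 0 (vqc0 1 (vqc0 1 (vqc0 1 (vqc0 1 (vqc0 2 (vqc0 2 vqc1))))))))) (vqc0 (vqc0 2 (vqc0 1 (vqc0 0 (vqc0 2 (vqc0 1 (vqc0 1 (vqc0 1 (vqc0 1 (vqc0 1 vqc1))))))))) (vqc0 (vqc0 0 (vqc0 0 (vqc0 0 (vqc0 1 (vqc0 1 (vqc0 0 (vqc0 0 (vqc0 2 (vqc0 0 vqc1))))))))) (vqc0 (vqc0 1 (vqc0 2 (vqc0 2 (vqc0 2 (vqc0 1 (vqc0 1 (vqc0 2 (vqc0 0 (vqc0 2 vqc1))))))))) (vqc0 (vqc0 0 (vqc0 1 (vqc0 1 (vqc0 2 (vqc0 0 (vqc0 1 (vqc0 2 (vqc0 2 (vqc0 0 vqc1)))))))))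 (vqc0 (vqc0 0 (vqc0 2 (vqc0 1 (vqc0 1 (vqc0 1 (vqc0 2 (vqc0 0 (vqc0 0 (vqc0 0 vqc1))))))))) (vqc0 (vqc0 1 (vqc0 2 (vqc0 1 (vqc0 1 (vqc0 1 (vqc0 0 (vqc0 1 (vqc0 1 (vqc0 2 vqc1))))))))) (vqc0 (vqc0 1 (vqc0 2 (vqc0 2 (vqc0 0 (vqc0 1 (vqc0 0 (vqc0 2 (vqc0 1 (vqc0 2 vqc1))))))))) (vqc0 (vqc0 0 (vqc0 1 (vqc0 0 (vqc0 0 (vqc0 0 (vqc0 0 (vqc0 0 (vqc0 0 (vqc0 1 vqc1))))))))) vqc1))))))))))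
    [137, 674, 2499, 3989] (by decide +kernel)

theorem a71 : Ok 11663 37778931863652947003234 :=
  ok_of (beta% delta% lq26c8b9c1d715 fun vqc0 vqc1 _ _ _ _ _ =>
      (vqc0 (vqc0 1 (vqc0 2 (vqc0 1 (vqc0 0 (vqc0 2 (vqc0 2 (vqc0 2 (vqc0 0 (vqc0 0 vqc1))))))))) (vqc0 (vqc0 2 (vqc0 1 (vqc0 1 (vqc0 2 (vqc0 2 (vqc0 0 (vqc0 0 (vqc0 1 (vqc0 1 vqc1))))))))) (vqc0 (vqc0 1 (vqc0 0 (vqc0 0 (vqc0 2 (vqc0 2 (vqc0 1 (vqc0 1 (vqc0 1 (vqc0 0 vqc1))))))))) (vqc0 (vqc0 2 (vqc0 2 (vqc0 0 (vqc0 0 (vqc0 0 (vqc0 1 (vqc0 1 (vqc0 2 (vqc0 0 vqc1))))))))) (vqc0 (vqc0 1 (vqc0 0 (vqc0 2 (vqc0 1 (vqc0 2 (vqc0 0 (vqc0 2 (vqc0 1 (vqc0 1 vqc1))))))))) (vqc0 (vqc0 2 (vqc0 2 (vqc0 1 (vqc0 0 (vqc0 1 (vqc0 2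 (vqc0 0 (vqc0 0 (vqc0 0 vqc1))))))))) (vqc0 (vqc0 1 (vqc0 2 (vqc0 1 (vqc0 0 (vqc0 1 (vqc0 1 (vqc0 0 (vqc0 2 (vqc0 0 vqc1))))))))) (vqc0 (vqc0 1 (vqc0 1 (vqc0 1 (vqc0 1 (vqc0 1 (vqc0 2 (vqc0 0 (vqc0 1 (vqc0 2 vqc1))))))))) (vqc0 (vqc0 1 (vqc0 1 (vqc0 2 (vqc0 0 (vqc0 1 (vqc0 0 (vqc0 1 (vqc0 2 (vqc0 1 vqc1))))))))) vqc1))))))))))
    (beta% delta% lq26c8b9c1d715 fun vqc0 vqc1 _ _ _ _ _ =>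
        (vqc0 (vqc0 2 (vqc0 1 (vqc0 2 (vqc0 1 (vqc0 2 (vqc0 0 (vqc0 0 (vqc0 2 (vqc0 1 vqc1))))))))) (vqc0 (vqc0 0 (vqc0 2 (vqc0 0 (vqc0 2 (vqc0 1 (vqc0 2 (vqc0 2 (vqc0 2 (vqc0 0 vqc1))))))))) (vqc0 (vqc0 2 (vqc0 2 (vqc0 1 (vqc0 0 (vqc0 1 (vqc0 0 (vqc0 2 (vqc0 0 (vqc0 1 vqc1))))))))) (vqc0 (vqc0 0 (vqc0 1 (vqc0 2 (vqc0 0 (vqc0 0 (vqc0 0 (vqc0 2 (vqc0 2 (vqc0 1 vqc1))))))))) (vqc0 (vqc0 2 (vqc0 0 (vqc0 2 (vqc0 2 (vqc0 1 (vqc0 0 (vqc0 0 (vqc0 1 (vqc0 1 vqc1))))))))) (vqc0 (vqc0 1 (vqc0 1 (vqc0 2 (vqc0 0 (vqc0 1 (vqc0 0 (vqc0 0 (vqc0 2 (vqc0 1 vqc1))))))))) (vqc0 (vqc0 2 (vqc0 1 (vqc0 0 (vqc0 2 (vqc0 1 (vqc0 2 (vqc0 2 (vqc0 0 (vqc0 2 vqc1))))))))) (vqc0 (vqc0 1 (vqc0 2 (vqc0 1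 (vqc0 2 (vqc0 0 (vqc0 0 (vqc0 0 (vqc0 1 (vqc0 2 vqc1))))))))) (vqc0 (vqc0 1 (vqc0 0 (vqc0 0 (vqc0 0 (vqc0 0 (vqc0 0 (vqc0 2 (vqc0 0 (vqc0 1 vqc1))))))))) vqc1))))))))))
    [12113, 13011, 19601] (by decide +kernel)

theorem a72 : Ok 839807 37778931864000840532562 :=
  ok_of (beta% delta% lq26c8b9c1d715 fun vqc0 vqc1 _ _ _ _ _ =>
      (vqc0 (vqc0 1 (vqc0 1 (vqc0 2 (vqc0 1 (vqc0 1 (vqc0 1 (vqc0 0 (vqc0 0 (vqc0 1 vqc1))))))))) (vqc0 (vqc0 1 (vqc0 1 (vqc0 2 (vqc0 2 (vqc0 2 (vqc0 1 (vqc0 1 (vqc0 0 (vqc0 2 vqc1))))))))) (vqc0 (vqc0 1 (vqc0 1 (vqc0 0 (vqc0 2 (vqc0 2 (vqc0 1 (vqc0 0 (vqc0 2 (vqc0 0 vqc1))))))))) (vqc0 (vqc0 2 (vqc0 1 (vqc0 2 (vqc0 1 (vqc0 0 (vqc0 0 (vqc0 0 (vqc0 2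 (vqc0 2 vqc1))))))))) (vqc0 (vqc0 0 (vqc0 0 (vqc0 0 (vqc0 2 (vqc0 2 (vqc0 2 (vqc0 0 (vqc0 0 (vqc0 1 vqc1))))))))) (vqc0 (vqc0 2 (vqc0 0 (vqc0 0 (vqc0 1 (vqc0 2 (vqc0 0 (vqc0 1 (vqc0 0 (vqc0 0 vqc1))))))))) (vqc0 (vqc0 0 (vqc0 2 (vqc0 0 (vqc0 0 (vqc0 1 (vqc0 1 (vqc0 2 (vqc0 0 (vqc0 2 vqc1))))))))) (vqc0 (vqc0 1 (vqc0 2 (vqc0 0 (vqc0 0 (vqc0 1 (vqc0 2 (vqc0 2 (vqc0 1 (vqc0 0 vqc1))))))))) (vqc0 (vqc0 0 (vqc0 0 (vqc0 2 (vqc0 0 (vqc0 1 (vqc0 0 (vqc0 2 (vqc0 1 (vqc0 0 vqc1))))))))) vqc1))))))))))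
    (beta% delta% lq26c8b9c1d715 fun vqc0 vqc1 _ _ _ _ _ =>
        (vqc0 (vqc0 1 (vqc0 0 (vqc0 1 (vqc0 1 (vqc0 0 (vqc0 2 (vqc0 0 (vqc0 0 (vqc0 1 vqc1))))))))) (vqc0 (vqc0 1 (vqc0 2 (vqc0 2 (vqc0 2 (vqc0 0 (vqc0 0 (vqc0 2 (vqc0 2 (vqc0 1 vqc1))))))))) (vqc0 (vqc0 0 (vqc0 2 (vqc0 2 (vqc0 0 (vqc0 0 (vqc0 1 (vqc0 1 (vqc0 1 (vqc0 2 vqc1))))))))) (vqc0 (vqc0 0 (vqc0 1 (vqc0 2 (vqc0 2 (vqc0 0 (vqc0 2 (vqc0 1 (vqc0 0 (vqc0 1 vqc1))))))))) (vqc0 (vqc0 1 (vqc0 2 (vqc0 1 (vqc0 0 (vqc0 1 (vqc0 2 (vqc0 1 (vqc0 0 (vqc0 1 vqc1))))))))) (vqc0 (vqc0 2 (vqc0 1 (vqc0 1 (vqc0 2 (vqc0 2 (vqc0 2 (vqc0 1 (vqc0 2 (vqc0 1 vqc1))))))))) (vqc0 (vqc0 0 (vqc0 0 (vqc0 0 (vqc0 1 (vqc0 2 (vqc0 1 (vqc0 1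 (vqc0 2 (vqc0 1 vqc1))))))))) (vqc0 (vqc0 1 (vqc0 1 (vqc0 2 (vqc0 2 (vqc0 1 (vqc0 1 (vqc0 2 (vqc0 2 (vqc0 2 vqc1))))))))) (vqc0 (vqc0 0 (vqc0 1 (vqc0 1 (vqc0 1 (vqc0 2 (vqc0 2 (vqc0 2 (vqc0 2 (vqc0 2 vqc1))))))))) vqc1))))))))))
    [14137, 7786, 8976, 6611] (by decide +kernel)

theorem a73 : Ok 209951 37778931863479003777514 :=
  ok_of (beta% delta% lq26c8b9c1d715 fun vqc0 vqc1 _ _ _ _ _ =>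
      (vqc0 (vqc0 2 (vqc0 2 (vqc0 0 (vqc0 2 (vqc0 0 (vqc0 2 (vqc0 2 (vqc0 0 (vqc0 2 vqc1))))))))) (vqc0 (vqc0 2 (vqc0 2 (vqc0 0 (vqc0 1 (vqc0 0 (vqc0 0 (vqc0 2 (vqc0 1 (vqc0 0 vqc1))))))))) (vqc0 (vqc0 0 (vqc0 2 (vqc0 1 (vqc0 2 (vqc0 0 (vqc0 1 (vqc0 2 (vqc0 1 (vqc0 2 vqc1))))))))) (vqc0 (vqc0 0 (vqc0 2 (vqc0 2 (vqc0 2 (vqc0 1 (vqc0 1 (vqc0 1 (vqc0 1 (vqc0 0 vqc1))))))))) (vqc0 (vqc0 1 (vqc0 2 (vqc0 1 (vqc0 2 (vqc0 2 (vqc0 2 (vqc0 1 (vqc0 2 (vqc0 1 vqc1))))))))) (vqc0 (vqc0 0 (vqc0 1 (vqc0 1 (vqc0 1 (vqc0 2 (vqc0 0 (vqc0 0 (vqc0 0 (vqc0 2 vqc1))))))))) (vqc0 (vqc0 0 (vqc0 0 (vqc0 2 (vqc0 2 (vqc0 0 (vqc0 0 (vqc0 1 (vqc0 0 (vqc0 1 vqc1))))))))) (vqc0 (vqc0 1 (vqc0 0 (vqc0 0 (vqc0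 2 (vqc0 2 (vqc0 2 (vqc0 0 (vqc0 2 (vqc0 1 vqc1))))))))) (vqc0 (vqc0 1 (vqc0 1 (vqc0 0 (vqc0 0 (vqc0 1 (vqc0 2 (vqc0 0 (vqc0 1 (vqc0 2 vqc1))))))))) vqc1))))))))))
    (beta% delta% lq26c8b9c1d715 fun vqc0 vqc1 _ _ _ _ _ =>
        (vqc0 (vqc0 1 (vqc0 2 (vqc0 1 (vqc0 0 (vqc0 1 (vqc0 2 (vqc0 0 (vqc0 1 (vqc0 1 vqc1))))))))) (vqc0 (vqc0 2 (vqc0 0 (vqc0 2 (vqc0 0 (vqc0 1 (vqc0 1 (vqc0 2 (vqc0 0 (vqc0 1 vqc1))))))))) (vqc0 (vqc0 2 (vqc0 1 (vqc0 1 (vqc0 0 (vqc0 2 (vqc0 1 (vqc0 1 (vqc0 0 (vqc0 1 vqc1))))))))) (vqc0 (vqc0 0 (vqc0 2 (vqc0 2 (vqc0 1 (vqc0 1 (vqc0 1 (vqc0 0 (vqc0 2 (vqc0 0 vqc1))))))))) (vqc0 (vqc0 2 (vqc0 2 (vqc0 2 (vqc0 2 (vqc0 2 (vqc0 2 (vqc0 2 (vqc0 2 (vqc0 2 vqc1)))))))))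 (vqc0 (vqc0 1 (vqc0 0 (vqc0 1 (vqc0 2 (vqc0 0 (vqc0 0 (vqc0 1 (vqc0 2 (vqc0 1 vqc1))))))))) (vqc0 (vqc0 0 (vqc0 1 (vqc0 2 (vqc0 1 (vqc0 1 (vqc0 0 (vqc0 2 (vqc0 2 (vqc0 0 vqc1))))))))) (vqc0 (vqc0 2 (vqc0 2 (vqc0 2 (vqc0 0 (vqc0 0 (vqc0 1 (vqc0 1 (vqc0 0 (vqc0 1 vqc1))))))))) (vqc0 (vqc0 2 (vqc0 2 (vqc0 1 (vqc0 1 (vqc0 0 (vqc0 0 (vqc0 1 (vqc0 1 (vqc0 1 vqc1))))))))) vqc1))))))))))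
    [16390, 13874, 4318, 10905] (by decide +kernel)

theorem a74 : Ok 3779135 37778931862957163480606 :=
  ok_of (beta% delta% lq26c8b9c1d715 fun vqc0 vqc1 _ _ _ _ _ =>
      (vqc0 (vqc0 1 (vqc0 2 (vqc0 0 (vqc0 2 (vqc0 0 (vqc0 0 (vqc0 1 (vqc0 1 (vqc0 0 vqc1))))))))) (vqc0 (vqc0 0 (vqc0 2 (vqc0 1 (vqc0 2 (vqc0 1 (vqc0 2 (vqc0 0 (vqc0 0 (vqc0 2 vqc1))))))))) (vqc0 (vqc0 1 (vqc0 0 (vqc0 0 (vqc0 0 (vqc0 2 (vqc0 2 (vqc0 0 (vqc0 1 (vqc0 2 vqc1))))))))) (vqc0 (vqc0 0 (vqc0 2 (vqc0 2 (vqc0 2 (vqc0 0 (vqc0 2 (vqc0 0 (vqc0 0 (vqc0 2 vqc1))))))))) (vqc0 (vqc0 2 (vqc0 2 (vqc0 2 (vqc0 2 (vqc0 1 (vqc0 2 (vqc0 0 (vqc0 2 (vqc0 2 vqc1))))))))) (vqc0 (vqc0 1 (vqc0 0 (vqc0 0 (vqc0 0 (vqc0 1 (vqc0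 0 (vqc0 2 (vqc0 2 (vqc0 1 vqc1))))))))) (vqc0 (vqc0 2 (vqc0 2 (vqc0 0 (vqc0 1 (vqc0 0 (vqc0 1 (vqc0 2 (vqc0 1 (vqc0 0 vqc1))))))))) (vqc0 (vqc0 2 (vqc0 0 (vqc0 2 (vqc0 2 (vqc0 1 (vqc0 2 (vqc0 2 (vqc0 2 (vqc0 2 vqc1))))))))) (vqc0 (vqc0 0 (vqc0 1 (vqc0 0 (vqc0 0 (vqc0 2 (vqc0 0 (vqc0 2 (vqc0 0 (vqc0 1 vqc1))))))))) vqc1))))))))))
    (beta% delta% lq26c8b9c1d715 fun vqc0 vqc1 _ _ _ _ _ =>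
        (vqc0 (vqc0 2 (vqc0 2 (vqc0 2 (vqc0 1 (vqc0 0 (vqc0 2 (vqc0 2 (vqc0 2 (vqc0 2 vqc1))))))))) (vqc0 (vqc0 1 (vqc0 0 (vqc0 0 (vqc0 0 (vqc0 1 (vqc0 1 (vqc0 0 (vqc0 2 (vqc0 1 vqc1))))))))) (vqc0 (vqc0 1 (vqc0 2 (vqc0 1 (vqc0 0 (vqc0 1 (vqc0 2 (vqc0 2 (vqc0 1 (vqc0 0 vqc1))))))))) (vqc0 (vqc0 2 (vqc0 2 (vqc0 2 (vqc0 1 (vqc0 1 (vqc0 2 (vqc0 1 (vqc0 2 (vqc0 2 vqc1))))))))) (vqc0 (vqc0 0 (vqc0 0 (vqc0 1 (vqc0 2 (vqc0 0 (vqc0 1 (vqc0 1 (vqc0 1 (vqc0 0 vqc1))))))))) (vqc0 (vqc0 2 (vqc0 0 (vqc0 0 (vqc0 2 (vqc0 1 (vqc0 0 (vqc0 1 (vqc0 0 (vqc0 0 vqc1))))))))) (vqc0 (vqc0 0 (vqc0 0 (vqc0 1 (vqc0 1 (vqc0 1 (vqc0 2 (vqc0 0 (vqc0 2 (vqc0 0 vqc1))))))))) (vqc0 (vqc0 2 (vqc0 2 (vqc0 2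 (vqc0 0 (vqc0 0 (vqc0 2 (vqc0 0 (vqc0 2 (vqc0 2 vqc1))))))))) (vqc0 (vqc0 1 (vqc0 2 (vqc0 2 (vqc0 1 (vqc0 2 (vqc0 2 (vqc0 0 (vqc0 2 (vqc0 0 vqc1))))))))) vqc1))))))))))
    [4520, 15434, 3287, 8036] (by decide +kernel)

theorem a75 : Ok 3779135 37778931864522680829470 :=
  ok_of (beta% delta% lq26c8b9c1d715 fun vqc0 vqc1 _ _ _ _ _ =>
      (vqc0 (vqc0 0 (vqc0 2 (vqc0 2 (vqc0 2 (vqc0 0 (vqc0 2 (vqc0 1 (vqc0 2 (vqc0 0 vqc1))))))))) (vqc0 (vqc0 2 (vqc0 1 (vqc0 1 (vqc0 1 (vqc0 0 (vqc0 1 (vqc0 1 (vqc0 0 (vqc0 0 vqc1))))))))) (vqc0 (vqc0 0 (vqc0 1 (vqc0 2 (vqc0 2 (vqc0 0 (vqc0 1 (vqc0 2 (vqc0 0 (vqc0 1 vqc1))))))))) (vqc0 (vqc0 1 (vqc0 0 (vqc0 1 (vqc0 1 (vqc0 0 (vqc0 1 (vqc0 0 (vqc0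 0 (vqc0 2 vqc1))))))))) (vqc0 (vqc0 0 (vqc0 2 (vqc0 0 (vqc0 0 (vqc0 0 (vqc0 1 (vqc0 2 (vqc0 2 (vqc0 2 vqc1))))))))) (vqc0 (vqc0 1 (vqc0 2 (vqc0 0 (vqc0 1 (vqc0 1 (vqc0 1 (vqc0 2 (vqc0 2 (vqc0 1 vqc1))))))))) (vqc0 (vqc0 0 (vqc0 1 (vqc0 0 (vqc0 0 (vqc0 1 (vqc0 1 (vqc0 2 (vqc0 0 (vqc0 2 vqc1))))))))) (vqc0 (vqc0 0 (vqc0 0 (vqc0 1 (vqc0 2 (vqc0 1 (vqc0 0 (vqc0 1 (vqc0 2 (vqc0 1 vqc1))))))))) (vqc0 (vqc0 0 (vqc0 0 (vqc0 1 (vqc0 2 (vqc0 2 (vqc0 1 (vqc0 2 (vqc0 1 (vqc0 2 vqc1))))))))) vqc1))))))))))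
    (beta% delta% lq26c8b9c1d715 fun vqc0 vqc1 _ _ _ _ _ =>
        (vqc0 (vqc0 1 (vqc0 0 (vqc0 0 (vqc0 0 (vqc0 0 (vqc0 1 (vqc0 0 (vqc0 0 (vqc0 0 vqc1))))))))) (vqc0 (vqc0 1 (vqc0 1 (vqc0 2 (vqc0 1 (vqc0 0 (vqc0 1 (vqc0 0 (vqc0 0 (vqc0 0 vqc1))))))))) (vqc0 (vqc0 1 (vqc0 1 (vqc0 1 (vqc0 2 (vqc0 2 (vqc0 0 (vqc0 2 (vqc0 2 (vqc0 1 vqc1))))))))) (vqc0 (vqc0 0 (vqc0 2 (vqc0 0 (vqc0 0 (vqc0 1 (vqc0 2 (vqc0 1 (vqc0 2 (vqc0 1 vqc1))))))))) (vqc0 (vqc0 1 (vqc0 0 (vqc0 0 (vqc0 1 (vqc0 0 (vqc0 0 (vqc0 2 (vqc0 0 (vqc0 0 vqc1))))))))) (vqc0 (vqc0 0 (vqc0 2 (vqc0 2 (vqc0 2 (vqc0 1 (vqc0 0 (vqc0 1 (vqc0 0 (vqc0 2 vqc1))))))))) (vqc0 (vqc0 0 (vqc0 2 (vqc0 2 (vqc0 2 (vqc0 1 (vqc0 2 (vqc0 1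 (vqc0 1 (vqc0 2 vqc1))))))))) (vqc0 (vqc0 2 (vqc0 1 (vqc0 2 (vqc0 1 (vqc0 2 (vqc0 0 (vqc0 0 (vqc0 0 (vqc0 1 vqc1))))))))) (vqc0 (vqc0 2 (vqc0 2 (vqc0 2 (vqc0 1 (vqc0 1 (vqc0 2 (vqc0 1 (vqc0 1 (vqc0 1 vqc1))))))))) vqc1))))))))))
    [5673, 3489, 5335, 208] (by decide +kernel)

theorem a76 : Ok 302330879 37778931862957184714270 :=
  ok_of (beta% delta% lq26c8b9c1d715 fun vqc0 vqc1 _ _ _ _ _ =>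
      (vqc0 (vqc0 0 (vqc0 0 (vqc0 2 (vqc0 0 (vqc0 1 (vqc0 1 (vqc0 2 (vqc0 0 (vqc0 1 vqc1))))))))) (vqc0 (vqc0 2 (vqc0 0 (vqc0 1 (vqc0 2 (vqc0 0 (vqc0 2 (vqc0 2 (vqc0 2 (vqc0 0 vqc1))))))))) (vqc0 (vqc0 2 (vqc0 2 (vqc0 2 (vqc0 2 (vqc0 0 (vqc0 1 (vqc0 2 (vqc0 2 (vqc0 0 vqc1))))))))) (vqc0 (vqc0 1 (vqc0 0 (vqc0 0 (vqc0 1 (vqc0 2 (vqc0 2 (vqc0 0 (vqc0 2 (vqc0 2 vqc1))))))))) (vqc0 (vqc0 2 (vqc0 2 (vqc0 2 (vqc0 0 (vqc0 1 (vqc0 0 (vqc0 1 (vqc0 0 (vqc0 2 vqc1))))))))) (vqc0 (vqc0 0 (vqc0 2 (vqc0 1 (vqc0 0 (vqc0 0 (vqc0 0 (vqc0 0 (vqc0 0 (vqc0 0 vqc1))))))))) (vqc0 (vqc0 2 (vqc0 2 (vqc0 0 (vqc0 2 (vqc0 0 (vqc0 1 (vqc0 1 (vqc0 2 (vqc0 0 vqc1))))))))) (vqc0 (vqc0 2 (vqc0 0 (vqc0 2 (vqc0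 2 (vqc0 0 (vqc0 0 (vqc0 2 (vqc0 1 (vqc0 0 vqc1))))))))) (vqc0 (vqc0 0 (vqc0 2 (vqc0 1 (vqc0 0 (vqc0 0 (vqc0 1 (vqc0 0 (vqc0 0 (vqc0 2 vqc1))))))))) vqc1))))))))))
    (beta% delta% lq26c8b9c1d715 fun vqc0 vqc1 _ _ _ _ _ =>
        (vqc0 (vqc0 2 (vqc0 1 (vqc0 1 (vqc0 2 (vqc0 2 (vqc0 1 (vqc0 1 (vqc0 1 (vqc0 2 vqc1))))))))) (vqc0 (vqc0 0 (vqc0 2 (vqc0 0 (vqc0 2 (vqc0 0 (vqc0 0 (vqc0 1 (vqc0 0 (vqc0 0 vqc1))))))))) (vqc0 (vqc0 1 (vqc0 0 (vqc0 1 (vqc0 0 (vqc0 0 (vqc0 0 (vqc0 2 (vqc0 2 (vqc0 1 vqc1))))))))) (vqc0 (vqc0 0 (vqc0 2 (vqc0 1 (vqc0 1 (vqc0 0 (vqc0 0 (vqc0 0 (vqc0 1 (vqc0 2 vqc1))))))))) (vqc0 (vqc0 2 (vqc0 0 (vqc0 1 (vqc0 2 (vqc0 2 (vqc0 1 (vqc0 1 (vqc0 0 (vqc0 2 vqc1)))))))))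 (vqc0 (vqc0 0 (vqc0 1 (vqc0 2 (vqc0 1 (vqc0 1 (vqc0 1 (vqc0 2 (vqc0 2 (vqc0 2 vqc1))))))))) (vqc0 (vqc0 2 (vqc0 1 (vqc0 2 (vqc0 0 (vqc0 1 (vqc0 1 (vqc0 1 (vqc0 1 (vqc0 1 vqc1))))))))) (vqc0 (vqc0 0 (vqc0 1 (vqc0 2 (vqc0 1 (vqc0 2 (vqc0 2 (vqc0 0 (vqc0 2 (vqc0 0 vqc1))))))))) (vqc0 (vqc0 0 (vqc0 0 (vqc0 1 (vqc0 0 (vqc0 1 (vqc0 0 (vqc0 0 (vqc0 1 (vqc0 1 vqc1))))))))) vqc1))))))))))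
    [9599, 11182, 4696, 8033, 111, 15215] (by decide +kernel)

theorem a77 : Ok 302330879 37778931864522702063134 :=
  ok_of (beta% delta% lq26c8b9c1d715 fun vqc0 vqc1 _ _ _ _ _ =>
      (vqc0 (vqc0 2 (vqc0 0 (vqc0 1 (vqc0 1 (vqc0 1 (vqc0 1 (vqc0 2 (vqc0 1 (vqc0 2 vqc1))))))))) (vqc0 (vqc0 2 (vqc0 2 (vqc0 1 (vqc0 0 (vqc0 0 (vqc0 0 (vqc0 0 (vqc0 0 (vqc0 1 vqc1))))))))) (vqc0 (vqc0 2 (vqc0 2 (vqc0 1 (vqc0 1 (vqc0 1 (vqc0 1 (vqc0 0 (vqc0 2 (vqc0 0 vqc1))))))))) (vqc0 (vqc0 0 (vqc0 2 (vqc0 1 (vqc0 0 (vqc0 1 (vqc0 1 (vqc0 0 (vqc0 2 (vqc0 2 vqc1))))))))) (vqc0 (vqc0 2 (vqc0 2 (vqc0 2 (vqc0 1 (vqc0 0 (vqc0 1 (vqc0 0 (vqc0 2 (vqc0 0 vqc1))))))))) (vqc0 (vqc0 2 (vqc0 2 (vqc0 2 (vqc0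 1 (vqc0 1 (vqc0 0 (vqc0 0 (vqc0 2 (vqc0 0 vqc1))))))))) (vqc0 (vqc0 2 (vqc0 2 (vqc0 1 (vqc0 0 (vqc0 0 (vqc0 0 (vqc0 0 (vqc0 1 (vqc0 1 vqc1))))))))) (vqc0 (vqc0 1 (vqc0 1 (vqc0 0 (vqc0 1 (vqc0 1 (vqc0 1 (vqc0 1 (vqc0 2 (vqc0 1 vqc1))))))))) (vqc0 (vqc0 2 (vqc0 1 (vqc0 0 (vqc0 2 (vqc0 2 (vqc0 2 (vqc0 0 (vqc0 1 (vqc0 1 vqc1))))))))) vqc1))))))))))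
    (beta% delta% lq26c8b9c1d715 fun vqc0 vqc1 _ _ _ _ _ =>
        (vqc0 (vqc0 1 (vqc0 2 (vqc0 0 (vqc0 1 (vqc0 2 (vqc0 0 (vqc0 1 (vqc0 1 (vqc0 0 vqc1))))))))) (vqc0 (vqc0 2 (vqc0 2 (vqc0 0 (vqc0 0 (vqc0 1 (vqc0 0 (vqc0 1 (vqc0 0 (vqc0 2 vqc1))))))))) (vqc0 (vqc0 2 (vqc0 0 (vqc0 1 (vqc0 2 (vqc0 2 (vqc0 0 (vqc0 2 (vqc0 2 (vqc0 0 vqc1))))))))) (vqc0 (vqc0 0 (vqc0 1 (vqc0 2 (vqc0 1 (vqc0 2 (vqc0 0 (vqc0 1 (vqc0 2 (vqc0 1 vqc1))))))))) (vqc0 (vqc0 1 (vqc0 1 (vqc0 1 (vqc0 0 (vqc0 0 (vqc0 1 (vqc0 2 (vqc0 1 (vqc0 0 vqc1))))))))) (vqc0 (vqc0 2 (vqc0 2 (vqc0 2 (vqc0 0 (vqc0 0 (vqc0 2 (vqc0 0 (vqc0 0 (vqc0 1 vqc1))))))))) (vqc0 (vqc0 0 (vqc0 1 (vqc0 0 (vqc0 2 (vqc0 0 (vqc0 1 (vqc0 0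 (vqc0 0 (vqc0 0 vqc1))))))))) (vqc0 (vqc0 1 (vqc0 0 (vqc0 1 (vqc0 2 (vqc0 1 (vqc0 2 (vqc0 2 (vqc0 0 (vqc0 1 vqc1))))))))) (vqc0 (vqc0 1 (vqc0 0 (vqc0 1 (vqc0 0 (vqc0 0 (vqc0 1 (vqc0 0 (vqc0 1 (vqc0 1 vqc1))))))))) vqc1))))))))))
    [3533, 13580, 11673, 496, 19492, 1623, 13222] (by decide +kernel)

theorem a78 : Ok 75582719 37778931862957167022466 :=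
  ok_of (beta% delta% lq26c8b9c1d715 fun vqc0 vqc1 _ _ _ _ _ =>
      (vqc0 (vqc0 1 (vqc0 2 (vqc0 2 (vqc0 2 (vqc0 0 (vqc0 0 (vqc0 1 (vqc0 1 (vqc0 1 vqc1))))))))) (vqc0 (vqc0 2 (vqc0 1 (vqc0 0 (vqc0 2 (vqc0 2 (vqc0 2 (vqc0 0 (vqc0 1 (vqc0 0 vqc1))))))))) (vqc0 (vqc0 1 (vqc0 1 (vqc0 2 (vqc0 0 (vqc0 0 (vqc0 1 (vqc0 0 (vqc0 1 (vqc0 1 vqc1))))))))) (vqc0 (vqc0 0 (vqc0 1 (vqc0 0 (vqc0 2 (vqc0 1 (vqc0 1 (vqc0 0 (vqc0 0 (vqc0 1 vqc1))))))))) (vqc0 (vqc0 2 (vqc0 1 (vqc0 2 (vqc0 2 (vqc0 1 (vqc0 2 (vqc0 1 (vqc0 1 (vqc0 0 vqc1))))))))) (vqc0 (vqc0 2 (vqc0 1 (vqc0 2 (vqc0 0 (vqc0 2 (vqc0 1 (vqc0 1 (vqc0 2 (vqc0 0 vqc1))))))))) (vqc0 (vqc0 0 (vqc0 0 (vqc0 0 (vqc0 2 (vqc0 2 (vqc0 0 (vqc0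 2 (vqc0 2 (vqc0 1 vqc1))))))))) (vqc0 (vqc0 0 (vqc0 2 (vqc0 0 (vqc0 0 (vqc0 2 (vqc0 2 (vqc0 0 (vqc0 2 (vqc0 2 vqc1))))))))) (vqc0 (vqc0 0 (vqc0 2 (vqc0 2 (vqc0 2 (vqc0 0 (vqc0 0 (vqc0 1 (vqc0 2 (vqc0 2 vqc1))))))))) vqc1))))))))))
    (beta% delta% lq26c8b9c1d715 fun vqc0 vqc1 _ _ _ _ _ =>
        (vqc0 (vqc0 0 (vqc0 2 (vqc0 1 (vqc0 2 (vqc0 1 (vqc0 0 (vqc0 1 (vqc0 2 (vqc0 2 vqc1))))))))) (vqc0 (vqc0 2 (vqc0 2 (vqc0 0 (vqc0 0 (vqc0 2 (vqc0 1 (vqc0 1 (vqc0 1 (vqc0 1 vqc1))))))))) (vqc0 (vqc0 2 (vqc0 2 (vqc0 0 (vqc0 0 (vqc0 0 (vqc0 1 (vqc0 0 (vqc0 0 (vqc0 2 vqc1))))))))) (vqc0 (vqc0 2 (vqc0 2 (vqc0 0 (vqc0 0 (vqc0 0 (vqc0 1 (vqc0 1 (vqc0 0 (vqc0 1 vqc1))))))))) (vqc0 (vqc0 2 (vqc0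 2 (vqc0 0 (vqc0 2 (vqc0 0 (vqc0 0 (vqc0 0 (vqc0 2 (vqc0 2 vqc1))))))))) (vqc0 (vqc0 1 (vqc0 1 (vqc0 0 (vqc0 1 (vqc0 1 (vqc0 1 (vqc0 1 (vqc0 2 (vqc0 2 vqc1))))))))) (vqc0 (vqc0 1 (vqc0 1 (vqc0 0 (vqc0 1 (vqc0 1 (vqc0 2 (vqc0 2 (vqc0 2 (vqc0 2 vqc1))))))))) (vqc0 (vqc0 0 (vqc0 0 (vqc0 1 (vqc0 1 (vqc0 2 (vqc0 0 (vqc0 0 (vqc0 2 (vqc0 2 vqc1))))))))) (vqc0 (vqc0 0 (vqc0 1 (vqc0 0 (vqc0 0 (vqc0 2 (vqc0 1 (vqc0 1 (vqc0 1 (vqc0 1 vqc1))))))))) vqc1))))))))))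
    [1392, 13321, 1930, 13238] (by decide +kernel)

theorem a79 : Ok 1088391167 37778931862957188256130 :=
  ok_of (beta% delta% lq26c8b9c1d715 fun vqc0 vqc1 _ _ _ _ _ =>
      (vqc0 (vqc0 2 (vqc0 2 (vqc0 2 (vqc0 0 (vqc0 2 (vqc0 2 (vqc0 1 (vqc0 2 (vqc0 1 vqc1))))))))) (vqc0 (vqc0 2 (vqc0 1 (vqc0 0 (vqc0 2 (vqc0 1 (vqc0 2 (vqc0 0 (vqc0 1 (vqc0 2 vqc1))))))))) (vqc0 (vqc0 1 (vqc0 0 (vqc0 1 (vqc0 0 (vqc0 0 (vqc0 1 (vqc0 1 (vqc0 1 (vqc0 2 vqc1))))))))) (vqc0 (vqc0 1 (vqc0 0 (vqc0 2 (vqc0 0 (vqc0 1 (vqc0 0 (vqc0 1 (vqc0 1 (vqc0 2 vqc1))))))))) (vqc0 (vqc0 1 (vqc0 1 (vqc0 0 (vqc0 2 (vqc0 2 (vqc0 0 (vqc0 0 (vqc0 2 (vqc0 1 vqc1))))))))) (vqc0 (vqc0 1 (vqc0 2 (vqc0 1 (vqc0 0 (vqc0 2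 (vqc0 2 (vqc0 2 (vqc0 0 (vqc0 0 vqc1))))))))) (vqc0 (vqc0 2 (vqc0 1 (vqc0 2 (vqc0 2 (vqc0 0 (vqc0 1 (vqc0 0 (vqc0 0 (vqc0 0 vqc1))))))))) (vqc0 (vqc0 2 (vqc0 0 (vqc0 1 (vqc0 2 (vqc0 2 (vqc0 0 (vqc0 2 (vqc0 1 (vqc0 1 vqc1))))))))) (vqc0 (vqc0 1 (vqc0 2 (vqc0 1 (vqc0 1 (vqc0 0 (vqc0 2 (vqc0 2 (vqc0 0 (vqc0 2 vqc1))))))))) vqc1))))))))))
    (beta% delta% lq26c8b9c1d715 fun vqc0 vqc1 _ _ _ _ _ =>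
        (vqc0 (vqc0 1 (vqc0 2 (vqc0 2 (vqc0 1 (vqc0 2 (vqc0 0 (vqc0 0 (vqc0 2 (vqc0 2 vqc1))))))))) (vqc0 (vqc0 1 (vqc0 2 (vqc0 0 (vqc0 1 (vqc0 2 (vqc0 2 (vqc0 0 (vqc0 1 (vqc0 0 vqc1))))))))) (vqc0 (vqc0 1 (vqc0 0 (vqc0 1 (vqc0 0 (vqc0 0 (vqc0 0 (vqc0 0 (vqc0 0 (vqc0 0 vqc1))))))))) (vqc0 (vqc0 1 (vqc0 2 (vqc0 0 (vqc0 2 (vqc0 2 (vqc0 0 (vqc0 1 (vqc0 2 (vqc0 1 vqc1))))))))) (vqc0 (vqc0 0 (vqc0 1 (vqc0 1 (vqc0 2 (vqc0 0 (vqc0 0 (vqc0 1 (vqc0 2 (vqc0 2 vqc1))))))))) (vqc0 (vqc0 1 (vqc0 0 (vqc0 0 (vqc0 0 (vqc0 1 (vqc0 1 (vqc0 0 (vqc0 1 (vqc0 1 vqc1))))))))) (vqc0 (vqc0 2 (vqc0 1 (vqc0 2 (vqc0 2 (vqc0 0 (vqc0 2 (vqc0 1 (vqc0 1 (vqc0 2 vqc1))))))))) (vqc0 (vqc0 1 (vqc0 0 (vqc0 0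 (vqc0 0 (vqc0 1 (vqc0 2 (vqc0 1 (vqc0 2 (vqc0 2 vqc1))))))))) (vqc0 (vqc0 2 (vqc0 1 (vqc0 0 (vqc0 2 (vqc0 2 (vqc0 2 (vqc0 2 (vqc0 0 (vqc0 2 vqc1))))))))) vqc1))))))))))
    [4794, 9830, 10312, 17092, 8635, 10017] (by decide +kernel)

theorem a80 : Ok 79234877030399 37778931862957379359106 :=
  ok_of (beta% delta% lq26c8b9c1d715 fun vqc0 vqc1 _ _ _ _ _ =>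
      (vqc0 (vqc0 1 (vqc0 2 (vqc0 2 (vqc0 0 (vqc0 0 (vqc0 2 (vqc0 1 (vqc0 1 (vqc0 0 vqc1))))))))) (vqc0 (vqc0 2 (vqc0 1 (vqc0 2 (vqc0 0 (vqc0 0 (vqc0 2 (vqc0 1 (vqc0 1 (vqc0 0 vqc1))))))))) (vqc0 (vqc0 0 (vqc0 0 (vqc0 2 (vqc0 0 (vqc0 0 (vqc0 0 (vqc0 0 (vqc0 0 (vqc0 0 vqc1))))))))) (vqc0 (vqc0 2 (vqc0 2 (vqc0 2 (vqc0 2 (vqc0 0 (vqc0 2 (vqc0 1 (vqc0 1 (vqc0 0 vqc1))))))))) (vqc0 (vqc0 2 (vqc0 2 (vqc0 2 (vqc0 0 (vqc0 2 (vqc0 2 (vqc0 1 (vqc0 1 (vqc0 0 vqc1))))))))) (vqc0 (vqc0 0 (vqc0 0 (vqc0 0 (vqc0 0 (vqc0 0 (vqc0 2 (vqc0 0 (vqc0 0 (vqc0 0 vqc1))))))))) (vqc0 (vqc0 1 (vqc0 1 (vqc0 1 (vqc0 0 (vqc0 0 (vqc0 1 (vqc0 1 (vqc0 2 (vqc0 0 vqc1))))))))) (vqc0 (vqc0 1 (vqc0 1 (vqc0 1 (vqc0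 0 (vqc0 0 (vqc0 1 (vqc0 2 (vqc0 1 (vqc0 0 vqc1))))))))) (vqc0 (vqc0 0 (vqc0 0 (vqc0 0 (vqc0 0 (vqc0 0 (vqc0 0 (vqc0 0 (vqc0 0 (vqc0 2 vqc1))))))))) vqc1))))))))))
    (beta% delta% lq26c8b9c1d715 fun vqc0 vqc1 _ _ _ _ _ =>
        (vqc0 (vqc0 2 (vqc0 0 (vqc0 2 (vqc0 1 (vqc0 1 (vqc0 1 (vqc0 0 (vqc0 0 (vqc0 0 vqc1))))))))) (vqc0 (vqc0 1 (vqc0 1 (vqc0 1 (vqc0 2 (vqc0 1 (vqc0 2 (vqc0 2 (vqc0 1 (vqc0 2 vqc1))))))))) (vqc0 (vqc0 2 (vqc0 2 (vqc0 0 (vqc0 1 (vqc0 2 (vqc0 1 (vqc0 0 (vqc0 1 (vqc0 0 vqc1))))))))) (vqc0 (vqc0 1 (vqc0 2 (vqc0 0 (vqc0 0 (vqc0 2 (vqc0 0 (vqc0 2 (vqc0 1 (vqc0 2 vqc1))))))))) (vqc0 (vqc0 0 (vqc0 0 (vqc0 0 (vqc0 1 (vqc0 0 (vqc0 1 (vqc0 1 (vqc0 0 (vqc0 0 vqc1)))))))))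 (vqc0 (vqc0 0 (vqc0 0 (vqc0 0 (vqc0 1 (vqc0 0 (vqc0 1 (vqc0 1 (vqc0 1 (vqc0 2 vqc1))))))))) (vqc0 (vqc0 1 (vqc0 2 (vqc0 2 (vqc0 2 (vqc0 1 (vqc0 1 (vqc0 1 (vqc0 0 (vqc0 1 vqc1))))))))) (vqc0 (vqc0 2 (vqc0 1 (vqc0 1 (vqc0 2 (vqc0 1 (vqc0 1 (vqc0 2 (vqc0 1 (vqc0 2 vqc1))))))))) (vqc0 (vqc0 0 (vqc0 0 (vqc0 1 (vqc0 2 (vqc0 0 (vqc0 1 (vqc0 0 (vqc0 2 (vqc0 0 vqc1))))))))) vqc1))))))))))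
    [18325, 17093, 5401, 11864, 15781, 16976, 8927, 11914] (by decide +kernel)

end Cfsg.Agent.H651.O9
end

-- part: H651/O9/D4
section
/-!
# Classes of the orthogonal group in dimension 9 over the field with three elements, part 4 (helper651)
-/

set_option autoImplicit false
set_option exponentiation.threshold 30000
set_option maxRecDepth 100000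

namespace Cfsg.Agent.H651.O9

theorem a81 : Ok 287 113336808889685122941072 :=
  ok_of (beta% delta% lq26c8b9c1d715 fun vqc0 vqc1 _ _ _ _ _ =>
      (vqc0 (vqc0 2 (vqc0 0 (vqc0 0 (vqc0 0 (vqc0 0 (vqc0 0 (vqc0 0 (vqc0 0 (vqc0 0 vqc1))))))))) (vqc0 (vqc0 2 (vqc0 2 (vqc0 0 (vqc0 0 (vqc0 1 (vqc0 2 (vqc0 1 (vqc0 0 (vqc0 0 vqc1))))))))) (vqc0 (vqc0 0 (vqc0 0 (vqc0 0 (vqc0 2 (vqc0 2 (vqc0 0 (vqc0 0 (vqc0 2 (vqc0 0 vqc1))))))))) (vqc0 (vqc0 0 (vqc0 0 (vqc0 2 (vqc0 2 (vqc0 0 (vqc0 0 (vqc0 0 (vqc0 0 (vqc0 2 vqc1))))))))) (vqc0 (vqc0 1 (vqc0 0 (vqc0 2 (vqc0 2 (vqc0 2 (vqc0 0 (vqc0 1 (vqc0 0 (vqc0 2 vqc1))))))))) (vqc0 (vqc0 1 (vqc0 0 (vqc0 0 (vqc0 0 (vqc0 0 (vqc0 0 (vqc0 0 (vqc0 1 (vqc0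 0 vqc1))))))))) (vqc0 (vqc0 2 (vqc0 0 (vqc0 1 (vqc0 2 (vqc0 2 (vqc0 2 (vqc0 0 (vqc0 2 (vqc0 0 vqc1))))))))) (vqc0 (vqc0 1 (vqc0 0 (vqc0 0 (vqc0 0 (vqc0 2 (vqc0 0 (vqc0 0 (vqc0 0 (vqc0 0 vqc1))))))))) (vqc0 (vqc0 1 (vqc0 0 (vqc0 0 (vqc0 2 (vqc0 2 (vqc0 0 (vqc0 0 (vqc0 0 (vqc0 1 vqc1))))))))) vqc1))))))))))
    (beta% delta% lq26c8b9c1d715 fun vqc0 vqc1 _ _ _ _ _ =>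
        (vqc0 (vqc0 0 (vqc0 1 (vqc0 1 (vqc0 1 (vqc0 2 (vqc0 0 (vqc0 2 (vqc0 0 (vqc0 2 vqc1))))))))) (vqc0 (vqc0 0 (vqc0 2 (vqc0 2 (vqc0 2 (vqc0 1 (vqc0 2 (vqc0 2 (vqc0 2 (vqc0 2 vqc1))))))))) (vqc0 (vqc0 0 (vqc0 2 (vqc0 1 (vqc0 1 (vqc0 2 (vqc0 1 (vqc0 2 (vqc0 2 (vqc0 2 vqc1))))))))) (vqc0 (vqc0 1 (vqc0 2 (vqc0 1 (vqc0 0 (vqc0 2 (vqc0 1 (vqc0 2 (vqc0 0 (vqc0 1 vqc1))))))))) (vqc0 (vqc0 1 (vqc0 0 (vqc0 1 (vqc0 2 (vqc0 1 (vqc0 1 (vqc0 2 (vqc0 2 (vqc0 1 vqc1))))))))) (vqc0 (vqc0 1 (vqc0 0 (vqc0 2 (vqc0 2 (vqc0 1 (vqc0 2 (vqc0 2 (vqc0 0 (vqc0 0 vqc1))))))))) (vqc0 (vqc0 0 (vqc0 1 (vqc0 1 (vqc0 2 (vqc0 1 (vqc0 1 (vqc0 1 (vqc0 1 (vqc0 1 vqc1))))))))) (vqc0 (vqc0 2 (vqc0 0 (vqc0 1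 (vqc0 0 (vqc0 2 (vqc0 0 (vqc0 1 (vqc0 0 (vqc0 0 vqc1))))))))) (vqc0 (vqc0 1 (vqc0 0 (vqc0 0 (vqc0 0 (vqc0 0 (vqc0 0 (vqc0 1 (vqc0 0 (vqc0 1 vqc1))))))))) vqc1))))))))))
    [18337, 9500] (by decide +kernel)

theorem a82 : Ok 3455 566683977945826325692506 :=
  ok_of (beta% delta% lq26c8b9c1d715 fun vqc0 vqc1 _ _ _ _ _ =>
      (vqc0 (vqc0 2 (vqc0 0 (vqc0 1 (vqc0 0 (vqc0 0 (vqc0 1 (vqc0 0 (vqc0 1 (vqc0 0 vqc1))))))))) (vqc0 (vqc0 2 (vqc0 1 (vqc0 0 (vqc0 1 (vqc0 1 (vqc0 1 (vqc0 0 (vqc0 0 (vqc0 0 vqc1))))))))) (vqc0 (vqc0 0 (vqc0 2 (vqc0 2 (vqc0 2 (vqc0 2 (vqc0 1 (vqc0 1 (vqc0 1 (vqc0 1 vqc1))))))))) (vqc0 (vqc0 0 (vqc0 1 (vqc0 1 (vqc0 2 (vqc0 2 (vqc0 1 (vqc0 0 (vqc0 2 (vqc0 1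 vqc1))))))))) (vqc0 (vqc0 0 (vqc0 1 (vqc0 2 (vqc0 2 (vqc0 1 (vqc0 1 (vqc0 1 (vqc0 2 (vqc0 1 vqc1))))))))) (vqc0 (vqc0 0 (vqc0 0 (vqc0 2 (vqc0 1 (vqc0 0 (vqc0 1 (vqc0 2 (vqc0 1 (vqc0 1 vqc1))))))))) (vqc0 (vqc0 1 (vqc0 2 (vqc0 0 (vqc0 0 (vqc0 0 (vqc0 1 (vqc0 2 (vqc0 1 (vqc0 2 vqc1))))))))) (vqc0 (vqc0 0 (vqc0 2 (vqc0 1 (vqc0 1 (vqc0 0 (vqc0 1 (vqc0 1 (vqc0 0 (vqc0 2 vqc1))))))))) (vqc0 (vqc0 1 (vqc0 0 (vqc0 0 (vqc0 0 (vqc0 1 (vqc0 1 (vqc0 2 (vqc0 1 (vqc0 1 vqc1))))))))) vqc1))))))))))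
    (beta% delta% lq26c8b9c1d715 fun vqc0 vqc1 _ _ _ _ _ =>
        (vqc0 (vqc0 2 (vqc0 1 (vqc0 1 (vqc0 0 (vqc0 2 (vqc0 1 (vqc0 2 (vqc0 0 (vqc0 2 vqc1))))))))) (vqc0 (vqc0 1 (vqc0 1 (vqc0 2 (vqc0 1 (vqc0 1 (vqc0 1 (vqc0 0 (vqc0 1 (vqc0 2 vqc1))))))))) (vqc0 (vqc0 2 (vqc0 0 (vqc0 2 (vqc0 0 (vqc0 2 (vqc0 2 (vqc0 0 (vqc0 0 (vqc0 2 vqc1))))))))) (vqc0 (vqc0 0 (vqc0 1 (vqc0 0 (vqc0 1 (vqc0 0 (vqc0 0 (vqc0 0 (vqc0 0 (vqc0 0 vqc1))))))))) (vqc0 (vqc0 1 (vqc0 0 (vqc0 2 (vqc0 1 (vqc0 2 (vqc0 1 (vqc0 0 (vqc0 1 (vqc0 2 vqc1))))))))) (vqc0 (vqc0 0 (vqc0 2 (vqc0 0 (vqc0 0 (vqc0 2 (vqc0 1 (vqc0 2 (vqc0 1 (vqc0 1 vqc1))))))))) (vqc0 (vqc0 2 (vqc0 1 (vqc0 1 (vqc0 2 (vqc0 0 (vqc0 2 (vqc0 0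 (vqc0 0 (vqc0 1 vqc1))))))))) (vqc0 (vqc0 1 (vqc0 0 (vqc0 2 (vqc0 0 (vqc0 0 (vqc0 1 (vqc0 1 (vqc0 1 (vqc0 2 vqc1))))))))) (vqc0 (vqc0 1 (vqc0 2 (vqc0 2 (vqc0 0 (vqc0 0 (vqc0 1 (vqc0 0 (vqc0 1 (vqc0 0 vqc1))))))))) vqc1))))))))))
    [19471, 5522, 4192, 9176] (by decide +kernel)

theorem a83 : Ok 6911 113336795589296713433178 :=
  ok_of (beta% delta% lq26c8b9c1d715 fun vqc0 vqc1 _ _ _ _ _ =>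
      (vqc0 (vqc0 1 (vqc0 0 (vqc0 1 (vqc0 2 (vqc0 0 (vqc0 0 (vqc0 2 (vqc0 1 (vqc0 1 vqc1))))))))) (vqc0 (vqc0 1 (vqc0 0 (vqc0 1 (vqc0 2 (vqc0 2 (vqc0 0 (vqc0 1 (vqc0 2 (vqc0 1 vqc1))))))))) (vqc0 (vqc0 1 (vqc0 0 (vqc0 2 (vqc0 2 (vqc0 0 (vqc0 2 (vqc0 2 (vqc0 0 (vqc0 1 vqc1))))))))) (vqc0 (vqc0 1 (vqc0 1 (vqc0 0 (vqc0 1 (vqc0 0 (vqc0 2 (vqc0 0 (vqc0 1 (vqc0 2 vqc1))))))))) (vqc0 (vqc0 2 (vqc0 0 (vqc0 1 (vqc0 0 (vqc0 1 (vqc0 0 (vqc0 2 (vqc0 2 (vqc0 1 vqc1))))))))) (vqc0 (vqc0 0 (vqc0 1 (vqc0 2 (vqc0 0 (vqc0 0 (vqc0 1 (vqc0 0 (vqc0 2 (vqc0 0 vqc1))))))))) (vqc0 (vqc0 1 (vqc0 0 (vqc0 0 (vqc0 1 (vqc0 2 (vqc0 1 (vqc0 2 (vqc0 1 (vqc0 1 vqc1))))))))) (vqc0 (vqc0 1 (vqc0 1 (vqc0 1 (vqc0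 1 (vqc0 2 (vqc0 2 (vqc0 2 (vqc0 0 (vqc0 0 vqc1))))))))) (vqc0 (vqc0 0 (vqc0 0 (vqc0 0 (vqc0 2 (vqc0 2 (vqc0 0 (vqc0 0 (vqc0 0 (vqc0 1 vqc1))))))))) vqc1))))))))))
    (beta% delta% lq26c8b9c1d715 fun vqc0 vqc1 _ _ _ _ _ =>
        (vqc0 (vqc0 0 (vqc0 1 (vqc0 2 (vqc0 1 (vqc0 2 (vqc0 1 (vqc0 1 (vqc0 0 (vqc0 1 vqc1))))))))) (vqc0 (vqc0 1 (vqc0 2 (vqc0 0 (vqc0 2 (vqc0 2 (vqc0 1 (vqc0 0 (vqc0 2 (vqc0 2 vqc1))))))))) (vqc0 (vqc0 1 (vqc0 2 (vqc0 2 (vqc0 1 (vqc0 2 (vqc0 1 (vqc0 2 (vqc0 2 (vqc0 1 vqc1))))))))) (vqc0 (vqc0 0 (vqc0 2 (vqc0 0 (vqc0 2 (vqc0 0 (vqc0 1 (vqc0 1 (vqc0 0 (vqc0 0 vqc1))))))))) (vqc0 (vqc0 0 (vqc0 0 (vqc0 0 (vqc0 2 (vqc0 1 (vqc0 0 (vqc0 2 (vqc0 2 (vqc0 2 vqc1)))))))))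 (vqc0 (vqc0 0 (vqc0 2 (vqc0 2 (vqc0 1 (vqc0 0 (vqc0 1 (vqc0 1 (vqc0 2 (vqc0 1 vqc1))))))))) (vqc0 (vqc0 0 (vqc0 1 (vqc0 1 (vqc0 0 (vqc0 1 (vqc0 1 (vqc0 1 (vqc0 0 (vqc0 2 vqc1))))))))) (vqc0 (vqc0 1 (vqc0 0 (vqc0 1 (vqc0 1 (vqc0 0 (vqc0 2 (vqc0 0 (vqc0 2 (vqc0 2 vqc1))))))))) (vqc0 (vqc0 0 (vqc0 0 (vqc0 1 (vqc0 0 (vqc0 2 (vqc0 2 (vqc0 2 (vqc0 2 (vqc0 0 vqc1))))))))) vqc1))))))))))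
    [19398, 1366, 11824, 15017] (by decide +kernel)

theorem a84 : Ok 20735 340010386767387565425000 :=
  ok_of (beta% delta% lq26c8b9c1d715 fun vqc0 vqc1 _ _ _ _ _ =>
      (vqc0 (vqc0 2 (vqc0 2 (vqc0 1 (vqc0 1 (vqc0 1 (vqc0 1 (vqc0 2 (vqc0 2 (vqc0 2 vqc1))))))))) (vqc0 (vqc0 1 (vqc0 2 (vqc0 1 (vqc0 1 (vqc0 2 (vqc0 1 (vqc0 2 (vqc0 1 (vqc0 1 vqc1))))))))) (vqc0 (vqc0 2 (vqc0 0 (vqc0 0 (vqc0 0 (vqc0 1 (vqc0 0 (vqc0 0 (vqc0 2 (vqc0 0 vqc1))))))))) (vqc0 (vqc0 1 (vqc0 1 (vqc0 1 (vqc0 0 (vqc0 0 (vqc0 1 (vqc0 2 (vqc0 0 (vqc0 1 vqc1))))))))) (vqc0 (vqc0 0 (vqc0 2 (vqc0 2 (vqc0 1 (vqc0 1 (vqc0 0 (vqc0 1 (vqc0 1 (vqc0 0 vqc1))))))))) (vqc0 (vqc0 2 (vqc0 1 (vqc0 2 (vqc0 0 (vqc0 2 (vqc0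 0 (vqc0 2 (vqc0 2 (vqc0 0 vqc1))))))))) (vqc0 (vqc0 2 (vqc0 1 (vqc0 2 (vqc0 2 (vqc0 1 (vqc0 0 (vqc0 2 (vqc0 0 (vqc0 0 vqc1))))))))) (vqc0 (vqc0 1 (vqc0 0 (vqc0 2 (vqc0 1 (vqc0 0 (vqc0 2 (vqc0 2 (vqc0 2 (vqc0 0 vqc1))))))))) (vqc0 (vqc0 0 (vqc0 0 (vqc0 0 (vqc0 0 (vqc0 2 (vqc0 2 (vqc0 2 (vqc0 2 (vqc0 0 vqc1))))))))) vqc1))))))))))
    (beta% delta% lq26c8b9c1d715 fun vqc0 vqc1 _ _ _ _ _ =>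
        (vqc0 (vqc0 0 (vqc0 1 (vqc0 1 (vqc0 0 (vqc0 2 (vqc0 2 (vqc0 1 (vqc0 0 (vqc0 1 vqc1))))))))) (vqc0 (vqc0 1 (vqc0 1 (vqc0 1 (vqc0 0 (vqc0 1 (vqc0 2 (vqc0 2 (vqc0 0 (vqc0 0 vqc1))))))))) (vqc0 (vqc0 0 (vqc0 2 (vqc0 2 (vqc0 2 (vqc0 1 (vqc0 1 (vqc0 2 (vqc0 1 (vqc0 2 vqc1))))))))) (vqc0 (vqc0 1 (vqc0 0 (vqc0 0 (vqc0 1 (vqc0 2 (vqc0 1 (vqc0 1 (vqc0 1 (vqc0 0 vqc1))))))))) (vqc0 (vqc0 0 (vqc0 2 (vqc0 0 (vqc0 2 (vqc0 2 (vqc0 2 (vqc0 0 (vqc0 1 (vqc0 1 vqc1))))))))) (vqc0 (vqc0 0 (vqc0 0 (vqc0 2 (vqc0 2 (vqc0 0 (vqc0 1 (vqc0 2 (vqc0 0 (vqc0 2 vqc1))))))))) (vqc0 (vqc0 1 (vqc0 0 (vqc0 2 (vqc0 1 (vqc0 1 (vqc0 2 (vqc0 2 (vqc0 0 (vqc0 1 vqc1))))))))) (vqc0 (vqc0 1 (vqc0 2 (vqc0 0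 (vqc0 1 (vqc0 2 (vqc0 1 (vqc0 0 (vqc0 0 (vqc0 1 vqc1))))))))) (vqc0 (vqc0 2 (vqc0 1 (vqc0 2 (vqc0 1 (vqc0 0 (vqc0 0 (vqc0 2 (vqc0 1 (vqc0 2 vqc1))))))))) vqc1))))))))))
    [16096, 15696, 9621] (by decide +kernel)

theorem a85 : Ok 1658879 3060093480900303399616872 :=
  ok_of (beta% delta% lq26c8b9c1d715 fun vqc0 vqc1 _ _ _ _ _ =>
      (vqc0 (vqc0 1 (vqc0 0 (vqc0 0 (vqc0 0 (vqc0 0 (vqc0 0 (vqc0 0 (vqc0 0 (vqc0 0 vqc1))))))))) (vqc0 (vqc0 2 (vqc0 1 (vqc0 0 (vqc0 2 (vqc0 1 (vqc0 2 (vqc0 0 (vqc0 1 (vqc0 1 vqc1))))))))) (vqc0 (vqc0 2 (vqc0 0 (vqc0 2 (vqc0 0 (vqc0 1 (vqc0 2 (vqc0 2 (vqc0 2 (vqc0 0 vqc1))))))))) (vqc0 (vqc0 1 (vqc0 0 (vqc0 0 (vqc0 1 (vqc0 1 (vqc0 2 (vqc0 1 (vqc0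 1 (vqc0 0 vqc1))))))))) (vqc0 (vqc0 0 (vqc0 0 (vqc0 2 (vqc0 1 (vqc0 0 (vqc0 1 (vqc0 2 (vqc0 1 (vqc0 2 vqc1))))))))) (vqc0 (vqc0 1 (vqc0 0 (vqc0 1 (vqc0 1 (vqc0 0 (vqc0 0 (vqc0 2 (vqc0 0 (vqc0 1 vqc1))))))))) (vqc0 (vqc0 0 (vqc0 0 (vqc0 1 (vqc0 0 (vqc0 0 (vqc0 1 (vqc0 2 (vqc0 2 (vqc0 1 vqc1))))))))) (vqc0 (vqc0 1 (vqc0 0 (vqc0 2 (vqc0 1 (vqc0 2 (vqc0 0 (vqc0 2 (vqc0 1 (vqc0 1 vqc1))))))))) (vqc0 (vqc0 2 (vqc0 0 (vqc0 2 (vqc0 2 (vqc0 1 (vqc0 1 (vqc0 2 (vqc0 2 (vqc0 1 vqc1))))))))) vqc1))))))))))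
    (beta% delta% lq26c8b9c1d715 fun vqc0 vqc1 _ _ _ _ _ =>
        (vqc0 (vqc0 0 (vqc0 1 (vqc0 2 (vqc0 1 (vqc0 0 (vqc0 1 (vqc0 1 (vqc0 2 (vqc0 1 vqc1))))))))) (vqc0 (vqc0 0 (vqc0 1 (vqc0 1 (vqc0 0 (vqc0 1 (vqc0 0 (vqc0 1 (vqc0 0 (vqc0 0 vqc1))))))))) (vqc0 (vqc0 0 (vqc0 1 (vqc0 2 (vqc0 1 (vqc0 1 (vqc0 2 (vqc0 1 (vqc0 0 (vqc0 2 vqc1))))))))) (vqc0 (vqc0 0 (vqc0 1 (vqc0 1 (vqc0 1 (vqc0 0 (vqc0 2 (vqc0 1 (vqc0 0 (vqc0 1 vqc1))))))))) (vqc0 (vqc0 1 (vqc0 2 (vqc0 2 (vqc0 1 (vqc0 1 (vqc0 0 (vqc0 0 (vqc0 1 (vqc0 2 vqc1))))))))) (vqc0 (vqc0 1 (vqc0 1 (vqc0 2 (vqc0 0 (vqc0 0 (vqc0 1 (vqc0 0 (vqc0 1 (vqc0 2 vqc1))))))))) (vqc0 (vqc0 0 (vqc0 2 (vqc0 1 (vqc0 0 (vqc0 2 (vqc0 1 (vqc0 1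 (vqc0 2 (vqc0 2 vqc1))))))))) (vqc0 (vqc0 0 (vqc0 0 (vqc0 2 (vqc0 0 (vqc0 2 (vqc0 0 (vqc0 1 (vqc0 0 (vqc0 0 vqc1))))))))) (vqc0 (vqc0 2 (vqc0 2 (vqc0 1 (vqc0 1 (vqc0 1 (vqc0 1 (vqc0 0 (vqc0 2 (vqc0 1 vqc1))))))))) vqc1))))))))))
    [16569, 16162, 4148, 5730, 19141] (by decide +kernel)

theorem a86 : Ok 863 113336795589876512784510 :=
  ok_of (beta% delta% lq26c8b9c1d715 fun vqc0 vqc1 _ _ _ _ _ =>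
      (vqc0 (vqc0 0 (vqc0 2 (vqc0 0 (vqc0 1 (vqc0 1 (vqc0 2 (vqc0 2 (vqc0 1 (vqc0 1 vqc1))))))))) (vqc0 (vqc0 0 (vqc0 2 (vqc0 0 (vqc0 1 (vqc0 1 (vqc0 0 (vqc0 2 (vqc0 2 (vqc0 2 vqc1))))))))) (vqc0 (vqc0 0 (vqc0 2 (vqc0 1 (vqc0 0 (vqc0 0 (vqc0 0 (vqc0 1 (vqc0 1 (vqc0 2 vqc1))))))))) (vqc0 (vqc0 2 (vqc0 1 (vqc0 0 (vqc0 0 (vqc0 2 (vqc0 1 (vqc0 0 (vqc0 1 (vqc0 1 vqc1))))))))) (vqc0 (vqc0 0 (vqc0 0 (vqc0 2 (vqc0 1 (vqc0 2 (vqc0 0 (vqc0 1 (vqc0 1 (vqc0 0 vqc1))))))))) (vqc0 (vqc0 0 (vqc0 2 (vqc0 0 (vqc0 0 (vqc0 0 (vqc0 1 (vqc0 1 (vqc0 1 (vqc0 2 vqc1))))))))) (vqc0 (vqc0 0 (vqc0 0 (vqc0 1 (vqc0 0 (vqc0 0 (vqc0 0 (vqc0 1 (vqc0 1 (vqc0 2 vqc1))))))))) (vqc0 (vqc0 1 (vqc0 1 (vqc0 0 (vqc0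 1 (vqc0 1 (vqc0 0 (vqc0 1 (vqc0 0 (vqc0 1 vqc1))))))))) (vqc0 (vqc0 0 (vqc0 0 (vqc0 0 (vqc0 2 (vqc0 2 (vqc0 0 (vqc0 0 (vqc0 2 (vqc0 1 vqc1))))))))) vqc1))))))))))
    (beta% delta% lq26c8b9c1d715 fun vqc0 vqc1 _ _ _ _ _ =>
        (vqc0 (vqc0 0 (vqc0 2 (vqc0 2 (vqc0 0 (vqc0 2 (vqc0 1 (vqc0 2 (vqc0 2 (vqc0 0 vqc1))))))))) (vqc0 (vqc0 1 (vqc0 0 (vqc0 2 (vqc0 2 (vqc0 0 (vqc0 0 (vqc0 0 (vqc0 2 (vqc0 1 vqc1))))))))) (vqc0 (vqc0 0 (vqc0 0 (vqc0 1 (vqc0 0 (vqc0 2 (vqc0 2 (vqc0 0 (vqc0 0 (vqc0 1 vqc1))))))))) (vqc0 (vqc0 2 (vqc0 2 (vqc0 1 (vqc0 0 (vqc0 1 (vqc0 0 (vqc0 0 (vqc0 2 (vqc0 2 vqc1))))))))) (vqc0 (vqc0 1 (vqc0 2 (vqc0 2 (vqc0 1 (vqc0 0 (vqc0 1 (vqc0 2 (vqc0 1 (vqc0 0 vqc1)))))))))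 (vqc0 (vqc0 0 (vqc0 2 (vqc0 1 (vqc0 0 (vqc0 1 (vqc0 1 (vqc0 0 (vqc0 0 (vqc0 2 vqc1))))))))) (vqc0 (vqc0 1 (vqc0 1 (vqc0 0 (vqc0 2 (vqc0 1 (vqc0 0 (vqc0 1 (vqc0 0 (vqc0 2 vqc1))))))))) (vqc0 (vqc0 1 (vqc0 0 (vqc0 2 (vqc0 2 (vqc0 2 (vqc0 2 (vqc0 1 (vqc0 2 (vqc0 2 vqc1))))))))) (vqc0 (vqc0 2 (vqc0 1 (vqc0 1 (vqc0 1 (vqc0 1 (vqc0 2 (vqc0 1 (vqc0 1 (vqc0 2 vqc1))))))))) vqc1))))))))))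
    [14509, 15927] (by decide +kernel)

theorem a87 : Ok 863 114457435291948488327186 :=
  ok_of (beta% delta% lq26c8b9c1d715 fun vqc0 vqc1 _ _ _ _ _ =>
      (vqc0 (vqc0 2 (vqc0 1 (vqc0 0 (vqc0 0 (vqc0 1 (vqc0 2 (vqc0 0 (vqc0 2 (vqc0 1 vqc1))))))))) (vqc0 (vqc0 2 (vqc0 2 (vqc0 2 (vqc0 0 (vqc0 2 (vqc0 1 (vqc0 2 (vqc0 2 (vqc0 1 vqc1))))))))) (vqc0 (vqc0 0 (vqc0 0 (vqc0 0 (vqc0 0 (vqc0 2 (vqc0 2 (vqc0 2 (vqc0 0 (vqc0 2 vqc1))))))))) (vqc0 (vqc0 2 (vqc0 1 (vqc0 0 (vqc0 0 (vqc0 0 (vqc0 2 (vqc0 2 (vqc0 1 (vqc0 2 vqc1))))))))) (vqc0 (vqc0 2 (vqc0 2 (vqc0 2 (vqc0 0 (vqc0 1 (vqc0 0 (vqc0 0 (vqc0 1 (vqc0 1 vqc1))))))))) (vqc0 (vqc0 1 (vqc0 1 (vqc0 1 (vqc0 0 (vqc0 2 (vqc0 1 (vqc0 2 (vqc0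 0 (vqc0 0 vqc1))))))))) (vqc0 (vqc0 0 (vqc0 0 (vqc0 2 (vqc0 0 (vqc0 0 (vqc0 0 (vqc0 0 (vqc0 0 (vqc0 0 vqc1))))))))) (vqc0 (vqc0 2 (vqc0 0 (vqc0 2 (vqc0 2 (vqc0 1 (vqc0 0 (vqc0 1 (vqc0 2 (vqc0 0 vqc1))))))))) (vqc0 (vqc0 0 (vqc0 1 (vqc0 0 (vqc0 0 (vqc0 1 (vqc0 0 (vqc0 1 (vqc0 2 (vqc0 0 vqc1))))))))) vqc1))))))))))
    (beta% delta% lq26c8b9c1d715 fun vqc0 vqc1 _ _ _ _ _ =>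
        (vqc0 (vqc0 0 (vqc0 0 (vqc0 2 (vqc0 2 (vqc0 0 (vqc0 0 (vqc0 0 (vqc0 2 (vqc0 2 vqc1))))))))) (vqc0 (vqc0 0 (vqc0 1 (vqc0 1 (vqc0 1 (vqc0 1 (vqc0 2 (vqc0 0 (vqc0 2 (vqc0 0 vqc1))))))))) (vqc0 (vqc0 2 (vqc0 0 (vqc0 0 (vqc0 2 (vqc0 0 (vqc0 0 (vqc0 1 (vqc0 0 (vqc0 0 vqc1))))))))) (vqc0 (vqc0 2 (vqc0 2 (vqc0 0 (vqc0 1 (vqc0 2 (vqc0 1 (vqc0 2 (vqc0 0 (vqc0 0 vqc1))))))))) (vqc0 (vqc0 1 (vqc0 1 (vqc0 2 (vqc0 2 (vqc0 1 (vqc0 1 (vqc0 2 (vqc0 0 (vqc0 0 vqc1))))))))) (vqc0 (vqc0 0 (vqc0 2 (vqc0 0 (vqc0 0 (vqc0 1 (vqc0 0 (vqc0 2 (vqc0 2 (vqc0 1 vqc1))))))))) (vqc0 (vqc0 0 (vqc0 1 (vqc0 1 (vqc0 2 (vqc0 0 (vqc0 1 (vqc0 1 (vqc0 2 (vqc0 2 vqc1))))))))) (vqc0 (vqc0 1 (vqc0 1 (vqc0 2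 (vqc0 0 (vqc0 0 (vqc0 0 (vqc0 0 (vqc0 0 (vqc0 1 vqc1))))))))) (vqc0 (vqc0 1 (vqc0 0 (vqc0 2 (vqc0 1 (vqc0 1 (vqc0 0 (vqc0 0 (vqc0 2 (vqc0 0 vqc1))))))))) vqc1))))))))))
    [5459, 7348, 13510] (by decide +kernel)

theorem a88 : Ok 34559 113336795589064785199230 :=
  ok_of (beta% delta% lq26c8b9c1d715 fun vqc0 vqc1 _ _ _ _ _ =>
      (vqc0 (vqc0 0 (vqc0 2 (vqc0 2 (vqc0 2 (vqc0 1 (vqc0 2 (vqc0 0 (vqc0 1 (vqc0 0 vqc1))))))))) (vqc0 (vqc0 2 (vqc0 1 (vqc0 1 (vqc0 2 (vqc0 2 (vqc0 0 (vqc0 2 (vqc0 0 (vqc0 2 vqc1))))))))) (vqc0 (vqc0 0 (vqc0 2 (vqc0 2 (vqc0 1 (vqc0 0 (vqc0 1 (vqc0 2 (vqc0 2 (vqc0 0 vqc1))))))))) (vqc0 (vqc0 2 (vqc0 1 (vqc0 2 (vqc0 2 (vqc0 1 (vqc0 2 (vqc0 2 (vqc0 2 (vqc0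 0 vqc1))))))))) (vqc0 (vqc0 2 (vqc0 0 (vqc0 2 (vqc0 2 (vqc0 0 (vqc0 0 (vqc0 0 (vqc0 1 (vqc0 1 vqc1))))))))) (vqc0 (vqc0 1 (vqc0 2 (vqc0 1 (vqc0 0 (vqc0 2 (vqc0 0 (vqc0 1 (vqc0 1 (vqc0 0 vqc1))))))))) (vqc0 (vqc0 2 (vqc0 0 (vqc0 1 (vqc0 0 (vqc0 2 (vqc0 2 (vqc0 0 (vqc0 1 (vqc0 1 vqc1))))))))) (vqc0 (vqc0 2 (vqc0 2 (vqc0 2 (vqc0 2 (vqc0 1 (vqc0 1 (vqc0 0 (vqc0 2 (vqc0 0 vqc1))))))))) (vqc0 (vqc0 0 (vqc0 1 (vqc0 2 (vqc0 0 (vqc0 1 (vqc0 1 (vqc0 2 (vqc0 1 (vqc0 1 vqc1))))))))) vqc1))))))))))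
    (beta% delta% lq26c8b9c1d715 fun vqc0 vqc1 _ _ _ _ _ =>
        (vqc0 (vqc0 0 (vqc0 2 (vqc0 0 (vqc0 0 (vqc0 1 (vqc0 0 (vqc0 0 (vqc0 2 (vqc0 0 vqc1))))))))) (vqc0 (vqc0 2 (vqc0 0 (vqc0 2 (vqc0 2 (vqc0 0 (vqc0 1 (vqc0 1 (vqc0 0 (vqc0 2 vqc1))))))))) (vqc0 (vqc0 1 (vqc0 1 (vqc0 0 (vqc0 2 (vqc0 2 (vqc0 2 (vqc0 1 (vqc0 1 (vqc0 0 vqc1))))))))) (vqc0 (vqc0 2 (vqc0 0 (vqc0 2 (vqc0 2 (vqc0 0 (vqc0 1 (vqc0 2 (vqc0 0 (vqc0 2 vqc1))))))))) (vqc0 (vqc0 2 (vqc0 0 (vqc0 0 (vqc0 0 (vqc0 0 (vqc0 1 (vqc0 2 (vqc0 0 (vqc0 0 vqc1))))))))) (vqc0 (vqc0 2 (vqc0 1 (vqc0 2 (vqc0 1 (vqc0 2 (vqc0 0 (vqc0 1 (vqc0 0 (vqc0 1 vqc1))))))))) (vqc0 (vqc0 1 (vqc0 0 (vqc0 0 (vqc0 0 (vqc0 0 (vqc0 1 (vqc0 0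 (vqc0 0 (vqc0 0 vqc1))))))))) (vqc0 (vqc0 1 (vqc0 2 (vqc0 0 (vqc0 2 (vqc0 2 (vqc0 1 (vqc0 0 (vqc0 0 (vqc0 1 vqc1))))))))) (vqc0 (vqc0 1 (vqc0 0 (vqc0 0 (vqc0 2 (vqc0 0 (vqc0 0 (vqc0 2 (vqc0 0 (vqc0 1 vqc1))))))))) vqc1))))))))))
    [2823, 9771, 2598, 14845] (by decide +kernel)

theorem a89 : Ok 6911 340010386767851432509476 :=
  ok_of (beta% delta% lq26c8b9c1d715 fun vqc0 vqc1 _ _ _ _ _ =>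
      (vqc0 (vqc0 1 (vqc0 0 (vqc0 1 (vqc0 2 (vqc0 0 (vqc0 0 (vqc0 2 (vqc0 1 (vqc0 2 vqc1))))))))) (vqc0 (vqc0 0 (vqc0 2 (vqc0 0 (vqc0 2 (vqc0 1 (vqc0 2 (vqc0 2 (vqc0 1 (vqc0 1 vqc1))))))))) (vqc0 (vqc0 0 (vqc0 1 (vqc0 1 (vqc0 2 (vqc0 1 (vqc0 1 (vqc0 1 (vqc0 0 (vqc0 0 vqc1))))))))) (vqc0 (vqc0 2 (vqc0 1 (vqc0 1 (vqc0 2 (vqc0 0 (vqc0 1 (vqc0 0 (vqc0 0 (vqc0 2 vqc1))))))))) (vqc0 (vqc0 1 (vqc0 2 (vqc0 2 (vqc0 1 (vqc0 1 (vqc0 1 (vqc0 2 (vqc0 1 (vqc0 2 vqc1))))))))) (vqc0 (vqc0 0 (vqc0 1 (vqc0 1 (vqc0 1 (vqc0 1 (vqc0 0 (vqc0 1 (vqc0 2 (vqc0 0 vqc1))))))))) (vqc0 (vqc0 0 (vqc0 1 (vqc0 0 (vqc0 1 (vqc0 1 (vqc0 1 (vqc0 2 (vqc0 0 (vqc0 1 vqc1))))))))) (vqc0 (vqc0 2 (vqc0 1 (vqc0 1 (vqc0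 0 (vqc0 0 (vqc0 0 (vqc0 2 (vqc0 2 (vqc0 0 vqc1))))))))) (vqc0 (vqc0 0 (vqc0 2 (vqc0 0 (vqc0 0 (vqc0 2 (vqc0 1 (vqc0 1 (vqc0 0 (vqc0 0 vqc1))))))))) vqc1))))))))))
    (beta% delta% lq26c8b9c1d715 fun vqc0 vqc1 _ _ _ _ _ =>
        (vqc0 (vqc0 0 (vqc0 2 (vqc0 0 (vqc0 0 (vqc0 2 (vqc0 1 (vqc0 1 (vqc0 1 (vqc0 0 vqc1))))))))) (vqc0 (vqc0 2 (vqc0 1 (vqc0 2 (vqc0 1 (vqc0 1 (vqc0 1 (vqc0 1 (vqc0 2 (vqc0 1 vqc1))))))))) (vqc0 (vqc0 0 (vqc0 1 (vqc0 2 (vqc0 2 (vqc0 2 (vqc0 1 (vqc0 2 (vqc0 0 (vqc0 0 vqc1))))))))) (vqc0 (vqc0 2 (vqc0 1 (vqc0 1 (vqc0 2 (vqc0 0 (vqc0 1 (vqc0 0 (vqc0 0 (vqc0 2 vqc1))))))))) (vqc0 (vqc0 2 (vqc0 0 (vqc0 0 (vqc0 2 (vqc0 1 (vqc0 2 (vqc0 1 (vqc0 2 (vqc0 2 vqc1)))))))))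 (vqc0 (vqc0 2 (vqc0 2 (vqc0 1 (vqc0 1 (vqc0 2 (vqc0 1 (vqc0 0 (vqc0 1 (vqc0 2 vqc1))))))))) (vqc0 (vqc0 0 (vqc0 1 (vqc0 2 (vqc0 2 (vqc0 0 (vqc0 1 (vqc0 0 (vqc0 1 (vqc0 2 vqc1))))))))) (vqc0 (vqc0 0 (vqc0 0 (vqc0 2 (vqc0 2 (vqc0 1 (vqc0 0 (vqc0 2 (vqc0 0 (vqc0 1 vqc1))))))))) (vqc0 (vqc0 1 (vqc0 0 (vqc0 0 (vqc0 2 (vqc0 1 (vqc0 2 (vqc0 1 (vqc0 1 (vqc0 1 vqc1))))))))) vqc1))))))))))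
    [15701, 17876, 7151, 10329] (by decide +kernel)

theorem a90 : Ok 6911 340010386767097660440612 :=
  ok_of (beta% delta% lq26c8b9c1d715 fun vqc0 vqc1 _ _ _ _ _ =>
      (vqc0 (vqc0 1 (vqc0 0 (vqc0 1 (vqc0 0 (vqc0 2 (vqc0 1 (vqc0 2 (vqc0 2 (vqc0 0 vqc1))))))))) (vqc0 (vqc0 2 (vqc0 2 (vqc0 0 (vqc0 1 (vqc0 2 (vqc0 0 (vqc0 1 (vqc0 0 (vqc0 1 vqc1))))))))) (vqc0 (vqc0 0 (vqc0 2 (vqc0 2 (vqc0 1 (vqc0 0 (vqc0 0 (vqc0 1 (vqc0 2 (vqc0 1 vqc1))))))))) (vqc0 (vqc0 2 (vqc0 2 (vqc0 0 (vqc0 1 (vqc0 2 (vqc0 0 (vqc0 0 (vqc0 2 (vqc0 2 vqc1))))))))) (vqc0 (vqc0 2 (vqc0 1 (vqc0 2 (vqc0 1 (vqc0 0 (vqc0 0 (vqc0 0 (vqc0 2 (vqc0 2 vqc1))))))))) (vqc0 (vqc0 2 (vqc0 2 (vqc0 2 (vqc0 0 (vqc0 0 (vqc0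 0 (vqc0 2 (vqc0 0 (vqc0 2 vqc1))))))))) (vqc0 (vqc0 2 (vqc0 2 (vqc0 1 (vqc0 0 (vqc0 0 (vqc0 2 (vqc0 1 (vqc0 2 (vqc0 0 vqc1))))))))) (vqc0 (vqc0 0 (vqc0 2 (vqc0 2 (vqc0 2 (vqc0 0 (vqc0 2 (vqc0 2 (vqc0 0 (vqc0 2 vqc1))))))))) (vqc0 (vqc0 0 (vqc0 2 (vqc0 0 (vqc0 1 (vqc0 2 (vqc0 1 (vqc0 2 (vqc0 2 (vqc0 1 vqc1))))))))) vqc1))))))))))
    (beta% delta% lq26c8b9c1d715 fun vqc0 vqc1 _ _ _ _ _ =>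
        (vqc0 (vqc0 0 (vqc0 1 (vqc0 0 (vqc0 1 (vqc0 2 (vqc0 0 (vqc0 1 (vqc0 0 (vqc0 0 vqc1))))))))) (vqc0 (vqc0 1 (vqc0 1 (vqc0 0 (vqc0 2 (vqc0 0 (vqc0 0 (vqc0 0 (vqc0 0 (vqc0 1 vqc1))))))))) (vqc0 (vqc0 0 (vqc0 1 (vqc0 1 (vqc0 1 (vqc0 2 (vqc0 1 (vqc0 2 (vqc0 0 (vqc0 0 vqc1))))))))) (vqc0 (vqc0 2 (vqc0 0 (vqc0 0 (vqc0 1 (vqc0 1 (vqc0 1 (vqc0 0 (vqc0 2 (vqc0 1 vqc1))))))))) (vqc0 (vqc0 0 (vqc0 2 (vqc0 2 (vqc0 2 (vqc0 1 (vqc0 2 (vqc0 0 (vqc0 0 (vqc0 0 vqc1))))))))) (vqc0 (vqc0 0 (vqc0 1 (vqc0 0 (vqc0 0 (vqc0 1 (vqc0 2 (vqc0 1 (vqc0 2 (vqc0 2 vqc1))))))))) (vqc0 (vqc0 2 (vqc0 2 (vqc0 0 (vqc0 0 (vqc0 0 (vqc0 2 (vqc0 2 (vqc0 0 (vqc0 2 vqc1))))))))) (vqc0 (vqc0 2 (vqc0 2 (vqc0 2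 (vqc0 0 (vqc0 0 (vqc0 1 (vqc0 2 (vqc0 0 (vqc0 1 vqc1))))))))) (vqc0 (vqc0 1 (vqc0 2 (vqc0 0 (vqc0 0 (vqc0 0 (vqc0 1 (vqc0 2 (vqc0 0 (vqc0 0 vqc1))))))))) vqc1))))))))))
    [7100, 18801, 3911] (by decide +kernel)

theorem a91 : Ok 276479 340010386767387756527868 :=
  ok_of (beta% delta% lq26c8b9c1d715 fun vqc0 vqc1 _ _ _ _ _ =>
      (vqc0 (vqc0 0 (vqc0 2 (vqc0 2 (vqc0 2 (vqc0 1 (vqc0 2 (vqc0 0 (vqc0 0 (vqc0 0 vqc1))))))))) (vqc0 (vqc0 0 (vqc0 0 (vqc0 0 (vqc0 0 (vqc0 0 (vqc0 1 (vqc0 0 (vqc0 2 (vqc0 0 vqc1))))))))) (vqc0 (vqc0 0 (vqc0 1 (vqc0 1 (vqc0 2 (vqc0 1 (vqc0 1 (vqc0 1 (vqc0 1 (vqc0 1 vqc1))))))))) (vqc0 (vqc0 0 (vqc0 1 (vqc0 2 (vqc0 1 (vqc0 1 (vqc0 1 (vqc0 1 (vqc0 1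 (vqc0 1 vqc1))))))))) (vqc0 (vqc0 1 (vqc0 0 (vqc0 0 (vqc0 0 (vqc0 2 (vqc0 0 (vqc0 2 (vqc0 2 (vqc0 2 vqc1))))))))) (vqc0 (vqc0 0 (vqc0 0 (vqc0 2 (vqc0 2 (vqc0 1 (vqc0 2 (vqc0 1 (vqc0 1 (vqc0 1 vqc1))))))))) (vqc0 (vqc0 2 (vqc0 0 (vqc0 1 (vqc0 1 (vqc0 1 (vqc0 2 (vqc0 1 (vqc0 1 (vqc0 2 vqc1))))))))) (vqc0 (vqc0 0 (vqc0 2 (vqc0 2 (vqc0 2 (vqc0 1 (vqc0 2 (vqc0 1 (vqc0 1 (vqc0 1 vqc1))))))))) (vqc0 (vqc0 0 (vqc0 2 (vqc0 2 (vqc0 2 (vqc0 1 (vqc0 2 (vqc0 1 (vqc0 2 (vqc0 0 vqc1))))))))) vqc1))))))))))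
    (beta% delta% lq26c8b9c1d715 fun vqc0 vqc1 _ _ _ _ _ =>
        (vqc0 (vqc0 1 (vqc0 0 (vqc0 1 (vqc0 2 (vqc0 1 (vqc0 2 (vqc0 0 (vqc0 0 (vqc0 2 vqc1))))))))) (vqc0 (vqc0 1 (vqc0 2 (vqc0 0 (vqc0 2 (vqc0 1 (vqc0 1 (vqc0 0 (vqc0 0 (vqc0 0 vqc1))))))))) (vqc0 (vqc0 0 (vqc0 2 (vqc0 1 (vqc0 0 (vqc0 0 (vqc0 2 (vqc0 2 (vqc0 0 (vqc0 0 vqc1))))))))) (vqc0 (vqc0 1 (vqc0 1 (vqc0 0 (vqc0 0 (vqc0 0 (vqc0 0 (vqc0 0 (vqc0 1 (vqc0 1 vqc1))))))))) (vqc0 (vqc0 2 (vqc0 0 (vqc0 0 (vqc0 1 (vqc0 1 (vqc0 1 (vqc0 0 (vqc0 1 (vqc0 1 vqc1))))))))) (vqc0 (vqc0 1 (vqc0 1 (vqc0 2 (vqc0 2 (vqc0 0 (vqc0 2 (vqc0 1 (vqc0 1 (vqc0 0 vqc1))))))))) (vqc0 (vqc0 1 (vqc0 1 (vqc0 0 (vqc0 1 (vqc0 0 (vqc0 0 (vqc0 2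 (vqc0 0 (vqc0 2 vqc1))))))))) (vqc0 (vqc0 1 (vqc0 2 (vqc0 0 (vqc0 1 (vqc0 2 (vqc0 0 (vqc0 2 (vqc0 1 (vqc0 1 vqc1))))))))) (vqc0 (vqc0 2 (vqc0 2 (vqc0 0 (vqc0 2 (vqc0 2 (vqc0 1 (vqc0 2 (vqc0 1 (vqc0 0 vqc1))))))))) vqc1))))))))))
    [8730, 15386, 11661, 10247, 7110] (by decide +kernel)

theorem a92 : Ok 863 37778948963470384234712 :=
  ok_of (beta% delta% lq26c8b9c1d715 fun vqc0 vqc1 _ _ _ _ _ =>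
      (vqc0 (vqc0 1 (vqc0 0 (vqc0 1 (vqc0 2 (vqc0 2 (vqc0 1 (vqc0 0 (vqc0 1 (vqc0 2 vqc1))))))))) (vqc0 (vqc0 1 (vqc0 1 (vqc0 2 (vqc0 0 (vqc0 1 (vqc0 2 (vqc0 1 (vqc0 1 (vqc0 1 vqc1))))))))) (vqc0 (vqc0 2 (vqc0 2 (vqc0 0 (vqc0 2 (vqc0 2 (vqc0 1 (vqc0 2 (vqc0 2 (vqc0 1 vqc1))))))))) (vqc0 (vqc0 1 (vqc0 0 (vqc0 2 (vqc0 1 (vqc0 2 (vqc0 0 (vqc0 1 (vqc0 2 (vqc0 2 vqc1))))))))) (vqc0 (vqc0 2 (vqc0 2 (vqc0 0 (vqc0 2 (vqc0 1 (vqc0 2 (vqc0 1 (vqc0 1 (vqc0 1 vqc1))))))))) (vqc0 (vqc0 2 (vqc0 0 (vqc0 1 (vqc0 0 (vqc0 2 (vqc0 1 (vqc0 2 (vqc0 1 (vqc0 2 vqc1))))))))) (vqc0 (vqc0 1 (vqc0 1 (vqc0 1 (vqc0 2 (vqc0 1 (vqc0 1 (vqc0 1 (vqc0 2 (vqc0 0 vqc1))))))))) (vqc0 (vqc0 0 (vqc0 1 (vqc0 2 (vqc0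 1 (vqc0 2 (vqc0 2 (vqc0 0 (vqc0 0 (vqc0 0 vqc1))))))))) (vqc0 (vqc0 1 (vqc0 2 (vqc0 1 (vqc0 1 (vqc0 1 (vqc0 0 (vqc0 1 (vqc0 0 (vqc0 1 vqc1))))))))) vqc1))))))))))
    (beta% delta% lq26c8b9c1d715 fun vqc0 vqc1 _ _ _ _ _ =>
        (vqc0 (vqc0 2 (vqc0 2 (vqc0 0 (vqc0 1 (vqc0 1 (vqc0 2 (vqc0 1 (vqc0 1 (vqc0 1 vqc1))))))))) (vqc0 (vqc0 0 (vqc0 1 (vqc0 0 (vqc0 1 (vqc0 2 (vqc0 0 (vqc0 1 (vqc0 0 (vqc0 0 vqc1))))))))) (vqc0 (vqc0 1 (vqc0 0 (vqc0 1 (vqc0 2 (vqc0 1 (vqc0 0 (vqc0 2 (vqc0 1 (vqc0 1 vqc1))))))))) (vqc0 (vqc0 0 (vqc0 1 (vqc0 1 (vqc0 1 (vqc0 0 (vqc0 1 (vqc0 1 (vqc0 0 (vqc0 1 vqc1))))))))) (vqc0 (vqc0 2 (vqc0 0 (vqc0 1 (vqc0 0 (vqc0 2 (vqc0 1 (vqc0 1 (vqc0 1 (vqc0 0 vqc1)))))))))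 (vqc0 (vqc0 0 (vqc0 0 (vqc0 0 (vqc0 2 (vqc0 1 (vqc0 0 (vqc0 1 (vqc0 0 (vqc0 0 vqc1))))))))) (vqc0 (vqc0 2 (vqc0 1 (vqc0 0 (vqc0 1 (vqc0 2 (vqc0 1 (vqc0 0 (vqc0 2 (vqc0 2 vqc1))))))))) (vqc0 (vqc0 2 (vqc0 1 (vqc0 2 (vqc0 0 (vqc0 1 (vqc0 0 (vqc0 1 (vqc0 2 (vqc0 2 vqc1))))))))) (vqc0 (vqc0 1 (vqc0 0 (vqc0 1 (vqc0 0 (vqc0 0 (vqc0 0 (vqc0 2 (vqc0 1 (vqc0 0 vqc1))))))))) vqc1))))))))))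
    [8269, 7277, 2350] (by decide +kernel)

theorem a93 : Ok 863 37778931863459676422576 :=
  ok_of (beta% delta% lq26c8b9c1d715 fun vqc0 vqc1 _ _ _ _ _ =>
      (vqc0 (vqc0 2 (vqc0 1 (vqc0 1 (vqc0 2 (vqc0 1 (vqc0 0 (vqc0 0 (vqc0 1 (vqc0 1 vqc1))))))))) (vqc0 (vqc0 1 (vqc0 1 (vqc0 0 (vqc0 2 (vqc0 0 (vqc0 0 (vqc0 0 (vqc0 0 (vqc0 2 vqc1))))))))) (vqc0 (vqc0 0 (vqc0 0 (vqc0 1 (vqc0 1 (vqc0 0 (vqc0 1 (vqc0 0 (vqc0 2 (vqc0 2 vqc1))))))))) (vqc0 (vqc0 2 (vqc0 2 (vqc0 2 (vqc0 2 (vqc0 2 (vqc0 1 (vqc0 0 (vqc0 2 (vqc0 2 vqc1))))))))) (vqc0 (vqc0 2 (vqc0 2 (vqc0 1 (vqc0 2 (vqc0 0 (vqc0 2 (vqc0 0 (vqc0 0 (vqc0 0 vqc1))))))))) (vqc0 (vqc0 0 (vqc0 1 (vqc0 2 (vqc0 1 (vqc0 0 (vqc0 2 (vqc0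 1 (vqc0 2 (vqc0 2 vqc1))))))))) (vqc0 (vqc0 1 (vqc0 1 (vqc0 0 (vqc0 1 (vqc0 2 (vqc0 2 (vqc0 1 (vqc0 2 (vqc0 2 vqc1))))))))) (vqc0 (vqc0 2 (vqc0 1 (vqc0 0 (vqc0 2 (vqc0 2 (vqc0 2 (vqc0 1 (vqc0 0 (vqc0 0 vqc1))))))))) (vqc0 (vqc0 1 (vqc0 2 (vqc0 2 (vqc0 1 (vqc0 2 (vqc0 0 (vqc0 1 (vqc0 2 (vqc0 1 vqc1))))))))) vqc1))))))))))
    (beta% delta% lq26c8b9c1d715 fun vqc0 vqc1 _ _ _ _ _ =>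
        (vqc0 (vqc0 1 (vqc0 1 (vqc0 0 (vqc0 2 (vqc0 2 (vqc0 1 (vqc0 1 (vqc0 0 (vqc0 0 vqc1))))))))) (vqc0 (vqc0 0 (vqc0 2 (vqc0 2 (vqc0 0 (vqc0 0 (vqc0 0 (vqc0 1 (vqc0 1 (vqc0 2 vqc1))))))))) (vqc0 (vqc0 1 (vqc0 0 (vqc0 1 (vqc0 0 (vqc0 2 (vqc0 0 (vqc0 1 (vqc0 1 (vqc0 1 vqc1))))))))) (vqc0 (vqc0 2 (vqc0 0 (vqc0 2 (vqc0 1 (vqc0 2 (vqc0 1 (vqc0 0 (vqc0 2 (vqc0 2 vqc1))))))))) (vqc0 (vqc0 0 (vqc0 2 (vqc0 0 (vqc0 0 (vqc0 1 (vqc0 1 (vqc0 0 (vqc0 1 (vqc0 1 vqc1))))))))) (vqc0 (vqc0 2 (vqc0 2 (vqc0 0 (vqc0 1 (vqc0 0 (vqc0 2 (vqc0 0 (vqc0 1 (vqc0 1 vqc1))))))))) (vqc0 (vqc0 2 (vqc0 0 (vqc0 2 (vqc0 0 (vqc0 0 (vqc0 2 (vqc0 0 (vqc0 2 (vqc0 0 vqc1))))))))) (vqc0 (vqc0 2 (vqc0 2 (vqc0 1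 (vqc0 1 (vqc0 2 (vqc0 1 (vqc0 0 (vqc0 2 (vqc0 2 vqc1))))))))) (vqc0 (vqc0 0 (vqc0 0 (vqc0 2 (vqc0 0 (vqc0 2 (vqc0 1 (vqc0 1 (vqc0 1 (vqc0 2 vqc1))))))))) vqc1))))))))))
    [8060, 15441, 17842] (by decide +kernel)

theorem a94 : Ok 2591 37778931864097475526656 :=
  ok_of (beta% delta% lq26c8b9c1d715 fun vqc0 vqc1 _ _ _ _ _ =>
      (vqc0 (vqc0 2 (vqc0 1 (vqc0 2 (vqc0 0 (vqc0 0 (vqc0 0 (vqc0 1 (vqc0 1 (vqc0 0 vqc1))))))))) (vqc0 (vqc0 1 (vqc0 0 (vqc0 2 (vqc0 1 (vqc0 0 (vqc0 0 (vqc0 2 (vqc0 2 (vqc0 0 vqc1))))))))) (vqc0 (vqc0 2 (vqc0 2 (vqc0 2 (vqc0 2 (vqc0 2 (vqc0 1 (vqc0 0 (vqc0 2 (vqc0 2 vqc1))))))))) (vqc0 (vqc0 1 (vqc0 1 (vqc0 2 (vqc0 0 (vqc0 1 (vqc0 2 (vqc0 0 (vqc0 0 (vqc0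 0 vqc1))))))))) (vqc0 (vqc0 2 (vqc0 1 (vqc0 1 (vqc0 0 (vqc0 1 (vqc0 1 (vqc0 1 (vqc0 1 (vqc0 1 vqc1))))))))) (vqc0 (vqc0 2 (vqc0 1 (vqc0 2 (vqc0 2 (vqc0 0 (vqc0 2 (vqc0 2 (vqc0 2 (vqc0 1 vqc1))))))))) (vqc0 (vqc0 1 (vqc0 0 (vqc0 1 (vqc0 1 (vqc0 1 (vqc0 1 (vqc0 1 (vqc0 2 (vqc0 2 vqc1))))))))) (vqc0 (vqc0 1 (vqc0 1 (vqc0 2 (vqc0 0 (vqc0 2 (vqc0 0 (vqc0 0 (vqc0 0 (vqc0 1 vqc1))))))))) (vqc0 (vqc0 0 (vqc0 0 (vqc0 0 (vqc0 0 (vqc0 2 (vqc0 2 (vqc0 1 (vqc0 2 (vqc0 2 vqc1))))))))) vqc1))))))))))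
    (beta% delta% lq26c8b9c1d715 fun vqc0 vqc1 _ _ _ _ _ =>
        (vqc0 (vqc0 2 (vqc0 2 (vqc0 1 (vqc0 1 (vqc0 2 (vqc0 2 (vqc0 2 (vqc0 2 (vqc0 2 vqc1))))))))) (vqc0 (vqc0 2 (vqc0 2 (vqc0 1 (vqc0 2 (vqc0 1 (vqc0 0 (vqc0 0 (vqc0 0 (vqc0 0 vqc1))))))))) (vqc0 (vqc0 1 (vqc0 1 (vqc0 1 (vqc0 1 (vqc0 0 (vqc0 2 (vqc0 2 (vqc0 2 (vqc0 0 vqc1))))))))) (vqc0 (vqc0 1 (vqc0 1 (vqc0 1 (vqc0 1 (vqc0 1 (vqc0 2 (vqc0 2 (vqc0 0 (vqc0 1 vqc1))))))))) (vqc0 (vqc0 1 (vqc0 2 (vqc0 1 (vqc0 1 (vqc0 1 (vqc0 0 (vqc0 0 (vqc0 1 (vqc0 0 vqc1))))))))) (vqc0 (vqc0 2 (vqc0 2 (vqc0 2 (vqc0 1 (vqc0 1 (vqc0 2 (vqc0 2 (vqc0 1 (vqc0 2 vqc1))))))))) (vqc0 (vqc0 1 (vqc0 1 (vqc0 0 (vqc0 0 (vqc0 1 (vqc0 2 (vqc0 1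 (vqc0 0 (vqc0 0 vqc1))))))))) (vqc0 (vqc0 2 (vqc0 1 (vqc0 2 (vqc0 1 (vqc0 0 (vqc0 1 (vqc0 0 (vqc0 0 (vqc0 2 vqc1))))))))) (vqc0 (vqc0 0 (vqc0 1 (vqc0 1 (vqc0 2 (vqc0 0 (vqc0 0 (vqc0 2 (vqc0 2 (vqc0 1 vqc1))))))))) vqc1))))))))))
    [8666, 520, 18743] (by decide +kernel)

theorem a95 : Ok 62207 37778931863575663542272 :=
  ok_of (beta% delta% lq26c8b9c1d715 fun vqc0 vqc1 _ _ _ _ _ =>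
      (vqc0 (vqc0 0 (vqc0 2 (vqc0 2 (vqc0 2 (vqc0 0 (vqc0 0 (vqc0 2 (vqc0 1 (vqc0 0 vqc1))))))))) (vqc0 (vqc0 1 (vqc0 1 (vqc0 0 (vqc0 2 (vqc0 0 (vqc0 2 (vqc0 1 (vqc0 0 (vqc0 1 vqc1))))))))) (vqc0 (vqc0 2 (vqc0 0 (vqc0 0 (vqc0 0 (vqc0 0 (vqc0 2 (vqc0 0 (vqc0 1 (vqc0 0 vqc1))))))))) (vqc0 (vqc0 1 (vqc0 2 (vqc0 0 (vqc0 2 (vqc0 2 (vqc0 0 (vqc0 2 (vqc0 2 (vqc0 0 vqc1))))))))) (vqc0 (vqc0 2 (vqc0 0 (vqc0 0 (vqc0 2 (vqc0 2 (vqc0 1 (vqc0 2 (vqc0 1 (vqc0 2 vqc1))))))))) (vqc0 (vqc0 0 (vqc0 1 (vqc0 0 (vqc0 1 (vqc0 2 (vqc0 2 (vqc0 0 (vqc0 2 (vqc0 2 vqc1))))))))) (vqc0 (vqc0 2 (vqc0 2 (vqc0 1 (vqc0 1 (vqc0 2 (vqc0 1 (vqc0 1 (vqc0 0 (vqc0 2 vqc1))))))))) (vqc0 (vqc0 1 (vqc0 1 (vqc0 0 (vqc0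 0 (vqc0 0 (vqc0 2 (vqc0 1 (vqc0 0 (vqc0 1 vqc1))))))))) (vqc0 (vqc0 2 (vqc0 2 (vqc0 0 (vqc0 0 (vqc0 1 (vqc0 2 (vqc0 0 (vqc0 1 (vqc0 2 vqc1))))))))) vqc1))))))))))
    (beta% delta% lq26c8b9c1d715 fun vqc0 vqc1 _ _ _ _ _ =>
        (vqc0 (vqc0 1 (vqc0 1 (vqc0 2 (vqc0 0 (vqc0 1 (vqc0 0 (vqc0 0 (vqc0 0 (vqc0 1 vqc1))))))))) (vqc0 (vqc0 2 (vqc0 0 (vqc0 0 (vqc0 2 (vqc0 2 (vqc0 0 (vqc0 1 (vqc0 1 (vqc0 1 vqc1))))))))) (vqc0 (vqc0 1 (vqc0 2 (vqc0 2 (vqc0 1 (vqc0 1 (vqc0 0 (vqc0 0 (vqc0 0 (vqc0 1 vqc1))))))))) (vqc0 (vqc0 1 (vqc0 2 (vqc0 0 (vqc0 2 (vqc0 2 (vqc0 2 (vqc0 0 (vqc0 1 (vqc0 0 vqc1))))))))) (vqc0 (vqc0 1 (vqc0 1 (vqc0 2 (vqc0 2 (vqc0 2 (vqc0 1 (vqc0 2 (vqc0 0 (vqc0 2 vqc1)))))))))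 (vqc0 (vqc0 1 (vqc0 1 (vqc0 2 (vqc0 2 (vqc0 1 (vqc0 1 (vqc0 1 (vqc0 1 (vqc0 2 vqc1))))))))) (vqc0 (vqc0 1 (vqc0 2 (vqc0 2 (vqc0 0 (vqc0 1 (vqc0 0 (vqc0 2 (vqc0 2 (vqc0 0 vqc1))))))))) (vqc0 (vqc0 2 (vqc0 1 (vqc0 1 (vqc0 0 (vqc0 0 (vqc0 2 (vqc0 1 (vqc0 2 (vqc0 1 vqc1))))))))) (vqc0 (vqc0 0 (vqc0 1 (vqc0 0 (vqc0 0 (vqc0 0 (vqc0 2 (vqc0 1 (vqc0 2 (vqc0 0 vqc1))))))))) vqc1))))))))))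
    [13144, 12544, 18255, 1593] (by decide +kernel)

theorem a96 : Ok 62207 37778931863749604409344 :=
  ok_of (beta% delta% lq26c8b9c1d715 fun vqc0 vqc1 _ _ _ _ _ =>
      (vqc0 (vqc0 2 (vqc0 0 (vqc0 0 (vqc0 0 (vqc0 0 (vqc0 0 (vqc0 0 (vqc0 0 (vqc0 0 vqc1))))))))) (vqc0 (vqc0 1 (vqc0 2 (vqc0 0 (vqc0 2 (vqc0 1 (vqc0 2 (vqc0 1 (vqc0 0 (vqc0 1 vqc1))))))))) (vqc0 (vqc0 1 (vqc0 0 (vqc0 2 (vqc0 1 (vqc0 2 (vqc0 1 (vqc0 2 (vqc0 0 (vqc0 1 vqc1))))))))) (vqc0 (vqc0 2 (vqc0 0 (vqc0 2 (vqc0 1 (vqc0 0 (vqc0 1 (vqc0 2 (vqc0 1 (vqc0 2 vqc1))))))))) (vqc0 (vqc0 1 (vqc0 0 (vqc0 0 (vqc0 0 (vqc0 1 (vqc0 1 (vqc0 0 (vqc0 2 (vqc0 2 vqc1))))))))) (vqc0 (vqc0 2 (vqc0 0 (vqc0 2 (vqc0 2 (vqc0 0 (vqc0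 2 (vqc0 2 (vqc0 0 (vqc0 2 vqc1))))))))) (vqc0 (vqc0 1 (vqc0 0 (vqc0 2 (vqc0 0 (vqc0 1 (vqc0 1 (vqc0 0 (vqc0 1 (vqc0 2 vqc1))))))))) (vqc0 (vqc0 0 (vqc0 0 (vqc0 1 (vqc0 0 (vqc0 1 (vqc0 1 (vqc0 2 (vqc0 1 (vqc0 0 vqc1))))))))) (vqc0 (vqc0 0 (vqc0 0 (vqc0 0 (vqc0 1 (vqc0 2 (vqc0 2 (vqc0 2 (vqc0 1 (vqc0 2 vqc1))))))))) vqc1))))))))))
    (beta% delta% lq26c8b9c1d715 fun vqc0 vqc1 _ _ _ _ _ =>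
        (vqc0 (vqc0 1 (vqc0 2 (vqc0 1 (vqc0 0 (vqc0 2 (vqc0 2 (vqc0 2 (vqc0 0 (vqc0 0 vqc1))))))))) (vqc0 (vqc0 0 (vqc0 2 (vqc0 2 (vqc0 0 (vqc0 0 (vqc0 0 (vqc0 1 (vqc0 1 (vqc0 1 vqc1))))))))) (vqc0 (vqc0 2 (vqc0 0 (vqc0 2 (vqc0 2 (vqc0 1 (vqc0 0 (vqc0 0 (vqc0 2 (vqc0 2 vqc1))))))))) (vqc0 (vqc0 2 (vqc0 1 (vqc0 0 (vqc0 0 (vqc0 1 (vqc0 0 (vqc0 1 (vqc0 1 (vqc0 0 vqc1))))))))) (vqc0 (vqc0 0 (vqc0 1 (vqc0 0 (vqc0 1 (vqc0 2 (vqc0 1 (vqc0 1 (vqc0 2 (vqc0 1 vqc1))))))))) (vqc0 (vqc0 0 (vqc0 2 (vqc0 0 (vqc0 1 (vqc0 2 (vqc0 0 (vqc0 1 (vqc0 1 (vqc0 2 vqc1))))))))) (vqc0 (vqc0 0 (vqc0 1 (vqc0 1 (vqc0 0 (vqc0 2 (vqc0 2 (vqc0 2 (vqc0 0 (vqc0 1 vqc1))))))))) (vqc0 (vqc0 2 (vqc0 1 (vqc0 2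 (vqc0 2 (vqc0 1 (vqc0 2 (vqc0 2 (vqc0 1 (vqc0 1 vqc1))))))))) (vqc0 (vqc0 2 (vqc0 2 (vqc0 2 (vqc0 1 (vqc0 2 (vqc0 1 (vqc0 1 (vqc0 1 (vqc0 1 vqc1))))))))) vqc1))))))))))
    [17264, 7571, 7518, 4789] (by decide +kernel)

theorem a97 : Ok 186623 37778931864967222329344 :=
  ok_of (beta% delta% lq26c8b9c1d715 fun vqc0 vqc1 _ _ _ _ _ =>
      (vqc0 (vqc0 1 (vqc0 1 (vqc0 0 (vqc0 2 (vqc0 1 (vqc0 1 (vqc0 1 (vqc0 2 (vqc0 2 vqc1))))))))) (vqc0 (vqc0 0 (vqc0 1 (vqc0 1 (vqc0 2 (vqc0 2 (vqc0 1 (vqc0 0 (vqc0 0 (vqc0 2 vqc1))))))))) (vqc0 (vqc0 2 (vqc0 1 (vqc0 0 (vqc0 1 (vqc0 1 (vqc0 1 (vqc0 0 (vqc0 1 (vqc0 0 vqc1))))))))) (vqc0 (vqc0 2 (vqc0 2 (vqc0 2 (vqc0 2 (vqc0 0 (vqc0 1 (vqc0 1 (vqc0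 2 (vqc0 1 vqc1))))))))) (vqc0 (vqc0 2 (vqc0 1 (vqc0 1 (vqc0 2 (vqc0 1 (vqc0 2 (vqc0 1 (vqc0 1 (vqc0 2 vqc1))))))))) (vqc0 (vqc0 0 (vqc0 1 (vqc0 0 (vqc0 1 (vqc0 2 (vqc0 2 (vqc0 0 (vqc0 2 (vqc0 1 vqc1))))))))) (vqc0 (vqc0 2 (vqc0 0 (vqc0 1 (vqc0 1 (vqc0 2 (vqc0 1 (vqc0 0 (vqc0 2 (vqc0 0 vqc1))))))))) (vqc0 (vqc0 0 (vqc0 0 (vqc0 1 (vqc0 2 (vqc0 0 (vqc0 0 (vqc0 2 (vqc0 1 (vqc0 1 vqc1))))))))) (vqc0 (vqc0 2 (vqc0 2 (vqc0 1 (vqc0 2 (vqc0 2 (vqc0 0 (vqc0 0 (vqc0 0 (vqc0 2 vqc1))))))))) vqc1))))))))))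
    (beta% delta% lq26c8b9c1d715 fun vqc0 vqc1 _ _ _ _ _ =>
        (vqc0 (vqc0 0 (vqc0 1 (vqc0 2 (vqc0 1 (vqc0 1 (vqc0 1 (vqc0 2 (vqc0 0 (vqc0 0 vqc1))))))))) (vqc0 (vqc0 1 (vqc0 0 (vqc0 1 (vqc0 2 (vqc0 0 (vqc0 0 (vqc0 2 (vqc0 2 (vqc0 0 vqc1))))))))) (vqc0 (vqc0 0 (vqc0 2 (vqc0 2 (vqc0 2 (vqc0 0 (vqc0 2 (vqc0 0 (vqc0 2 (vqc0 2 vqc1))))))))) (vqc0 (vqc0 2 (vqc0 0 (vqc0 0 (vqc0 0 (vqc0 2 (vqc0 2 (vqc0 0 (vqc0 0 (vqc0 1 vqc1))))))))) (vqc0 (vqc0 1 (vqc0 0 (vqc0 0 (vqc0 1 (vqc0 0 (vqc0 0 (vqc0 1 (vqc0 0 (vqc0 0 vqc1))))))))) (vqc0 (vqc0 1 (vqc0 2 (vqc0 2 (vqc0 2 (vqc0 1 (vqc0 1 (vqc0 2 (vqc0 0 (vqc0 1 vqc1))))))))) (vqc0 (vqc0 1 (vqc0 2 (vqc0 1 (vqc0 2 (vqc0 0 (vqc0 0 (vqc0 0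 (vqc0 0 (vqc0 2 vqc1))))))))) (vqc0 (vqc0 0 (vqc0 0 (vqc0 1 (vqc0 1 (vqc0 1 (vqc0 1 (vqc0 1 (vqc0 2 (vqc0 2 vqc1))))))))) (vqc0 (vqc0 1 (vqc0 0 (vqc0 0 (vqc0 0 (vqc0 0 (vqc0 2 (vqc0 0 (vqc0 0 (vqc0 2 vqc1))))))))) vqc1))))))))))
    [3087, 10741, 9717, 18849] (by decide +kernel)

theorem a98 : Ok 194088959 37778931864967413432320 :=
  ok_of (beta% delta% lq26c8b9c1d715 fun vqc0 vqc1 _ _ _ _ _ =>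
      (vqc0 (vqc0 1 (vqc0 2 (vqc0 0 (vqc0 2 (vqc0 0 (vqc0 2 (vqc0 2 (vqc0 1 (vqc0 1 vqc1))))))))) (vqc0 (vqc0 1 (vqc0 1 (vqc0 1 (vqc0 2 (vqc0 0 (vqc0 0 (vqc0 2 (vqc0 2 (vqc0 2 vqc1))))))))) (vqc0 (vqc0 2 (vqc0 1 (vqc0 0 (vqc0 0 (vqc0 2 (vqc0 2 (vqc0 0 (vqc0 0 (vqc0 0 vqc1))))))))) (vqc0 (vqc0 1 (vqc0 2 (vqc0 0 (vqc0 0 (vqc0 2 (vqc0 2 (vqc0 1 (vqc0 1 (vqc0 1 vqc1))))))))) (vqc0 (vqc0 0 (vqc0 1 (vqc0 0 (vqc0 0 (vqc0 1 (vqc0 1 (vqc0 0 (vqc0 2 (vqc0 2 vqc1))))))))) (vqc0 (vqc0 0 (vqc0 2 (vqc0 1 (vqc0 1 (vqc0 2 (vqc0 2 (vqc0 1 (vqc0 2 (vqc0 2 vqc1))))))))) (vqc0 (vqc0 2 (vqc0 0 (vqc0 0 (vqc0 2 (vqc0 2 (vqc0 0 (vqc0 1 (vqc0 0 (vqc0 0 vqc1))))))))) (vqc0 (vqc0 2 (vqc0 1 (vqc0 1 (vqc0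 0 (vqc0 2 (vqc0 2 (vqc0 0 (vqc0 2 (vqc0 0 vqc1))))))))) (vqc0 (vqc0 2 (vqc0 0 (vqc0 0 (vqc0 2 (vqc0 2 (vqc0 0 (vqc0 2 (vqc0 0 (vqc0 2 vqc1))))))))) vqc1))))))))))
    (beta% delta% lq26c8b9c1d715 fun vqc0 vqc1 _ _ _ _ _ =>
        (vqc0 (vqc0 0 (vqc0 0 (vqc0 2 (vqc0 1 (vqc0 1 (vqc0 0 (vqc0 2 (vqc0 1 (vqc0 2 vqc1))))))))) (vqc0 (vqc0 2 (vqc0 2 (vqc0 1 (vqc0 2 (vqc0 2 (vqc0 0 (vqc0 2 (vqc0 2 (vqc0 1 vqc1))))))))) (vqc0 (vqc0 1 (vqc0 0 (vqc0 2 (vqc0 1 (vqc0 2 (vqc0 1 (vqc0 2 (vqc0 1 (vqc0 0 vqc1))))))))) (vqc0 (vqc0 1 (vqc0 2 (vqc0 0 (vqc0 2 (vqc0 1 (vqc0 2 (vqc0 2 (vqc0 0 (vqc0 2 vqc1))))))))) (vqc0 (vqc0 0 (vqc0 1 (vqc0 0 (vqc0 0 (vqc0 0 (vqc0 1 (vqc0 1 (vqc0 1 (vqc0 1 vqc1)))))))))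 (vqc0 (vqc0 0 (vqc0 1 (vqc0 0 (vqc0 0 (vqc0 2 (vqc0 1 (vqc0 2 (vqc0 1 (vqc0 2 vqc1))))))))) (vqc0 (vqc0 0 (vqc0 1 (vqc0 1 (vqc0 1 (vqc0 0 (vqc0 0 (vqc0 0 (vqc0 1 (vqc0 2 vqc1))))))))) (vqc0 (vqc0 0 (vqc0 0 (vqc0 1 (vqc0 0 (vqc0 2 (vqc0 2 (vqc0 2 (vqc0 0 (vqc0 2 vqc1))))))))) (vqc0 (vqc0 2 (vqc0 1 (vqc0 0 (vqc0 2 (vqc0 2 (vqc0 0 (vqc0 2 (vqc0 0 (vqc0 0 vqc1))))))))) vqc1))))))))))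
    [1894, 15651, 19560, 7414, 15071, 12139] (by decide +kernel)

theorem a99 : Ok 215 113585834234676630258042 :=
  ok_of (beta% delta% lq26c8b9c1d715 fun vqc0 vqc1 _ _ _ _ _ =>
      (vqc0 (vqc0 2 (vqc0 0 (vqc0 2 (vqc0 1 (vqc0 1 (vqc0 2 (vqc0 2 (vqc0 1 (vqc0 0 vqc1))))))))) (vqc0 (vqc0 1 (vqc0 1 (vqc0 2 (vqc0 0 (vqc0 0 (vqc0 1 (vqc0 0 (vqc0 1 (vqc0 1 vqc1))))))))) (vqc0 (vqc0 0 (vqc0 2 (vqc0 2 (vqc0 0 (vqc0 2 (vqc0 0 (vqc0 2 (vqc0 0 (vqc0 0 vqc1))))))))) (vqc0 (vqc0 1 (vqc0 0 (vqc0 0 (vqc0 0 (vqc0 0 (vqc0 0 (vqc0 1 (vqc0 1 (vqc0 1 vqc1))))))))) (vqc0 (vqc0 1 (vqc0 2 (vqc0 0 (vqc0 2 (vqc0 0 (vqc0 1 (vqc0 2 (vqc0 2 (vqc0 0 vqc1))))))))) (vqc0 (vqc0 0 (vqc0 2 (vqc0 2 (vqc0 1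 (vqc0 1 (vqc0 2 (vqc0 0 (vqc0 0 (vqc0 1 vqc1))))))))) (vqc0 (vqc0 2 (vqc0 0 (vqc0 1 (vqc0 1 (vqc0 2 (vqc0 0 (vqc0 2 (vqc0 0 (vqc0 1 vqc1))))))))) (vqc0 (vqc0 1 (vqc0 1 (vqc0 0 (vqc0 2 (vqc0 2 (vqc0 2 (vqc0 1 (vqc0 1 (vqc0 0 vqc1))))))))) (vqc0 (vqc0 2 (vqc0 1 (vqc0 2 (vqc0 1 (vqc0 1 (vqc0 1 (vqc0 2 (vqc0 2 (vqc0 1 vqc1))))))))) vqc1))))))))))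
    (beta% delta% lq26c8b9c1d715 fun vqc0 vqc1 _ _ _ _ _ =>
        (vqc0 (vqc0 0 (vqc0 2 (vqc0 0 (vqc0 2 (vqc0 1 (vqc0 2 (vqc0 2 (vqc0 1 (vqc0 1 vqc1))))))))) (vqc0 (vqc0 2 (vqc0 2 (vqc0 1 (vqc0 1 (vqc0 0 (vqc0 1 (vqc0 1 (vqc0 1 (vqc0 0 vqc1))))))))) (vqc0 (vqc0 1 (vqc0 1 (vqc0 1 (vqc0 2 (vqc0 2 (vqc0 1 (vqc0 2 (vqc0 1 (vqc0 2 vqc1))))))))) (vqc0 (vqc0 0 (vqc0 2 (vqc0 1 (vqc0 2 (vqc0 1 (vqc0 1 (vqc0 1 (vqc0 0 (vqc0 0 vqc1))))))))) (vqc0 (vqc0 1 (vqc0 0 (vqc0 0 (vqc0 2 (vqc0 0 (vqc0 2 (vqc0 2 (vqc0 0 (vqc0 0 vqc1))))))))) (vqc0 (vqc0 1 (vqc0 0 (vqc0 0 (vqc0 2 (vqc0 1 (vqc0 0 (vqc0 0 (vqc0 1 (vqc0 0 vqc1))))))))) (vqc0 (vqc0 0 (vqc0 2 (vqc0 0 (vqc0 0 (vqc0 1 (vqc0 1 (vqc0 0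 (vqc0 1 (vqc0 1 vqc1))))))))) (vqc0 (vqc0 0 (vqc0 2 (vqc0 1 (vqc0 2 (vqc0 2 (vqc0 1 (vqc0 1 (vqc0 2 (vqc0 0 vqc1))))))))) (vqc0 (vqc0 2 (vqc0 2 (vqc0 1 (vqc0 1 (vqc0 1 (vqc0 1 (vqc0 1 (vqc0 0 (vqc0 2 vqc1))))))))) vqc1))))))))))
    [11910] (by decide +kernel)

theorem a100 : Ok 1727 113336795589509287772754 :=
  ok_of (beta% delta% lq26c8b9c1d715 fun vqc0 vqc1 _ _ _ _ _ =>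
      (vqc0 (vqc0 2 (vqc0 1 (vqc0 0 (vqc0 2 (vqc0 1 (vqc0 1 (vqc0 0 (vqc0 1 (vqc0 0 vqc1))))))))) (vqc0 (vqc0 2 (vqc0 0 (vqc0 0 (vqc0 0 (vqc0 0 (vqc0 0 (vqc0 2 (vqc0 2 (vqc0 1 vqc1))))))))) (vqc0 (vqc0 2 (vqc0 1 (vqc0 0 (vqc0 2 (vqc0 0 (vqc0 0 (vqc0 2 (vqc0 1 (vqc0 1 vqc1))))))))) (vqc0 (vqc0 0 (vqc0 0 (vqc0 0 (vqc0 1 (vqc0 2 (vqc0 2 (vqc0 2 (vqc0 0 (vqc0 2 vqc1))))))))) (vqc0 (vqc0 1 (vqc0 1 (vqc0 2 (vqc0 2 (vqc0 0 (vqc0 0 (vqc0 2 (vqc0 1 (vqc0 1 vqc1))))))))) (vqc0 (vqc0 0 (vqc0 1 (vqc0 1 (vqc0 1 (vqc0 1 (vqc0 2 (vqc0 2 (vqc0 2 (vqc0 2 vqc1))))))))) (vqc0 (vqc0 0 (vqc0 0 (vqc0 2 (vqc0 0 (vqc0 2 (vqc0 2 (vqc0 1 (vqc0 0 (vqc0 1 vqc1))))))))) (vqc0 (vqc0 2 (vqc0 1 (vqc0 1 (vqc0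 2 (vqc0 2 (vqc0 0 (vqc0 1 (vqc0 0 (vqc0 2 vqc1))))))))) (vqc0 (vqc0 1 (vqc0 1 (vqc0 1 (vqc0 2 (vqc0 1 (vqc0 0 (vqc0 0 (vqc0 1 (vqc0 2 vqc1))))))))) vqc1))))))))))
    (beta% delta% lq26c8b9c1d715 fun vqc0 vqc1 _ _ _ _ _ =>
        (vqc0 (vqc0 2 (vqc0 0 (vqc0 1 (vqc0 1 (vqc0 0 (vqc0 0 (vqc0 0 (vqc0 2 (vqc0 2 vqc1))))))))) (vqc0 (vqc0 1 (vqc0 2 (vqc0 2 (vqc0 1 (vqc0 2 (vqc0 0 (vqc0 1 (vqc0 0 (vqc0 2 vqc1))))))))) (vqc0 (vqc0 1 (vqc0 0 (vqc0 0 (vqc0 2 (vqc0 1 (vqc0 0 (vqc0 2 (vqc0 0 (vqc0 0 vqc1))))))))) (vqc0 (vqc0 0 (vqc0 2 (vqc0 1 (vqc0 2 (vqc0 2 (vqc0 1 (vqc0 0 (vqc0 1 (vqc0 1 vqc1))))))))) (vqc0 (vqc0 0 (vqc0 2 (vqc0 2 (vqc0 2 (vqc0 1 (vqc0 0 (vqc0 0 (vqc0 0 (vqc0 2 vqc1)))))))))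 (vqc0 (vqc0 1 (vqc0 0 (vqc0 1 (vqc0 2 (vqc0 2 (vqc0 2 (vqc0 0 (vqc0 1 (vqc0 0 vqc1))))))))) (vqc0 (vqc0 1 (vqc0 1 (vqc0 0 (vqc0 2 (vqc0 0 (vqc0 2 (vqc0 2 (vqc0 0 (vqc0 2 vqc1))))))))) (vqc0 (vqc0 2 (vqc0 0 (vqc0 2 (vqc0 2 (vqc0 0 (vqc0 2 (vqc0 2 (vqc0 0 (vqc0 2 vqc1))))))))) (vqc0 (vqc0 1 (vqc0 0 (vqc0 2 (vqc0 2 (vqc0 2 (vqc0 2 (vqc0 1 (vqc0 0 (vqc0 0 vqc1))))))))) vqc1))))))))))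
    [2325, 1739] (by decide +kernel)

end Cfsg.Agent.H651.O9
end

-- part: H651/O9/D5
section
/-!
# Classes of the orthogonal group in dimension 9 over the field with three elements, part 5 (helper651)
-/

set_option autoImplicit false
set_option exponentiation.threshold 30000
set_option maxRecDepth 100000

namespace Cfsg.Agent.H651.O9

theorem a101 : Ok 179 113751860631092330496180 :=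
  ok_of (beta% delta% lq26c8b9c1d715 fun vqc0 vqc1 _ _ _ _ _ =>
      (vqc0 (vqc0 2 (vqc0 1 (vqc0 2 (vqc0 1 (vqc0 0 (vqc0 0 (vqc0 0 (vqc0 1 (vqc0 2 vqc1))))))))) (vqc0 (vqc0 2 (vqc0 2 (vqc0 0 (vqc0 1 (vqc0 2 (vqc0 0 (vqc0 0 (vqc0 1 (vqc0 1 vqc1))))))))) (vqc0 (vqc0 0 (vqc0 0 (vqc0 2 (vqc0 1 (vqc0 0 (vqc0 1 (vqc0 2 (vqc0 2 (vqc0 0 vqc1))))))))) (vqc0 (vqc0 0 (vqc0 0 (vqc0 2 (vqc0 1 (vqc0 2 (vqc0 2 (vqc0 1 (vqc0 1 (vqc0 2 vqc1))))))))) (vqc0 (vqc0 2 (vqc0 2 (vqc0 1 (vqc0 0 (vqc0 0 (vqc0 1 (vqc0 0 (vqc0 1 (vqc0 1 vqc1))))))))) (vqc0 (vqc0 0 (vqc0 2 (vqc0 0 (vqc0 1 (vqc0 1 (vqc0 2 (vqc0 2 (vqc0 1 (vqc0 2 vqc1))))))))) (vqc0 (vqc0 0 (vqc0 0 (vqc0 0 (vqc0 1 (vqc0 2 (vqc0 0 (vqc0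 2 (vqc0 2 (vqc0 1 vqc1))))))))) (vqc0 (vqc0 0 (vqc0 1 (vqc0 0 (vqc0 1 (vqc0 0 (vqc0 2 (vqc0 1 (vqc0 1 (vqc0 2 vqc1))))))))) (vqc0 (vqc0 2 (vqc0 0 (vqc0 1 (vqc0 0 (vqc0 0 (vqc0 1 (vqc0 1 (vqc0 0 (vqc0 1 vqc1))))))))) vqc1))))))))))
    (beta% delta% lq26c8b9c1d715 fun vqc0 vqc1 _ _ _ _ _ =>
        (vqc0 (vqc0 1 (vqc0 1 (vqc0 1 (vqc0 1 (vqc0 1 (vqc0 2 (vqc0 1 (vqc0 0 (vqc0 1 vqc1))))))))) (vqc0 (vqc0 1 (vqc0 1 (vqc0 0 (vqc0 2 (vqc0 2 (vqc0 2 (vqc0 2 (vqc0 1 (vqc0 2 vqc1))))))))) (vqc0 (vqc0 1 (vqc0 0 (vqc0 0 (vqc0 1 (vqc0 0 (vqc0 2 (vqc0 0 (vqc0 2 (vqc0 0 vqc1))))))))) (vqc0 (vqc0 0 (vqc0 1 (vqc0 2 (vqc0 2 (vqc0 0 (vqc0 2 (vqc0 2 (vqc0 0 (vqc0 2 vqc1))))))))) (vqc0 (vqc0 2 (vqc0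 0 (vqc0 2 (vqc0 0 (vqc0 0 (vqc0 2 (vqc0 2 (vqc0 0 (vqc0 0 vqc1))))))))) (vqc0 (vqc0 0 (vqc0 0 (vqc0 2 (vqc0 1 (vqc0 2 (vqc0 1 (vqc0 0 (vqc0 2 (vqc0 2 vqc1))))))))) (vqc0 (vqc0 0 (vqc0 2 (vqc0 1 (vqc0 2 (vqc0 1 (vqc0 0 (vqc0 2 (vqc0 1 (vqc0 1 vqc1))))))))) (vqc0 (vqc0 2 (vqc0 1 (vqc0 2 (vqc0 0 (vqc0 1 (vqc0 0 (vqc0 2 (vqc0 1 (vqc0 1 vqc1))))))))) (vqc0 (vqc0 1 (vqc0 0 (vqc0 0 (vqc0 1 (vqc0 0 (vqc0 1 (vqc0 0 (vqc0 2 (vqc0 1 vqc1))))))))) vqc1))))))))))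
    [18715, 15031] (by decide +kernel)

theorem a102 : Ok 5183 114083911523677731422532 :=
  ok_of (beta% delta% lq26c8b9c1d715 fun vqc0 vqc1 _ _ _ _ _ =>
      (vqc0 (vqc0 1 (vqc0 0 (vqc0 1 (vqc0 0 (vqc0 1 (vqc0 2 (vqc0 1 (vqc0 2 (vqc0 1 vqc1))))))))) (vqc0 (vqc0 1 (vqc0 1 (vqc0 1 (vqc0 0 (vqc0 0 (vqc0 0 (vqc0 0 (vqc0 2 (vqc0 1 vqc1))))))))) (vqc0 (vqc0 2 (vqc0 1 (vqc0 0 (vqc0 2 (vqc0 2 (vqc0 1 (vqc0 1 (vqc0 0 (vqc0 2 vqc1))))))))) (vqc0 (vqc0 2 (vqc0 2 (vqc0 1 (vqc0 1 (vqc0 2 (vqc0 1 (vqc0 1 (vqc0 0 (vqc0 2 vqc1))))))))) (vqc0 (vqc0 2 (vqc0 1 (vqc0 0 (vqc0 1 (vqc0 2 (vqc0 0 (vqc0 2 (vqc0 1 (vqc0 1 vqc1))))))))) (vqc0 (vqc0 2 (vqc0 2 (vqc0 2 (vqc0 0 (vqc0 0 (vqc0 0 (vqc0 1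 (vqc0 2 (vqc0 0 vqc1))))))))) (vqc0 (vqc0 0 (vqc0 0 (vqc0 1 (vqc0 1 (vqc0 2 (vqc0 0 (vqc0 1 (vqc0 2 (vqc0 0 vqc1))))))))) (vqc0 (vqc0 1 (vqc0 1 (vqc0 0 (vqc0 2 (vqc0 0 (vqc0 2 (vqc0 1 (vqc0 2 (vqc0 0 vqc1))))))))) (vqc0 (vqc0 0 (vqc0 1 (vqc0 1 (vqc0 1 (vqc0 2 (vqc0 1 (vqc0 2 (vqc0 1 (vqc0 0 vqc1))))))))) vqc1))))))))))
    (beta% delta% lq26c8b9c1d715 fun vqc0 vqc1 _ _ _ _ _ =>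
        (vqc0 (vqc0 2 (vqc0 0 (vqc0 0 (vqc0 2 (vqc0 1 (vqc0 2 (vqc0 2 (vqc0 1 (vqc0 1 vqc1))))))))) (vqc0 (vqc0 1 (vqc0 2 (vqc0 0 (vqc0 0 (vqc0 0 (vqc0 1 (vqc0 2 (vqc0 1 (vqc0 1 vqc1))))))))) (vqc0 (vqc0 2 (vqc0 2 (vqc0 2 (vqc0 2 (vqc0 2 (vqc0 2 (vqc0 2 (vqc0 2 (vqc0 1 vqc1))))))))) (vqc0 (vqc0 0 (vqc0 2 (vqc0 0 (vqc0 2 (vqc0 2 (vqc0 2 (vqc0 1 (vqc0 2 (vqc0 0 vqc1))))))))) (vqc0 (vqc0 1 (vqc0 1 (vqc0 1 (vqc0 0 (vqc0 0 (vqc0 2 (vqc0 2 (vqc0 0 (vqc0 1 vqc1))))))))) (vqc0 (vqc0 1 (vqc0 0 (vqc0 1 (vqc0 1 (vqc0 0 (vqc0 0 (vqc0 2 (vqc0 1 (vqc0 0 vqc1))))))))) (vqc0 (vqc0 1 (vqc0 2 (vqc0 2 (vqc0 1 (vqc0 0 (vqc0 2 (vqc0 0 (vqc0 2 (vqc0 1 vqc1))))))))) (vqc0 (vqc0 1 (vqc0 0 (vqc0 0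 (vqc0 0 (vqc0 2 (vqc0 0 (vqc0 1 (vqc0 1 (vqc0 2 vqc1))))))))) (vqc0 (vqc0 2 (vqc0 1 (vqc0 1 (vqc0 2 (vqc0 1 (vqc0 0 (vqc0 1 (vqc0 2 (vqc0 1 vqc1))))))))) vqc1))))))))))
    [18483, 13236, 13969] (by decide +kernel)

theorem a103 : Ok 41471 113336795590263086384292 :=
  ok_of (beta% delta% lq26c8b9c1d715 fun vqc0 vqc1 _ _ _ _ _ =>
      (vqc0 (vqc0 0 (vqc0 2 (vqc0 1 (vqc0 0 (vqc0 0 (vqc0 0 (vqc0 1 (vqc0 0 (vqc0 0 vqc1))))))))) (vqc0 (vqc0 0 (vqc0 2 (vqc0 2 (vqc0 0 (vqc0 1 (vqc0 1 (vqc0 0 (vqc0 1 (vqc0 1 vqc1))))))))) (vqc0 (vqc0 2 (vqc0 1 (vqc0 1 (vqc0 0 (vqc0 1 (vqc0 1 (vqc0 0 (vqc0 2 (vqc0 0 vqc1))))))))) (vqc0 (vqc0 2 (vqc0 0 (vqc0 1 (vqc0 2 (vqc0 1 (vqc0 1 (vqc0 2 (vqc0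 0 (vqc0 0 vqc1))))))))) (vqc0 (vqc0 0 (vqc0 0 (vqc0 1 (vqc0 1 (vqc0 2 (vqc0 0 (vqc0 0 (vqc0 2 (vqc0 2 vqc1))))))))) (vqc0 (vqc0 0 (vqc0 0 (vqc0 2 (vqc0 1 (vqc0 2 (vqc0 1 (vqc0 1 (vqc0 2 (vqc0 0 vqc1))))))))) (vqc0 (vqc0 0 (vqc0 0 (vqc0 2 (vqc0 0 (vqc0 1 (vqc0 1 (vqc0 2 (vqc0 0 (vqc0 2 vqc1))))))))) (vqc0 (vqc0 0 (vqc0 2 (vqc0 1 (vqc0 2 (vqc0 2 (vqc0 0 (vqc0 2 (vqc0 1 (vqc0 1 vqc1))))))))) (vqc0 (vqc0 2 (vqc0 1 (vqc0 1 (vqc0 1 (vqc0 1 (vqc0 1 (vqc0 1 (vqc0 1 (vqc0 0 vqc1))))))))) vqc1))))))))))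
    (beta% delta% lq26c8b9c1d715 fun vqc0 vqc1 _ _ _ _ _ =>
        (vqc0 (vqc0 2 (vqc0 1 (vqc0 2 (vqc0 0 (vqc0 0 (vqc0 0 (vqc0 1 (vqc0 1 (vqc0 0 vqc1))))))))) (vqc0 (vqc0 0 (vqc0 0 (vqc0 2 (vqc0 1 (vqc0 1 (vqc0 0 (vqc0 1 (vqc0 1 (vqc0 0 vqc1))))))))) (vqc0 (vqc0 1 (vqc0 1 (vqc0 2 (vqc0 0 (vqc0 0 (vqc0 1 (vqc0 0 (vqc0 0 (vqc0 1 vqc1))))))))) (vqc0 (vqc0 1 (vqc0 0 (vqc0 0 (vqc0 0 (vqc0 1 (vqc0 1 (vqc0 0 (vqc0 2 (vqc0 2 vqc1))))))))) (vqc0 (vqc0 1 (vqc0 2 (vqc0 2 (vqc0 0 (vqc0 0 (vqc0 0 (vqc0 2 (vqc0 2 (vqc0 0 vqc1))))))))) (vqc0 (vqc0 1 (vqc0 0 (vqc0 0 (vqc0 1 (vqc0 1 (vqc0 1 (vqc0 0 (vqc0 0 (vqc0 2 vqc1))))))))) (vqc0 (vqc0 1 (vqc0 2 (vqc0 0 (vqc0 0 (vqc0 1 (vqc0 2 (vqc0 0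 (vqc0 1 (vqc0 2 vqc1))))))))) (vqc0 (vqc0 2 (vqc0 2 (vqc0 0 (vqc0 0 (vqc0 0 (vqc0 0 (vqc0 0 (vqc0 0 (vqc0 2 vqc1))))))))) (vqc0 (vqc0 2 (vqc0 2 (vqc0 2 (vqc0 0 (vqc0 0 (vqc0 1 (vqc0 1 (vqc0 2 (vqc0 2 vqc1))))))))) vqc1))))))))))
    [2582, 10890, 4116] (by decide +kernel)

theorem a104 : Ok 2159 567306555557714854084626 :=
  ok_of (beta% delta% lq26c8b9c1d715 fun vqc0 vqc1 _ _ _ _ _ =>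
      (vqc0 (vqc0 1 (vqc0 1 (vqc0 0 (vqc0 0 (vqc0 1 (vqc0 0 (vqc0 0 (vqc0 2 (vqc0 2 vqc1))))))))) (vqc0 (vqc0 2 (vqc0 1 (vqc0 0 (vqc0 1 (vqc0 0 (vqc0 1 (vqc0 1 (vqc0 2 (vqc0 2 vqc1))))))))) (vqc0 (vqc0 2 (vqc0 1 (vqc0 1 (vqc0 2 (vqc0 1 (vqc0 0 (vqc0 1 (vqc0 0 (vqc0 2 vqc1))))))))) (vqc0 (vqc0 2 (vqc0 1 (vqc0 2 (vqc0 0 (vqc0 2 (vqc0 2 (vqc0 2 (vqc0 0 (vqc0 0 vqc1))))))))) (vqc0 (vqc0 2 (vqc0 0 (vqc0 1 (vqc0 2 (vqc0 1 (vqc0 2 (vqc0 2 (vqc0 0 (vqc0 2 vqc1))))))))) (vqc0 (vqc0 2 (vqc0 2 (vqc0 0 (vqc0 2 (vqc0 2 (vqc0 0 (vqc0 0 (vqc0 2 (vqc0 1 vqc1))))))))) (vqc0 (vqc0 0 (vqc0 2 (vqc0 1 (vqc0 0 (vqc0 1 (vqc0 2 (vqc0 1 (vqc0 1 (vqc0 0 vqc1))))))))) (vqc0 (vqc0 0 (vqc0 1 (vqc0 2 (vqc0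 2 (vqc0 0 (vqc0 0 (vqc0 2 (vqc0 0 (vqc0 2 vqc1))))))))) (vqc0 (vqc0 1 (vqc0 2 (vqc0 1 (vqc0 2 (vqc0 1 (vqc0 0 (vqc0 1 (vqc0 2 (vqc0 2 vqc1))))))))) vqc1))))))))))
    (beta% delta% lq26c8b9c1d715 fun vqc0 vqc1 _ _ _ _ _ =>
        (vqc0 (vqc0 1 (vqc0 1 (vqc0 1 (vqc0 2 (vqc0 1 (vqc0 0 (vqc0 1 (vqc0 1 (vqc0 2 vqc1))))))))) (vqc0 (vqc0 0 (vqc0 0 (vqc0 2 (vqc0 0 (vqc0 0 (vqc0 1 (vqc0 0 (vqc0 2 (vqc0 0 vqc1))))))))) (vqc0 (vqc0 0 (vqc0 0 (vqc0 1 (vqc0 0 (vqc0 1 (vqc0 1 (vqc0 1 (vqc0 2 (vqc0 0 vqc1))))))))) (vqc0 (vqc0 1 (vqc0 1 (vqc0 2 (vqc0 2 (vqc0 2 (vqc0 1 (vqc0 0 (vqc0 2 (vqc0 2 vqc1))))))))) (vqc0 (vqc0 0 (vqc0 1 (vqc0 1 (vqc0 0 (vqc0 0 (vqc0 0 (vqc0 0 (vqc0 0 (vqc0 0 vqc1)))))))))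 (vqc0 (vqc0 1 (vqc0 0 (vqc0 1 (vqc0 0 (vqc0 0 (vqc0 0 (vqc0 0 (vqc0 0 (vqc0 0 vqc1))))))))) (vqc0 (vqc0 0 (vqc0 0 (vqc0 1 (vqc0 0 (vqc0 1 (vqc0 2 (vqc0 1 (vqc0 1 (vqc0 0 vqc1))))))))) (vqc0 (vqc0 2 (vqc0 2 (vqc0 2 (vqc0 1 (vqc0 2 (vqc0 0 (vqc0 1 (vqc0 1 (vqc0 2 vqc1))))))))) (vqc0 (vqc0 0 (vqc0 0 (vqc0 2 (vqc0 0 (vqc0 1 (vqc0 2 (vqc0 1 (vqc0 1 (vqc0 2 vqc1))))))))) vqc1))))))))))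
    [4223, 732, 5757] (by decide +kernel)

theorem a105 : Ok 4319 113336795589741216399378 :=
  ok_of (beta% delta% lq26c8b9c1d715 fun vqc0 vqc1 _ _ _ _ _ =>
      (vqc0 (vqc0 1 (vqc0 1 (vqc0 2 (vqc0 0 (vqc0 0 (vqc0 2 (vqc0 2 (vqc0 0 (vqc0 2 vqc1))))))))) (vqc0 (vqc0 2 (vqc0 2 (vqc0 1 (vqc0 2 (vqc0 1 (vqc0 0 (vqc0 0 (vqc0 0 (vqc0 0 vqc1))))))))) (vqc0 (vqc0 2 (vqc0 1 (vqc0 1 (vqc0 2 (vqc0 0 (vqc0 2 (vqc0 0 (vqc0 0 (vqc0 1 vqc1))))))))) (vqc0 (vqc0 1 (vqc0 2 (vqc0 2 (vqc0 0 (vqc0 1 (vqc0 2 (vqc0 0 (vqc0 0 (vqc0 2 vqc1))))))))) (vqc0 (vqc0 1 (vqc0 2 (vqc0 1 (vqc0 0 (vqc0 0 (vqc0 1 (vqc0 2 (vqc0 1 (vqc0 2 vqc1))))))))) (vqc0 (vqc0 2 (vqc0 0 (vqc0 1 (vqc0 0 (vqc0 1 (vqc0 0 (vqc0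 0 (vqc0 1 (vqc0 0 vqc1))))))))) (vqc0 (vqc0 2 (vqc0 0 (vqc0 2 (vqc0 0 (vqc0 1 (vqc0 1 (vqc0 2 (vqc0 0 (vqc0 1 vqc1))))))))) (vqc0 (vqc0 2 (vqc0 1 (vqc0 1 (vqc0 1 (vqc0 1 (vqc0 0 (vqc0 0 (vqc0 1 (vqc0 0 vqc1))))))))) (vqc0 (vqc0 1 (vqc0 1 (vqc0 2 (vqc0 0 (vqc0 1 (vqc0 1 (vqc0 0 (vqc0 1 (vqc0 0 vqc1))))))))) vqc1))))))))))
    (beta% delta% lq26c8b9c1d715 fun vqc0 vqc1 _ _ _ _ _ =>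
        (vqc0 (vqc0 1 (vqc0 2 (vqc0 2 (vqc0 0 (vqc0 2 (vqc0 1 (vqc0 0 (vqc0 1 (vqc0 2 vqc1))))))))) (vqc0 (vqc0 1 (vqc0 2 (vqc0 0 (vqc0 2 (vqc0 1 (vqc0 1 (vqc0 1 (vqc0 1 (vqc0 2 vqc1))))))))) (vqc0 (vqc0 0 (vqc0 2 (vqc0 2 (vqc0 1 (vqc0 0 (vqc0 1 (vqc0 1 (vqc0 2 (vqc0 1 vqc1))))))))) (vqc0 (vqc0 2 (vqc0 2 (vqc0 0 (vqc0 1 (vqc0 0 (vqc0 1 (vqc0 1 (vqc0 0 (vqc0 2 vqc1))))))))) (vqc0 (vqc0 2 (vqc0 1 (vqc0 1 (vqc0 2 (vqc0 2 (vqc0 0 (vqc0 0 (vqc0 2 (vqc0 2 vqc1))))))))) (vqc0 (vqc0 0 (vqc0 1 (vqc0 2 (vqc0 1 (vqc0 2 (vqc0 0 (vqc0 2 (vqc0 1 (vqc0 1 vqc1))))))))) (vqc0 (vqc0 2 (vqc0 1 (vqc0 1 (vqc0 1 (vqc0 2 (vqc0 1 (vqc0 2 (vqc0 1 (vqc0 1 vqc1))))))))) (vqc0 (vqc0 1 (vqc0 1 (vqc0 2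 (vqc0 1 (vqc0 0 (vqc0 2 (vqc0 0 (vqc0 0 (vqc0 0 vqc1))))))))) (vqc0 (vqc0 0 (vqc0 1 (vqc0 1 (vqc0 2 (vqc0 0 (vqc0 1 (vqc0 2 (vqc0 0 (vqc0 0 vqc1))))))))) vqc1))))))))))
    [1068, 1758, 860] (by decide +kernel)

theorem a106 : Ok 2591 566683977945401104466244 :=
  ok_of (beta% delta% lq26c8b9c1d715 fun vqc0 vqc1 _ _ _ _ _ =>
      (vqc0 (vqc0 0 (vqc0 0 (vqc0 1 (vqc0 0 (vqc0 1 (vqc0 0 (vqc0 0 (vqc0 1 (vqc0 0 vqc1))))))))) (vqc0 (vqc0 1 (vqc0 0 (vqc0 0 (vqc0 2 (vqc0 2 (vqc0 2 (vqc0 0 (vqc0 2 (vqc0 1 vqc1))))))))) (vqc0 (vqc0 1 (vqc0 1 (vqc0 2 (vqc0 2 (vqc0 1 (vqc0 1 (vqc0 0 (vqc0 1 (vqc0 0 vqc1))))))))) (vqc0 (vqc0 0 (vqc0 2 (vqc0 1 (vqc0 2 (vqc0 1 (vqc0 2 (vqc0 2 (vqc0 0 (vqc0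 1 vqc1))))))))) (vqc0 (vqc0 0 (vqc0 0 (vqc0 2 (vqc0 1 (vqc0 1 (vqc0 1 (vqc0 1 (vqc0 1 (vqc0 2 vqc1))))))))) (vqc0 (vqc0 1 (vqc0 0 (vqc0 1 (vqc0 0 (vqc0 0 (vqc0 2 (vqc0 1 (vqc0 1 (vqc0 1 vqc1))))))))) (vqc0 (vqc0 0 (vqc0 2 (vqc0 2 (vqc0 0 (vqc0 0 (vqc0 0 (vqc0 0 (vqc0 1 (vqc0 0 vqc1))))))))) (vqc0 (vqc0 1 (vqc0 1 (vqc0 1 (vqc0 2 (vqc0 0 (vqc0 0 (vqc0 1 (vqc0 1 (vqc0 1 vqc1))))))))) (vqc0 (vqc0 0 (vqc0 2 (vqc0 0 (vqc0 1 (vqc0 0 (vqc0 1 (vqc0 1 (vqc0 2 (vqc0 0 vqc1))))))))) vqc1))))))))))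
    (beta% delta% lq26c8b9c1d715 fun vqc0 vqc1 _ _ _ _ _ =>
        (vqc0 (vqc0 1 (vqc0 2 (vqc0 2 (vqc0 0 (vqc0 0 (vqc0 2 (vqc0 2 (vqc0 1 (vqc0 2 vqc1))))))))) (vqc0 (vqc0 1 (vqc0 1 (vqc0 2 (vqc0 1 (vqc0 1 (vqc0 0 (vqc0 0 (vqc0 0 (vqc0 0 vqc1))))))))) (vqc0 (vqc0 2 (vqc0 1 (vqc0 1 (vqc0 2 (vqc0 0 (vqc0 1 (vqc0 0 (vqc0 1 (vqc0 2 vqc1))))))))) (vqc0 (vqc0 2 (vqc0 1 (vqc0 2 (vqc0 0 (vqc0 1 (vqc0 1 (vqc0 2 (vqc0 2 (vqc0 1 vqc1))))))))) (vqc0 (vqc0 2 (vqc0 1 (vqc0 0 (vqc0 2 (vqc0 2 (vqc0 2 (vqc0 2 (vqc0 2 (vqc0 1 vqc1))))))))) (vqc0 (vqc0 1 (vqc0 1 (vqc0 0 (vqc0 2 (vqc0 2 (vqc0 0 (vqc0 2 (vqc0 1 (vqc0 0 vqc1))))))))) (vqc0 (vqc0 0 (vqc0 1 (vqc0 1 (vqc0 2 (vqc0 2 (vqc0 0 (vqc0 1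 (vqc0 1 (vqc0 0 vqc1))))))))) (vqc0 (vqc0 0 (vqc0 2 (vqc0 1 (vqc0 0 (vqc0 1 (vqc0 0 (vqc0 2 (vqc0 0 (vqc0 0 vqc1))))))))) (vqc0 (vqc0 1 (vqc0 0 (vqc0 2 (vqc0 1 (vqc0 0 (vqc0 1 (vqc0 0 (vqc0 1 (vqc0 0 vqc1))))))))) vqc1))))))))))
    [14876, 758, 16092, 15342] (by decide +kernel)

theorem a107 : Ok 20735 566683977944357441569956 :=
  ok_of (beta% delta% lq26c8b9c1d715 fun vqc0 vqc1 _ _ _ _ _ =>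
      (vqc0 (vqc0 2 (vqc0 1 (vqc0 1 (vqc0 2 (vqc0 2 (vqc0 0 (vqc0 1 (vqc0 2 (vqc0 0 vqc1))))))))) (vqc0 (vqc0 0 (vqc0 0 (vqc0 2 (vqc0 2 (vqc0 2 (vqc0 0 (vqc0 0 (vqc0 1 (vqc0 1 vqc1))))))))) (vqc0 (vqc0 2 (vqc0 1 (vqc0 2 (vqc0 0 (vqc0 1 (vqc0 0 (vqc0 1 (vqc0 2 (vqc0 1 vqc1))))))))) (vqc0 (vqc0 2 (vqc0 1 (vqc0 1 (vqc0 1 (vqc0 0 (vqc0 1 (vqc0 0 (vqc0 0 (vqc0 0 vqc1))))))))) (vqc0 (vqc0 2 (vqc0 1 (vqc0 0 (vqc0 0 (vqc0 2 (vqc0 1 (vqc0 0 (vqc0 0 (vqc0 1 vqc1))))))))) (vqc0 (vqc0 0 (vqc0 2 (vqc0 0 (vqc0 1 (vqc0 1 (vqc0 1 (vqc0 2 (vqc0 1 (vqc0 0 vqc1))))))))) (vqc0 (vqc0 1 (vqc0 0 (vqc0 2 (vqc0 1 (vqc0 2 (vqc0 1 (vqc0 0 (vqc0 1 (vqc0 1 vqc1))))))))) (vqc0 (vqc0 0 (vqc0 2 (vqc0 0 (vqc0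 0 (vqc0 2 (vqc0 0 (vqc0 0 (vqc0 2 (vqc0 0 vqc1))))))))) (vqc0 (vqc0 2 (vqc0 0 (vqc0 1 (vqc0 2 (vqc0 1 (vqc0 1 (vqc0 0 (vqc0 1 (vqc0 1 vqc1))))))))) vqc1))))))))))
    (beta% delta% lq26c8b9c1d715 fun vqc0 vqc1 _ _ _ _ _ =>
        (vqc0 (vqc0 1 (vqc0 2 (vqc0 1 (vqc0 0 (vqc0 0 (vqc0 2 (vqc0 1 (vqc0 1 (vqc0 0 vqc1))))))))) (vqc0 (vqc0 1 (vqc0 0 (vqc0 1 (vqc0 1 (vqc0 1 (vqc0 0 (vqc0 2 (vqc0 0 (vqc0 2 vqc1))))))))) (vqc0 (vqc0 1 (vqc0 1 (vqc0 2 (vqc0 0 (vqc0 0 (vqc0 2 (vqc0 0 (vqc0 0 (vqc0 2 vqc1))))))))) (vqc0 (vqc0 0 (vqc0 1 (vqc0 0 (vqc0 2 (vqc0 1 (vqc0 0 (vqc0 1 (vqc0 0 (vqc0 0 vqc1))))))))) (vqc0 (vqc0 2 (vqc0 1 (vqc0 1 (vqc0 1 (vqc0 1 (vqc0 0 (vqc0 2 (vqc0 2 (vqc0 1 vqc1)))))))))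 (vqc0 (vqc0 0 (vqc0 2 (vqc0 0 (vqc0 0 (vqc0 1 (vqc0 1 (vqc0 0 (vqc0 2 (vqc0 1 vqc1))))))))) (vqc0 (vqc0 2 (vqc0 0 (vqc0 0 (vqc0 2 (vqc0 2 (vqc0 0 (vqc0 1 (vqc0 1 (vqc0 1 vqc1))))))))) (vqc0 (vqc0 1 (vqc0 0 (vqc0 2 (vqc0 2 (vqc0 0 (vqc0 1 (vqc0 2 (vqc0 0 (vqc0 2 vqc1))))))))) (vqc0 (vqc0 0 (vqc0 0 (vqc0 2 (vqc0 2 (vqc0 2 (vqc0 0 (vqc0 1 (vqc0 2 (vqc0 2 vqc1))))))))) vqc1))))))))))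
    [17935, 2760, 3162] (by decide +kernel)

theorem a108 : Ok 15551 340010386767658137748266 :=
  ok_of (beta% delta% lq26c8b9c1d715 fun vqc0 vqc1 _ _ _ _ _ =>
      (vqc0 (vqc0 0 (vqc0 1 (vqc0 2 (vqc0 2 (vqc0 0 (vqc0 2 (vqc0 0 (vqc0 0 (vqc0 1 vqc1))))))))) (vqc0 (vqc0 1 (vqc0 0 (vqc0 0 (vqc0 0 (vqc0 2 (vqc0 1 (vqc0 2 (vqc0 1 (vqc0 2 vqc1))))))))) (vqc0 (vqc0 1 (vqc0 0 (vqc0 1 (vqc0 1 (vqc0 0 (vqc0 0 (vqc0 0 (vqc0 2 (vqc0 1 vqc1))))))))) (vqc0 (vqc0 2 (vqc0 2 (vqc0 0 (vqc0 2 (vqc0 1 (vqc0 1 (vqc0 1 (vqc0 2 (vqc0 1 vqc1))))))))) (vqc0 (vqc0 0 (vqc0 1 (vqc0 1 (vqc0 2 (vqc0 2 (vqc0 1 (vqc0 0 (vqc0 0 (vqc0 2 vqc1))))))))) (vqc0 (vqc0 0 (vqc0 0 (vqc0 0 (vqc0 1 (vqc0 0 (vqc0 2 (vqc0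 2 (vqc0 2 (vqc0 1 vqc1))))))))) (vqc0 (vqc0 2 (vqc0 1 (vqc0 0 (vqc0 1 (vqc0 1 (vqc0 1 (vqc0 2 (vqc0 0 (vqc0 0 vqc1))))))))) (vqc0 (vqc0 1 (vqc0 0 (vqc0 1 (vqc0 0 (vqc0 1 (vqc0 0 (vqc0 2 (vqc0 2 (vqc0 1 vqc1))))))))) (vqc0 (vqc0 2 (vqc0 0 (vqc0 0 (vqc0 1 (vqc0 1 (vqc0 1 (vqc0 1 (vqc0 1 (vqc0 0 vqc1))))))))) vqc1))))))))))
    (beta% delta% lq26c8b9c1d715 fun vqc0 vqc1 _ _ _ _ _ =>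
        (vqc0 (vqc0 1 (vqc0 1 (vqc0 2 (vqc0 0 (vqc0 1 (vqc0 1 (vqc0 2 (vqc0 1 (vqc0 1 vqc1))))))))) (vqc0 (vqc0 0 (vqc0 2 (vqc0 1 (vqc0 1 (vqc0 0 (vqc0 2 (vqc0 2 (vqc0 0 (vqc0 2 vqc1))))))))) (vqc0 (vqc0 1 (vqc0 1 (vqc0 1 (vqc0 1 (vqc0 2 (vqc0 0 (vqc0 2 (vqc0 2 (vqc0 0 vqc1))))))))) (vqc0 (vqc0 2 (vqc0 0 (vqc0 0 (vqc0 2 (vqc0 2 (vqc0 1 (vqc0 1 (vqc0 1 (vqc0 0 vqc1))))))))) (vqc0 (vqc0 2 (vqc0 1 (vqc0 2 (vqc0 1 (vqc0 2 (vqc0 1 (vqc0 0 (vqc0 2 (vqc0 0 vqc1))))))))) (vqc0 (vqc0 0 (vqc0 1 (vqc0 0 (vqc0 1 (vqc0 1 (vqc0 1 (vqc0 0 (vqc0 1 (vqc0 2 vqc1))))))))) (vqc0 (vqc0 1 (vqc0 2 (vqc0 1 (vqc0 2 (vqc0 0 (vqc0 0 (vqc0 1 (vqc0 2 (vqc0 0 vqc1))))))))) (vqc0 (vqc0 2 (vqc0 2 (vqc0 2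 (vqc0 2 (vqc0 1 (vqc0 1 (vqc0 0 (vqc0 1 (vqc0 0 vqc1))))))))) (vqc0 (vqc0 2 (vqc0 2 (vqc0 1 (vqc0 1 (vqc0 0 (vqc0 0 (vqc0 0 (vqc0 0 (vqc0 0 vqc1))))))))) vqc1))))))))))
    [5821, 16673, 10192] (by decide +kernel)

theorem a109 : Ok 124415 340010386766614503164826 :=
  ok_of (beta% delta% lq26c8b9c1d715 fun vqc0 vqc1 _ _ _ _ _ =>
      (vqc0 (vqc0 2 (vqc0 2 (vqc0 0 (vqc0 0 (vqc0 0 (vqc0 2 (vqc0 1 (vqc0 0 (vqc0 2 vqc1))))))))) (vqc0 (vqc0 1 (vqc0 1 (vqc0 0 (vqc0 2 (vqc0 2 (vqc0 0 (vqc0 0 (vqc0 1 (vqc0 2 vqc1))))))))) (vqc0 (vqc0 0 (vqc0 2 (vqc0 0 (vqc0 2 (vqc0 1 (vqc0 0 (vqc0 1 (vqc0 0 (vqc0 0 vqc1))))))))) (vqc0 (vqc0 1 (vqc0 2 (vqc0 1 (vqc0 0 (vqc0 0 (vqc0 1 (vqc0 1 (vqc0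 2 (vqc0 2 vqc1))))))))) (vqc0 (vqc0 0 (vqc0 0 (vqc0 2 (vqc0 1 (vqc0 2 (vqc0 0 (vqc0 2 (vqc0 2 (vqc0 0 vqc1))))))))) (vqc0 (vqc0 1 (vqc0 2 (vqc0 0 (vqc0 0 (vqc0 0 (vqc0 2 (vqc0 1 (vqc0 2 (vqc0 2 vqc1))))))))) (vqc0 (vqc0 2 (vqc0 1 (vqc0 1 (vqc0 2 (vqc0 2 (vqc0 2 (vqc0 2 (vqc0 1 (vqc0 2 vqc1))))))))) (vqc0 (vqc0 1 (vqc0 1 (vqc0 1 (vqc0 0 (vqc0 0 (vqc0 2 (vqc0 2 (vqc0 0 (vqc0 1 vqc1))))))))) (vqc0 (vqc0 1 (vqc0 1 (vqc0 1 (vqc0 0 (vqc0 0 (vqc0 1 (vqc0 2 (vqc0 1 (vqc0 2 vqc1))))))))) vqc1))))))))))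
    (beta% delta% lq26c8b9c1d715 fun vqc0 vqc1 _ _ _ _ _ =>
        (vqc0 (vqc0 2 (vqc0 1 (vqc0 2 (vqc0 2 (vqc0 0 (vqc0 1 (vqc0 1 (vqc0 1 (vqc0 1 vqc1))))))))) (vqc0 (vqc0 0 (vqc0 2 (vqc0 1 (vqc0 1 (vqc0 0 (vqc0 1 (vqc0 1 (vqc0 0 (vqc0 1 vqc1))))))))) (vqc0 (vqc0 0 (vqc0 1 (vqc0 2 (vqc0 0 (vqc0 0 (vqc0 2 (vqc0 2 (vqc0 2 (vqc0 2 vqc1))))))))) (vqc0 (vqc0 1 (vqc0 2 (vqc0 1 (vqc0 2 (vqc0 1 (vqc0 0 (vqc0 0 (vqc0 1 (vqc0 2 vqc1))))))))) (vqc0 (vqc0 1 (vqc0 1 (vqc0 2 (vqc0 1 (vqc0 0 (vqc0 1 (vqc0 2 (vqc0 2 (vqc0 2 vqc1))))))))) (vqc0 (vqc0 1 (vqc0 2 (vqc0 2 (vqc0 2 (vqc0 0 (vqc0 1 (vqc0 2 (vqc0 2 (vqc0 1 vqc1))))))))) (vqc0 (vqc0 0 (vqc0 2 (vqc0 1 (vqc0 0 (vqc0 0 (vqc0 2 (vqc0 1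 (vqc0 1 (vqc0 1 vqc1))))))))) (vqc0 (vqc0 1 (vqc0 0 (vqc0 1 (vqc0 2 (vqc0 1 (vqc0 1 (vqc0 1 (vqc0 1 (vqc0 2 vqc1))))))))) (vqc0 (vqc0 1 (vqc0 0 (vqc0 0 (vqc0 1 (vqc0 0 (vqc0 1 (vqc0 0 (vqc0 2 (vqc0 1 vqc1))))))))) vqc1))))))))))
    [13831, 15668, 3896, 19209] (by decide +kernel)

theorem a110 : Ok 12959 340010386769223648018504 :=
  ok_of (beta% delta% lq26c8b9c1d715 fun vqc0 vqc1 _ _ _ _ _ =>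
      (vqc0 (vqc0 2 (vqc0 1 (vqc0 2 (vqc0 2 (vqc0 0 (vqc0 1 (vqc0 0 (vqc0 2 (vqc0 0 vqc1))))))))) (vqc0 (vqc0 1 (vqc0 0 (vqc0 1 (vqc0 1 (vqc0 2 (vqc0 0 (vqc0 0 (vqc0 2 (vqc0 2 vqc1))))))))) (vqc0 (vqc0 2 (vqc0 1 (vqc0 2 (vqc0 1 (vqc0 2 (vqc0 0 (vqc0 0 (vqc0 0 (vqc0 1 vqc1))))))))) (vqc0 (vqc0 1 (vqc0 2 (vqc0 2 (vqc0 1 (vqc0 0 (vqc0 1 (vqc0 2 (vqc0 0 (vqc0 2 vqc1))))))))) (vqc0 (vqc0 1 (vqc0 1 (vqc0 1 (vqc0 2 (vqc0 2 (vqc0 2 (vqc0 2 (vqc0 1 (vqc0 0 vqc1))))))))) (vqc0 (vqc0 0 (vqc0 1 (vqc0 0 (vqc0 2 (vqc0 0 (vqc0 0 (vqc0 0 (vqc0 2 (vqc0 0 vqc1))))))))) (vqc0 (vqc0 0 (vqc0 0 (vqc0 2 (vqc0 2 (vqc0 2 (vqc0 0 (vqc0 1 (vqc0 2 (vqc0 0 vqc1))))))))) (vqc0 (vqc0 0 (vqc0 2 (vqc0 2 (vqc0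 1 (vqc0 0 (vqc0 0 (vqc0 1 (vqc0 2 (vqc0 1 vqc1))))))))) (vqc0 (vqc0 2 (vqc0 0 (vqc0 1 (vqc0 0 (vqc0 0 (vqc0 0 (vqc0 1 (vqc0 2 (vqc0 0 vqc1))))))))) vqc1))))))))))
    (beta% delta% lq26c8b9c1d715 fun vqc0 vqc1 _ _ _ _ _ =>
        (vqc0 (vqc0 1 (vqc0 1 (vqc0 0 (vqc0 2 (vqc0 0 (vqc0 1 (vqc0 0 (vqc0 0 (vqc0 2 vqc1))))))))) (vqc0 (vqc0 0 (vqc0 2 (vqc0 0 (vqc0 2 (vqc0 0 (vqc0 0 (vqc0 2 (vqc0 2 (vqc0 1 vqc1))))))))) (vqc0 (vqc0 2 (vqc0 0 (vqc0 1 (vqc0 0 (vqc0 2 (vqc0 0 (vqc0 0 (vqc0 0 (vqc0 0 vqc1))))))))) (vqc0 (vqc0 1 (vqc0 2 (vqc0 2 (vqc0 2 (vqc0 2 (vqc0 2 (vqc0 2 (vqc0 1 (vqc0 0 vqc1))))))))) (vqc0 (vqc0 1 (vqc0 1 (vqc0 0 (vqc0 0 (vqc0 2 (vqc0 2 (vqc0 2 (vqc0 1 (vqc0 1 vqc1)))))))))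 (vqc0 (vqc0 2 (vqc0 1 (vqc0 2 (vqc0 0 (vqc0 0 (vqc0 2 (vqc0 1 (vqc0 2 (vqc0 1 vqc1))))))))) (vqc0 (vqc0 0 (vqc0 2 (vqc0 2 (vqc0 1 (vqc0 0 (vqc0 2 (vqc0 2 (vqc0 2 (vqc0 0 vqc1))))))))) (vqc0 (vqc0 2 (vqc0 0 (vqc0 1 (vqc0 0 (vqc0 0 (vqc0 0 (vqc0 2 (vqc0 2 (vqc0 1 vqc1))))))))) (vqc0 (vqc0 1 (vqc0 0 (vqc0 1 (vqc0 1 (vqc0 2 (vqc0 1 (vqc0 0 (vqc0 0 (vqc0 2 vqc1))))))))) vqc1))))))))))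
    [16200, 18758, 4567] (by decide +kernel)

theorem a111 : Ok 1244159 3060093480900573802070826 :=
  ok_of (beta% delta% lq26c8b9c1d715 fun vqc0 vqc1 _ _ _ _ _ =>
      (vqc0 (vqc0 0 (vqc0 0 (vqc0 2 (vqc0 0 (vqc0 1 (vqc0 1 (vqc0 0 (vqc0 0 (vqc0 2 vqc1))))))))) (vqc0 (vqc0 2 (vqc0 1 (vqc0 2 (vqc0 1 (vqc0 1 (vqc0 1 (vqc0 2 (vqc0 2 (vqc0 0 vqc1))))))))) (vqc0 (vqc0 2 (vqc0 2 (vqc0 1 (vqc0 1 (vqc0 2 (vqc0 2 (vqc0 0 (vqc0 1 (vqc0 0 vqc1))))))))) (vqc0 (vqc0 0 (vqc0 2 (vqc0 2 (vqc0 2 (vqc0 2 (vqc0 1 (vqc0 2 (vqc0 2 (vqc0 1 vqc1))))))))) (vqc0 (vqc0 2 (vqc0 0 (vqc0 2 (vqc0 2 (vqc0 2 (vqc0 1 (vqc0 1 (vqc0 1 (vqc0 1 vqc1))))))))) (vqc0 (vqc0 2 (vqc0 2 (vqc0 1 (vqc0 2 (vqc0 0 (vqc0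 0 (vqc0 1 (vqc0 1 (vqc0 1 vqc1))))))))) (vqc0 (vqc0 0 (vqc0 0 (vqc0 1 (vqc0 2 (vqc0 1 (vqc0 0 (vqc0 1 (vqc0 2 (vqc0 2 vqc1))))))))) (vqc0 (vqc0 2 (vqc0 2 (vqc0 2 (vqc0 2 (vqc0 1 (vqc0 2 (vqc0 0 (vqc0 0 (vqc0 1 vqc1))))))))) (vqc0 (vqc0 1 (vqc0 2 (vqc0 2 (vqc0 2 (vqc0 0 (vqc0 0 (vqc0 2 (vqc0 0 (vqc0 1 vqc1))))))))) vqc1))))))))))
    (beta% delta% lq26c8b9c1d715 fun vqc0 vqc1 _ _ _ _ _ =>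
        (vqc0 (vqc0 2 (vqc0 2 (vqc0 2 (vqc0 0 (vqc0 1 (vqc0 1 (vqc0 1 (vqc0 1 (vqc0 0 vqc1))))))))) (vqc0 (vqc0 1 (vqc0 2 (vqc0 1 (vqc0 2 (vqc0 0 (vqc0 1 (vqc0 2 (vqc0 0 (vqc0 1 vqc1))))))))) (vqc0 (vqc0 2 (vqc0 1 (vqc0 0 (vqc0 1 (vqc0 0 (vqc0 1 (vqc0 1 (vqc0 2 (vqc0 2 vqc1))))))))) (vqc0 (vqc0 2 (vqc0 2 (vqc0 2 (vqc0 0 (vqc0 0 (vqc0 1 (vqc0 2 (vqc0 1 (vqc0 0 vqc1))))))))) (vqc0 (vqc0 2 (vqc0 1 (vqc0 2 (vqc0 1 (vqc0 0 (vqc0 0 (vqc0 1 (vqc0 0 (vqc0 2 vqc1))))))))) (vqc0 (vqc0 2 (vqc0 1 (vqc0 1 (vqc0 2 (vqc0 1 (vqc0 0 (vqc0 1 (vqc0 0 (vqc0 2 vqc1))))))))) (vqc0 (vqc0 0 (vqc0 1 (vqc0 0 (vqc0 2 (vqc0 0 (vqc0 2 (vqc0 2 (vqc0 2 (vqc0 2 vqc1))))))))) (vqc0 (vqc0 1 (vqc0 0 (vqc0 2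 (vqc0 1 (vqc0 0 (vqc0 2 (vqc0 1 (vqc0 2 (vqc0 1 vqc1))))))))) (vqc0 (vqc0 1 (vqc0 2 (vqc0 1 (vqc0 1 (vqc0 0 (vqc0 0 (vqc0 1 (vqc0 0 (vqc0 2 vqc1))))))))) vqc1))))))))))
    [15813, 11697, 7191, 15280, 12474] (by decide +kernel)

theorem a112 : Ok 9953279 3060093480899530337356698 :=
  ok_of (beta% delta% lq26c8b9c1d715 fun vqc0 vqc1 _ _ _ _ _ =>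
      (vqc0 (vqc0 2 (vqc0 2 (vqc0 2 (vqc0 2 (vqc0 0 (vqc0 1 (vqc0 2 (vqc0 1 (vqc0 1 vqc1))))))))) (vqc0 (vqc0 0 (vqc0 2 (vqc0 1 (vqc0 2 (vqc0 2 (vqc0 0 (vqc0 1 (vqc0 2 (vqc0 2 vqc1))))))))) (vqc0 (vqc0 2 (vqc0 1 (vqc0 0 (vqc0 1 (vqc0 2 (vqc0 0 (vqc0 2 (vqc0 1 (vqc0 1 vqc1))))))))) (vqc0 (vqc0 2 (vqc0 1 (vqc0 2 (vqc0 0 (vqc0 2 (vqc0 2 (vqc0 0 (vqc0 0 (vqc0 0 vqc1))))))))) (vqc0 (vqc0 1 (vqc0 1 (vqc0 1 (vqc0 1 (vqc0 2 (vqc0 0 (vqc0 2 (vqc0 1 (vqc0 1 vqc1))))))))) (vqc0 (vqc0 1 (vqc0 1 (vqc0 0 (vqc0 2 (vqc0 2 (vqc0 2 (vqc0 2 (vqc0 1 (vqc0 1 vqc1))))))))) (vqc0 (vqc0 1 (vqc0 0 (vqc0 1 (vqc0 0 (vqc0 1 (vqc0 0 (vqc0 1 (vqc0 0 (vqc0 0 vqc1))))))))) (vqc0 (vqc0 2 (vqc0 0 (vqc0 2 (vqc0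 0 (vqc0 2 (vqc0 0 (vqc0 0 (vqc0 1 (vqc0 0 vqc1))))))))) (vqc0 (vqc0 1 (vqc0 0 (vqc0 1 (vqc0 0 (vqc0 1 (vqc0 0 (vqc0 0 (vqc0 0 (vqc0 1 vqc1))))))))) vqc1))))))))))
    (beta% delta% lq26c8b9c1d715 fun vqc0 vqc1 _ _ _ _ _ =>
        (vqc0 (vqc0 0 (vqc0 2 (vqc0 1 (vqc0 2 (vqc0 1 (vqc0 1 (vqc0 1 (vqc0 1 (vqc0 1 vqc1))))))))) (vqc0 (vqc0 2 (vqc0 1 (vqc0 2 (vqc0 0 (vqc0 1 (vqc0 0 (vqc0 2 (vqc0 1 (vqc0 1 vqc1))))))))) (vqc0 (vqc0 1 (vqc0 1 (vqc0 2 (vqc0 1 (vqc0 2 (vqc0 0 (vqc0 1 (vqc0 1 (vqc0 1 vqc1))))))))) (vqc0 (vqc0 1 (vqc0 1 (vqc0 1 (vqc0 1 (vqc0 2 (vqc0 0 (vqc0 1 (vqc0 2 (vqc0 2 vqc1))))))))) (vqc0 (vqc0 0 (vqc0 0 (vqc0 0 (vqc0 2 (vqc0 2 (vqc0 0 (vqc0 2 (vqc0 0 (vqc0 0 vqc1)))))))))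 (vqc0 (vqc0 0 (vqc0 2 (vqc0 0 (vqc0 1 (vqc0 2 (vqc0 2 (vqc0 2 (vqc0 0 (vqc0 2 vqc1))))))))) (vqc0 (vqc0 0 (vqc0 2 (vqc0 0 (vqc0 0 (vqc0 0 (vqc0 1 (vqc0 0 (vqc0 2 (vqc0 0 vqc1))))))))) (vqc0 (vqc0 2 (vqc0 0 (vqc0 2 (vqc0 2 (vqc0 2 (vqc0 1 (vqc0 2 (vqc0 0 (vqc0 0 vqc1))))))))) (vqc0 (vqc0 1 (vqc0 0 (vqc0 1 (vqc0 0 (vqc0 0 (vqc0 2 (vqc0 2 (vqc0 0 (vqc0 1 vqc1))))))))) vqc1))))))))))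
    [382, 9638, 16494, 1898, 8787] (by decide +kernel)

theorem a113 : Ok 1036799 3060093480902139293466696 :=
  ok_of (beta% delta% lq26c8b9c1d715 fun vqc0 vqc1 _ _ _ _ _ =>
      (vqc0 (vqc0 1 (vqc0 1 (vqc0 0 (vqc0 2 (vqc0 1 (vqc0 0 (vqc0 2 (vqc0 0 (vqc0 1 vqc1))))))))) (vqc0 (vqc0 2 (vqc0 0 (vqc0 2 (vqc0 0 (vqc0 2 (vqc0 2 (vqc0 2 (vqc0 1 (vqc0 0 vqc1))))))))) (vqc0 (vqc0 1 (vqc0 1 (vqc0 2 (vqc0 1 (vqc0 1 (vqc0 0 (vqc0 0 (vqc0 0 (vqc0 0 vqc1))))))))) (vqc0 (vqc0 2 (vqc0 2 (vqc0 2 (vqc0 1 (vqc0 2 (vqc0 2 (vqc0 2 (vqc0 1 (vqc0 0 vqc1))))))))) (vqc0 (vqc0 0 (vqc0 2 (vqc0 0 (vqc0 1 (vqc0 2 (vqc0 2 (vqc0 0 (vqc0 2 (vqc0 1 vqc1))))))))) (vqc0 (vqc0 0 (vqc0 1 (vqc0 0 (vqc0 0 (vqc0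 0 (vqc0 2 (vqc0 0 (vqc0 0 (vqc0 0 vqc1))))))))) (vqc0 (vqc0 0 (vqc0 1 (vqc0 0 (vqc0 1 (vqc0 0 (vqc0 0 (vqc0 0 (vqc0 1 (vqc0 0 vqc1))))))))) (vqc0 (vqc0 2 (vqc0 0 (vqc0 2 (vqc0 2 (vqc0 2 (vqc0 1 (vqc0 0 (vqc0 1 (vqc0 0 vqc1))))))))) (vqc0 (vqc0 1 (vqc0 2 (vqc0 1 (vqc0 0 (vqc0 1 (vqc0 2 (vqc0 1 (vqc0 2 (vqc0 1 vqc1))))))))) vqc1))))))))))
    (beta% delta% lq26c8b9c1d715 fun vqc0 vqc1 _ _ _ _ _ =>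
        (vqc0 (vqc0 2 (vqc0 2 (vqc0 1 (vqc0 0 (vqc0 1 (vqc0 0 (vqc0 1 (vqc0 0 (vqc0 2 vqc1))))))))) (vqc0 (vqc0 2 (vqc0 2 (vqc0 1 (vqc0 2 (vqc0 0 (vqc0 0 (vqc0 1 (vqc0 1 (vqc0 1 vqc1))))))))) (vqc0 (vqc0 2 (vqc0 0 (vqc0 0 (vqc0 2 (vqc0 0 (vqc0 0 (vqc0 1 (vqc0 1 (vqc0 1 vqc1))))))))) (vqc0 (vqc0 0 (vqc0 0 (vqc0 1 (vqc0 2 (vqc0 0 (vqc0 0 (vqc0 1 (vqc0 1 (vqc0 0 vqc1))))))))) (vqc0 (vqc0 0 (vqc0 0 (vqc0 1 (vqc0 0 (vqc0 2 (vqc0 1 (vqc0 2 (vqc0 2 (vqc0 0 vqc1))))))))) (vqc0 (vqc0 1 (vqc0 0 (vqc0 0 (vqc0 1 (vqc0 2 (vqc0 0 (vqc0 1 (vqc0 1 (vqc0 1 vqc1))))))))) (vqc0 (vqc0 0 (vqc0 0 (vqc0 1 (vqc0 0 (vqc0 0 (vqc0 2 (vqc0 0 (vqc0 1 (vqc0 0 vqc1))))))))) (vqc0 (vqc0 0 (vqc0 1 (vqc0 0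 (vqc0 0 (vqc0 2 (vqc0 2 (vqc0 0 (vqc0 0 (vqc0 1 vqc1))))))))) (vqc0 (vqc0 2 (vqc0 1 (vqc0 1 (vqc0 2 (vqc0 1 (vqc0 1 (vqc0 2 (vqc0 0 (vqc0 0 vqc1))))))))) vqc1))))))))))
    [4988, 5490, 13165, 19159, 9534] (by decide +kernel)

theorem a114 : Ok 575 114083911523986969067952 :=
  ok_of (beta% delta% lq26c8b9c1d715 fun vqc0 vqc1 _ _ _ _ _ =>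
      (vqc0 (vqc0 2 (vqc0 2 (vqc0 0 (vqc0 1 (vqc0 1 (vqc0 2 (vqc0 2 (vqc0 0 (vqc0 0 vqc1))))))))) (vqc0 (vqc0 1 (vqc0 0 (vqc0 1 (vqc0 2 (vqc0 0 (vqc0 0 (vqc0 2 (vqc0 2 (vqc0 0 vqc1))))))))) (vqc0 (vqc0 0 (vqc0 2 (vqc0 2 (vqc0 0 (vqc0 1 (vqc0 2 (vqc0 2 (vqc0 1 (vqc0 2 vqc1))))))))) (vqc0 (vqc0 0 (vqc0 2 (vqc0 1 (vqc0 2 (vqc0 1 (vqc0 2 (vqc0 0 (vqc0 0 (vqc0 1 vqc1))))))))) (vqc0 (vqc0 2 (vqc0 1 (vqc0 0 (vqc0 0 (vqc0 0 (vqc0 2 (vqc0 2 (vqc0 2 (vqc0 0 vqc1))))))))) (vqc0 (vqc0 1 (vqc0 2 (vqc0 1 (vqc0 1 (vqc0 2 (vqc0 0 (vqc0 0 (vqc0 2 (vqc0 0 vqc1))))))))) (vqc0 (vqc0 1 (vqc0 0 (vqc0 2 (vqc0 2 (vqc0 1 (vqc0 1 (vqc0 2 (vqc0 1 (vqc0 1 vqc1))))))))) (vqc0 (vqc0 0 (vqc0 0 (vqc0 2 (vqc0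 2 (vqc0 0 (vqc0 0 (vqc0 1 (vqc0 2 (vqc0 0 vqc1))))))))) (vqc0 (vqc0 1 (vqc0 0 (vqc0 0 (vqc0 0 (vqc0 1 (vqc0 2 (vqc0 0 (vqc0 0 (vqc0 0 vqc1))))))))) vqc1))))))))))
    (beta% delta% lq26c8b9c1d715 fun vqc0 vqc1 _ _ _ _ _ =>
        (vqc0 (vqc0 1 (vqc0 0 (vqc0 1 (vqc0 2 (vqc0 2 (vqc0 1 (vqc0 2 (vqc0 0 (vqc0 2 vqc1))))))))) (vqc0 (vqc0 1 (vqc0 1 (vqc0 1 (vqc0 1 (vqc0 2 (vqc0 1 (vqc0 0 (vqc0 0 (vqc0 1 vqc1))))))))) (vqc0 (vqc0 2 (vqc0 1 (vqc0 0 (vqc0 1 (vqc0 0 (vqc0 1 (vqc0 1 (vqc0 1 (vqc0 0 vqc1))))))))) (vqc0 (vqc0 2 (vqc0 2 (vqc0 1 (vqc0 0 (vqc0 0 (vqc0 0 (vqc0 0 (vqc0 0 (vqc0 1 vqc1))))))))) (vqc0 (vqc0 0 (vqc0 1 (vqc0 1 (vqc0 0 (vqc0 1 (vqc0 1 (vqc0 0 (vqc0 2 (vqc0 1 vqc1)))))))))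 (vqc0 (vqc0 0 (vqc0 0 (vqc0 2 (vqc0 2 (vqc0 0 (vqc0 2 (vqc0 1 (vqc0 0 (vqc0 1 vqc1))))))))) (vqc0 (vqc0 1 (vqc0 1 (vqc0 0 (vqc0 2 (vqc0 0 (vqc0 1 (vqc0 1 (vqc0 2 (vqc0 0 vqc1))))))))) (vqc0 (vqc0 2 (vqc0 2 (vqc0 2 (vqc0 1 (vqc0 0 (vqc0 1 (vqc0 1 (vqc0 0 (vqc0 0 vqc1))))))))) (vqc0 (vqc0 2 (vqc0 1 (vqc0 0 (vqc0 1 (vqc0 1 (vqc0 1 (vqc0 1 (vqc0 0 (vqc0 2 vqc1))))))))) vqc1))))))))))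
    [3512, 18185] (by decide +kernel)

theorem a115 : Ok 4607 113336795589644611092480 :=
  ok_of (beta% delta% lq26c8b9c1d715 fun vqc0 vqc1 _ _ _ _ _ =>
      (vqc0 (vqc0 1 (vqc0 1 (vqc0 1 (vqc0 0 (vqc0 2 (vqc0 0 (vqc0 0 (vqc0 1 (vqc0 1 vqc1))))))))) (vqc0 (vqc0 1 (vqc0 2 (vqc0 1 (vqc0 1 (vqc0 1 (vqc0 0 (vqc0 0 (vqc0 1 (vqc0 0 vqc1))))))))) (vqc0 (vqc0 2 (vqc0 2 (vqc0 2 (vqc0 0 (vqc0 1 (vqc0 0 (vqc0 1 (vqc0 0 (vqc0 1 vqc1))))))))) (vqc0 (vqc0 2 (vqc0 2 (vqc0 0 (vqc0 2 (vqc0 2 (vqc0 2 (vqc0 2 (vqc0 2 (vqc0 0 vqc1))))))))) (vqc0 (vqc0 0 (vqc0 1 (vqc0 1 (vqc0 1 (vqc0 0 (vqc0 0 (vqc0 0 (vqc0 1 (vqc0 1 vqc1))))))))) (vqc0 (vqc0 0 (vqc0 1 (vqc0 1 (vqc0 1 (vqc0 0 (vqc0 1 (vqc0 2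 (vqc0 1 (vqc0 0 vqc1))))))))) (vqc0 (vqc0 2 (vqc0 0 (vqc0 2 (vqc0 0 (vqc0 1 (vqc0 1 (vqc0 2 (vqc0 1 (vqc0 0 vqc1))))))))) (vqc0 (vqc0 1 (vqc0 2 (vqc0 1 (vqc0 1 (vqc0 0 (vqc0 1 (vqc0 2 (vqc0 2 (vqc0 1 vqc1))))))))) (vqc0 (vqc0 1 (vqc0 1 (vqc0 2 (vqc0 2 (vqc0 2 (vqc0 2 (vqc0 0 (vqc0 1 (vqc0 1 vqc1))))))))) vqc1))))))))))
    (beta% delta% lq26c8b9c1d715 fun vqc0 vqc1 _ _ _ _ _ =>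
        (vqc0 (vqc0 0 (vqc0 0 (vqc0 2 (vqc0 0 (vqc0 2 (vqc0 2 (vqc0 2 (vqc0 0 (vqc0 2 vqc1))))))))) (vqc0 (vqc0 1 (vqc0 0 (vqc0 2 (vqc0 1 (vqc0 2 (vqc0 0 (vqc0 2 (vqc0 1 (vqc0 1 vqc1))))))))) (vqc0 (vqc0 0 (vqc0 2 (vqc0 0 (vqc0 2 (vqc0 2 (vqc0 1 (vqc0 1 (vqc0 2 (vqc0 2 vqc1))))))))) (vqc0 (vqc0 0 (vqc0 1 (vqc0 0 (vqc0 0 (vqc0 2 (vqc0 1 (vqc0 2 (vqc0 1 (vqc0 2 vqc1))))))))) (vqc0 (vqc0 1 (vqc0 1 (vqc0 2 (vqc0 0 (vqc0 2 (vqc0 1 (vqc0 1 (vqc0 0 (vqc0 0 vqc1))))))))) (vqc0 (vqc0 0 (vqc0 2 (vqc0 0 (vqc0 1 (vqc0 2 (vqc0 0 (vqc0 1 (vqc0 1 (vqc0 2 vqc1))))))))) (vqc0 (vqc0 1 (vqc0 0 (vqc0 0 (vqc0 0 (vqc0 2 (vqc0 2 (vqc0 1 (vqc0 2 (vqc0 0 vqc1))))))))) (vqc0 (vqc0 1 (vqc0 0 (vqc0 0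 (vqc0 2 (vqc0 0 (vqc0 0 (vqc0 0 (vqc0 1 (vqc0 0 vqc1))))))))) (vqc0 (vqc0 1 (vqc0 2 (vqc0 1 (vqc0 0 (vqc0 0 (vqc0 2 (vqc0 2 (vqc0 2 (vqc0 2 vqc1))))))))) vqc1))))))))))
    [1230, 7635, 16307, 9788] (by decide +kernel)

theorem a116 : Ok 239 113613505194806250504492 :=
  ok_of (beta% delta% lq26c8b9c1d715 fun vqc0 vqc1 _ _ _ _ _ =>
      (vqc0 (vqc0 0 (vqc0 1 (vqc0 1 (vqc0 0 (vqc0 0 (vqc0 2 (vqc0 1 (vqc0 1 (vqc0 2 vqc1))))))))) (vqc0 (vqc0 0 (vqc0 0 (vqc0 2 (vqc0 0 (vqc0 0 (vqc0 0 (vqc0 1 (vqc0 1 (vqc0 1 vqc1))))))))) (vqc0 (vqc0 1 (vqc0 2 (vqc0 2 (vqc0 2 (vqc0 2 (vqc0 0 (vqc0 0 (vqc0 2 (vqc0 0 vqc1))))))))) (vqc0 (vqc0 2 (vqc0 2 (vqc0 2 (vqc0 0 (vqc0 0 (vqc0 0 (vqc0 0 (vqc0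 2 (vqc0 1 vqc1))))))))) (vqc0 (vqc0 2 (vqc0 2 (vqc0 2 (vqc0 0 (vqc0 0 (vqc0 1 (vqc0 0 (vqc0 2 (vqc0 1 vqc1))))))))) (vqc0 (vqc0 2 (vqc0 1 (vqc0 0 (vqc0 2 (vqc0 1 (vqc0 1 (vqc0 2 (vqc0 2 (vqc0 1 vqc1))))))))) (vqc0 (vqc0 2 (vqc0 2 (vqc0 1 (vqc0 2 (vqc0 0 (vqc0 0 (vqc0 0 (vqc0 2 (vqc0 0 vqc1))))))))) (vqc0 (vqc0 2 (vqc0 0 (vqc0 0 (vqc0 2 (vqc0 0 (vqc0 0 (vqc0 2 (vqc0 0 (vqc0 0 vqc1))))))))) (vqc0 (vqc0 2 (vqc0 0 (vqc0 0 (vqc0 1 (vqc0 0 (vqc0 1 (vqc0 2 (vqc0 0 (vqc0 2 vqc1))))))))) vqc1))))))))))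
    (beta% delta% lq26c8b9c1d715 fun vqc0 vqc1 _ _ _ _ _ =>
        (vqc0 (vqc0 1 (vqc0 1 (vqc0 0 (vqc0 2 (vqc0 2 (vqc0 0 (vqc0 2 (vqc0 1 (vqc0 0 vqc1))))))))) (vqc0 (vqc0 1 (vqc0 0 (vqc0 2 (vqc0 2 (vqc0 1 (vqc0 0 (vqc0 2 (vqc0 0 (vqc0 2 vqc1))))))))) (vqc0 (vqc0 2 (vqc0 2 (vqc0 0 (vqc0 2 (vqc0 0 (vqc0 1 (vqc0 0 (vqc0 0 (vqc0 1 vqc1))))))))) (vqc0 (vqc0 2 (vqc0 1 (vqc0 0 (vqc0 2 (vqc0 1 (vqc0 1 (vqc0 1 (vqc0 0 (vqc0 0 vqc1))))))))) (vqc0 (vqc0 1 (vqc0 2 (vqc0 2 (vqc0 0 (vqc0 1 (vqc0 0 (vqc0 1 (vqc0 2 (vqc0 1 vqc1))))))))) (vqc0 (vqc0 2 (vqc0 0 (vqc0 2 (vqc0 2 (vqc0 2 (vqc0 2 (vqc0 1 (vqc0 2 (vqc0 2 vqc1))))))))) (vqc0 (vqc0 2 (vqc0 1 (vqc0 1 (vqc0 2 (vqc0 0 (vqc0 0 (vqc0 1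 (vqc0 0 (vqc0 1 vqc1))))))))) (vqc0 (vqc0 0 (vqc0 2 (vqc0 0 (vqc0 2 (vqc0 1 (vqc0 1 (vqc0 2 (vqc0 0 (vqc0 1 vqc1))))))))) (vqc0 (vqc0 2 (vqc0 2 (vqc0 2 (vqc0 0 (vqc0 2 (vqc0 2 (vqc0 1 (vqc0 1 (vqc0 1 vqc1))))))))) vqc1))))))))))
    [13669, 10877] (by decide +kernel)

theorem a117 : Ok 479 113890206355969876033782 :=
  ok_of (beta% delta% lq26c8b9c1d715 fun vqc0 vqc1 _ _ _ _ _ =>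
      (vqc0 (vqc0 2 (vqc0 1 (vqc0 2 (vqc0 2 (vqc0 0 (vqc0 1 (vqc0 1 (vqc0 0 (vqc0 0 vqc1))))))))) (vqc0 (vqc0 2 (vqc0 0 (vqc0 1 (vqc0 1 (vqc0 0 (vqc0 0 (vqc0 0 (vqc0 1 (vqc0 2 vqc1))))))))) (vqc0 (vqc0 1 (vqc0 2 (vqc0 2 (vqc0 2 (vqc0 2 (vqc0 0 (vqc0 1 (vqc0 0 (vqc0 0 vqc1))))))))) (vqc0 (vqc0 1 (vqc0 1 (vqc0 0 (vqc0 0 (vqc0 2 (vqc0 0 (vqc0 0 (vqc0 1 (vqc0 2 vqc1))))))))) (vqc0 (vqc0 1 (vqc0 2 (vqc0 0 (vqc0 2 (vqc0 2 (vqc0 0 (vqc0 2 (vqc0 1 (vqc0 2 vqc1))))))))) (vqc0 (vqc0 2 (vqc0 2 (vqc0 1 (vqc0 2 (vqc0 0 (vqc0 0 (vqc0 2 (vqc0 0 (vqc0 0 vqc1))))))))) (vqc0 (vqc0 0 (vqc0 1 (vqc0 2 (vqc0 1 (vqc0 0 (vqc0 2 (vqc0 1 (vqc0 1 (vqc0 0 vqc1))))))))) (vqc0 (vqc0 2 (vqc0 0 (vqc0 1 (vqc0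 1 (vqc0 2 (vqc0 0 (vqc0 0 (vqc0 1 (vqc0 2 vqc1))))))))) (vqc0 (vqc0 2 (vqc0 0 (vqc0 1 (vqc0 1 (vqc0 2 (vqc0 0 (vqc0 2 (vqc0 1 (vqc0 1 vqc1))))))))) vqc1))))))))))
    (beta% delta% lq26c8b9c1d715 fun vqc0 vqc1 _ _ _ _ _ =>
        (vqc0 (vqc0 2 (vqc0 0 (vqc0 0 (vqc0 0 (vqc0 1 (vqc0 2 (vqc0 2 (vqc0 1 (vqc0 1 vqc1))))))))) (vqc0 (vqc0 2 (vqc0 2 (vqc0 1 (vqc0 2 (vqc0 2 (vqc0 2 (vqc0 0 (vqc0 2 (vqc0 2 vqc1))))))))) (vqc0 (vqc0 0 (vqc0 0 (vqc0 0 (vqc0 2 (vqc0 2 (vqc0 0 (vqc0 0 (vqc0 1 (vqc0 0 vqc1))))))))) (vqc0 (vqc0 1 (vqc0 0 (vqc0 2 (vqc0 2 (vqc0 0 (vqc0 1 (vqc0 1 (vqc0 2 (vqc0 0 vqc1))))))))) (vqc0 (vqc0 0 (vqc0 2 (vqc0 0 (vqc0 1 (vqc0 0 (vqc0 1 (vqc0 1 (vqc0 0 (vqc0 0 vqc1)))))))))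 (vqc0 (vqc0 0 (vqc0 0 (vqc0 2 (vqc0 2 (vqc0 1 (vqc0 2 (vqc0 1 (vqc0 1 (vqc0 2 vqc1))))))))) (vqc0 (vqc0 1 (vqc0 1 (vqc0 2 (vqc0 2 (vqc0 1 (vqc0 0 (vqc0 2 (vqc0 1 (vqc0 1 vqc1))))))))) (vqc0 (vqc0 0 (vqc0 1 (vqc0 2 (vqc0 0 (vqc0 1 (vqc0 1 (vqc0 0 (vqc0 0 (vqc0 1 vqc1))))))))) (vqc0 (vqc0 2 (vqc0 1 (vqc0 1 (vqc0 0 (vqc0 0 (vqc0 0 (vqc0 1 (vqc0 1 (vqc0 1 vqc1))))))))) vqc1))))))))))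
    [13743, 14547] (by decide +kernel)

theorem a118 : Ok 191 113502821352818891489838 :=
  ok_of (beta% delta% lq26c8b9c1d715 fun vqc0 vqc1 _ _ _ _ _ =>
      (vqc0 (vqc0 0 (vqc0 2 (vqc0 1 (vqc0 1 (vqc0 2 (vqc0 2 (vqc0 2 (vqc0 1 (vqc0 2 vqc1))))))))) (vqc0 (vqc0 2 (vqc0 1 (vqc0 2 (vqc0 2 (vqc0 1 (vqc0 1 (vqc0 0 (vqc0 0 (vqc0 2 vqc1))))))))) (vqc0 (vqc0 2 (vqc0 2 (vqc0 1 (vqc0 2 (vqc0 0 (vqc0 0 (vqc0 2 (vqc0 0 (vqc0 0 vqc1))))))))) (vqc0 (vqc0 0 (vqc0 2 (vqc0 2 (vqc0 1 (vqc0 2 (vqc0 2 (vqc0 2 (vqc0 2 (vqc0 2 vqc1))))))))) (vqc0 (vqc0 2 (vqc0 0 (vqc0 1 (vqc0 1 (vqc0 1 (vqc0 1 (vqc0 2 (vqc0 1 (vqc0 2 vqc1))))))))) (vqc0 (vqc0 2 (vqc0 1 (vqc0 2 (vqc0 1 (vqc0 2 (vqc0 1 (vqc0 2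 (vqc0 2 (vqc0 1 vqc1))))))))) (vqc0 (vqc0 1 (vqc0 0 (vqc0 2 (vqc0 1 (vqc0 0 (vqc0 1 (vqc0 2 (vqc0 1 (vqc0 2 vqc1))))))))) (vqc0 (vqc0 0 (vqc0 0 (vqc0 2 (vqc0 1 (vqc0 0 (vqc0 0 (vqc0 2 (vqc0 2 (vqc0 0 vqc1))))))))) (vqc0 (vqc0 1 (vqc0 0 (vqc0 1 (vqc0 0 (vqc0 1 (vqc0 0 (vqc0 0 (vqc0 1 (vqc0 1 vqc1))))))))) vqc1))))))))))
    (beta% delta% lq26c8b9c1d715 fun vqc0 vqc1 _ _ _ _ _ =>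
        (vqc0 (vqc0 0 (vqc0 0 (vqc0 1 (vqc0 1 (vqc0 2 (vqc0 0 (vqc0 0 (vqc0 1 (vqc0 2 vqc1))))))))) (vqc0 (vqc0 2 (vqc0 0 (vqc0 1 (vqc0 1 (vqc0 0 (vqc0 0 (vqc0 0 (vqc0 2 (vqc0 1 vqc1))))))))) (vqc0 (vqc0 1 (vqc0 1 (vqc0 2 (vqc0 1 (vqc0 0 (vqc0 2 (vqc0 1 (vqc0 1 (vqc0 2 vqc1))))))))) (vqc0 (vqc0 0 (vqc0 0 (vqc0 2 (vqc0 0 (vqc0 1 (vqc0 1 (vqc0 0 (vqc0 1 (vqc0 1 vqc1))))))))) (vqc0 (vqc0 2 (vqc0 2 (vqc0 1 (vqc0 1 (vqc0 0 (vqc0 2 (vqc0 1 (vqc0 2 (vqc0 1 vqc1))))))))) (vqc0 (vqc0 2 (vqc0 0 (vqc0 2 (vqc0 0 (vqc0 0 (vqc0 1 (vqc0 2 (vqc0 0 (vqc0 0 vqc1))))))))) (vqc0 (vqc0 0 (vqc0 2 (vqc0 0 (vqc0 1 (vqc0 1 (vqc0 0 (vqc0 1 (vqc0 1 (vqc0 2 vqc1))))))))) (vqc0 (vqc0 2 (vqc0 2 (vqc0 1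 (vqc0 2 (vqc0 1 (vqc0 1 (vqc0 2 (vqc0 0 (vqc0 1 vqc1))))))))) (vqc0 (vqc0 1 (vqc0 2 (vqc0 2 (vqc0 0 (vqc0 2 (vqc0 2 (vqc0 1 (vqc0 0 (vqc0 1 vqc1))))))))) vqc1))))))))))
    [17384, 9296] (by decide +kernel)

theorem a119 : Ok 4607 340010386767039683691558 :=
  ok_of (beta% delta% lq26c8b9c1d715 fun vqc0 vqc1 _ _ _ _ _ =>
      (vqc0 (vqc0 1 (vqc0 0 (vqc0 1 (vqc0 1 (vqc0 2 (vqc0 0 (vqc0 1 (vqc0 2 (vqc0 0 vqc1))))))))) (vqc0 (vqc0 0 (vqc0 2 (vqc0 2 (vqc0 1 (vqc0 2 (vqc0 1 (vqc0 0 (vqc0 0 (vqc0 1 vqc1))))))))) (vqc0 (vqc0 1 (vqc0 2 (vqc0 0 (vqc0 0 (vqc0 1 (vqc0 2 (vqc0 0 (vqc0 0 (vqc0 2 vqc1))))))))) (vqc0 (vqc0 0 (vqc0 2 (vqc0 0 (vqc0 1 (vqc0 2 (vqc0 0 (vqc0 2 (vqc0 2 (vqc0 2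 vqc1))))))))) (vqc0 (vqc0 1 (vqc0 1 (vqc0 0 (vqc0 2 (vqc0 0 (vqc0 2 (vqc0 1 (vqc0 0 (vqc0 2 vqc1))))))))) (vqc0 (vqc0 0 (vqc0 2 (vqc0 0 (vqc0 2 (vqc0 2 (vqc0 2 (vqc0 2 (vqc0 0 (vqc0 2 vqc1))))))))) (vqc0 (vqc0 2 (vqc0 2 (vqc0 1 (vqc0 2 (vqc0 0 (vqc0 0 (vqc0 2 (vqc0 0 (vqc0 0 vqc1))))))))) (vqc0 (vqc0 2 (vqc0 2 (vqc0 1 (vqc0 2 (vqc0 0 (vqc0 2 (vqc0 2 (vqc0 2 (vqc0 2 vqc1))))))))) (vqc0 (vqc0 2 (vqc0 1 (vqc0 0 (vqc0 0 (vqc0 0 (vqc0 1 (vqc0 0 (vqc0 0 (vqc0 0 vqc1))))))))) vqc1))))))))))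
    (beta% delta% lq26c8b9c1d715 fun vqc0 vqc1 _ _ _ _ _ =>
        (vqc0 (vqc0 0 (vqc0 2 (vqc0 1 (vqc0 1 (vqc0 0 (vqc0 2 (vqc0 2 (vqc0 0 (vqc0 1 vqc1))))))))) (vqc0 (vqc0 0 (vqc0 1 (vqc0 2 (vqc0 2 (vqc0 1 (vqc0 0 (vqc0 0 (vqc0 1 (vqc0 2 vqc1))))))))) (vqc0 (vqc0 0 (vqc0 2 (vqc0 1 (vqc0 1 (vqc0 0 (vqc0 0 (vqc0 0 (vqc0 0 (vqc0 1 vqc1))))))))) (vqc0 (vqc0 0 (vqc0 2 (vqc0 2 (vqc0 1 (vqc0 1 (vqc0 2 (vqc0 2 (vqc0 0 (vqc0 1 vqc1))))))))) (vqc0 (vqc0 0 (vqc0 1 (vqc0 0 (vqc0 0 (vqc0 1 (vqc0 0 (vqc0 0 (vqc0 2 (vqc0 0 vqc1))))))))) (vqc0 (vqc0 2 (vqc0 1 (vqc0 1 (vqc0 2 (vqc0 0 (vqc0 1 (vqc0 2 (vqc0 0 (vqc0 2 vqc1))))))))) (vqc0 (vqc0 2 (vqc0 2 (vqc0 0 (vqc0 1 (vqc0 0 (vqc0 2 (vqc0 1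 (vqc0 0 (vqc0 1 vqc1))))))))) (vqc0 (vqc0 0 (vqc0 1 (vqc0 0 (vqc0 0 (vqc0 2 (vqc0 0 (vqc0 0 (vqc0 1 (vqc0 0 vqc1))))))))) (vqc0 (vqc0 0 (vqc0 0 (vqc0 1 (vqc0 0 (vqc0 0 (vqc0 0 (vqc0 0 (vqc0 0 (vqc0 2 vqc1))))))))) vqc1))))))))))
    [17546, 14968, 521, 8865] (by decide +kernel)

theorem a120 : Ok 36863 340010386767851644846278 :=
  ok_of (beta% delta% lq26c8b9c1d715 fun vqc0 vqc1 _ _ _ _ _ =>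
      (vqc0 (vqc0 1 (vqc0 2 (vqc0 0 (vqc0 1 (vqc0 1 (vqc0 0 (vqc0 2 (vqc0 1 (vqc0 2 vqc1))))))))) (vqc0 (vqc0 1 (vqc0 0 (vqc0 0 (vqc0 0 (vqc0 2 (vqc0 0 (vqc0 0 (vqc0 1 (vqc0 0 vqc1))))))))) (vqc0 (vqc0 2 (vqc0 0 (vqc0 2 (vqc0 0 (vqc0 0 (vqc0 2 (vqc0 2 (vqc0 2 (vqc0 2 vqc1))))))))) (vqc0 (vqc0 0 (vqc0 2 (vqc0 0 (vqc0 2 (vqc0 0 (vqc0 0 (vqc0 1 (vqc0 0 (vqc0 0 vqc1))))))))) (vqc0 (vqc0 2 (vqc0 0 (vqc0 1 (vqc0 2 (vqc0 2 (vqc0 1 (vqc0 1 (vqc0 0 (vqc0 1 vqc1))))))))) (vqc0 (vqc0 2 (vqc0 1 (vqc0 2 (vqc0 2 (vqc0 1 (vqc0 1 (vqc0 0 (vqc0 1 (vqc0 1 vqc1))))))))) (vqc0 (vqc0 1 (vqc0 1 (vqc0 2 (vqc0 0 (vqc0 2 (vqc0 0 (vqc0 2 (vqc0 0 (vqc0 1 vqc1))))))))) (vqc0 (vqc0 2 (vqc0 0 (vqc0 1 (vqc0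 1 (vqc0 0 (vqc0 1 (vqc0 1 (vqc0 0 (vqc0 1 vqc1))))))))) (vqc0 (vqc0 1 (vqc0 0 (vqc0 1 (vqc0 1 (vqc0 2 (vqc0 1 (vqc0 1 (vqc0 2 (vqc0 0 vqc1))))))))) vqc1))))))))))
    (beta% delta% lq26c8b9c1d715 fun vqc0 vqc1 _ _ _ _ _ =>
        (vqc0 (vqc0 2 (vqc0 1 (vqc0 0 (vqc0 0 (vqc0 0 (vqc0 2 (vqc0 1 (vqc0 2 (vqc0 2 vqc1))))))))) (vqc0 (vqc0 0 (vqc0 2 (vqc0 2 (vqc0 0 (vqc0 1 (vqc0 1 (vqc0 1 (vqc0 0 (vqc0 1 vqc1))))))))) (vqc0 (vqc0 2 (vqc0 0 (vqc0 1 (vqc0 2 (vqc0 2 (vqc0 0 (vqc0 2 (vqc0 2 (vqc0 0 vqc1))))))))) (vqc0 (vqc0 2 (vqc0 2 (vqc0 1 (vqc0 1 (vqc0 2 (vqc0 0 (vqc0 1 (vqc0 2 (vqc0 2 vqc1))))))))) (vqc0 (vqc0 1 (vqc0 2 (vqc0 0 (vqc0 1 (vqc0 2 (vqc0 1 (vqc0 1 (vqc0 0 (vqc0 2 vqc1)))))))))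 (vqc0 (vqc0 0 (vqc0 2 (vqc0 0 (vqc0 1 (vqc0 0 (vqc0 1 (vqc0 1 (vqc0 0 (vqc0 0 vqc1))))))))) (vqc0 (vqc0 1 (vqc0 1 (vqc0 0 (vqc0 1 (vqc0 2 (vqc0 1 (vqc0 0 (vqc0 2 (vqc0 0 vqc1))))))))) (vqc0 (vqc0 2 (vqc0 1 (vqc0 1 (vqc0 0 (vqc0 1 (vqc0 1 (vqc0 0 (vqc0 0 (vqc0 0 vqc1))))))))) (vqc0 (vqc0 0 (vqc0 1 (vqc0 1 (vqc0 0 (vqc0 0 (vqc0 1 (vqc0 1 (vqc0 2 (vqc0 0 vqc1))))))))) vqc1))))))))))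
    [3540, 14840, 5321, 19282, 17567] (by decide +kernel)

end Cfsg.Agent.H651.O9
end

-- part: H651/O9/D6
section
/-!
# Classes of the orthogonal group in dimension 9 over the field with three elements, part 6 (helper651)
-/

set_option autoImplicit false
set_option exponentiation.threshold 30000
set_option maxRecDepth 100000

namespace Cfsg.Agent.H651.O9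

theorem a121 : Ok 1919 340287096372549222924318 :=
  ok_of (beta% delta% lq26c8b9c1d715 fun vqc0 vqc1 _ _ _ _ _ =>
      (vqc0 (vqc0 1 (vqc0 2 (vqc0 2 (vqc0 1 (vqc0 2 (vqc0 2 (vqc0 2 (vqc0 1 (vqc0 1 vqc1))))))))) (vqc0 (vqc0 1 (vqc0 0 (vqc0 2 (vqc0 1 (vqc0 0 (vqc0 1 (vqc0 2 (vqc0 1 (vqc0 1 vqc1))))))))) (vqc0 (vqc0 1 (vqc0 1 (vqc0 0 (vqc0 2 (vqc0 1 (vqc0 0 (vqc0 1 (vqc0 0 (vqc0 2 vqc1))))))))) (vqc0 (vqc0 1 (vqc0 1 (vqc0 0 (vqc0 1 (vqc0 0 (vqc0 2 (vqc0 0 (vqc0 2 (vqc0 2 vqc1))))))))) (vqc0 (vqc0 1 (vqc0 1 (vqc0 0 (vqc0 1 (vqc0 1 (vqc0 0 (vqc0 0 (vqc0 2 (vqc0 1 vqc1))))))))) (vqc0 (vqc0 0 (vqc0 2 (vqc0 0 (vqc0 0 (vqc0 1 (vqc0 1 (vqc0 0 (vqc0 1 (vqc0 1 vqc1))))))))) (vqc0 (vqc0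 2 (vqc0 2 (vqc0 0 (vqc0 1 (vqc0 0 (vqc0 1 (vqc0 0 (vqc0 2 (vqc0 1 vqc1))))))))) (vqc0 (vqc0 2 (vqc0 0 (vqc0 1 (vqc0 1 (vqc0 1 (vqc0 2 (vqc0 2 (vqc0 0 (vqc0 0 vqc1))))))))) (vqc0 (vqc0 0 (vqc0 0 (vqc0 1 (vqc0 2 (vqc0 2 (vqc0 2 (vqc0 1 (vqc0 0 (vqc0 1 vqc1))))))))) vqc1))))))))))
    (beta% delta% lq26c8b9c1d715 fun vqc0 vqc1 _ _ _ _ _ =>
        (vqc0 (vqc0 1 (vqc0 2 (vqc0 0 (vqc0 1 (vqc0 2 (vqc0 0 (vqc0 1 (vqc0 2 (vqc0 2 vqc1))))))))) (vqc0 (vqc0 1 (vqc0 2 (vqc0 0 (vqc0 2 (vqc0 1 (vqc0 0 (vqc0 1 (vqc0 1 (vqc0 0 vqc1))))))))) (vqc0 (vqc0 2 (vqc0 2 (vqc0 2 (vqc0 1 (vqc0 0 (vqc0 1 (vqc0 2 (vqc0 2 (vqc0 1 vqc1))))))))) (vqc0 (vqc0 1 (vqc0 0 (vqc0 0 (vqc0 1 (vqc0 2 (vqc0 0 (vqc0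 2 (vqc0 2 (vqc0 2 vqc1))))))))) (vqc0 (vqc0 2 (vqc0 2 (vqc0 1 (vqc0 0 (vqc0 1 (vqc0 1 (vqc0 2 (vqc0 1 (vqc0 2 vqc1))))))))) (vqc0 (vqc0 2 (vqc0 2 (vqc0 0 (vqc0 1 (vqc0 2 (vqc0 1 (vqc0 1 (vqc0 1 (vqc0 2 vqc1))))))))) (vqc0 (vqc0 1 (vqc0 2 (vqc0 1 (vqc0 0 (vqc0 1 (vqc0 1 (vqc0 0 (vqc0 2 (vqc0 0 vqc1))))))))) (vqc0 (vqc0 0 (vqc0 1 (vqc0 1 (vqc0 1 (vqc0 2 (vqc0 0 (vqc0 0 (vqc0 0 (vqc0 2 vqc1))))))))) (vqc0 (vqc0 2 (vqc0 2 (vqc0 2 (vqc0 0 (vqc0 0 (vqc0 2 (vqc0 2 (vqc0 1 (vqc0 2 vqc1))))))))) vqc1))))))))))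
    [426, 6561, 7723, 12972] (by decide +kernel)

theorem a122 : Ok 3839 340563797533364955906060 :=
  ok_of (beta% delta% lq26c8b9c1d715 fun vqc0 vqc1 _ _ _ _ _ =>
      (vqc0 (vqc0 1 (vqc0 0 (vqc0 2 (vqc0 0 (vqc0 2 (vqc0 0 (vqc0 1 (vqc0 0 (vqc0 0 vqc1))))))))) (vqc0 (vqc0 2 (vqc0 2 (vqc0 1 (vqc0 2 (vqc0 2 (vqc0 0 (vqc0 1 (vqc0 1 (vqc0 1 vqc1))))))))) (vqc0 (vqc0 0 (vqc0 0 (vqc0 2 (vqc0 0 (vqc0 2 (vqc0 0 (vqc0 2 (vqc0 0 (vqc0 0 vqc1))))))))) (vqc0 (vqc0 0 (vqc0 0 (vqc0 0 (vqc0 2 (vqc0 0 (vqc0 2 (vqc0 1 (vqc0 1 (vqc0 1 vqc1))))))))) (vqc0 (vqc0 1 (vqc0 1 (vqc0 2 (vqc0 2 (vqc0 0 (vqc0 0 (vqc0 2 (vqc0 1 (vqc0 2 vqc1))))))))) (vqc0 (vqc0 2 (vqc0 0 (vqc0 0 (vqc0 1 (vqc0 0 (vqc0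 2 (vqc0 0 (vqc0 0 (vqc0 0 vqc1))))))))) (vqc0 (vqc0 1 (vqc0 1 (vqc0 1 (vqc0 2 (vqc0 0 (vqc0 0 (vqc0 1 (vqc0 1 (vqc0 2 vqc1))))))))) (vqc0 (vqc0 2 (vqc0 1 (vqc0 1 (vqc0 1 (vqc0 0 (vqc0 1 (vqc0 0 (vqc0 1 (vqc0 0 vqc1))))))))) (vqc0 (vqc0 0 (vqc0 1 (vqc0 0 (vqc0 2 (vqc0 2 (vqc0 0 (vqc0 0 (vqc0 1 (vqc0 1 vqc1))))))))) vqc1))))))))))
    (beta% delta% lq26c8b9c1d715 fun vqc0 vqc1 _ _ _ _ _ =>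
        (vqc0 (vqc0 2 (vqc0 2 (vqc0 2 (vqc0 1 (vqc0 2 (vqc0 0 (vqc0 2 (vqc0 2 (vqc0 1 vqc1))))))))) (vqc0 (vqc0 0 (vqc0 2 (vqc0 2 (vqc0 2 (vqc0 0 (vqc0 2 (vqc0 0 (vqc0 2 (vqc0 1 vqc1))))))))) (vqc0 (vqc0 2 (vqc0 1 (vqc0 0 (vqc0 2 (vqc0 1 (vqc0 2 (vqc0 0 (vqc0 1 (vqc0 2 vqc1))))))))) (vqc0 (vqc0 1 (vqc0 2 (vqc0 1 (vqc0 2 (vqc0 1 (vqc0 0 (vqc0 0 (vqc0 1 (vqc0 2 vqc1))))))))) (vqc0 (vqc0 2 (vqc0 1 (vqc0 2 (vqc0 2 (vqc0 0 (vqc0 1 (vqc0 2 (vqc0 2 (vqc0 2 vqc1))))))))) (vqc0 (vqc0 0 (vqc0 1 (vqc0 0 (vqc0 0 (vqc0 1 (vqc0 0 (vqc0 2 (vqc0 0 (vqc0 0 vqc1))))))))) (vqc0 (vqc0 2 (vqc0 0 (vqc0 0 (vqc0 2 (vqc0 2 (vqc0 0 (vqc0 0 (vqc0 2 (vqc0 0 vqc1))))))))) (vqc0 (vqc0 1 (vqc0 0 (vqc0 2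 (vqc0 2 (vqc0 0 (vqc0 0 (vqc0 0 (vqc0 1 (vqc0 2 vqc1))))))))) (vqc0 (vqc0 1 (vqc0 2 (vqc0 2 (vqc0 2 (vqc0 2 (vqc0 0 (vqc0 2 (vqc0 1 (vqc0 0 vqc1))))))))) vqc1))))))))))
    [18315, 2961, 9217, 11556] (by decide +kernel)

theorem a123 : Ok 1535 340674489820084800652524 :=
  ok_of (beta% delta% lq26c8b9c1d715 fun vqc0 vqc1 _ _ _ _ _ =>
      (vqc0 (vqc0 1 (vqc0 1 (vqc0 0 (vqc0 0 (vqc0 0 (vqc0 1 (vqc0 0 (vqc0 1 (vqc0 1 vqc1))))))))) (vqc0 (vqc0 0 (vqc0 0 (vqc0 1 (vqc0 1 (vqc0 0 (vqc0 2 (vqc0 0 (vqc0 0 (vqc0 1 vqc1))))))))) (vqc0 (vqc0 0 (vqc0 0 (vqc0 1 (vqc0 2 (vqc0 2 (vqc0 1 (vqc0 2 (vqc0 0 (vqc0 2 vqc1))))))))) (vqc0 (vqc0 0 (vqc0 1 (vqc0 0 (vqc0 2 (vqc0 1 (vqc0 2 (vqc0 2 (vqc0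 1 (vqc0 2 vqc1))))))))) (vqc0 (vqc0 1 (vqc0 1 (vqc0 0 (vqc0 0 (vqc0 2 (vqc0 0 (vqc0 0 (vqc0 0 (vqc0 2 vqc1))))))))) (vqc0 (vqc0 2 (vqc0 1 (vqc0 1 (vqc0 0 (vqc0 2 (vqc0 1 (vqc0 0 (vqc0 2 (vqc0 1 vqc1))))))))) (vqc0 (vqc0 1 (vqc0 0 (vqc0 2 (vqc0 2 (vqc0 0 (vqc0 2 (vqc0 0 (vqc0 2 (vqc0 2 vqc1))))))))) (vqc0 (vqc0 1 (vqc0 1 (vqc0 2 (vqc0 0 (vqc0 0 (vqc0 1 (vqc0 0 (vqc0 2 (vqc0 1 vqc1))))))))) (vqc0 (vqc0 0 (vqc0 1 (vqc0 1 (vqc0 1 (vqc0 0 (vqc0 0 (vqc0 1 (vqc0 2 (vqc0 1 vqc1))))))))) vqc1))))))))))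
    (beta% delta% lq26c8b9c1d715 fun vqc0 vqc1 _ _ _ _ _ =>
        (vqc0 (vqc0 1 (vqc0 0 (vqc0 1 (vqc0 1 (vqc0 1 (vqc0 2 (vqc0 2 (vqc0 0 (vqc0 0 vqc1))))))))) (vqc0 (vqc0 2 (vqc0 1 (vqc0 0 (vqc0 2 (vqc0 1 (vqc0 2 (vqc0 2 (vqc0 0 (vqc0 1 vqc1))))))))) (vqc0 (vqc0 0 (vqc0 0 (vqc0 2 (vqc0 2 (vqc0 2 (vqc0 0 (vqc0 1 (vqc0 2 (vqc0 0 vqc1))))))))) (vqc0 (vqc0 1 (vqc0 1 (vqc0 1 (vqc0 0 (vqc0 1 (vqc0 1 (vqc0 2 (vqc0 2 (vqc0 0 vqc1))))))))) (vqc0 (vqc0 2 (vqc0 0 (vqc0 2 (vqc0 2 (vqc0 0 (vqc0 0 (vqc0 0 (vqc0 1 (vqc0 1 vqc1))))))))) (vqc0 (vqc0 2 (vqc0 2 (vqc0 0 (vqc0 2 (vqc0 1 (vqc0 0 (vqc0 1 (vqc0 0 (vqc0 1 vqc1))))))))) (vqc0 (vqc0 0 (vqc0 2 (vqc0 1 (vqc0 1 (vqc0 2 (vqc0 0 (vqc0 0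 (vqc0 2 (vqc0 1 vqc1))))))))) (vqc0 (vqc0 1 (vqc0 0 (vqc0 1 (vqc0 1 (vqc0 0 (vqc0 2 (vqc0 0 (vqc0 1 (vqc0 2 vqc1))))))))) (vqc0 (vqc0 0 (vqc0 0 (vqc0 0 (vqc0 1 (vqc0 0 (vqc0 2 (vqc0 0 (vqc0 0 (vqc0 1 vqc1))))))))) vqc1))))))))))
    [10149, 5242, 3941, 5807] (by decide +kernel)

theorem a124 : Ok 863 38526024998522220904790 :=
  ok_of (beta% delta% lq26c8b9c1d715 fun vqc0 vqc1 _ _ _ _ _ =>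
      (vqc0 (vqc0 0 (vqc0 2 (vqc0 1 (vqc0 0 (vqc0 2 (vqc0 2 (vqc0 1 (vqc0 0 (vqc0 2 vqc1))))))))) (vqc0 (vqc0 1 (vqc0 1 (vqc0 0 (vqc0 1 (vqc0 1 (vqc0 0 (vqc0 2 (vqc0 0 (vqc0 1 vqc1))))))))) (vqc0 (vqc0 1 (vqc0 2 (vqc0 1 (vqc0 0 (vqc0 0 (vqc0 2 (vqc0 2 (vqc0 1 (vqc0 1 vqc1))))))))) (vqc0 (vqc0 2 (vqc0 0 (vqc0 1 (vqc0 0 (vqc0 1 (vqc0 0 (vqc0 1 (vqc0 0 (vqc0 0 vqc1))))))))) (vqc0 (vqc0 1 (vqc0 1 (vqc0 0 (vqc0 1 (vqc0 2 (vqc0 0 (vqc0 0 (vqc0 0 (vqc0 1 vqc1))))))))) (vqc0 (vqc0 0 (vqc0 2 (vqc0 0 (vqc0 1 (vqc0 0 (vqc0 1 (vqc0 0 (vqc0 0 (vqc0 0 vqc1))))))))) (vqc0 (vqc0 1 (vqc0 0 (vqc0 2 (vqc0 0 (vqc0 2 (vqc0 0 (vqc0 0 (vqc0 0 (vqc0 0 vqc1))))))))) (vqc0 (vqc0 2 (vqc0 1 (vqc0 0 (vqc0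 1 (vqc0 2 (vqc0 2 (vqc0 1 (vqc0 1 (vqc0 2 vqc1))))))))) (vqc0 (vqc0 1 (vqc0 1 (vqc0 1 (vqc0 1 (vqc0 0 (vqc0 0 (vqc0 2 (vqc0 0 (vqc0 0 vqc1))))))))) vqc1))))))))))
    (beta% delta% lq26c8b9c1d715 fun vqc0 vqc1 _ _ _ _ _ =>
        (vqc0 (vqc0 0 (vqc0 1 (vqc0 1 (vqc0 1 (vqc0 0 (vqc0 2 (vqc0 1 (vqc0 2 (vqc0 0 vqc1))))))))) (vqc0 (vqc0 2 (vqc0 1 (vqc0 1 (vqc0 2 (vqc0 0 (vqc0 2 (vqc0 1 (vqc0 0 (vqc0 1 vqc1))))))))) (vqc0 (vqc0 1 (vqc0 2 (vqc0 1 (vqc0 0 (vqc0 1 (vqc0 0 (vqc0 2 (vqc0 1 (vqc0 2 vqc1))))))))) (vqc0 (vqc0 0 (vqc0 1 (vqc0 0 (vqc0 2 (vqc0 2 (vqc0 0 (vqc0 2 (vqc0 2 (vqc0 2 vqc1))))))))) (vqc0 (vqc0 1 (vqc0 1 (vqc0 0 (vqc0 0 (vqc0 2 (vqc0 0 (vqc0 2 (vqc0 0 (vqc0 2 vqc1)))))))))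 (vqc0 (vqc0 2 (vqc0 2 (vqc0 0 (vqc0 2 (vqc0 1 (vqc0 1 (vqc0 2 (vqc0 2 (vqc0 0 vqc1))))))))) (vqc0 (vqc0 1 (vqc0 1 (vqc0 0 (vqc0 1 (vqc0 2 (vqc0 1 (vqc0 2 (vqc0 2 (vqc0 2 vqc1))))))))) (vqc0 (vqc0 1 (vqc0 2 (vqc0 1 (vqc0 2 (vqc0 0 (vqc0 0 (vqc0 0 (vqc0 2 (vqc0 1 vqc1))))))))) (vqc0 (vqc0 0 (vqc0 1 (vqc0 2 (vqc0 2 (vqc0 1 (vqc0 2 (vqc0 0 (vqc0 0 (vqc0 2 vqc1))))))))) vqc1))))))))))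
    [4898, 19211, 9316] (by decide +kernel)

theorem a125 : Ok 6911 37778931863884890571742 :=
  ok_of (beta% delta% lq26c8b9c1d715 fun vqc0 vqc1 _ _ _ _ _ =>
      (vqc0 (vqc0 0 (vqc0 0 (vqc0 0 (vqc0 2 (vqc0 2 (vqc0 2 (vqc0 2 (vqc0 0 (vqc0 1 vqc1))))))))) (vqc0 (vqc0 0 (vqc0 2 (vqc0 2 (vqc0 1 (vqc0 2 (vqc0 2 (vqc0 1 (vqc0 1 (vqc0 2 vqc1))))))))) (vqc0 (vqc0 1 (vqc0 1 (vqc0 0 (vqc0 0 (vqc0 0 (vqc0 1 (vqc0 0 (vqc0 1 (vqc0 2 vqc1))))))))) (vqc0 (vqc0 2 (vqc0 2 (vqc0 0 (vqc0 0 (vqc0 2 (vqc0 0 (vqc0 0 (vqc0 0 (vqc0 2 vqc1))))))))) (vqc0 (vqc0 2 (vqc0 0 (vqc0 2 (vqc0 0 (vqc0 0 (vqc0 0 (vqc0 2 (vqc0 2 (vqc0 1 vqc1))))))))) (vqc0 (vqc0 1 (vqc0 1 (vqc0 0 (vqc0 1 (vqc0 1 (vqc0 0 (vqc0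 1 (vqc0 0 (vqc0 1 vqc1))))))))) (vqc0 (vqc0 1 (vqc0 1 (vqc0 2 (vqc0 1 (vqc0 1 (vqc0 0 (vqc0 1 (vqc0 1 (vqc0 1 vqc1))))))))) (vqc0 (vqc0 2 (vqc0 2 (vqc0 0 (vqc0 2 (vqc0 0 (vqc0 1 (vqc0 0 (vqc0 0 (vqc0 1 vqc1))))))))) (vqc0 (vqc0 0 (vqc0 1 (vqc0 0 (vqc0 1 (vqc0 1 (vqc0 2 (vqc0 1 (vqc0 0 (vqc0 0 vqc1))))))))) vqc1))))))))))
    (beta% delta% lq26c8b9c1d715 fun vqc0 vqc1 _ _ _ _ _ =>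
        (vqc0 (vqc0 1 (vqc0 1 (vqc0 1 (vqc0 0 (vqc0 0 (vqc0 0 (vqc0 0 (vqc0 2 (vqc0 1 vqc1))))))))) (vqc0 (vqc0 1 (vqc0 1 (vqc0 0 (vqc0 2 (vqc0 1 (vqc0 0 (vqc0 2 (vqc0 0 (vqc0 2 vqc1))))))))) (vqc0 (vqc0 0 (vqc0 0 (vqc0 1 (vqc0 2 (vqc0 1 (vqc0 0 (vqc0 2 (vqc0 2 (vqc0 0 vqc1))))))))) (vqc0 (vqc0 1 (vqc0 0 (vqc0 0 (vqc0 0 (vqc0 2 (vqc0 1 (vqc0 2 (vqc0 1 (vqc0 1 vqc1))))))))) (vqc0 (vqc0 2 (vqc0 1 (vqc0 0 (vqc0 2 (vqc0 1 (vqc0 2 (vqc0 0 (vqc0 1 (vqc0 1 vqc1))))))))) (vqc0 (vqc0 2 (vqc0 1 (vqc0 0 (vqc0 0 (vqc0 1 (vqc0 1 (vqc0 0 (vqc0 1 (vqc0 0 vqc1))))))))) (vqc0 (vqc0 2 (vqc0 1 (vqc0 0 (vqc0 1 (vqc0 0 (vqc0 1 (vqc0 1 (vqc0 1 (vqc0 0 vqc1))))))))) (vqc0 (vqc0 2 (vqc0 1 (vqc0 2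 (vqc0 1 (vqc0 0 (vqc0 2 (vqc0 0 (vqc0 1 (vqc0 2 vqc1))))))))) (vqc0 (vqc0 0 (vqc0 0 (vqc0 0 (vqc0 2 (vqc0 0 (vqc0 1 (vqc0 2 (vqc0 1 (vqc0 0 vqc1))))))))) vqc1))))))))))
    [2489, 3669, 15238] (by decide +kernel)

theorem a126 : Ok 719 37986457734366215143430 :=
  ok_of (beta% delta% lq26c8b9c1d715 fun vqc0 vqc1 _ _ _ _ _ =>
      (vqc0 (vqc0 1 (vqc0 1 (vqc0 1 (vqc0 1 (vqc0 1 (vqc0 2 (vqc0 1 (vqc0 0 (vqc0 1 vqc1))))))))) (vqc0 (vqc0 0 (vqc0 0 (vqc0 0 (vqc0 2 (vqc0 2 (vqc0 2 (vqc0 0 (vqc0 1 (vqc0 1 vqc1))))))))) (vqc0 (vqc0 0 (vqc0 0 (vqc0 0 (vqc0 2 (vqc0 0 (vqc0 0 (vqc0 0 (vqc0 1 (vqc0 0 vqc1))))))))) (vqc0 (vqc0 2 (vqc0 1 (vqc0 1 (vqc0 1 (vqc0 2 (vqc0 2 (vqc0 2 (vqc0 1 (vqc0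 0 vqc1))))))))) (vqc0 (vqc0 2 (vqc0 0 (vqc0 0 (vqc0 1 (vqc0 2 (vqc0 2 (vqc0 0 (vqc0 2 (vqc0 1 vqc1))))))))) (vqc0 (vqc0 1 (vqc0 2 (vqc0 2 (vqc0 1 (vqc0 1 (vqc0 0 (vqc0 2 (vqc0 0 (vqc0 1 vqc1))))))))) (vqc0 (vqc0 2 (vqc0 0 (vqc0 1 (vqc0 2 (vqc0 0 (vqc0 1 (vqc0 1 (vqc0 2 (vqc0 1 vqc1))))))))) (vqc0 (vqc0 1 (vqc0 0 (vqc0 1 (vqc0 2 (vqc0 2 (vqc0 2 (vqc0 1 (vqc0 1 (vqc0 1 vqc1))))))))) (vqc0 (vqc0 2 (vqc0 0 (vqc0 1 (vqc0 0 (vqc0 1 (vqc0 0 (vqc0 1 (vqc0 0 (vqc0 1 vqc1))))))))) vqc1))))))))))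
    (beta% delta% lq26c8b9c1d715 fun vqc0 vqc1 _ _ _ _ _ =>
        (vqc0 (vqc0 0 (vqc0 0 (vqc0 2 (vqc0 2 (vqc0 1 (vqc0 0 (vqc0 1 (vqc0 2 (vqc0 0 vqc1))))))))) (vqc0 (vqc0 2 (vqc0 1 (vqc0 0 (vqc0 0 (vqc0 0 (vqc0 1 (vqc0 1 (vqc0 1 (vqc0 0 vqc1))))))))) (vqc0 (vqc0 1 (vqc0 1 (vqc0 0 (vqc0 2 (vqc0 1 (vqc0 2 (vqc0 1 (vqc0 1 (vqc0 1 vqc1))))))))) (vqc0 (vqc0 0 (vqc0 1 (vqc0 2 (vqc0 1 (vqc0 2 (vqc0 1 (vqc0 0 (vqc0 2 (vqc0 1 vqc1))))))))) (vqc0 (vqc0 2 (vqc0 0 (vqc0 0 (vqc0 1 (vqc0 2 (vqc0 2 (vqc0 0 (vqc0 2 (vqc0 2 vqc1))))))))) (vqc0 (vqc0 2 (vqc0 2 (vqc0 0 (vqc0 1 (vqc0 1 (vqc0 1 (vqc0 1 (vqc0 1 (vqc0 0 vqc1))))))))) (vqc0 (vqc0 2 (vqc0 0 (vqc0 1 (vqc0 1 (vqc0 2 (vqc0 0 (vqc0 0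 (vqc0 2 (vqc0 2 vqc1))))))))) (vqc0 (vqc0 0 (vqc0 2 (vqc0 0 (vqc0 0 (vqc0 1 (vqc0 0 (vqc0 2 (vqc0 2 (vqc0 1 vqc1))))))))) (vqc0 (vqc0 2 (vqc0 2 (vqc0 0 (vqc0 0 (vqc0 0 (vqc0 1 (vqc0 2 (vqc0 1 (vqc0 1 vqc1))))))))) vqc1))))))))))
    [12454, 15523, 8923] (by decide +kernel)

theorem a127 : Ok 719 38193983605601321812154 :=
  ok_of (beta% delta% lq26c8b9c1d715 fun vqc0 vqc1 _ _ _ _ _ =>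
      (vqc0 (vqc0 2 (vqc0 0 (vqc0 1 (vqc0 1 (vqc0 1 (vqc0 0 (vqc0 1 (vqc0 0 (vqc0 2 vqc1))))))))) (vqc0 (vqc0 2 (vqc0 0 (vqc0 0 (vqc0 2 (vqc0 0 (vqc0 1 (vqc0 2 (vqc0 2 (vqc0 1 vqc1))))))))) (vqc0 (vqc0 0 (vqc0 2 (vqc0 0 (vqc0 0 (vqc0 1 (vqc0 0 (vqc0 0 (vqc0 2 (vqc0 0 vqc1))))))))) (vqc0 (vqc0 2 (vqc0 1 (vqc0 1 (vqc0 2 (vqc0 0 (vqc0 0 (vqc0 0 (vqc0 2 (vqc0 1 vqc1))))))))) (vqc0 (vqc0 0 (vqc0 1 (vqc0 2 (vqc0 0 (vqc0 2 (vqc0 0 (vqc0 0 (vqc0 2 (vqc0 0 vqc1))))))))) (vqc0 (vqc0 1 (vqc0 2 (vqc0 1 (vqc0 1 (vqc0 2 (vqc0 0 (vqc0 2 (vqc0 0 (vqc0 0 vqc1))))))))) (vqc0 (vqc0 0 (vqc0 0 (vqc0 2 (vqc0 2 (vqc0 1 (vqc0 2 (vqc0 2 (vqc0 2 (vqc0 2 vqc1))))))))) (vqc0 (vqc0 1 (vqc0 1 (vqc0 2 (vqc0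 1 (vqc0 0 (vqc0 2 (vqc0 1 (vqc0 1 (vqc0 2 vqc1))))))))) (vqc0 (vqc0 1 (vqc0 2 (vqc0 0 (vqc0 1 (vqc0 2 (vqc0 2 (vqc0 1 (vqc0 0 (vqc0 1 vqc1))))))))) vqc1))))))))))
    (beta% delta% lq26c8b9c1d715 fun vqc0 vqc1 _ _ _ _ _ =>
        (vqc0 (vqc0 2 (vqc0 2 (vqc0 1 (vqc0 2 (vqc0 2 (vqc0 2 (vqc0 0 (vqc0 1 (vqc0 2 vqc1))))))))) (vqc0 (vqc0 1 (vqc0 2 (vqc0 2 (vqc0 2 (vqc0 2 (vqc0 0 (vqc0 0 (vqc0 0 (vqc0 0 vqc1))))))))) (vqc0 (vqc0 2 (vqc0 1 (vqc0 1 (vqc0 2 (vqc0 2 (vqc0 2 (vqc0 1 (vqc0 2 (vqc0 1 vqc1))))))))) (vqc0 (vqc0 2 (vqc0 0 (vqc0 1 (vqc0 0 (vqc0 1 (vqc0 0 (vqc0 2 (vqc0 2 (vqc0 1 vqc1))))))))) (vqc0 (vqc0 2 (vqc0 2 (vqc0 2 (vqc0 0 (vqc0 2 (vqc0 1 (vqc0 2 (vqc0 2 (vqc0 2 vqc1)))))))))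 (vqc0 (vqc0 2 (vqc0 2 (vqc0 2 (vqc0 2 (vqc0 2 (vqc0 2 (vqc0 2 (vqc0 0 (vqc0 0 vqc1))))))))) (vqc0 (vqc0 0 (vqc0 2 (vqc0 0 (vqc0 0 (vqc0 2 (vqc0 2 (vqc0 2 (vqc0 0 (vqc0 2 vqc1))))))))) (vqc0 (vqc0 0 (vqc0 2 (vqc0 0 (vqc0 0 (vqc0 0 (vqc0 2 (vqc0 2 (vqc0 2 (vqc0 1 vqc1))))))))) (vqc0 (vqc0 1 (vqc0 0 (vqc0 1 (vqc0 1 (vqc0 1 (vqc0 0 (vqc0 1 (vqc0 2 (vqc0 2 vqc1))))))))) vqc1))))))))))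
    [6053, 16164] (by decide +kernel)

theorem a128 : Ok 863 37778954663415973806422 :=
  ok_of (beta% delta% lq26c8b9c1d715 fun vqc0 vqc1 _ _ _ _ _ =>
      (vqc0 (vqc0 1 (vqc0 2 (vqc0 2 (vqc0 2 (vqc0 0 (vqc0 1 (vqc0 1 (vqc0 1 (vqc0 1 vqc1))))))))) (vqc0 (vqc0 2 (vqc0 2 (vqc0 1 (vqc0 2 (vqc0 1 (vqc0 1 (vqc0 1 (vqc0 2 (vqc0 0 vqc1))))))))) (vqc0 (vqc0 2 (vqc0 0 (vqc0 1 (vqc0 0 (vqc0 0 (vqc0 0 (vqc0 2 (vqc0 2 (vqc0 2 vqc1))))))))) (vqc0 (vqc0 2 (vqc0 0 (vqc0 1 (vqc0 0 (vqc0 1 (vqc0 1 (vqc0 0 (vqc0 1 (vqc0 1 vqc1))))))))) (vqc0 (vqc0 2 (vqc0 2 (vqc0 1 (vqc0 0 (vqc0 0 (vqc0 1 (vqc0 2 (vqc0 0 (vqc0 2 vqc1))))))))) (vqc0 (vqc0 0 (vqc0 0 (vqc0 0 (vqc0 1 (vqc0 0 (vqc0 2 (vqc0 1 (vqc0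 1 (vqc0 2 vqc1))))))))) (vqc0 (vqc0 0 (vqc0 1 (vqc0 0 (vqc0 1 (vqc0 0 (vqc0 0 (vqc0 0 (vqc0 0 (vqc0 0 vqc1))))))))) (vqc0 (vqc0 1 (vqc0 2 (vqc0 0 (vqc0 0 (vqc0 1 (vqc0 1 (vqc0 0 (vqc0 1 (vqc0 0 vqc1))))))))) (vqc0 (vqc0 0 (vqc0 0 (vqc0 0 (vqc0 1 (vqc0 0 (vqc0 0 (vqc0 0 (vqc0 2 (vqc0 2 vqc1))))))))) vqc1))))))))))
    (beta% delta% lq26c8b9c1d715 fun vqc0 vqc1 _ _ _ _ _ =>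
        (vqc0 (vqc0 1 (vqc0 1 (vqc0 2 (vqc0 1 (vqc0 0 (vqc0 2 (vqc0 2 (vqc0 2 (vqc0 1 vqc1))))))))) (vqc0 (vqc0 1 (vqc0 1 (vqc0 1 (vqc0 0 (vqc0 1 (vqc0 2 (vqc0 0 (vqc0 1 (vqc0 0 vqc1))))))))) (vqc0 (vqc0 0 (vqc0 1 (vqc0 0 (vqc0 1 (vqc0 2 (vqc0 0 (vqc0 0 (vqc0 1 (vqc0 0 vqc1))))))))) (vqc0 (vqc0 1 (vqc0 1 (vqc0 1 (vqc0 0 (vqc0 2 (vqc0 2 (vqc0 1 (vqc0 2 (vqc0 2 vqc1))))))))) (vqc0 (vqc0 0 (vqc0 1 (vqc0 1 (vqc0 2 (vqc0 1 (vqc0 1 (vqc0 0 (vqc0 2 (vqc0 0 vqc1))))))))) (vqc0 (vqc0 2 (vqc0 0 (vqc0 2 (vqc0 2 (vqc0 1 (vqc0 2 (vqc0 1 (vqc0 1 (vqc0 1 vqc1))))))))) (vqc0 (vqc0 2 (vqc0 1 (vqc0 0 (vqc0 0 (vqc0 2 (vqc0 2 (vqc0 0 (vqc0 1 (vqc0 0 vqc1))))))))) (vqc0 (vqc0 1 (vqc0 2 (vqc0 2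 (vqc0 0 (vqc0 1 (vqc0 2 (vqc0 2 (vqc0 0 (vqc0 1 vqc1))))))))) (vqc0 (vqc0 0 (vqc0 1 (vqc0 1 (vqc0 2 (vqc0 1 (vqc0 1 (vqc0 0 (vqc0 0 (vqc0 1 vqc1))))))))) vqc1))))))))))
    [18751, 5842] (by decide +kernel)

theorem a129 : Ok 6911 37778931863594996204510 :=
  ok_of (beta% delta% lq26c8b9c1d715 fun vqc0 vqc1 _ _ _ _ _ =>
      (vqc0 (vqc0 0 (vqc0 0 (vqc0 0 (vqc0 0 (vqc0 2 (vqc0 1 (vqc0 1 (vqc0 2 (vqc0 2 vqc1))))))))) (vqc0 (vqc0 0 (vqc0 0 (vqc0 1 (vqc0 2 (vqc0 2 (vqc0 2 (vqc0 1 (vqc0 1 (vqc0 2 vqc1))))))))) (vqc0 (vqc0 1 (vqc0 1 (vqc0 0 (vqc0 1 (vqc0 1 (vqc0 0 (vqc0 2 (vqc0 1 (vqc0 0 vqc1))))))))) (vqc0 (vqc0 1 (vqc0 2 (vqc0 0 (vqc0 2 (vqc0 1 (vqc0 1 (vqc0 0 (vqc0 0 (vqc0 0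 vqc1))))))))) (vqc0 (vqc0 0 (vqc0 0 (vqc0 0 (vqc0 1 (vqc0 1 (vqc0 2 (vqc0 2 (vqc0 1 (vqc0 1 vqc1))))))))) (vqc0 (vqc0 1 (vqc0 0 (vqc0 1 (vqc0 2 (vqc0 0 (vqc0 2 (vqc0 1 (vqc0 2 (vqc0 2 vqc1))))))))) (vqc0 (vqc0 1 (vqc0 1 (vqc0 0 (vqc0 2 (vqc0 2 (vqc0 1 (vqc0 1 (vqc0 1 (vqc0 1 vqc1))))))))) (vqc0 (vqc0 2 (vqc0 2 (vqc0 0 (vqc0 1 (vqc0 2 (vqc0 1 (vqc0 0 (vqc0 2 (vqc0 0 vqc1))))))))) (vqc0 (vqc0 0 (vqc0 1 (vqc0 0 (vqc0 0 (vqc0 0 (vqc0 2 (vqc0 0 (vqc0 0 (vqc0 1 vqc1))))))))) vqc1))))))))))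
    (beta% delta% lq26c8b9c1d715 fun vqc0 vqc1 _ _ _ _ _ =>
        (vqc0 (vqc0 1 (vqc0 0 (vqc0 1 (vqc0 0 (vqc0 2 (vqc0 0 (vqc0 0 (vqc0 2 (vqc0 0 vqc1))))))))) (vqc0 (vqc0 1 (vqc0 1 (vqc0 1 (vqc0 2 (vqc0 0 (vqc0 0 (vqc0 2 (vqc0 2 (vqc0 1 vqc1))))))))) (vqc0 (vqc0 2 (vqc0 1 (vqc0 2 (vqc0 1 (vqc0 1 (vqc0 1 (vqc0 1 (vqc0 1 (vqc0 0 vqc1))))))))) (vqc0 (vqc0 1 (vqc0 0 (vqc0 1 (vqc0 2 (vqc0 1 (vqc0 0 (vqc0 2 (vqc0 1 (vqc0 1 vqc1))))))))) (vqc0 (vqc0 0 (vqc0 0 (vqc0 2 (vqc0 0 (vqc0 0 (vqc0 0 (vqc0 0 (vqc0 1 (vqc0 0 vqc1))))))))) (vqc0 (vqc0 1 (vqc0 2 (vqc0 2 (vqc0 2 (vqc0 1 (vqc0 1 (vqc0 0 (vqc0 2 (vqc0 2 vqc1))))))))) (vqc0 (vqc0 1 (vqc0 2 (vqc0 0 (vqc0 1 (vqc0 2 (vqc0 2 (vqc0 1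 (vqc0 0 (vqc0 0 vqc1))))))))) (vqc0 (vqc0 0 (vqc0 2 (vqc0 1 (vqc0 2 (vqc0 1 (vqc0 2 (vqc0 2 (vqc0 1 (vqc0 0 vqc1))))))))) (vqc0 (vqc0 0 (vqc0 1 (vqc0 1 (vqc0 1 (vqc0 0 (vqc0 1 (vqc0 1 (vqc0 2 (vqc0 2 vqc1))))))))) vqc1))))))))))
    [10019, 11000, 5037] (by decide +kernel)

theorem a130 : Ok 1727 37778931864000844071794 :=
  ok_of (beta% delta% lq26c8b9c1d715 fun vqc0 vqc1 _ _ _ _ _ =>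
      (vqc0 (vqc0 2 (vqc0 2 (vqc0 2 (vqc0 0 (vqc0 1 (vqc0 0 (vqc0 0 (vqc0 0 (vqc0 2 vqc1))))))))) (vqc0 (vqc0 2 (vqc0 2 (vqc0 1 (vqc0 0 (vqc0 1 (vqc0 1 (vqc0 1 (vqc0 2 (vqc0 2 vqc1))))))))) (vqc0 (vqc0 1 (vqc0 2 (vqc0 0 (vqc0 2 (vqc0 0 (vqc0 0 (vqc0 2 (vqc0 1 (vqc0 1 vqc1))))))))) (vqc0 (vqc0 1 (vqc0 2 (vqc0 0 (vqc0 0 (vqc0 0 (vqc0 0 (vqc0 2 (vqc0 2 (vqc0 0 vqc1))))))))) (vqc0 (vqc0 2 (vqc0 1 (vqc0 1 (vqc0 1 (vqc0 1 (vqc0 0 (vqc0 1 (vqc0 1 (vqc0 2 vqc1))))))))) (vqc0 (vqc0 0 (vqc0 2 (vqc0 2 (vqc0 0 (vqc0 1 (vqc0 1 (vqc0 0 (vqc0 2 (vqc0 2 vqc1))))))))) (vqc0 (vqc0 1 (vqc0 2 (vqc0 2 (vqc0 2 (vqc0 1 (vqc0 1 (vqc0 0 (vqc0 1 (vqc0 2 vqc1))))))))) (vqc0 (vqc0 1 (vqc0 1 (vqc0 0 (vqc0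 2 (vqc0 2 (vqc0 1 (vqc0 0 (vqc0 0 (vqc0 0 vqc1))))))))) (vqc0 (vqc0 0 (vqc0 0 (vqc0 1 (vqc0 1 (vqc0 2 (vqc0 1 (vqc0 2 (vqc0 1 (vqc0 0 vqc1))))))))) vqc1))))))))))
    (beta% delta% lq26c8b9c1d715 fun vqc0 vqc1 _ _ _ _ _ =>
        (vqc0 (vqc0 2 (vqc0 1 (vqc0 2 (vqc0 1 (vqc0 2 (vqc0 0 (vqc0 0 (vqc0 2 (vqc0 1 vqc1))))))))) (vqc0 (vqc0 2 (vqc0 1 (vqc0 0 (vqc0 2 (vqc0 0 (vqc0 2 (vqc0 1 (vqc0 2 (vqc0 2 vqc1))))))))) (vqc0 (vqc0 2 (vqc0 1 (vqc0 2 (vqc0 1 (vqc0 1 (vqc0 0 (vqc0 2 (vqc0 1 (vqc0 0 vqc1))))))))) (vqc0 (vqc0 1 (vqc0 1 (vqc0 2 (vqc0 1 (vqc0 0 (vqc0 0 (vqc0 2 (vqc0 2 (vqc0 1 vqc1))))))))) (vqc0 (vqc0 1 (vqc0 2 (vqc0 0 (vqc0 0 (vqc0 1 (vqc0 1 (vqc0 2 (vqc0 2 (vqc0 1 vqc1)))))))))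 (vqc0 (vqc0 1 (vqc0 0 (vqc0 1 (vqc0 1 (vqc0 0 (vqc0 0 (vqc0 2 (vqc0 0 (vqc0 1 vqc1))))))))) (vqc0 (vqc0 0 (vqc0 2 (vqc0 0 (vqc0 1 (vqc0 0 (vqc0 2 (vqc0 1 (vqc0 0 (vqc0 0 vqc1))))))))) (vqc0 (vqc0 2 (vqc0 2 (vqc0 2 (vqc0 0 (vqc0 0 (vqc0 0 (vqc0 2 (vqc0 1 (vqc0 0 vqc1))))))))) (vqc0 (vqc0 1 (vqc0 0 (vqc0 1 (vqc0 0 (vqc0 0 (vqc0 0 (vqc0 1 (vqc0 0 (vqc0 2 vqc1))))))))) vqc1))))))))))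
    [18996, 9181, 4917] (by decide +kernel)

theorem a131 : Ok 13823 37778931862957209487490 :=
  ok_of (beta% delta% lq26c8b9c1d715 fun vqc0 vqc1 _ _ _ _ _ =>
      (vqc0 (vqc0 1 (vqc0 0 (vqc0 1 (vqc0 1 (vqc0 2 (vqc0 0 (vqc0 2 (vqc0 0 (vqc0 1 vqc1))))))))) (vqc0 (vqc0 1 (vqc0 1 (vqc0 1 (vqc0 2 (vqc0 2 (vqc0 2 (vqc0 2 (vqc0 0 (vqc0 2 vqc1))))))))) (vqc0 (vqc0 1 (vqc0 0 (vqc0 2 (vqc0 2 (vqc0 0 (vqc0 0 (vqc0 2 (vqc0 1 (vqc0 0 vqc1))))))))) (vqc0 (vqc0 1 (vqc0 2 (vqc0 1 (vqc0 2 (vqc0 1 (vqc0 0 (vqc0 0 (vqc0 1 (vqc0 2 vqc1))))))))) (vqc0 (vqc0 1 (vqc0 1 (vqc0 0 (vqc0 1 (vqc0 1 (vqc0 1 (vqc0 1 (vqc0 1 (vqc0 0 vqc1))))))))) (vqc0 (vqc0 0 (vqc0 1 (vqc0 2 (vqc0 1 (vqc0 1 (vqc0 2 (vqc0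 0 (vqc0 1 (vqc0 2 vqc1))))))))) (vqc0 (vqc0 1 (vqc0 2 (vqc0 2 (vqc0 0 (vqc0 1 (vqc0 1 (vqc0 1 (vqc0 1 (vqc0 1 vqc1))))))))) (vqc0 (vqc0 2 (vqc0 0 (vqc0 2 (vqc0 2 (vqc0 1 (vqc0 2 (vqc0 0 (vqc0 2 (vqc0 0 vqc1))))))))) (vqc0 (vqc0 2 (vqc0 1 (vqc0 1 (vqc0 1 (vqc0 0 (vqc0 2 (vqc0 2 (vqc0 1 (vqc0 0 vqc1))))))))) vqc1))))))))))
    (beta% delta% lq26c8b9c1d715 fun vqc0 vqc1 _ _ _ _ _ =>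
        (vqc0 (vqc0 0 (vqc0 1 (vqc0 0 (vqc0 0 (vqc0 1 (vqc0 1 (vqc0 2 (vqc0 0 (vqc0 1 vqc1))))))))) (vqc0 (vqc0 0 (vqc0 0 (vqc0 2 (vqc0 0 (vqc0 0 (vqc0 1 (vqc0 2 (vqc0 0 (vqc0 0 vqc1))))))))) (vqc0 (vqc0 0 (vqc0 2 (vqc0 0 (vqc0 1 (vqc0 0 (vqc0 2 (vqc0 0 (vqc0 2 (vqc0 0 vqc1))))))))) (vqc0 (vqc0 0 (vqc0 0 (vqc0 2 (vqc0 2 (vqc0 2 (vqc0 1 (vqc0 2 (vqc0 0 (vqc0 0 vqc1))))))))) (vqc0 (vqc0 0 (vqc0 1 (vqc0 0 (vqc0 2 (vqc0 1 (vqc0 0 (vqc0 2 (vqc0 2 (vqc0 1 vqc1))))))))) (vqc0 (vqc0 1 (vqc0 1 (vqc0 0 (vqc0 1 (vqc0 2 (vqc0 0 (vqc0 0 (vqc0 1 (vqc0 1 vqc1))))))))) (vqc0 (vqc0 2 (vqc0 0 (vqc0 1 (vqc0 0 (vqc0 2 (vqc0 2 (vqc0 0 (vqc0 2 (vqc0 2 vqc1))))))))) (vqc0 (vqc0 2 (vqc0 2 (vqc0 1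 (vqc0 0 (vqc0 1 (vqc0 2 (vqc0 1 (vqc0 1 (vqc0 2 vqc1))))))))) (vqc0 (vqc0 2 (vqc0 1 (vqc0 1 (vqc0 2 (vqc0 1 (vqc0 2 (vqc0 1 (vqc0 2 (vqc0 0 vqc1))))))))) vqc1))))))))))
    [14943, 18706] (by decide +kernel)

theorem a132 : Ok 27647 37778931864000865305458 :=
  ok_of (beta% delta% lq26c8b9c1d715 fun vqc0 vqc1 _ _ _ _ _ =>
      (vqc0 (vqc0 0 (vqc0 2 (vqc0 2 (vqc0 0 (vqc0 1 (vqc0 1 (vqc0 2 (vqc0 1 (vqc0 0 vqc1))))))))) (vqc0 (vqc0 0 (vqc0 2 (vqc0 1 (vqc0 0 (vqc0 1 (vqc0 0 (vqc0 1 (vqc0 1 (vqc0 2 vqc1))))))))) (vqc0 (vqc0 1 (vqc0 2 (vqc0 2 (vqc0 0 (vqc0 2 (vqc0 1 (vqc0 0 (vqc0 2 (vqc0 2 vqc1))))))))) (vqc0 (vqc0 0 (vqc0 0 (vqc0 1 (vqc0 2 (vqc0 2 (vqc0 1 (vqc0 1 (vqc0 2 (vqc0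 0 vqc1))))))))) (vqc0 (vqc0 2 (vqc0 0 (vqc0 2 (vqc0 2 (vqc0 2 (vqc0 1 (vqc0 0 (vqc0 2 (vqc0 0 vqc1))))))))) (vqc0 (vqc0 2 (vqc0 2 (vqc0 2 (vqc0 1 (vqc0 2 (vqc0 2 (vqc0 0 (vqc0 1 (vqc0 2 vqc1))))))))) (vqc0 (vqc0 2 (vqc0 0 (vqc0 1 (vqc0 2 (vqc0 0 (vqc0 2 (vqc0 1 (vqc0 2 (vqc0 2 vqc1))))))))) (vqc0 (vqc0 0 (vqc0 2 (vqc0 2 (vqc0 2 (vqc0 1 (vqc0 2 (vqc0 2 (vqc0 0 (vqc0 0 vqc1))))))))) (vqc0 (vqc0 2 (vqc0 1 (vqc0 1 (vqc0 0 (vqc0 0 (vqc0 2 (vqc0 2 (vqc0 2 (vqc0 1 vqc1))))))))) vqc1))))))))))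
    (beta% delta% lq26c8b9c1d715 fun vqc0 vqc1 _ _ _ _ _ =>
        (vqc0 (vqc0 0 (vqc0 1 (vqc0 1 (vqc0 0 (vqc0 2 (vqc0 1 (vqc0 2 (vqc0 1 (vqc0 1 vqc1))))))))) (vqc0 (vqc0 0 (vqc0 1 (vqc0 2 (vqc0 1 (vqc0 2 (vqc0 1 (vqc0 0 (vqc0 2 (vqc0 1 vqc1))))))))) (vqc0 (vqc0 2 (vqc0 1 (vqc0 2 (vqc0 1 (vqc0 2 (vqc0 2 (vqc0 2 (vqc0 1 (vqc0 2 vqc1))))))))) (vqc0 (vqc0 2 (vqc0 1 (vqc0 2 (vqc0 2 (vqc0 1 (vqc0 2 (vqc0 1 (vqc0 1 (vqc0 0 vqc1))))))))) (vqc0 (vqc0 0 (vqc0 0 (vqc0 0 (vqc0 1 (vqc0 1 (vqc0 0 (vqc0 1 (vqc0 1 (vqc0 1 vqc1))))))))) (vqc0 (vqc0 0 (vqc0 1 (vqc0 2 (vqc0 1 (vqc0 2 (vqc0 0 (vqc0 2 (vqc0 1 (vqc0 2 vqc1))))))))) (vqc0 (vqc0 2 (vqc0 2 (vqc0 1 (vqc0 1 (vqc0 1 (vqc0 2 (vqc0 0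 (vqc0 1 (vqc0 2 vqc1))))))))) (vqc0 (vqc0 1 (vqc0 2 (vqc0 0 (vqc0 1 (vqc0 1 (vqc0 1 (vqc0 0 (vqc0 2 (vqc0 0 vqc1))))))))) (vqc0 (vqc0 0 (vqc0 0 (vqc0 0 (vqc0 1 (vqc0 0 (vqc0 2 (vqc0 2 (vqc0 0 (vqc0 2 vqc1))))))))) vqc1))))))))))
    [10616, 1793, 11045, 6289] (by decide +kernel)

theorem a133 : Ok 221183 37778931862957400590466 :=
  ok_of (beta% delta% lq26c8b9c1d715 fun vqc0 vqc1 _ _ _ _ _ =>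
      (vqc0 (vqc0 1 (vqc0 0 (vqc0 1 (vqc0 0 (vqc0 0 (vqc0 2 (vqc0 1 (vqc0 1 (vqc0 1 vqc1))))))))) (vqc0 (vqc0 2 (vqc0 1 (vqc0 2 (vqc0 2 (vqc0 2 (vqc0 2 (vqc0 0 (vqc0 1 (vqc0 2 vqc1))))))))) (vqc0 (vqc0 0 (vqc0 0 (vqc0 1 (vqc0 2 (vqc0 1 (vqc0 1 (vqc0 2 (vqc0 0 (vqc0 0 vqc1))))))))) (vqc0 (vqc0 1 (vqc0 0 (vqc0 1 (vqc0 2 (vqc0 1 (vqc0 1 (vqc0 2 (vqc0 2 (vqc0 1 vqc1))))))))) (vqc0 (vqc0 2 (vqc0 1 (vqc0 2 (vqc0 1 (vqc0 2 (vqc0 0 (vqc0 0 (vqc0 1 (vqc0 2 vqc1))))))))) (vqc0 (vqc0 1 (vqc0 0 (vqc0 1 (vqc0 2 (vqc0 2 (vqc0 2 (vqc0 2 (vqc0 2 (vqc0 2 vqc1))))))))) (vqc0 (vqc0 1 (vqc0 1 (vqc0 1 (vqc0 1 (vqc0 1 (vqc0 1 (vqc0 2 (vqc0 2 (vqc0 1 vqc1))))))))) (vqc0 (vqc0 2 (vqc0 0 (vqc0 1 (vqc0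 1 (vqc0 1 (vqc0 2 (vqc0 0 (vqc0 0 (vqc0 0 vqc1))))))))) (vqc0 (vqc0 0 (vqc0 0 (vqc0 0 (vqc0 1 (vqc0 0 (vqc0 2 (vqc0 1 (vqc0 0 (vqc0 1 vqc1))))))))) vqc1))))))))))
    (beta% delta% lq26c8b9c1d715 fun vqc0 vqc1 _ _ _ _ _ =>
        (vqc0 (vqc0 1 (vqc0 1 (vqc0 0 (vqc0 2 (vqc0 0 (vqc0 0 (vqc0 2 (vqc0 0 (vqc0 2 vqc1))))))))) (vqc0 (vqc0 1 (vqc0 1 (vqc0 1 (vqc0 1 (vqc0 2 (vqc0 1 (vqc0 0 (vqc0 1 (vqc0 2 vqc1))))))))) (vqc0 (vqc0 2 (vqc0 0 (vqc0 2 (vqc0 1 (vqc0 0 (vqc0 2 (vqc0 2 (vqc0 1 (vqc0 2 vqc1))))))))) (vqc0 (vqc0 2 (vqc0 0 (vqc0 2 (vqc0 0 (vqc0 0 (vqc0 2 (vqc0 2 (vqc0 2 (vqc0 1 vqc1))))))))) (vqc0 (vqc0 2 (vqc0 2 (vqc0 2 (vqc0 1 (vqc0 1 (vqc0 1 (vqc0 1 (vqc0 0 (vqc0 2 vqc1)))))))))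 (vqc0 (vqc0 2 (vqc0 1 (vqc0 0 (vqc0 0 (vqc0 2 (vqc0 2 (vqc0 0 (vqc0 0 (vqc0 0 vqc1))))))))) (vqc0 (vqc0 0 (vqc0 2 (vqc0 2 (vqc0 2 (vqc0 1 (vqc0 0 (vqc0 0 (vqc0 2 (vqc0 1 vqc1))))))))) (vqc0 (vqc0 1 (vqc0 2 (vqc0 1 (vqc0 2 (vqc0 2 (vqc0 0 (vqc0 1 (vqc0 2 (vqc0 0 vqc1))))))))) (vqc0 (vqc0 0 (vqc0 1 (vqc0 0 (vqc0 0 (vqc0 2 (vqc0 0 (vqc0 1 (vqc0 0 (vqc0 1 vqc1))))))))) vqc1))))))))))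
    [2507, 14231, 723, 9062] (by decide +kernel)

theorem a134 : Ok 28799 37778931864696625823786 :=
  ok_of (beta% delta% lq26c8b9c1d715 fun vqc0 vqc1 _ _ _ _ _ =>
      (vqc0 (vqc0 0 (vqc0 1 (vqc0 0 (vqc0 0 (vqc0 0 (vqc0 1 (vqc0 0 (vqc0 2 (vqc0 0 vqc1))))))))) (vqc0 (vqc0 0 (vqc0 1 (vqc0 0 (vqc0 1 (vqc0 2 (vqc0 1 (vqc0 1 (vqc0 1 (vqc0 0 vqc1))))))))) (vqc0 (vqc0 2 (vqc0 2 (vqc0 0 (vqc0 0 (vqc0 1 (vqc0 0 (vqc0 0 (vqc0 0 (vqc0 2 vqc1))))))))) (vqc0 (vqc0 2 (vqc0 1 (vqc0 0 (vqc0 0 (vqc0 1 (vqc0 1 (vqc0 0 (vqc0 1 (vqc0 0 vqc1))))))))) (vqc0 (vqc0 1 (vqc0 1 (vqc0 2 (vqc0 2 (vqc0 2 (vqc0 1 (vqc0 0 (vqc0 2 (vqc0 2 vqc1))))))))) (vqc0 (vqc0 0 (vqc0 1 (vqc0 2 (vqc0 0 (vqc0 0 (vqc0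 1 (vqc0 0 (vqc0 2 (vqc0 0 vqc1))))))))) (vqc0 (vqc0 0 (vqc0 1 (vqc0 1 (vqc0 0 (vqc0 1 (vqc0 2 (vqc0 1 (vqc0 2 (vqc0 1 vqc1))))))))) (vqc0 (vqc0 2 (vqc0 0 (vqc0 0 (vqc0 0 (vqc0 2 (vqc0 1 (vqc0 1 (vqc0 2 (vqc0 2 vqc1))))))))) (vqc0 (vqc0 1 (vqc0 1 (vqc0 2 (vqc0 0 (vqc0 0 (vqc0 2 (vqc0 1 (vqc0 1 (vqc0 0 vqc1))))))))) vqc1))))))))))
    (beta% delta% lq26c8b9c1d715 fun vqc0 vqc1 _ _ _ _ _ =>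
        (vqc0 (vqc0 0 (vqc0 2 (vqc0 2 (vqc0 2 (vqc0 1 (vqc0 1 (vqc0 1 (vqc0 2 (vqc0 2 vqc1))))))))) (vqc0 (vqc0 1 (vqc0 0 (vqc0 1 (vqc0 1 (vqc0 2 (vqc0 2 (vqc0 1 (vqc0 2 (vqc0 1 vqc1))))))))) (vqc0 (vqc0 2 (vqc0 0 (vqc0 2 (vqc0 1 (vqc0 0 (vqc0 0 (vqc0 1 (vqc0 2 (vqc0 2 vqc1))))))))) (vqc0 (vqc0 1 (vqc0 1 (vqc0 2 (vqc0 0 (vqc0 2 (vqc0 1 (vqc0 0 (vqc0 0 (vqc0 0 vqc1))))))))) (vqc0 (vqc0 2 (vqc0 2 (vqc0 2 (vqc0 1 (vqc0 2 (vqc0 2 (vqc0 0 (vqc0 0 (vqc0 2 vqc1))))))))) (vqc0 (vqc0 1 (vqc0 0 (vqc0 2 (vqc0 2 (vqc0 0 (vqc0 2 (vqc0 1 (vqc0 0 (vqc0 2 vqc1))))))))) (vqc0 (vqc0 1 (vqc0 0 (vqc0 1 (vqc0 2 (vqc0 2 (vqc0 1 (vqc0 1 (vqc0 0 (vqc0 1 vqc1))))))))) (vqc0 (vqc0 0 (vqc0 1 (vqc0 0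 (vqc0 0 (vqc0 2 (vqc0 0 (vqc0 0 (vqc0 1 (vqc0 0 vqc1))))))))) (vqc0 (vqc0 1 (vqc0 0 (vqc0 1 (vqc0 1 (vqc0 0 (vqc0 0 (vqc0 2 (vqc0 1 (vqc0 2 vqc1))))))))) vqc1))))))))))
    [14153, 6846, 18422, 3363] (by decide +kernel)

theorem a135 : Ok 719 37778942419331793158144 :=
  ok_of (beta% delta% lq26c8b9c1d715 fun vqc0 vqc1 _ _ _ _ _ =>
      (vqc0 (vqc0 2 (vqc0 1 (vqc0 2 (vqc0 0 (vqc0 0 (vqc0 0 (vqc0 2 (vqc0 1 (vqc0 2 vqc1))))))))) (vqc0 (vqc0 2 (vqc0 0 (vqc0 1 (vqc0 2 (vqc0 1 (vqc0 1 (vqc0 1 (vqc0 1 (vqc0 2 vqc1))))))))) (vqc0 (vqc0 2 (vqc0 2 (vqc0 2 (vqc0 2 (vqc0 2 (vqc0 1 (vqc0 0 (vqc0 0 (vqc0 1 vqc1))))))))) (vqc0 (vqc0 0 (vqc0 2 (vqc0 2 (vqc0 0 (vqc0 1 (vqc0 1 (vqc0 1 (vqc0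 0 (vqc0 2 vqc1))))))))) (vqc0 (vqc0 0 (vqc0 0 (vqc0 0 (vqc0 1 (vqc0 1 (vqc0 0 (vqc0 1 (vqc0 0 (vqc0 0 vqc1))))))))) (vqc0 (vqc0 1 (vqc0 2 (vqc0 2 (vqc0 1 (vqc0 0 (vqc0 0 (vqc0 1 (vqc0 2 (vqc0 0 vqc1))))))))) (vqc0 (vqc0 0 (vqc0 2 (vqc0 2 (vqc0 2 (vqc0 2 (vqc0 0 (vqc0 0 (vqc0 1 (vqc0 1 vqc1))))))))) (vqc0 (vqc0 0 (vqc0 0 (vqc0 2 (vqc0 0 (vqc0 1 (vqc0 1 (vqc0 2 (vqc0 0 (vqc0 2 vqc1))))))))) (vqc0 (vqc0 1 (vqc0 1 (vqc0 2 (vqc0 1 (vqc0 1 (vqc0 2 (vqc0 0 (vqc0 2 (vqc0 0 vqc1))))))))) vqc1))))))))))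
    (beta% delta% lq26c8b9c1d715 fun vqc0 vqc1 _ _ _ _ _ =>
        (vqc0 (vqc0 1 (vqc0 2 (vqc0 0 (vqc0 0 (vqc0 2 (vqc0 1 (vqc0 2 (vqc0 0 (vqc0 2 vqc1))))))))) (vqc0 (vqc0 2 (vqc0 1 (vqc0 1 (vqc0 1 (vqc0 2 (vqc0 1 (vqc0 2 (vqc0 1 (vqc0 1 vqc1))))))))) (vqc0 (vqc0 2 (vqc0 1 (vqc0 0 (vqc0 1 (vqc0 0 (vqc0 2 (vqc0 1 (vqc0 2 (vqc0 1 vqc1))))))))) (vqc0 (vqc0 2 (vqc0 0 (vqc0 0 (vqc0 2 (vqc0 0 (vqc0 0 (vqc0 2 (vqc0 2 (vqc0 2 vqc1))))))))) (vqc0 (vqc0 0 (vqc0 1 (vqc0 1 (vqc0 0 (vqc0 1 (vqc0 1 (vqc0 0 (vqc0 2 (vqc0 2 vqc1))))))))) (vqc0 (vqc0 1 (vqc0 1 (vqc0 2 (vqc0 1 (vqc0 0 (vqc0 1 (vqc0 1 (vqc0 1 (vqc0 1 vqc1))))))))) (vqc0 (vqc0 1 (vqc0 2 (vqc0 2 (vqc0 1 (vqc0 0 (vqc0 2 (vqc0 0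 (vqc0 1 (vqc0 1 vqc1))))))))) (vqc0 (vqc0 0 (vqc0 2 (vqc0 1 (vqc0 2 (vqc0 2 (vqc0 1 (vqc0 0 (vqc0 1 (vqc0 2 vqc1))))))))) (vqc0 (vqc0 0 (vqc0 1 (vqc0 1 (vqc0 1 (vqc0 1 (vqc0 1 (vqc0 0 (vqc0 1 (vqc0 0 vqc1))))))))) vqc1))))))))))
    [4920, 16296, 16092] (by decide +kernel)

theorem a136 : Ok 575 37944957626788603953440 :=
  ok_of (beta% delta% lq26c8b9c1d715 fun vqc0 vqc1 _ _ _ _ _ =>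
      (vqc0 (vqc0 1 (vqc0 2 (vqc0 0 (vqc0 1 (vqc0 0 (vqc0 0 (vqc0 2 (vqc0 1 (vqc0 1 vqc1))))))))) (vqc0 (vqc0 1 (vqc0 0 (vqc0 2 (vqc0 1 (vqc0 2 (vqc0 1 (vqc0 2 (vqc0 0 (vqc0 1 vqc1))))))))) (vqc0 (vqc0 2 (vqc0 2 (vqc0 1 (vqc0 2 (vqc0 2 (vqc0 0 (vqc0 2 (vqc0 0 (vqc0 0 vqc1))))))))) (vqc0 (vqc0 1 (vqc0 1 (vqc0 1 (vqc0 1 (vqc0 2 (vqc0 2 (vqc0 0 (vqc0 1 (vqc0 0 vqc1))))))))) (vqc0 (vqc0 2 (vqc0 2 (vqc0 1 (vqc0 2 (vqc0 1 (vqc0 2 (vqc0 2 (vqc0 1 (vqc0 1 vqc1))))))))) (vqc0 (vqc0 2 (vqc0 1 (vqc0 1 (vqc0 1 (vqc0 2 (vqc0 0 (vqc0 0 (vqc0 0 (vqc0 0 vqc1))))))))) (vqc0 (vqc0 0 (vqc0 2 (vqc0 1 (vqc0 1 (vqc0 1 (vqc0 0 (vqc0 0 (vqc0 1 (vqc0 1 vqc1))))))))) (vqc0 (vqc0 0 (vqc0 0 (vqc0 1 (vqc0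 1 (vqc0 1 (vqc0 2 (vqc0 1 (vqc0 1 (vqc0 2 vqc1))))))))) (vqc0 (vqc0 2 (vqc0 2 (vqc0 0 (vqc0 0 (vqc0 2 (vqc0 0 (vqc0 1 (vqc0 2 (vqc0 1 vqc1))))))))) vqc1))))))))))
    (beta% delta% lq26c8b9c1d715 fun vqc0 vqc1 _ _ _ _ _ =>
        (vqc0 (vqc0 2 (vqc0 2 (vqc0 2 (vqc0 2 (vqc0 1 (vqc0 1 (vqc0 1 (vqc0 1 (vqc0 2 vqc1))))))))) (vqc0 (vqc0 1 (vqc0 0 (vqc0 0 (vqc0 0 (vqc0 0 (vqc0 2 (vqc0 0 (vqc0 0 (vqc0 0 vqc1))))))))) (vqc0 (vqc0 0 (vqc0 0 (vqc0 1 (vqc0 0 (vqc0 0 (vqc0 2 (vqc0 2 (vqc0 2 (vqc0 2 vqc1))))))))) (vqc0 (vqc0 0 (vqc0 1 (vqc0 0 (vqc0 1 (vqc0 1 (vqc0 1 (vqc0 0 (vqc0 1 (vqc0 1 vqc1))))))))) (vqc0 (vqc0 1 (vqc0 1 (vqc0 2 (vqc0 0 (vqc0 1 (vqc0 1 (vqc0 1 (vqc0 1 (vqc0 0 vqc1)))))))))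 (vqc0 (vqc0 0 (vqc0 0 (vqc0 1 (vqc0 2 (vqc0 0 (vqc0 1 (vqc0 1 (vqc0 1 (vqc0 0 vqc1))))))))) (vqc0 (vqc0 2 (vqc0 2 (vqc0 1 (vqc0 2 (vqc0 2 (vqc0 2 (vqc0 2 (vqc0 1 (vqc0 0 vqc1))))))))) (vqc0 (vqc0 1 (vqc0 2 (vqc0 1 (vqc0 0 (vqc0 2 (vqc0 2 (vqc0 1 (vqc0 1 (vqc0 2 vqc1))))))))) (vqc0 (vqc0 2 (vqc0 1 (vqc0 0 (vqc0 0 (vqc0 1 (vqc0 0 (vqc0 0 (vqc0 2 (vqc0 0 vqc1))))))))) vqc1))))))))))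
    [14163, 16863, 2883] (by decide +kernel)

theorem a137 : Ok 575 37944957626962550325536 :=
  ok_of (beta% delta% lq26c8b9c1d715 fun vqc0 vqc1 _ _ _ _ _ =>
      (vqc0 (vqc0 0 (vqc0 1 (vqc0 2 (vqc0 0 (vqc0 2 (vqc0 0 (vqc0 2 (vqc0 0 (vqc0 0 vqc1))))))))) (vqc0 (vqc0 0 (vqc0 2 (vqc0 2 (vqc0 2 (vqc0 2 (vqc0 1 (vqc0 0 (vqc0 2 (vqc0 0 vqc1))))))))) (vqc0 (vqc0 0 (vqc0 1 (vqc0 0 (vqc0 1 (vqc0 1 (vqc0 1 (vqc0 2 (vqc0 1 (vqc0 0 vqc1))))))))) (vqc0 (vqc0 2 (vqc0 0 (vqc0 1 (vqc0 0 (vqc0 2 (vqc0 2 (vqc0 0 (vqc0 0 (vqc0 1 vqc1))))))))) (vqc0 (vqc0 2 (vqc0 2 (vqc0 0 (vqc0 2 (vqc0 1 (vqc0 0 (vqc0 0 (vqc0 0 (vqc0 1 vqc1))))))))) (vqc0 (vqc0 2 (vqc0 1 (vqc0 1 (vqc0 0 (vqc0 1 (vqc0 0 (vqc0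 1 (vqc0 2 (vqc0 2 vqc1))))))))) (vqc0 (vqc0 2 (vqc0 0 (vqc0 1 (vqc0 1 (vqc0 0 (vqc0 2 (vqc0 0 (vqc0 2 (vqc0 1 vqc1))))))))) (vqc0 (vqc0 0 (vqc0 2 (vqc0 0 (vqc0 0 (vqc0 1 (vqc0 1 (vqc0 0 (vqc0 2 (vqc0 1 vqc1))))))))) (vqc0 (vqc0 1 (vqc0 1 (vqc0 1 (vqc0 0 (vqc0 1 (vqc0 2 (vqc0 0 (vqc0 2 (vqc0 1 vqc1))))))))) vqc1))))))))))
    (beta% delta% lq26c8b9c1d715 fun vqc0 vqc1 _ _ _ _ _ =>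
        (vqc0 (vqc0 0 (vqc0 0 (vqc0 2 (vqc0 0 (vqc0 2 (vqc0 2 (vqc0 0 (vqc0 1 (vqc0 1 vqc1))))))))) (vqc0 (vqc0 1 (vqc0 2 (vqc0 0 (vqc0 1 (vqc0 2 (vqc0 1 (vqc0 2 (vqc0 1 (vqc0 0 vqc1))))))))) (vqc0 (vqc0 1 (vqc0 0 (vqc0 1 (vqc0 1 (vqc0 1 (vqc0 2 (vqc0 1 (vqc0 0 (vqc0 0 vqc1))))))))) (vqc0 (vqc0 2 (vqc0 1 (vqc0 2 (vqc0 1 (vqc0 1 (vqc0 2 (vqc0 2 (vqc0 2 (vqc0 2 vqc1))))))))) (vqc0 (vqc0 2 (vqc0 2 (vqc0 1 (vqc0 0 (vqc0 0 (vqc0 2 (vqc0 2 (vqc0 1 (vqc0 0 vqc1))))))))) (vqc0 (vqc0 1 (vqc0 1 (vqc0 2 (vqc0 1 (vqc0 2 (vqc0 2 (vqc0 0 (vqc0 2 (vqc0 2 vqc1))))))))) (vqc0 (vqc0 2 (vqc0 1 (vqc0 2 (vqc0 0 (vqc0 1 (vqc0 0 (vqc0 2 (vqc0 1 (vqc0 2 vqc1))))))))) (vqc0 (vqc0 0 (vqc0 1 (vqc0 0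 (vqc0 0 (vqc0 2 (vqc0 0 (vqc0 1 (vqc0 1 (vqc0 1 vqc1))))))))) (vqc0 (vqc0 1 (vqc0 0 (vqc0 1 (vqc0 1 (vqc0 2 (vqc0 1 (vqc0 1 (vqc0 2 (vqc0 0 vqc1))))))))) vqc1))))))))))
    [9198, 10342, 2367] (by decide +kernel)

theorem a138 : Ok 719 37778936085970870796288 :=
  ok_of (beta% delta% lq26c8b9c1d715 fun vqc0 vqc1 _ _ _ _ _ =>
      (vqc0 (vqc0 0 (vqc0 2 (vqc0 1 (vqc0 0 (vqc0 2 (vqc0 2 (vqc0 2 (vqc0 1 (vqc0 0 vqc1))))))))) (vqc0 (vqc0 2 (vqc0 2 (vqc0 0 (vqc0 0 (vqc0 1 (vqc0 2 (vqc0 2 (vqc0 2 (vqc0 2 vqc1))))))))) (vqc0 (vqc0 1 (vqc0 0 (vqc0 0 (vqc0 0 (vqc0 2 (vqc0 0 (vqc0 2 (vqc0 2 (vqc0 2 vqc1))))))))) (vqc0 (vqc0 0 (vqc0 2 (vqc0 2 (vqc0 2 (vqc0 0 (vqc0 0 (vqc0 0 (vqc0 2 (vqc0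 2 vqc1))))))))) (vqc0 (vqc0 2 (vqc0 2 (vqc0 0 (vqc0 0 (vqc0 0 (vqc0 0 (vqc0 0 (vqc0 1 (vqc0 1 vqc1))))))))) (vqc0 (vqc0 2 (vqc0 1 (vqc0 1 (vqc0 2 (vqc0 2 (vqc0 0 (vqc0 2 (vqc0 0 (vqc0 2 vqc1))))))))) (vqc0 (vqc0 0 (vqc0 1 (vqc0 0 (vqc0 2 (vqc0 2 (vqc0 2 (vqc0 0 (vqc0 1 (vqc0 1 vqc1))))))))) (vqc0 (vqc0 1 (vqc0 0 (vqc0 2 (vqc0 2 (vqc0 1 (vqc0 1 (vqc0 2 (vqc0 1 (vqc0 2 vqc1))))))))) (vqc0 (vqc0 2 (vqc0 0 (vqc0 0 (vqc0 2 (vqc0 1 (vqc0 0 (vqc0 2 (vqc0 1 (vqc0 0 vqc1))))))))) vqc1))))))))))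
    (beta% delta% lq26c8b9c1d715 fun vqc0 vqc1 _ _ _ _ _ =>
        (vqc0 (vqc0 2 (vqc0 0 (vqc0 1 (vqc0 0 (vqc0 0 (vqc0 1 (vqc0 2 (vqc0 2 (vqc0 2 vqc1))))))))) (vqc0 (vqc0 0 (vqc0 0 (vqc0 1 (vqc0 2 (vqc0 2 (vqc0 1 (vqc0 0 (vqc0 1 (vqc0 2 vqc1))))))))) (vqc0 (vqc0 2 (vqc0 0 (vqc0 2 (vqc0 1 (vqc0 0 (vqc0 0 (vqc0 2 (vqc0 1 (vqc0 1 vqc1))))))))) (vqc0 (vqc0 2 (vqc0 1 (vqc0 1 (vqc0 1 (vqc0 2 (vqc0 2 (vqc0 1 (vqc0 0 (vqc0 1 vqc1))))))))) (vqc0 (vqc0 0 (vqc0 1 (vqc0 1 (vqc0 1 (vqc0 0 (vqc0 2 (vqc0 2 (vqc0 1 (vqc0 0 vqc1))))))))) (vqc0 (vqc0 2 (vqc0 0 (vqc0 2 (vqc0 0 (vqc0 1 (vqc0 0 (vqc0 1 (vqc0 0 (vqc0 0 vqc1))))))))) (vqc0 (vqc0 0 (vqc0 1 (vqc0 1 (vqc0 0 (vqc0 2 (vqc0 2 (vqc0 0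 (vqc0 2 (vqc0 2 vqc1))))))))) (vqc0 (vqc0 2 (vqc0 1 (vqc0 1 (vqc0 0 (vqc0 0 (vqc0 0 (vqc0 1 (vqc0 1 (vqc0 0 vqc1))))))))) (vqc0 (vqc0 2 (vqc0 2 (vqc0 0 (vqc0 1 (vqc0 0 (vqc0 2 (vqc0 1 (vqc0 1 (vqc0 0 vqc1))))))))) vqc1))))))))))
    [2071, 11180, 7947] (by decide +kernel)

theorem a139 : Ok 1439 37778948752518768754688 :=
  ok_of (beta% delta% lq26c8b9c1d715 fun vqc0 vqc1 _ _ _ _ _ =>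
      (vqc0 (vqc0 2 (vqc0 1 (vqc0 0 (vqc0 2 (vqc0 2 (vqc0 2 (vqc0 0 (vqc0 2 (vqc0 0 vqc1))))))))) (vqc0 (vqc0 0 (vqc0 0 (vqc0 2 (vqc0 2 (vqc0 2 (vqc0 1 (vqc0 0 (vqc0 0 (vqc0 0 vqc1))))))))) (vqc0 (vqc0 1 (vqc0 2 (vqc0 0 (vqc0 1 (vqc0 2 (vqc0 1 (vqc0 2 (vqc0 0 (vqc0 1 vqc1))))))))) (vqc0 (vqc0 0 (vqc0 0 (vqc0 0 (vqc0 0 (vqc0 2 (vqc0 2 (vqc0 2 (vqc0 0 (vqc0 1 vqc1))))))))) (vqc0 (vqc0 2 (vqc0 1 (vqc0 1 (vqc0 2 (vqc0 0 (vqc0 0 (vqc0 0 (vqc0 1 (vqc0 1 vqc1))))))))) (vqc0 (vqc0 2 (vqc0 0 (vqc0 0 (vqc0 0 (vqc0 1 (vqc0 1 (vqc0 0 (vqc0 0 (vqc0 2 vqc1))))))))) (vqc0 (vqc0 0 (vqc0 1 (vqc0 1 (vqc0 2 (vqc0 2 (vqc0 2 (vqc0 0 (vqc0 2 (vqc0 0 vqc1))))))))) (vqc0 (vqc0 2 (vqc0 0 (vqc0 1 (vqc0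 1 (vqc0 2 (vqc0 0 (vqc0 2 (vqc0 0 (vqc0 2 vqc1))))))))) (vqc0 (vqc0 1 (vqc0 0 (vqc0 1 (vqc0 0 (vqc0 0 (vqc0 2 (vqc0 1 (vqc0 0 (vqc0 2 vqc1))))))))) vqc1))))))))))
    (beta% delta% lq26c8b9c1d715 fun vqc0 vqc1 _ _ _ _ _ =>
        (vqc0 (vqc0 1 (vqc0 2 (vqc0 1 (vqc0 0 (vqc0 1 (vqc0 2 (vqc0 1 (vqc0 0 (vqc0 1 vqc1))))))))) (vqc0 (vqc0 1 (vqc0 2 (vqc0 0 (vqc0 2 (vqc0 2 (vqc0 1 (vqc0 0 (vqc0 1 (vqc0 1 vqc1))))))))) (vqc0 (vqc0 0 (vqc0 2 (vqc0 2 (vqc0 2 (vqc0 1 (vqc0 0 (vqc0 0 (vqc0 1 (vqc0 2 vqc1))))))))) (vqc0 (vqc0 2 (vqc0 0 (vqc0 0 (vqc0 0 (vqc0 2 (vqc0 2 (vqc0 0 (vqc0 0 (vqc0 2 vqc1))))))))) (vqc0 (vqc0 0 (vqc0 1 (vqc0 2 (vqc0 1 (vqc0 1 (vqc0 2 (vqc0 0 (vqc0 1 (vqc0 2 vqc1)))))))))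 (vqc0 (vqc0 0 (vqc0 2 (vqc0 2 (vqc0 0 (vqc0 0 (vqc0 1 (vqc0 1 (vqc0 0 (vqc0 0 vqc1))))))))) (vqc0 (vqc0 2 (vqc0 2 (vqc0 0 (vqc0 0 (vqc0 1 (vqc0 0 (vqc0 2 (vqc0 1 (vqc0 0 vqc1))))))))) (vqc0 (vqc0 1 (vqc0 0 (vqc0 2 (vqc0 0 (vqc0 0 (vqc0 0 (vqc0 0 (vqc0 1 (vqc0 0 vqc1))))))))) (vqc0 (vqc0 0 (vqc0 0 (vqc0 1 (vqc0 0 (vqc0 2 (vqc0 1 (vqc0 0 (vqc0 1 (vqc0 0 vqc1))))))))) vqc1))))))))))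
    [16587, 18927] (by decide +kernel)

theorem a140 : Ok 23039 37778948752518771113984 :=
  ok_of (beta% delta% lq26c8b9c1d715 fun vqc0 vqc1 _ _ _ _ _ =>
      (vqc0 (vqc0 1 (vqc0 1 (vqc0 0 (vqc0 1 (vqc0 0 (vqc0 1 (vqc0 1 (vqc0 0 (vqc0 1 vqc1))))))))) (vqc0 (vqc0 2 (vqc0 2 (vqc0 2 (vqc0 0 (vqc0 1 (vqc0 2 (vqc0 1 (vqc0 0 (vqc0 0 vqc1))))))))) (vqc0 (vqc0 0 (vqc0 0 (vqc0 2 (vqc0 1 (vqc0 0 (vqc0 2 (vqc0 1 (vqc0 2 (vqc0 2 vqc1))))))))) (vqc0 (vqc0 0 (vqc0 1 (vqc0 0 (vqc0 0 (vqc0 2 (vqc0 0 (vqc0 0 (vqc0 0 (vqc0 0 vqc1))))))))) (vqc0 (vqc0 0 (vqc0 0 (vqc0 1 (vqc0 2 (vqc0 2 (vqc0 0 (vqc0 2 (vqc0 1 (vqc0 2 vqc1))))))))) (vqc0 (vqc0 1 (vqc0 2 (vqc0 0 (vqc0 2 (vqc0 2 (vqc0 1 (vqc0 1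 (vqc0 0 (vqc0 1 vqc1))))))))) (vqc0 (vqc0 2 (vqc0 1 (vqc0 0 (vqc0 0 (vqc0 0 (vqc0 2 (vqc0 2 (vqc0 1 (vqc0 2 vqc1))))))))) (vqc0 (vqc0 1 (vqc0 2 (vqc0 0 (vqc0 0 (vqc0 2 (vqc0 1 (vqc0 2 (vqc0 1 (vqc0 0 vqc1))))))))) (vqc0 (vqc0 2 (vqc0 2 (vqc0 0 (vqc0 1 (vqc0 1 (vqc0 2 (vqc0 2 (vqc0 1 (vqc0 0 vqc1))))))))) vqc1))))))))))
    (beta% delta% lq26c8b9c1d715 fun vqc0 vqc1 _ _ _ _ _ =>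
        (vqc0 (vqc0 2 (vqc0 1 (vqc0 2 (vqc0 1 (vqc0 0 (vqc0 1 (vqc0 0 (vqc0 2 (vqc0 1 vqc1))))))))) (vqc0 (vqc0 2 (vqc0 1 (vqc0 0 (vqc0 0 (vqc0 2 (vqc0 1 (vqc0 1 (vqc0 0 (vqc0 2 vqc1))))))))) (vqc0 (vqc0 0 (vqc0 2 (vqc0 0 (vqc0 1 (vqc0 2 (vqc0 0 (vqc0 2 (vqc0 0 (vqc0 0 vqc1))))))))) (vqc0 (vqc0 0 (vqc0 2 (vqc0 0 (vqc0 0 (vqc0 2 (vqc0 2 (vqc0 1 (vqc0 0 (vqc0 1 vqc1))))))))) (vqc0 (vqc0 2 (vqc0 2 (vqc0 2 (vqc0 0 (vqc0 0 (vqc0 1 (vqc0 0 (vqc0 2 (vqc0 1 vqc1))))))))) (vqc0 (vqc0 0 (vqc0 2 (vqc0 2 (vqc0 2 (vqc0 1 (vqc0 2 (vqc0 2 (vqc0 0 (vqc0 0 vqc1))))))))) (vqc0 (vqc0 0 (vqc0 2 (vqc0 0 (vqc0 1 (vqc0 1 (vqc0 1 (vqc0 1 (vqc0 2 (vqc0 0 vqc1))))))))) (vqc0 (vqc0 2 (vqc0 2 (vqc0 2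 (vqc0 1 (vqc0 0 (vqc0 1 (vqc0 2 (vqc0 2 (vqc0 1 vqc1))))))))) (vqc0 (vqc0 2 (vqc0 2 (vqc0 2 (vqc0 2 (vqc0 2 (vqc0 1 (vqc0 2 (vqc0 2 (vqc0 0 vqc1))))))))) vqc1))))))))))
    [12691, 8195, 16257, 17408, 8452] (by decide +kernel)

end Cfsg.Agent.H651.O9
end

-- part: H651/O9/D7
section
/-!
# Classes of the orthogonal group in dimension 9 over the field with three elements, part 7 (helper651)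
-/

set_option autoImplicit false
set_option exponentiation.threshold 30000
set_option maxRecDepth 100000

namespace Cfsg.Agent.H651.O9

theorem a141 : Ok 23039 38443034916427506975440 :=
  ok_of (beta% delta% lq26c8b9c1d715 fun vqc0 vqc1 _ _ _ _ _ =>
      (vqc0 (vqc0 2 (vqc0 2 (vqc0 0 (vqc0 1 (vqc0 1 (vqc0 0 (vqc0 0 (vqc0 1 (vqc0 1 vqc1))))))))) (vqc0 (vqc0 0 (vqc0 1 (vqc0 1 (vqc0 2 (vqc0 1 (vqc0 0 (vqc0 2 (vqc0 1 (vqc0 2 vqc1))))))))) (vqc0 (vqc0 0 (vqc0 1 (vqc0 1 (vqc0 1 (vqc0 1 (vqc0 2 (vqc0 1 (vqc0 0 (vqc0 0 vqc1))))))))) (vqc0 (vqc0 0 (vqc0 0 (vqc0 2 (vqc0 1 (vqc0 2 (vqc0 2 (vqc0 1 (vqc0 1 (vqc0 1 vqc1))))))))) (vqc0 (vqc0 1 (vqc0 0 (vqc0 0 (vqc0 0 (vqc0 0 (vqc0 1 (vqc0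 1 (vqc0 1 (vqc0 2 vqc1))))))))) (vqc0 (vqc0 1 (vqc0 1 (vqc0 0 (vqc0 2 (vqc0 0 (vqc0 0 (vqc0 1 (vqc0 0 (vqc0 1 vqc1))))))))) (vqc0 (vqc0 2 (vqc0 2 (vqc0 2 (vqc0 0 (vqc0 0 (vqc0 2 (vqc0 2 (vqc0 0 (vqc0 1 vqc1))))))))) (vqc0 (vqc0 0 (vqc0 2 (vqc0 2 (vqc0 0 (vqc0 2 (vqc0 1 (vqc0 1 (vqc0 2 (vqc0 1 vqc1))))))))) (vqc0 (vqc0 2 (vqc0 0 (vqc0 0 (vqc0 0 (vqc0 0 (vqc0 0 (vqc0 2 (vqc0 1 (vqc0 0 vqc1))))))))) vqc1))))))))))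
    (beta% delta% lq26c8b9c1d715 fun vqc0 vqc1 _ _ _ _ _ =>
        (vqc0 (vqc0 0 (vqc0 2 (vqc0 1 (vqc0 0 (vqc0 0 (vqc0 0 (vqc0 2 (vqc0 0 (vqc0 0 vqc1))))))))) (vqc0 (vqc0 1 (vqc0 1 (vqc0 0 (vqc0 2 (vqc0 0 (vqc0 1 (vqc0 1 (vqc0 0 (vqc0 1 vqc1))))))))) (vqc0 (vqc0 1 (vqc0 0 (vqc0 1 (vqc0 0 (vqc0 0 (vqc0 0 (vqc0 2 (vqc0 2 (vqc0 1 vqc1))))))))) (vqc0 (vqc0 1 (vqc0 0 (vqc0 1 (vqc0 2 (vqc0 0 (vqc0 0 (vqc0 2 (vqc0 1 (vqc0 2 vqc1))))))))) (vqc0 (vqc0 0 (vqc0 2 (vqc0 1 (vqc0 1 (vqc0 0 (vqc0 0 (vqc0 0 (vqc0 1 (vqc0 1 vqc1))))))))) (vqc0 (vqc0 0 (vqc0 0 (vqc0 0 (vqc0 0 (vqc0 1 (vqc0 1 (vqc0 2 (vqc0 0 (vqc0 2 vqc1))))))))) (vqc0 (vqc0 1 (vqc0 2 (vqc0 0 (vqc0 2 (vqc0 1 (vqc0 1 (vqc0 1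 (vqc0 1 (vqc0 1 vqc1))))))))) (vqc0 (vqc0 0 (vqc0 2 (vqc0 1 (vqc0 2 (vqc0 1 (vqc0 0 (vqc0 1 (vqc0 2 (vqc0 2 vqc1))))))))) (vqc0 (vqc0 1 (vqc0 0 (vqc0 2 (vqc0 2 (vqc0 2 (vqc0 0 (vqc0 2 (vqc0 1 (vqc0 1 vqc1))))))))) vqc1))))))))))
    [14868, 14680, 15164, 4360] (by decide +kernel)

theorem a142 : Ok 167 113627340675305925771432 :=
  ok_of (beta% delta% lq26c8b9c1d715 fun vqc0 vqc1 _ _ _ _ _ =>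
      (vqc0 (vqc0 0 (vqc0 2 (vqc0 0 (vqc0 0 (vqc0 1 (vqc0 1 (vqc0 2 (vqc0 1 (vqc0 0 vqc1))))))))) (vqc0 (vqc0 1 (vqc0 2 (vqc0 0 (vqc0 2 (vqc0 1 (vqc0 2 (vqc0 0 (vqc0 1 (vqc0 1 vqc1))))))))) (vqc0 (vqc0 2 (vqc0 1 (vqc0 2 (vqc0 0 (vqc0 1 (vqc0 1 (vqc0 2 (vqc0 2 (vqc0 1 vqc1))))))))) (vqc0 (vqc0 1 (vqc0 2 (vqc0 2 (vqc0 2 (vqc0 0 (vqc0 1 (vqc0 2 (vqc0 2 (vqc0 1 vqc1))))))))) (vqc0 (vqc0 0 (vqc0 2 (vqc0 2 (vqc0 0 (vqc0 1 (vqc0 2 (vqc0 2 (vqc0 2 (vqc0 0 vqc1))))))))) (vqc0 (vqc0 2 (vqc0 2 (vqc0 0 (vqc0 1 (vqc0 2 (vqc0 0 (vqc0 0 (vqc0 0 (vqc0 2 vqc1))))))))) (vqc0 (vqc0 1 (vqc0 0 (vqc0 2 (vqc0 1 (vqc0 1 (vqc0 2 (vqc0 0 (vqc0 2 (vqc0 2 vqc1))))))))) (vqc0 (vqc0 2 (vqc0 1 (vqc0 1 (vqc0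 0 (vqc0 1 (vqc0 0 (vqc0 2 (vqc0 1 (vqc0 1 vqc1))))))))) (vqc0 (vqc0 2 (vqc0 2 (vqc0 0 (vqc0 0 (vqc0 1 (vqc0 0 (vqc0 2 (vqc0 1 (vqc0 2 vqc1))))))))) vqc1))))))))))
    (beta% delta% lq26c8b9c1d715 fun vqc0 vqc1 _ _ _ _ _ =>
        (vqc0 (vqc0 2 (vqc0 1 (vqc0 2 (vqc0 2 (vqc0 2 (vqc0 0 (vqc0 2 (vqc0 2 (vqc0 1 vqc1))))))))) (vqc0 (vqc0 1 (vqc0 1 (vqc0 2 (vqc0 1 (vqc0 2 (vqc0 1 (vqc0 2 (vqc0 1 (vqc0 2 vqc1))))))))) (vqc0 (vqc0 2 (vqc0 0 (vqc0 2 (vqc0 1 (vqc0 2 (vqc0 0 (vqc0 1 (vqc0 2 (vqc0 1 vqc1))))))))) (vqc0 (vqc0 2 (vqc0 0 (vqc0 1 (vqc0 1 (vqc0 2 (vqc0 0 (vqc0 0 (vqc0 2 (vqc0 2 vqc1))))))))) (vqc0 (vqc0 2 (vqc0 1 (vqc0 2 (vqc0 2 (vqc0 2 (vqc0 2 (vqc0 0 (vqc0 2 (vqc0 1 vqc1)))))))))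 (vqc0 (vqc0 0 (vqc0 0 (vqc0 1 (vqc0 1 (vqc0 1 (vqc0 2 (vqc0 0 (vqc0 2 (vqc0 0 vqc1))))))))) (vqc0 (vqc0 1 (vqc0 2 (vqc0 2 (vqc0 1 (vqc0 0 (vqc0 0 (vqc0 0 (vqc0 0 (vqc0 1 vqc1))))))))) (vqc0 (vqc0 0 (vqc0 1 (vqc0 1 (vqc0 2 (vqc0 2 (vqc0 0 (vqc0 1 (vqc0 2 (vqc0 1 vqc1))))))))) (vqc0 (vqc0 0 (vqc0 0 (vqc0 2 (vqc0 2 (vqc0 1 (vqc0 2 (vqc0 2 (vqc0 1 (vqc0 0 vqc1))))))))) vqc1))))))))))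
    [9391] (by decide +kernel)

theorem a143 : Ok 167 113627340674494176953076 :=
  ok_of (beta% delta% lq26c8b9c1d715 fun vqc0 vqc1 _ _ _ _ _ =>
      (vqc0 (vqc0 2 (vqc0 1 (vqc0 1 (vqc0 2 (vqc0 1 (vqc0 0 (vqc0 0 (vqc0 2 (vqc0 2 vqc1))))))))) (vqc0 (vqc0 2 (vqc0 2 (vqc0 2 (vqc0 2 (vqc0 2 (vqc0 1 (vqc0 1 (vqc0 0 (vqc0 2 vqc1))))))))) (vqc0 (vqc0 2 (vqc0 2 (vqc0 2 (vqc0 1 (vqc0 0 (vqc0 2 (vqc0 2 (vqc0 2 (vqc0 2 vqc1))))))))) (vqc0 (vqc0 2 (vqc0 1 (vqc0 2 (vqc0 0 (vqc0 0 (vqc0 0 (vqc0 2 (vqc0 2 (vqc0 0 vqc1))))))))) (vqc0 (vqc0 1 (vqc0 1 (vqc0 2 (vqc0 2 (vqc0 1 (vqc0 1 (vqc0 2 (vqc0 2 (vqc0 2 vqc1))))))))) (vqc0 (vqc0 1 (vqc0 1 (vqc0 2 (vqc0 0 (vqc0 2 (vqc0 0 (vqc0 0 (vqc0 0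 (vqc0 1 vqc1))))))))) (vqc0 (vqc0 1 (vqc0 1 (vqc0 0 (vqc0 1 (vqc0 0 (vqc0 2 (vqc0 2 (vqc0 0 (vqc0 1 vqc1))))))))) (vqc0 (vqc0 0 (vqc0 2 (vqc0 0 (vqc0 0 (vqc0 0 (vqc0 2 (vqc0 0 (vqc0 1 (vqc0 0 vqc1))))))))) (vqc0 (vqc0 0 (vqc0 2 (vqc0 2 (vqc0 2 (vqc0 1 (vqc0 1 (vqc0 1 (vqc0 1 (vqc0 1 vqc1))))))))) vqc1))))))))))
    (beta% delta% lq26c8b9c1d715 fun vqc0 vqc1 _ _ _ _ _ =>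
        (vqc0 (vqc0 2 (vqc0 0 (vqc0 0 (vqc0 0 (vqc0 1 (vqc0 1 (vqc0 1 (vqc0 0 (vqc0 1 vqc1))))))))) (vqc0 (vqc0 1 (vqc0 2 (vqc0 1 (vqc0 2 (vqc0 2 (vqc0 1 (vqc0 1 (vqc0 0 (vqc0 0 vqc1))))))))) (vqc0 (vqc0 1 (vqc0 2 (vqc0 2 (vqc0 2 (vqc0 1 (vqc0 0 (vqc0 0 (vqc0 1 (vqc0 0 vqc1))))))))) (vqc0 (vqc0 1 (vqc0 0 (vqc0 1 (vqc0 1 (vqc0 0 (vqc0 2 (vqc0 2 (vqc0 0 (vqc0 1 vqc1))))))))) (vqc0 (vqc0 2 (vqc0 0 (vqc0 2 (vqc0 0 (vqc0 0 (vqc0 0 (vqc0 1 (vqc0 1 (vqc0 2 vqc1))))))))) (vqc0 (vqc0 2 (vqc0 2 (vqc0 1 (vqc0 2 (vqc0 0 (vqc0 0 (vqc0 0 (vqc0 2 (vqc0 0 vqc1))))))))) (vqc0 (vqc0 2 (vqc0 1 (vqc0 0 (vqc0 2 (vqc0 2 (vqc0 1 (vqc0 2 (vqc0 1 (vqc0 0 vqc1))))))))) (vqc0 (vqc0 0 (vqc0 0 (vqc0 0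 (vqc0 1 (vqc0 1 (vqc0 0 (vqc0 1 (vqc0 1 (vqc0 1 vqc1))))))))) (vqc0 (vqc0 1 (vqc0 0 (vqc0 1 (vqc0 2 (vqc0 1 (vqc0 1 (vqc0 0 (vqc0 0 (vqc0 1 vqc1))))))))) vqc1))))))))))
    [11239, 3747] (by decide +kernel)

theorem a144 : Ok 191 113502831486034016993472 :=
  ok_of (beta% delta% lq26c8b9c1d715 fun vqc0 vqc1 _ _ _ _ _ =>
      (vqc0 (vqc0 2 (vqc0 2 (vqc0 1 (vqc0 0 (vqc0 0 (vqc0 2 (vqc0 0 (vqc0 0 (vqc0 2 vqc1))))))))) (vqc0 (vqc0 2 (vqc0 1 (vqc0 1 (vqc0 2 (vqc0 0 (vqc0 0 (vqc0 0 (vqc0 0 (vqc0 1 vqc1))))))))) (vqc0 (vqc0 2 (vqc0 0 (vqc0 1 (vqc0 1 (vqc0 1 (vqc0 1 (vqc0 2 (vqc0 1 (vqc0 1 vqc1))))))))) (vqc0 (vqc0 0 (vqc0 0 (vqc0 1 (vqc0 0 (vqc0 2 (vqc0 0 (vqc0 1 (vqc0 1 (vqc0 1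 vqc1))))))))) (vqc0 (vqc0 2 (vqc0 1 (vqc0 2 (vqc0 0 (vqc0 2 (vqc0 2 (vqc0 2 (vqc0 2 (vqc0 1 vqc1))))))))) (vqc0 (vqc0 0 (vqc0 1 (vqc0 1 (vqc0 0 (vqc0 0 (vqc0 1 (vqc0 1 (vqc0 1 (vqc0 2 vqc1))))))))) (vqc0 (vqc0 0 (vqc0 2 (vqc0 0 (vqc0 1 (vqc0 1 (vqc0 1 (vqc0 0 (vqc0 2 (vqc0 1 vqc1))))))))) (vqc0 (vqc0 1 (vqc0 0 (vqc0 0 (vqc0 1 (vqc0 2 (vqc0 2 (vqc0 0 (vqc0 0 (vqc0 1 vqc1))))))))) (vqc0 (vqc0 1 (vqc0 0 (vqc0 1 (vqc0 1 (vqc0 1 (vqc0 2 (vqc0 2 (vqc0 0 (vqc0 2 vqc1))))))))) vqc1))))))))))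
    (beta% delta% lq26c8b9c1d715 fun vqc0 vqc1 _ _ _ _ _ =>
        (vqc0 (vqc0 2 (vqc0 2 (vqc0 2 (vqc0 2 (vqc0 0 (vqc0 1 (vqc0 2 (vqc0 1 (vqc0 1 vqc1))))))))) (vqc0 (vqc0 0 (vqc0 2 (vqc0 1 (vqc0 2 (vqc0 0 (vqc0 1 (vqc0 1 (vqc0 2 (vqc0 1 vqc1))))))))) (vqc0 (vqc0 0 (vqc0 0 (vqc0 2 (vqc0 2 (vqc0 0 (vqc0 1 (vqc0 2 (vqc0 0 (vqc0 2 vqc1))))))))) (vqc0 (vqc0 0 (vqc0 2 (vqc0 0 (vqc0 2 (vqc0 0 (vqc0 1 (vqc0 2 (vqc0 2 (vqc0 1 vqc1))))))))) (vqc0 (vqc0 1 (vqc0 0 (vqc0 2 (vqc0 1 (vqc0 2 (vqc0 0 (vqc0 2 (vqc0 1 (vqc0 1 vqc1))))))))) (vqc0 (vqc0 2 (vqc0 0 (vqc0 1 (vqc0 1 (vqc0 0 (vqc0 0 (vqc0 2 (vqc0 1 (vqc0 0 vqc1))))))))) (vqc0 (vqc0 2 (vqc0 0 (vqc0 1 (vqc0 1 (vqc0 0 (vqc0 1 (vqc0 2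 (vqc0 1 (vqc0 0 vqc1))))))))) (vqc0 (vqc0 1 (vqc0 1 (vqc0 0 (vqc0 1 (vqc0 1 (vqc0 2 (vqc0 1 (vqc0 1 (vqc0 2 vqc1))))))))) (vqc0 (vqc0 2 (vqc0 2 (vqc0 2 (vqc0 1 (vqc0 0 (vqc0 1 (vqc0 0 (vqc0 1 (vqc0 2 vqc1))))))))) vqc1))))))))))
    [18313, 19415] (by decide +kernel)

theorem a145 : Ok 155 113696507099062588146138 :=
  ok_of (beta% delta% lq26c8b9c1d715 fun vqc0 vqc1 _ _ _ _ _ =>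
      (vqc0 (vqc0 0 (vqc0 0 (vqc0 0 (vqc0 0 (vqc0 1 (vqc0 1 (vqc0 0 (vqc0 1 (vqc0 1 vqc1))))))))) (vqc0 (vqc0 2 (vqc0 0 (vqc0 2 (vqc0 0 (vqc0 0 (vqc0 2 (vqc0 1 (vqc0 1 (vqc0 1 vqc1))))))))) (vqc0 (vqc0 1 (vqc0 1 (vqc0 2 (vqc0 0 (vqc0 1 (vqc0 2 (vqc0 0 (vqc0 2 (vqc0 0 vqc1))))))))) (vqc0 (vqc0 0 (vqc0 0 (vqc0 1 (vqc0 2 (vqc0 1 (vqc0 2 (vqc0 1 (vqc0 0 (vqc0 2 vqc1))))))))) (vqc0 (vqc0 1 (vqc0 2 (vqc0 2 (vqc0 0 (vqc0 1 (vqc0 2 (vqc0 1 (vqc0 0 (vqc0 2 vqc1))))))))) (vqc0 (vqc0 0 (vqc0 2 (vqc0 0 (vqc0 2 (vqc0 0 (vqc0 0 (vqc0 0 (vqc0 1 (vqc0 0 vqc1))))))))) (vqc0 (vqc0 1 (vqc0 0 (vqc0 2 (vqc0 2 (vqc0 2 (vqc0 0 (vqc0 0 (vqc0 0 (vqc0 1 vqc1))))))))) (vqc0 (vqc0 1 (vqc0 0 (vqc0 1 (vqc0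 0 (vqc0 1 (vqc0 2 (vqc0 2 (vqc0 1 (vqc0 1 vqc1))))))))) (vqc0 (vqc0 2 (vqc0 1 (vqc0 1 (vqc0 0 (vqc0 0 (vqc0 0 (vqc0 0 (vqc0 1 (vqc0 0 vqc1))))))))) vqc1))))))))))
    (beta% delta% lq26c8b9c1d715 fun vqc0 vqc1 _ _ _ _ _ =>
        (vqc0 (vqc0 0 (vqc0 2 (vqc0 1 (vqc0 0 (vqc0 2 (vqc0 0 (vqc0 2 (vqc0 2 (vqc0 1 vqc1))))))))) (vqc0 (vqc0 2 (vqc0 2 (vqc0 2 (vqc0 0 (vqc0 2 (vqc0 0 (vqc0 2 (vqc0 0 (vqc0 2 vqc1))))))))) (vqc0 (vqc0 1 (vqc0 0 (vqc0 0 (vqc0 2 (vqc0 2 (vqc0 2 (vqc0 0 (vqc0 0 (vqc0 1 vqc1))))))))) (vqc0 (vqc0 1 (vqc0 2 (vqc0 0 (vqc0 2 (vqc0 0 (vqc0 2 (vqc0 2 (vqc0 1 (vqc0 1 vqc1))))))))) (vqc0 (vqc0 2 (vqc0 2 (vqc0 1 (vqc0 0 (vqc0 0 (vqc0 1 (vqc0 2 (vqc0 1 (vqc0 0 vqc1)))))))))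 (vqc0 (vqc0 0 (vqc0 2 (vqc0 2 (vqc0 0 (vqc0 1 (vqc0 1 (vqc0 0 (vqc0 1 (vqc0 2 vqc1))))))))) (vqc0 (vqc0 1 (vqc0 2 (vqc0 0 (vqc0 1 (vqc0 2 (vqc0 1 (vqc0 0 (vqc0 0 (vqc0 1 vqc1))))))))) (vqc0 (vqc0 2 (vqc0 2 (vqc0 0 (vqc0 0 (vqc0 0 (vqc0 1 (vqc0 0 (vqc0 2 (vqc0 2 vqc1))))))))) (vqc0 (vqc0 0 (vqc0 0 (vqc0 1 (vqc0 1 (vqc0 2 (vqc0 0 (vqc0 2 (vqc0 2 (vqc0 0 vqc1))))))))) vqc1))))))))))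
    [5333, 14499] (by decide +kernel)

theorem a146 : Ok 155 113516662321616756146650 :=
  ok_of (beta% delta% lq26c8b9c1d715 fun vqc0 vqc1 _ _ _ _ _ =>
      (vqc0 (vqc0 1 (vqc0 2 (vqc0 0 (vqc0 2 (vqc0 2 (vqc0 0 (vqc0 2 (vqc0 1 (vqc0 1 vqc1))))))))) (vqc0 (vqc0 1 (vqc0 2 (vqc0 0 (vqc0 1 (vqc0 1 (vqc0 1 (vqc0 2 (vqc0 2 (vqc0 1 vqc1))))))))) (vqc0 (vqc0 2 (vqc0 1 (vqc0 0 (vqc0 0 (vqc0 2 (vqc0 2 (vqc0 0 (vqc0 0 (vqc0 0 vqc1))))))))) (vqc0 (vqc0 1 (vqc0 2 (vqc0 2 (vqc0 1 (vqc0 0 (vqc0 1 (vqc0 0 (vqc0 2 (vqc0 1 vqc1))))))))) (vqc0 (vqc0 2 (vqc0 2 (vqc0 1 (vqc0 1 (vqc0 1 (vqc0 2 (vqc0 2 (vqc0 0 (vqc0 1 vqc1))))))))) (vqc0 (vqc0 1 (vqc0 1 (vqc0 1 (vqc0 1 (vqc0 2 (vqc0 1 (vqc0 0 (vqc0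 2 (vqc0 1 vqc1))))))))) (vqc0 (vqc0 1 (vqc0 1 (vqc0 0 (vqc0 2 (vqc0 0 (vqc0 0 (vqc0 0 (vqc0 2 (vqc0 2 vqc1))))))))) (vqc0 (vqc0 2 (vqc0 1 (vqc0 1 (vqc0 0 (vqc0 0 (vqc0 1 (vqc0 2 (vqc0 1 (vqc0 2 vqc1))))))))) (vqc0 (vqc0 2 (vqc0 0 (vqc0 2 (vqc0 0 (vqc0 1 (vqc0 1 (vqc0 2 (vqc0 1 (vqc0 1 vqc1))))))))) vqc1))))))))))
    (beta% delta% lq26c8b9c1d715 fun vqc0 vqc1 _ _ _ _ _ =>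
        (vqc0 (vqc0 0 (vqc0 2 (vqc0 2 (vqc0 2 (vqc0 2 (vqc0 1 (vqc0 1 (vqc0 0 (vqc0 0 vqc1))))))))) (vqc0 (vqc0 2 (vqc0 1 (vqc0 2 (vqc0 1 (vqc0 2 (vqc0 0 (vqc0 0 (vqc0 1 (vqc0 1 vqc1))))))))) (vqc0 (vqc0 0 (vqc0 1 (vqc0 2 (vqc0 2 (vqc0 2 (vqc0 0 (vqc0 1 (vqc0 2 (vqc0 0 vqc1))))))))) (vqc0 (vqc0 1 (vqc0 1 (vqc0 2 (vqc0 2 (vqc0 0 (vqc0 0 (vqc0 1 (vqc0 2 (vqc0 2 vqc1))))))))) (vqc0 (vqc0 2 (vqc0 1 (vqc0 0 (vqc0 1 (vqc0 2 (vqc0 0 (vqc0 2 (vqc0 1 (vqc0 1 vqc1))))))))) (vqc0 (vqc0 2 (vqc0 0 (vqc0 2 (vqc0 1 (vqc0 1 (vqc0 2 (vqc0 0 (vqc0 0 (vqc0 2 vqc1))))))))) (vqc0 (vqc0 2 (vqc0 0 (vqc0 1 (vqc0 0 (vqc0 1 (vqc0 1 (vqc0 0 (vqc0 0 (vqc0 1 vqc1))))))))) (vqc0 (vqc0 1 (vqc0 0 (vqc0 2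 (vqc0 1 (vqc0 1 (vqc0 1 (vqc0 1 (vqc0 1 (vqc0 1 vqc1))))))))) (vqc0 (vqc0 0 (vqc0 0 (vqc0 1 (vqc0 2 (vqc0 2 (vqc0 1 (vqc0 1 (vqc0 2 (vqc0 1 vqc1))))))))) vqc1))))))))))
    [442] (by decide +kernel)

theorem a147 : Ok 239 113890208467167492440730 :=
  ok_of (beta% delta% lq26c8b9c1d715 fun vqc0 vqc1 _ _ _ _ _ =>
      (vqc0 (vqc0 0 (vqc0 0 (vqc0 1 (vqc0 1 (vqc0 0 (vqc0 0 (vqc0 2 (vqc0 0 (vqc0 2 vqc1))))))))) (vqc0 (vqc0 1 (vqc0 2 (vqc0 2 (vqc0 0 (vqc0 2 (vqc0 0 (vqc0 1 (vqc0 2 (vqc0 2 vqc1))))))))) (vqc0 (vqc0 1 (vqc0 0 (vqc0 0 (vqc0 2 (vqc0 2 (vqc0 2 (vqc0 2 (vqc0 0 (vqc0 2 vqc1))))))))) (vqc0 (vqc0 2 (vqc0 2 (vqc0 0 (vqc0 0 (vqc0 0 (vqc0 1 (vqc0 0 (vqc0 2 (vqc0 1 vqc1)))))))))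 (vqc0 (vqc0 2 (vqc0 0 (vqc0 1 (vqc0 0 (vqc0 2 (vqc0 2 (vqc0 1 (vqc0 0 (vqc0 1 vqc1))))))))) (vqc0 (vqc0 1 (vqc0 1 (vqc0 0 (vqc0 2 (vqc0 1 (vqc0 1 (vqc0 2 (vqc0 2 (vqc0 0 vqc1))))))))) (vqc0 (vqc0 0 (vqc0 0 (vqc0 2 (vqc0 0 (vqc0 1 (vqc0 1 (vqc0 1 (vqc0 2 (vqc0 0 vqc1))))))))) (vqc0 (vqc0 1 (vqc0 0 (vqc0 1 (vqc0 0 (vqc0 1 (vqc0 0 (vqc0 2 (vqc0 2 (vqc0 2 vqc1))))))))) (vqc0 (vqc0 2 (vqc0 0 (vqc0 1 (vqc0 0 (vqc0 0 (vqc0 1 (vqc0 0 (vqc0 2 (vqc0 2 vqc1))))))))) vqc1))))))))))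
    (beta% delta% lq26c8b9c1d715 fun vqc0 vqc1 _ _ _ _ _ =>
        (vqc0 (vqc0 2 (vqc0 2 (vqc0 2 (vqc0 0 (vqc0 1 (vqc0 1 (vqc0 1 (vqc0 2 (vqc0 1 vqc1))))))))) (vqc0 (vqc0 2 (vqc0 1 (vqc0 1 (vqc0 1 (vqc0 1 (vqc0 1 (vqc0 0 (vqc0 2 (vqc0 1 vqc1))))))))) (vqc0 (vqc0 1 (vqc0 0 (vqc0 0 (vqc0 2 (vqc0 1 (vqc0 0 (vqc0 1 (vqc0 0 (vqc0 0 vqc1))))))))) (vqc0 (vqc0 2 (vqc0 1 (vqc0 1 (vqc0 0 (vqc0 2 (vqc0 2 (vqc0 0 (vqc0 2 (vqc0 0 vqc1))))))))) (vqc0 (vqc0 2 (vqc0 2 (vqc0 1 (vqc0 0 (vqc0 0 (vqc0 0 (vqc0 0 (vqc0 2 (vqc0 2 vqc1))))))))) (vqc0 (vqc0 1 (vqc0 1 (vqc0 0 (vqc0 2 (vqc0 1 (vqc0 2 (vqc0 2 (vqc0 0 (vqc0 0 vqc1))))))))) (vqc0 (vqc0 2 (vqc0 0 (vqc0 1 (vqc0 1 (vqc0 0 (vqc0 0 (vqc0 0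 (vqc0 1 (vqc0 2 vqc1))))))))) (vqc0 (vqc0 2 (vqc0 1 (vqc0 1 (vqc0 0 (vqc0 1 (vqc0 1 (vqc0 2 (vqc0 2 (vqc0 1 vqc1))))))))) (vqc0 (vqc0 0 (vqc0 1 (vqc0 0 (vqc0 0 (vqc0 0 (vqc0 2 (vqc0 0 (vqc0 0 (vqc0 2 vqc1))))))))) vqc1))))))))))
    [832, 18335] (by decide +kernel)

theorem a148 : Ok 1343 340300931853048896225286 :=
  ok_of (beta% delta% lq26c8b9c1d715 fun vqc0 vqc1 _ _ _ _ _ =>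
      (vqc0 (vqc0 2 (vqc0 0 (vqc0 1 (vqc0 2 (vqc0 1 (vqc0 1 (vqc0 2 (vqc0 2 (vqc0 1 vqc1))))))))) (vqc0 (vqc0 0 (vqc0 0 (vqc0 0 (vqc0 0 (vqc0 1 (vqc0 1 (vqc0 0 (vqc0 2 (vqc0 1 vqc1))))))))) (vqc0 (vqc0 1 (vqc0 2 (vqc0 1 (vqc0 2 (vqc0 2 (vqc0 1 (vqc0 0 (vqc0 2 (vqc0 0 vqc1))))))))) (vqc0 (vqc0 1 (vqc0 1 (vqc0 2 (vqc0 0 (vqc0 0 (vqc0 2 (vqc0 1 (vqc0 0 (vqc0 2 vqc1))))))))) (vqc0 (vqc0 0 (vqc0 2 (vqc0 2 (vqc0 1 (vqc0 2 (vqc0 1 (vqc0 2 (vqc0 0 (vqc0 2 vqc1))))))))) (vqc0 (vqc0 2 (vqc0 2 (vqc0 2 (vqc0 1 (vqc0 0 (vqc0 1 (vqc0 1 (vqc0 0 (vqc0 0 vqc1))))))))) (vqc0 (vqc0 2 (vqc0 1 (vqc0 2 (vqc0 0 (vqc0 1 (vqc0 2 (vqc0 2 (vqc0 0 (vqc0 2 vqc1))))))))) (vqc0 (vqc0 0 (vqc0 1 (vqc0 2 (vqc0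 2 (vqc0 2 (vqc0 1 (vqc0 2 (vqc0 2 (vqc0 2 vqc1))))))))) (vqc0 (vqc0 1 (vqc0 1 (vqc0 1 (vqc0 1 (vqc0 0 (vqc0 0 (vqc0 0 (vqc0 2 (vqc0 0 vqc1))))))))) vqc1))))))))))
    (beta% delta% lq26c8b9c1d715 fun vqc0 vqc1 _ _ _ _ _ =>
        (vqc0 (vqc0 0 (vqc0 0 (vqc0 0 (vqc0 2 (vqc0 2 (vqc0 0 (vqc0 1 (vqc0 1 (vqc0 1 vqc1))))))))) (vqc0 (vqc0 2 (vqc0 2 (vqc0 2 (vqc0 0 (vqc0 2 (vqc0 0 (vqc0 0 (vqc0 1 (vqc0 2 vqc1))))))))) (vqc0 (vqc0 1 (vqc0 1 (vqc0 0 (vqc0 0 (vqc0 0 (vqc0 0 (vqc0 1 (vqc0 0 (vqc0 2 vqc1))))))))) (vqc0 (vqc0 2 (vqc0 2 (vqc0 2 (vqc0 1 (vqc0 0 (vqc0 1 (vqc0 0 (vqc0 0 (vqc0 0 vqc1))))))))) (vqc0 (vqc0 1 (vqc0 1 (vqc0 2 (vqc0 2 (vqc0 2 (vqc0 2 (vqc0 0 (vqc0 1 (vqc0 0 vqc1)))))))))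 (vqc0 (vqc0 1 (vqc0 1 (vqc0 0 (vqc0 0 (vqc0 2 (vqc0 0 (vqc0 1 (vqc0 0 (vqc0 2 vqc1))))))))) (vqc0 (vqc0 0 (vqc0 2 (vqc0 1 (vqc0 1 (vqc0 2 (vqc0 0 (vqc0 2 (vqc0 0 (vqc0 2 vqc1))))))))) (vqc0 (vqc0 2 (vqc0 2 (vqc0 1 (vqc0 1 (vqc0 1 (vqc0 0 (vqc0 2 (vqc0 2 (vqc0 0 vqc1))))))))) (vqc0 (vqc0 0 (vqc0 1 (vqc0 1 (vqc0 1 (vqc0 1 (vqc0 0 (vqc0 2 (vqc0 2 (vqc0 0 vqc1))))))))) vqc1))))))))))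
    [9648, 9872, 11025] (by decide +kernel)

theorem a149 : Ok 1343 340882022023482531054162 :=
  ok_of (beta% delta% lq26c8b9c1d715 fun vqc0 vqc1 _ _ _ _ _ =>
      (vqc0 (vqc0 1 (vqc0 2 (vqc0 0 (vqc0 0 (vqc0 2 (vqc0 2 (vqc0 0 (vqc0 1 (vqc0 0 vqc1))))))))) (vqc0 (vqc0 1 (vqc0 0 (vqc0 1 (vqc0 2 (vqc0 2 (vqc0 0 (vqc0 1 (vqc0 2 (vqc0 2 vqc1))))))))) (vqc0 (vqc0 1 (vqc0 2 (vqc0 0 (vqc0 1 (vqc0 1 (vqc0 1 (vqc0 1 (vqc0 1 (vqc0 2 vqc1))))))))) (vqc0 (vqc0 2 (vqc0 1 (vqc0 1 (vqc0 0 (vqc0 2 (vqc0 2 (vqc0 2 (vqc0 2 (vqc0 1 vqc1))))))))) (vqc0 (vqc0 0 (vqc0 1 (vqc0 0 (vqc0 0 (vqc0 0 (vqc0 2 (vqc0 1 (vqc0 1 (vqc0 2 vqc1))))))))) (vqc0 (vqc0 0 (vqc0 2 (vqc0 2 (vqc0 1 (vqc0 0 (vqc0 1 (vqc0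 2 (vqc0 1 (vqc0 2 vqc1))))))))) (vqc0 (vqc0 2 (vqc0 1 (vqc0 2 (vqc0 1 (vqc0 2 (vqc0 0 (vqc0 0 (vqc0 2 (vqc0 2 vqc1))))))))) (vqc0 (vqc0 2 (vqc0 2 (vqc0 2 (vqc0 1 (vqc0 2 (vqc0 2 (vqc0 1 (vqc0 2 (vqc0 0 vqc1))))))))) (vqc0 (vqc0 1 (vqc0 0 (vqc0 2 (vqc0 1 (vqc0 2 (vqc0 2 (vqc0 2 (vqc0 0 (vqc0 1 vqc1))))))))) vqc1))))))))))
    (beta% delta% lq26c8b9c1d715 fun vqc0 vqc1 _ _ _ _ _ =>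
        (vqc0 (vqc0 0 (vqc0 2 (vqc0 1 (vqc0 0 (vqc0 1 (vqc0 1 (vqc0 2 (vqc0 0 (vqc0 1 vqc1))))))))) (vqc0 (vqc0 0 (vqc0 1 (vqc0 0 (vqc0 2 (vqc0 2 (vqc0 2 (vqc0 1 (vqc0 2 (vqc0 0 vqc1))))))))) (vqc0 (vqc0 1 (vqc0 2 (vqc0 2 (vqc0 2 (vqc0 0 (vqc0 2 (vqc0 1 (vqc0 1 (vqc0 1 vqc1))))))))) (vqc0 (vqc0 2 (vqc0 2 (vqc0 2 (vqc0 0 (vqc0 0 (vqc0 1 (vqc0 0 (vqc0 1 (vqc0 2 vqc1))))))))) (vqc0 (vqc0 2 (vqc0 1 (vqc0 2 (vqc0 1 (vqc0 2 (vqc0 0 (vqc0 2 (vqc0 1 (vqc0 0 vqc1))))))))) (vqc0 (vqc0 1 (vqc0 0 (vqc0 0 (vqc0 1 (vqc0 1 (vqc0 1 (vqc0 2 (vqc0 0 (vqc0 1 vqc1))))))))) (vqc0 (vqc0 0 (vqc0 0 (vqc0 0 (vqc0 0 (vqc0 0 (vqc0 0 (vqc0 1 (vqc0 1 (vqc0 1 vqc1))))))))) (vqc0 (vqc0 2 (vqc0 1 (vqc0 0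 (vqc0 0 (vqc0 0 (vqc0 0 (vqc0 1 (vqc0 2 (vqc0 1 vqc1))))))))) (vqc0 (vqc0 1 (vqc0 0 (vqc0 1 (vqc0 2 (vqc0 2 (vqc0 2 (vqc0 2 (vqc0 0 (vqc0 1 vqc1))))))))) vqc1))))))))))
    [13350, 5188, 3738] (by decide +kernel)

theorem a150 : Ok 1535 340674499953183961055334 :=
  ok_of (beta% delta% lq26c8b9c1d715 fun vqc0 vqc1 _ _ _ _ _ =>
      (vqc0 (vqc0 0 (vqc0 1 (vqc0 0 (vqc0 2 (vqc0 0 (vqc0 0 (vqc0 2 (vqc0 2 (vqc0 1 vqc1))))))))) (vqc0 (vqc0 1 (vqc0 2 (vqc0 1 (vqc0 1 (vqc0 2 (vqc0 1 (vqc0 1 (vqc0 1 (vqc0 0 vqc1))))))))) (vqc0 (vqc0 2 (vqc0 1 (vqc0 0 (vqc0 2 (vqc0 2 (vqc0 0 (vqc0 2 (vqc0 1 (vqc0 1 vqc1))))))))) (vqc0 (vqc0 1 (vqc0 1 (vqc0 2 (vqc0 2 (vqc0 1 (vqc0 1 (vqc0 0 (vqc0 2 (vqc0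 0 vqc1))))))))) (vqc0 (vqc0 2 (vqc0 0 (vqc0 1 (vqc0 1 (vqc0 2 (vqc0 2 (vqc0 1 (vqc0 2 (vqc0 2 vqc1))))))))) (vqc0 (vqc0 2 (vqc0 1 (vqc0 0 (vqc0 0 (vqc0 0 (vqc0 1 (vqc0 1 (vqc0 1 (vqc0 0 vqc1))))))))) (vqc0 (vqc0 2 (vqc0 2 (vqc0 1 (vqc0 0 (vqc0 2 (vqc0 1 (vqc0 0 (vqc0 1 (vqc0 0 vqc1))))))))) (vqc0 (vqc0 2 (vqc0 2 (vqc0 1 (vqc0 1 (vqc0 1 (vqc0 2 (vqc0 2 (vqc0 0 (vqc0 1 vqc1))))))))) (vqc0 (vqc0 2 (vqc0 1 (vqc0 1 (vqc0 0 (vqc0 2 (vqc0 2 (vqc0 0 (vqc0 0 (vqc0 2 vqc1))))))))) vqc1))))))))))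
    (beta% delta% lq26c8b9c1d715 fun vqc0 vqc1 _ _ _ _ _ =>
        (vqc0 (vqc0 2 (vqc0 0 (vqc0 2 (vqc0 1 (vqc0 0 (vqc0 1 (vqc0 1 (vqc0 2 (vqc0 2 vqc1))))))))) (vqc0 (vqc0 2 (vqc0 2 (vqc0 2 (vqc0 0 (vqc0 0 (vqc0 1 (vqc0 0 (vqc0 0 (vqc0 2 vqc1))))))))) (vqc0 (vqc0 0 (vqc0 1 (vqc0 2 (vqc0 1 (vqc0 0 (vqc0 0 (vqc0 1 (vqc0 2 (vqc0 1 vqc1))))))))) (vqc0 (vqc0 2 (vqc0 0 (vqc0 1 (vqc0 1 (vqc0 2 (vqc0 1 (vqc0 2 (vqc0 2 (vqc0 2 vqc1))))))))) (vqc0 (vqc0 2 (vqc0 1 (vqc0 1 (vqc0 0 (vqc0 0 (vqc0 2 (vqc0 2 (vqc0 2 (vqc0 0 vqc1))))))))) (vqc0 (vqc0 0 (vqc0 0 (vqc0 1 (vqc0 0 (vqc0 0 (vqc0 2 (vqc0 0 (vqc0 2 (vqc0 0 vqc1))))))))) (vqc0 (vqc0 0 (vqc0 1 (vqc0 2 (vqc0 1 (vqc0 0 (vqc0 1 (vqc0 1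 (vqc0 2 (vqc0 1 vqc1))))))))) (vqc0 (vqc0 2 (vqc0 1 (vqc0 1 (vqc0 2 (vqc0 1 (vqc0 2 (vqc0 1 (vqc0 1 (vqc0 2 vqc1))))))))) (vqc0 (vqc0 2 (vqc0 1 (vqc0 0 (vqc0 0 (vqc0 0 (vqc0 1 (vqc0 0 (vqc0 1 (vqc0 0 vqc1))))))))) vqc1))))))))))
    [17637, 10431, 14381] (by decide +kernel)

theorem a151 : Ok 1247 340370098276805558796924 :=
  ok_of (beta% delta% lq26c8b9c1d715 fun vqc0 vqc1 _ _ _ _ _ =>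
      (vqc0 (vqc0 2 (vqc0 2 (vqc0 2 (vqc0 1 (vqc0 2 (vqc0 2 (vqc0 0 (vqc0 2 (vqc0 2 vqc1))))))))) (vqc0 (vqc0 1 (vqc0 1 (vqc0 1 (vqc0 2 (vqc0 0 (vqc0 0 (vqc0 1 (vqc0 1 (vqc0 1 vqc1))))))))) (vqc0 (vqc0 1 (vqc0 1 (vqc0 1 (vqc0 0 (vqc0 2 (vqc0 2 (vqc0 2 (vqc0 1 (vqc0 2 vqc1))))))))) (vqc0 (vqc0 2 (vqc0 1 (vqc0 0 (vqc0 1 (vqc0 1 (vqc0 1 (vqc0 2 (vqc0 2 (vqc0 1 vqc1))))))))) (vqc0 (vqc0 2 (vqc0 1 (vqc0 0 (vqc0 1 (vqc0 0 (vqc0 1 (vqc0 1 (vqc0 1 (vqc0 0 vqc1))))))))) (vqc0 (vqc0 2 (vqc0 0 (vqc0 0 (vqc0 1 (vqc0 2 (vqc0 2 (vqc0 2 (vqc0 1 (vqc0 0 vqc1))))))))) (vqc0 (vqc0 1 (vqc0 2 (vqc0 2 (vqc0 1 (vqc0 2 (vqc0 2 (vqc0 2 (vqc0 1 (vqc0 1 vqc1))))))))) (vqc0 (vqc0 2 (vqc0 2 (vqc0 1 (vqc0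 0 (vqc0 1 (vqc0 0 (vqc0 0 (vqc0 1 (vqc0 2 vqc1))))))))) (vqc0 (vqc0 1 (vqc0 1 (vqc0 1 (vqc0 0 (vqc0 2 (vqc0 1 (vqc0 0 (vqc0 0 (vqc0 2 vqc1))))))))) vqc1))))))))))
    (beta% delta% lq26c8b9c1d715 fun vqc0 vqc1 _ _ _ _ _ =>
        (vqc0 (vqc0 1 (vqc0 0 (vqc0 2 (vqc0 1 (vqc0 1 (vqc0 0 (vqc0 1 (vqc0 2 (vqc0 2 vqc1))))))))) (vqc0 (vqc0 1 (vqc0 0 (vqc0 1 (vqc0 0 (vqc0 1 (vqc0 1 (vqc0 2 (vqc0 1 (vqc0 0 vqc1))))))))) (vqc0 (vqc0 2 (vqc0 0 (vqc0 0 (vqc0 2 (vqc0 0 (vqc0 0 (vqc0 0 (vqc0 2 (vqc0 0 vqc1))))))))) (vqc0 (vqc0 0 (vqc0 1 (vqc0 0 (vqc0 2 (vqc0 0 (vqc0 0 (vqc0 1 (vqc0 1 (vqc0 2 vqc1))))))))) (vqc0 (vqc0 1 (vqc0 0 (vqc0 2 (vqc0 2 (vqc0 1 (vqc0 1 (vqc0 1 (vqc0 2 (vqc0 2 vqc1)))))))))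 (vqc0 (vqc0 0 (vqc0 2 (vqc0 1 (vqc0 1 (vqc0 0 (vqc0 0 (vqc0 0 (vqc0 0 (vqc0 2 vqc1))))))))) (vqc0 (vqc0 0 (vqc0 2 (vqc0 0 (vqc0 2 (vqc0 0 (vqc0 2 (vqc0 1 (vqc0 1 (vqc0 2 vqc1))))))))) (vqc0 (vqc0 1 (vqc0 2 (vqc0 0 (vqc0 2 (vqc0 0 (vqc0 0 (vqc0 1 (vqc0 2 (vqc0 1 vqc1))))))))) (vqc0 (vqc0 2 (vqc0 2 (vqc0 1 (vqc0 2 (vqc0 2 (vqc0 0 (vqc0 0 (vqc0 0 (vqc0 1 vqc1))))))))) vqc1))))))))))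
    [12271, 14496, 5299] (by decide +kernel)

theorem a152 : Ok 1247 340190253499359726797436 :=
  ok_of (beta% delta% lq26c8b9c1d715 fun vqc0 vqc1 _ _ _ _ _ =>
      (vqc0 (vqc0 2 (vqc0 2 (vqc0 1 (vqc0 2 (vqc0 0 (vqc0 0 (vqc0 1 (vqc0 1 (vqc0 2 vqc1))))))))) (vqc0 (vqc0 1 (vqc0 0 (vqc0 2 (vqc0 0 (vqc0 2 (vqc0 2 (vqc0 2 (vqc0 0 (vqc0 1 vqc1))))))))) (vqc0 (vqc0 2 (vqc0 0 (vqc0 0 (vqc0 0 (vqc0 0 (vqc0 0 (vqc0 2 (vqc0 2 (vqc0 2 vqc1))))))))) (vqc0 (vqc0 1 (vqc0 1 (vqc0 0 (vqc0 1 (vqc0 2 (vqc0 1 (vqc0 1 (vqc0 0 (vqc0 0 vqc1))))))))) (vqc0 (vqc0 1 (vqc0 1 (vqc0 2 (vqc0 2 (vqc0 1 (vqc0 0 (vqc0 1 (vqc0 1 (vqc0 0 vqc1))))))))) (vqc0 (vqc0 0 (vqc0 2 (vqc0 2 (vqc0 0 (vqc0 2 (vqc0 0 (vqc0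 1 (vqc0 0 (vqc0 0 vqc1))))))))) (vqc0 (vqc0 0 (vqc0 2 (vqc0 1 (vqc0 2 (vqc0 1 (vqc0 0 (vqc0 2 (vqc0 2 (vqc0 0 vqc1))))))))) (vqc0 (vqc0 2 (vqc0 2 (vqc0 0 (vqc0 2 (vqc0 1 (vqc0 1 (vqc0 1 (vqc0 2 (vqc0 1 vqc1))))))))) (vqc0 (vqc0 2 (vqc0 0 (vqc0 0 (vqc0 2 (vqc0 0 (vqc0 0 (vqc0 2 (vqc0 1 (vqc0 0 vqc1))))))))) vqc1))))))))))
    (beta% delta% lq26c8b9c1d715 fun vqc0 vqc1 _ _ _ _ _ =>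
        (vqc0 (vqc0 1 (vqc0 0 (vqc0 2 (vqc0 0 (vqc0 2 (vqc0 2 (vqc0 2 (vqc0 1 (vqc0 0 vqc1))))))))) (vqc0 (vqc0 1 (vqc0 2 (vqc0 1 (vqc0 1 (vqc0 0 (vqc0 0 (vqc0 2 (vqc0 2 (vqc0 2 vqc1))))))))) (vqc0 (vqc0 1 (vqc0 0 (vqc0 0 (vqc0 0 (vqc0 2 (vqc0 2 (vqc0 1 (vqc0 0 (vqc0 1 vqc1))))))))) (vqc0 (vqc0 2 (vqc0 0 (vqc0 0 (vqc0 2 (vqc0 0 (vqc0 1 (vqc0 1 (vqc0 1 (vqc0 1 vqc1))))))))) (vqc0 (vqc0 0 (vqc0 0 (vqc0 1 (vqc0 0 (vqc0 0 (vqc0 0 (vqc0 1 (vqc0 1 (vqc0 2 vqc1))))))))) (vqc0 (vqc0 0 (vqc0 0 (vqc0 1 (vqc0 2 (vqc0 1 (vqc0 2 (vqc0 0 (vqc0 1 (vqc0 2 vqc1))))))))) (vqc0 (vqc0 0 (vqc0 1 (vqc0 0 (vqc0 0 (vqc0 0 (vqc0 1 (vqc0 1 (vqc0 1 (vqc0 2 vqc1))))))))) (vqc0 (vqc0 2 (vqc0 1 (vqc0 2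 (vqc0 0 (vqc0 2 (vqc0 1 (vqc0 2 (vqc0 0 (vqc0 2 vqc1))))))))) (vqc0 (vqc0 0 (vqc0 1 (vqc0 0 (vqc0 0 (vqc0 0 (vqc0 0 (vqc0 2 (vqc0 0 (vqc0 2 vqc1))))))))) vqc1))))))))))
    [19643, 15049, 7067] (by decide +kernel)

theorem a153 : Ok 1919 340563805978097442226788 :=
  ok_of (beta% delta% lq26c8b9c1d715 fun vqc0 vqc1 _ _ _ _ _ =>
      (vqc0 (vqc0 2 (vqc0 0 (vqc0 2 (vqc0 0 (vqc0 2 (vqc0 2 (vqc0 0 (vqc0 1 (vqc0 2 vqc1))))))))) (vqc0 (vqc0 0 (vqc0 2 (vqc0 2 (vqc0 1 (vqc0 2 (vqc0 1 (vqc0 1 (vqc0 2 (vqc0 0 vqc1))))))))) (vqc0 (vqc0 1 (vqc0 2 (vqc0 1 (vqc0 0 (vqc0 1 (vqc0 0 (vqc0 2 (vqc0 1 (vqc0 2 vqc1))))))))) (vqc0 (vqc0 2 (vqc0 1 (vqc0 0 (vqc0 0 (vqc0 1 (vqc0 1 (vqc0 0 (vqc0 2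 (vqc0 0 vqc1))))))))) (vqc0 (vqc0 1 (vqc0 1 (vqc0 1 (vqc0 2 (vqc0 0 (vqc0 2 (vqc0 2 (vqc0 0 (vqc0 0 vqc1))))))))) (vqc0 (vqc0 2 (vqc0 0 (vqc0 1 (vqc0 2 (vqc0 0 (vqc0 0 (vqc0 2 (vqc0 2 (vqc0 0 vqc1))))))))) (vqc0 (vqc0 0 (vqc0 2 (vqc0 1 (vqc0 0 (vqc0 2 (vqc0 1 (vqc0 1 (vqc0 2 (vqc0 2 vqc1))))))))) (vqc0 (vqc0 2 (vqc0 1 (vqc0 2 (vqc0 0 (vqc0 1 (vqc0 1 (vqc0 0 (vqc0 0 (vqc0 0 vqc1))))))))) (vqc0 (vqc0 1 (vqc0 1 (vqc0 1 (vqc0 1 (vqc0 1 (vqc0 0 (vqc0 1 (vqc0 1 (vqc0 1 vqc1))))))))) vqc1))))))))))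
    (beta% delta% lq26c8b9c1d715 fun vqc0 vqc1 _ _ _ _ _ =>
        (vqc0 (vqc0 1 (vqc0 1 (vqc0 2 (vqc0 0 (vqc0 2 (vqc0 1 (vqc0 1 (vqc0 1 (vqc0 2 vqc1))))))))) (vqc0 (vqc0 0 (vqc0 1 (vqc0 2 (vqc0 1 (vqc0 2 (vqc0 0 (vqc0 2 (vqc0 1 (vqc0 1 vqc1))))))))) (vqc0 (vqc0 0 (vqc0 0 (vqc0 0 (vqc0 2 (vqc0 1 (vqc0 1 (vqc0 1 (vqc0 0 (vqc0 2 vqc1))))))))) (vqc0 (vqc0 2 (vqc0 2 (vqc0 2 (vqc0 0 (vqc0 1 (vqc0 1 (vqc0 1 (vqc0 2 (vqc0 1 vqc1))))))))) (vqc0 (vqc0 1 (vqc0 1 (vqc0 0 (vqc0 1 (vqc0 1 (vqc0 0 (vqc0 2 (vqc0 0 (vqc0 1 vqc1))))))))) (vqc0 (vqc0 0 (vqc0 0 (vqc0 1 (vqc0 2 (vqc0 2 (vqc0 1 (vqc0 0 (vqc0 0 (vqc0 2 vqc1))))))))) (vqc0 (vqc0 1 (vqc0 0 (vqc0 2 (vqc0 1 (vqc0 1 (vqc0 2 (vqc0 2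 (vqc0 0 (vqc0 1 vqc1))))))))) (vqc0 (vqc0 0 (vqc0 0 (vqc0 0 (vqc0 2 (vqc0 0 (vqc0 0 (vqc0 2 (vqc0 2 (vqc0 2 vqc1))))))))) (vqc0 (vqc0 0 (vqc0 1 (vqc0 1 (vqc0 2 (vqc0 1 (vqc0 2 (vqc0 1 (vqc0 1 (vqc0 0 vqc1))))))))) vqc1))))))))))
    [4714, 2941, 1840] (by decide +kernel)

theorem a154 : Ok 447 38069476949391602549186 :=
  ok_of (beta% delta% lq26c8b9c1d715 fun vqc0 vqc1 _ _ _ _ _ =>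
      (vqc0 (vqc0 2 (vqc0 0 (vqc0 1 (vqc0 1 (vqc0 2 (vqc0 1 (vqc0 1 (vqc0 0 (vqc0 0 vqc1))))))))) (vqc0 (vqc0 1 (vqc0 1 (vqc0 0 (vqc0 2 (vqc0 0 (vqc0 2 (vqc0 0 (vqc0 2 (vqc0 1 vqc1))))))))) (vqc0 (vqc0 0 (vqc0 2 (vqc0 1 (vqc0 1 (vqc0 0 (vqc0 0 (vqc0 0 (vqc0 0 (vqc0 2 vqc1))))))))) (vqc0 (vqc0 0 (vqc0 0 (vqc0 0 (vqc0 2 (vqc0 0 (vqc0 0 (vqc0 1 (vqc0 1 (vqc0 1 vqc1))))))))) (vqc0 (vqc0 1 (vqc0 2 (vqc0 2 (vqc0 1 (vqc0 0 (vqc0 1 (vqc0 0 (vqc0 0 (vqc0 2 vqc1))))))))) (vqc0 (vqc0 2 (vqc0 2 (vqc0 2 (vqc0 2 (vqc0 0 (vqc0 1 (vqc0 1 (vqc0 2 (vqc0 2 vqc1))))))))) (vqc0 (vqc0 2 (vqc0 2 (vqc0 0 (vqc0 1 (vqc0 0 (vqc0 0 (vqc0 0 (vqc0 1 (vqc0 2 vqc1))))))))) (vqc0 (vqc0 0 (vqc0 0 (vqc0 2 (vqc0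 1 (vqc0 2 (vqc0 2 (vqc0 2 (vqc0 0 (vqc0 0 vqc1))))))))) (vqc0 (vqc0 2 (vqc0 1 (vqc0 2 (vqc0 2 (vqc0 0 (vqc0 0 (vqc0 0 (vqc0 0 (vqc0 2 vqc1))))))))) vqc1))))))))))
    (beta% delta% lq26c8b9c1d715 fun vqc0 vqc1 _ _ _ _ _ =>
        (vqc0 (vqc0 0 (vqc0 2 (vqc0 0 (vqc0 0 (vqc0 2 (vqc0 0 (vqc0 2 (vqc0 2 (vqc0 2 vqc1))))))))) (vqc0 (vqc0 1 (vqc0 2 (vqc0 1 (vqc0 0 (vqc0 2 (vqc0 1 (vqc0 0 (vqc0 1 (vqc0 2 vqc1))))))))) (vqc0 (vqc0 0 (vqc0 1 (vqc0 2 (vqc0 2 (vqc0 2 (vqc0 0 (vqc0 0 (vqc0 1 (vqc0 2 vqc1))))))))) (vqc0 (vqc0 2 (vqc0 2 (vqc0 2 (vqc0 1 (vqc0 0 (vqc0 0 (vqc0 1 (vqc0 1 (vqc0 2 vqc1))))))))) (vqc0 (vqc0 2 (vqc0 2 (vqc0 1 (vqc0 1 (vqc0 2 (vqc0 1 (vqc0 2 (vqc0 0 (vqc0 1 vqc1)))))))))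 (vqc0 (vqc0 1 (vqc0 0 (vqc0 0 (vqc0 2 (vqc0 1 (vqc0 0 (vqc0 2 (vqc0 2 (vqc0 1 vqc1))))))))) (vqc0 (vqc0 1 (vqc0 2 (vqc0 1 (vqc0 1 (vqc0 0 (vqc0 2 (vqc0 0 (vqc0 0 (vqc0 0 vqc1))))))))) (vqc0 (vqc0 2 (vqc0 0 (vqc0 2 (vqc0 0 (vqc0 2 (vqc0 2 (vqc0 0 (vqc0 1 (vqc0 1 vqc1))))))))) (vqc0 (vqc0 1 (vqc0 0 (vqc0 0 (vqc0 1 (vqc0 0 (vqc0 2 (vqc0 1 (vqc0 0 (vqc0 2 vqc1))))))))) vqc1))))))))))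
    [10398, 329, 13966] (by decide +kernel)

theorem a155 : Ok 447 37875780225913724272670 :=
  ok_of (beta% delta% lq26c8b9c1d715 fun vqc0 vqc1 _ _ _ _ _ =>
      (vqc0 (vqc0 2 (vqc0 1 (vqc0 1 (vqc0 2 (vqc0 1 (vqc0 0 (vqc0 0 (vqc0 0 (vqc0 1 vqc1))))))))) (vqc0 (vqc0 1 (vqc0 1 (vqc0 0 (vqc0 1 (vqc0 1 (vqc0 1 (vqc0 2 (vqc0 1 (vqc0 2 vqc1))))))))) (vqc0 (vqc0 1 (vqc0 2 (vqc0 1 (vqc0 0 (vqc0 0 (vqc0 0 (vqc0 2 (vqc0 1 (vqc0 2 vqc1))))))))) (vqc0 (vqc0 0 (vqc0 1 (vqc0 1 (vqc0 2 (vqc0 2 (vqc0 1 (vqc0 0 (vqc0 0 (vqc0 2 vqc1))))))))) (vqc0 (vqc0 2 (vqc0 0 (vqc0 0 (vqc0 1 (vqc0 0 (vqc0 0 (vqc0 0 (vqc0 2 (vqc0 0 vqc1))))))))) (vqc0 (vqc0 1 (vqc0 1 (vqc0 1 (vqc0 1 (vqc0 2 (vqc0 2 (vqc0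 2 (vqc0 2 (vqc0 1 vqc1))))))))) (vqc0 (vqc0 2 (vqc0 1 (vqc0 1 (vqc0 1 (vqc0 0 (vqc0 2 (vqc0 0 (vqc0 0 (vqc0 0 vqc1))))))))) (vqc0 (vqc0 0 (vqc0 1 (vqc0 0 (vqc0 1 (vqc0 2 (vqc0 2 (vqc0 2 (vqc0 0 (vqc0 1 vqc1))))))))) (vqc0 (vqc0 2 (vqc0 1 (vqc0 1 (vqc0 2 (vqc0 1 (vqc0 2 (vqc0 0 (vqc0 2 (vqc0 2 vqc1))))))))) vqc1))))))))))
    (beta% delta% lq26c8b9c1d715 fun vqc0 vqc1 _ _ _ _ _ =>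
        (vqc0 (vqc0 2 (vqc0 1 (vqc0 2 (vqc0 1 (vqc0 2 (vqc0 1 (vqc0 2 (vqc0 0 (vqc0 0 vqc1))))))))) (vqc0 (vqc0 2 (vqc0 1 (vqc0 1 (vqc0 1 (vqc0 0 (vqc0 2 (vqc0 1 (vqc0 1 (vqc0 1 vqc1))))))))) (vqc0 (vqc0 1 (vqc0 2 (vqc0 0 (vqc0 2 (vqc0 1 (vqc0 2 (vqc0 0 (vqc0 2 (vqc0 1 vqc1))))))))) (vqc0 (vqc0 2 (vqc0 0 (vqc0 1 (vqc0 1 (vqc0 2 (vqc0 2 (vqc0 2 (vqc0 2 (vqc0 0 vqc1))))))))) (vqc0 (vqc0 2 (vqc0 2 (vqc0 2 (vqc0 0 (vqc0 2 (vqc0 1 (vqc0 0 (vqc0 0 (vqc0 0 vqc1))))))))) (vqc0 (vqc0 2 (vqc0 2 (vqc0 2 (vqc0 2 (vqc0 0 (vqc0 2 (vqc0 2 (vqc0 1 (vqc0 2 vqc1))))))))) (vqc0 (vqc0 0 (vqc0 2 (vqc0 1 (vqc0 1 (vqc0 2 (vqc0 2 (vqc0 1 (vqc0 1 (vqc0 0 vqc1))))))))) (vqc0 (vqc0 0 (vqc0 2 (vqc0 0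 (vqc0 1 (vqc0 2 (vqc0 2 (vqc0 1 (vqc0 0 (vqc0 2 vqc1))))))))) (vqc0 (vqc0 1 (vqc0 0 (vqc0 0 (vqc0 2 (vqc0 0 (vqc0 0 (vqc0 0 (vqc0 2 (vqc0 1 vqc1))))))))) vqc1))))))))))
    [6477, 10753] (by decide +kernel)

theorem a156 : Ok 511 38443045049526667378754 :=
  ok_of (beta% delta% lq26c8b9c1d715 fun vqc0 vqc1 _ _ _ _ _ =>
      (vqc0 (vqc0 2 (vqc0 1 (vqc0 1 (vqc0 1 (vqc0 1 (vqc0 2 (vqc0 1 (vqc0 2 (vqc0 2 vqc1))))))))) (vqc0 (vqc0 2 (vqc0 2 (vqc0 2 (vqc0 0 (vqc0 0 (vqc0 0 (vqc0 2 (vqc0 0 (vqc0 2 vqc1))))))))) (vqc0 (vqc0 1 (vqc0 2 (vqc0 1 (vqc0 2 (vqc0 1 (vqc0 0 (vqc0 0 (vqc0 0 (vqc0 1 vqc1))))))))) (vqc0 (vqc0 0 (vqc0 0 (vqc0 2 (vqc0 2 (vqc0 2 (vqc0 0 (vqc0 1 (vqc0 0 (vqc0 1 vqc1)))))))))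 (vqc0 (vqc0 2 (vqc0 0 (vqc0 0 (vqc0 0 (vqc0 1 (vqc0 1 (vqc0 1 (vqc0 0 (vqc0 1 vqc1))))))))) (vqc0 (vqc0 0 (vqc0 1 (vqc0 0 (vqc0 0 (vqc0 1 (vqc0 2 (vqc0 2 (vqc0 2 (vqc0 0 vqc1))))))))) (vqc0 (vqc0 0 (vqc0 2 (vqc0 0 (vqc0 0 (vqc0 0 (vqc0 1 (vqc0 0 (vqc0 1 (vqc0 0 vqc1))))))))) (vqc0 (vqc0 0 (vqc0 1 (vqc0 1 (vqc0 1 (vqc0 1 (vqc0 2 (vqc0 0 (vqc0 1 (vqc0 0 vqc1))))))))) (vqc0 (vqc0 2 (vqc0 1 (vqc0 2 (vqc0 1 (vqc0 0 (vqc0 2 (vqc0 2 (vqc0 2 (vqc0 0 vqc1))))))))) vqc1))))))))))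
    (beta% delta% lq26c8b9c1d715 fun vqc0 vqc1 _ _ _ _ _ =>
        (vqc0 (vqc0 1 (vqc0 1 (vqc0 2 (vqc0 2 (vqc0 0 (vqc0 0 (vqc0 2 (vqc0 1 (vqc0 1 vqc1))))))))) (vqc0 (vqc0 0 (vqc0 0 (vqc0 2 (vqc0 1 (vqc0 2 (vqc0 1 (vqc0 2 (vqc0 0 (vqc0 2 vqc1))))))))) (vqc0 (vqc0 1 (vqc0 1 (vqc0 2 (vqc0 2 (vqc0 1 (vqc0 2 (vqc0 0 (vqc0 0 (vqc0 2 vqc1))))))))) (vqc0 (vqc0 2 (vqc0 0 (vqc0 1 (vqc0 2 (vqc0 1 (vqc0 1 (vqc0 1 (vqc0 1 (vqc0 1 vqc1))))))))) (vqc0 (vqc0 2 (vqc0 0 (vqc0 2 (vqc0 2 (vqc0 0 (vqc0 1 (vqc0 0 (vqc0 0 (vqc0 2 vqc1))))))))) (vqc0 (vqc0 2 (vqc0 1 (vqc0 2 (vqc0 2 (vqc0 2 (vqc0 2 (vqc0 0 (vqc0 1 (vqc0 2 vqc1))))))))) (vqc0 (vqc0 0 (vqc0 2 (vqc0 1 (vqc0 0 (vqc0 2 (vqc0 0 (vqc0 1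 (vqc0 1 (vqc0 2 vqc1))))))))) (vqc0 (vqc0 0 (vqc0 2 (vqc0 0 (vqc0 1 (vqc0 0 (vqc0 2 (vqc0 2 (vqc0 0 (vqc0 0 vqc1))))))))) (vqc0 (vqc0 0 (vqc0 1 (vqc0 2 (vqc0 2 (vqc0 2 (vqc0 2 (vqc0 0 (vqc0 0 (vqc0 0 vqc1))))))))) vqc1))))))))))
    [6898, 2113, 15126] (by decide +kernel)

theorem a157 : Ok 207 37958804084715734565446 :=
  ok_of (beta% delta% lq26c8b9c1d715 fun vqc0 vqc1 _ _ _ _ _ =>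
      (vqc0 (vqc0 1 (vqc0 1 (vqc0 2 (vqc0 2 (vqc0 0 (vqc0 2 (vqc0 2 (vqc0 1 (vqc0 2 vqc1))))))))) (vqc0 (vqc0 0 (vqc0 2 (vqc0 1 (vqc0 1 (vqc0 2 (vqc0 2 (vqc0 2 (vqc0 2 (vqc0 0 vqc1))))))))) (vqc0 (vqc0 1 (vqc0 0 (vqc0 1 (vqc0 2 (vqc0 1 (vqc0 2 (vqc0 2 (vqc0 0 (vqc0 2 vqc1))))))))) (vqc0 (vqc0 1 (vqc0 1 (vqc0 2 (vqc0 1 (vqc0 0 (vqc0 1 (vqc0 1 (vqc0 0 (vqc0 0 vqc1))))))))) (vqc0 (vqc0 2 (vqc0 1 (vqc0 1 (vqc0 0 (vqc0 2 (vqc0 1 (vqc0 2 (vqc0 0 (vqc0 2 vqc1))))))))) (vqc0 (vqc0 2 (vqc0 2 (vqc0 0 (vqc0 2 (vqc0 0 (vqc0 0 (vqc0 2 (vqc0 1 (vqc0 0 vqc1))))))))) (vqc0 (vqc0 1 (vqc0 1 (vqc0 2 (vqc0 0 (vqc0 1 (vqc0 0 (vqc0 2 (vqc0 1 (vqc0 0 vqc1))))))))) (vqc0 (vqc0 1 (vqc0 0 (vqc0 1 (vqc0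 1 (vqc0 1 (vqc0 2 (vqc0 0 (vqc0 1 (vqc0 0 vqc1))))))))) (vqc0 (vqc0 0 (vqc0 2 (vqc0 0 (vqc0 1 (vqc0 2 (vqc0 0 (vqc0 2 (vqc0 0 (vqc0 1 vqc1))))))))) vqc1))))))))))
    (beta% delta% lq26c8b9c1d715 fun vqc0 vqc1 _ _ _ _ _ =>
        (vqc0 (vqc0 0 (vqc0 2 (vqc0 2 (vqc0 0 (vqc0 0 (vqc0 2 (vqc0 1 (vqc0 1 (vqc0 1 vqc1))))))))) (vqc0 (vqc0 1 (vqc0 2 (vqc0 1 (vqc0 0 (vqc0 0 (vqc0 2 (vqc0 2 (vqc0 1 (vqc0 2 vqc1))))))))) (vqc0 (vqc0 1 (vqc0 2 (vqc0 1 (vqc0 0 (vqc0 1 (vqc0 0 (vqc0 1 (vqc0 2 (vqc0 2 vqc1))))))))) (vqc0 (vqc0 0 (vqc0 0 (vqc0 0 (vqc0 2 (vqc0 1 (vqc0 1 (vqc0 1 (vqc0 2 (vqc0 0 vqc1))))))))) (vqc0 (vqc0 1 (vqc0 0 (vqc0 0 (vqc0 0 (vqc0 0 (vqc0 0 (vqc0 1 (vqc0 1 (vqc0 2 vqc1)))))))))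 (vqc0 (vqc0 1 (vqc0 0 (vqc0 0 (vqc0 2 (vqc0 0 (vqc0 0 (vqc0 1 (vqc0 1 (vqc0 1 vqc1))))))))) (vqc0 (vqc0 0 (vqc0 1 (vqc0 2 (vqc0 1 (vqc0 0 (vqc0 1 (vqc0 1 (vqc0 2 (vqc0 1 vqc1))))))))) (vqc0 (vqc0 1 (vqc0 0 (vqc0 1 (vqc0 1 (vqc0 2 (vqc0 0 (vqc0 0 (vqc0 2 (vqc0 2 vqc1))))))))) (vqc0 (vqc0 2 (vqc0 2 (vqc0 1 (vqc0 2 (vqc0 1 (vqc0 1 (vqc0 2 (vqc0 1 (vqc0 2 vqc1))))))))) vqc1))))))))))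
    [10810, 15455] (by decide +kernel)

theorem a158 : Ok 207 37958793106940387263124 :=
  ok_of (beta% delta% lq26c8b9c1d715 fun vqc0 vqc1 _ _ _ _ _ =>
      (vqc0 (vqc0 2 (vqc0 1 (vqc0 1 (vqc0 2 (vqc0 2 (vqc0 0 (vqc0 0 (vqc0 2 (vqc0 1 vqc1))))))))) (vqc0 (vqc0 0 (vqc0 2 (vqc0 1 (vqc0 2 (vqc0 2 (vqc0 1 (vqc0 1 (vqc0 0 (vqc0 1 vqc1))))))))) (vqc0 (vqc0 0 (vqc0 0 (vqc0 2 (vqc0 2 (vqc0 0 (vqc0 1 (vqc0 0 (vqc0 0 (vqc0 1 vqc1))))))))) (vqc0 (vqc0 1 (vqc0 1 (vqc0 0 (vqc0 0 (vqc0 0 (vqc0 1 (vqc0 0 (vqc0 1 (vqc0 1 vqc1))))))))) (vqc0 (vqc0 2 (vqc0 0 (vqc0 2 (vqc0 0 (vqc0 1 (vqc0 2 (vqc0 2 (vqc0 1 (vqc0 1 vqc1))))))))) (vqc0 (vqc0 2 (vqc0 1 (vqc0 1 (vqc0 0 (vqc0 1 (vqc0 1 (vqc0 2 (vqc0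 0 (vqc0 0 vqc1))))))))) (vqc0 (vqc0 0 (vqc0 2 (vqc0 1 (vqc0 2 (vqc0 2 (vqc0 2 (vqc0 1 (vqc0 1 (vqc0 1 vqc1))))))))) (vqc0 (vqc0 2 (vqc0 2 (vqc0 0 (vqc0 0 (vqc0 2 (vqc0 2 (vqc0 2 (vqc0 1 (vqc0 1 vqc1))))))))) (vqc0 (vqc0 1 (vqc0 0 (vqc0 0 (vqc0 2 (vqc0 0 (vqc0 2 (vqc0 0 (vqc0 2 (vqc0 2 vqc1))))))))) vqc1))))))))))
    (beta% delta% lq26c8b9c1d715 fun vqc0 vqc1 _ _ _ _ _ =>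
        (vqc0 (vqc0 1 (vqc0 1 (vqc0 2 (vqc0 1 (vqc0 2 (vqc0 0 (vqc0 1 (vqc0 0 (vqc0 0 vqc1))))))))) (vqc0 (vqc0 0 (vqc0 2 (vqc0 0 (vqc0 1 (vqc0 0 (vqc0 2 (vqc0 2 (vqc0 2 (vqc0 2 vqc1))))))))) (vqc0 (vqc0 0 (vqc0 0 (vqc0 2 (vqc0 0 (vqc0 2 (vqc0 2 (vqc0 2 (vqc0 0 (vqc0 1 vqc1))))))))) (vqc0 (vqc0 2 (vqc0 1 (vqc0 1 (vqc0 2 (vqc0 1 (vqc0 1 (vqc0 1 (vqc0 2 (vqc0 1 vqc1))))))))) (vqc0 (vqc0 2 (vqc0 2 (vqc0 1 (vqc0 0 (vqc0 1 (vqc0 1 (vqc0 1 (vqc0 2 (vqc0 1 vqc1))))))))) (vqc0 (vqc0 1 (vqc0 0 (vqc0 0 (vqc0 0 (vqc0 1 (vqc0 1 (vqc0 2 (vqc0 0 (vqc0 2 vqc1))))))))) (vqc0 (vqc0 1 (vqc0 2 (vqc0 2 (vqc0 2 (vqc0 1 (vqc0 0 (vqc0 0 (vqc0 0 (vqc0 0 vqc1))))))))) (vqc0 (vqc0 2 (vqc0 2 (vqc0 1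 (vqc0 1 (vqc0 1 (vqc0 0 (vqc0 1 (vqc0 2 (vqc0 1 vqc1))))))))) (vqc0 (vqc0 1 (vqc0 0 (vqc0 2 (vqc0 0 (vqc0 2 (vqc0 0 (vqc0 0 (vqc0 0 (vqc0 2 vqc1))))))))) vqc1))))))))))
    [10066, 9209] (by decide +kernel)

theorem a159 : Ok 319 37917299332685046874442 :=
  ok_of (beta% delta% lq26c8b9c1d715 fun vqc0 vqc1 _ _ _ _ _ =>
      (vqc0 (vqc0 0 (vqc0 1 (vqc0 1 (vqc0 2 (vqc0 2 (vqc0 1 (vqc0 0 (vqc0 1 (vqc0 2 vqc1))))))))) (vqc0 (vqc0 1 (vqc0 0 (vqc0 1 (vqc0 0 (vqc0 1 (vqc0 2 (vqc0 1 (vqc0 2 (vqc0 2 vqc1))))))))) (vqc0 (vqc0 2 (vqc0 0 (vqc0 0 (vqc0 0 (vqc0 2 (vqc0 2 (vqc0 2 (vqc0 0 (vqc0 1 vqc1))))))))) (vqc0 (vqc0 2 (vqc0 1 (vqc0 1 (vqc0 2 (vqc0 1 (vqc0 2 (vqc0 2 (vqc0 2 (vqc0 1 vqc1)))))))))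 (vqc0 (vqc0 2 (vqc0 2 (vqc0 0 (vqc0 2 (vqc0 0 (vqc0 2 (vqc0 2 (vqc0 0 (vqc0 1 vqc1))))))))) (vqc0 (vqc0 1 (vqc0 0 (vqc0 1 (vqc0 2 (vqc0 0 (vqc0 0 (vqc0 2 (vqc0 1 (vqc0 1 vqc1))))))))) (vqc0 (vqc0 1 (vqc0 2 (vqc0 0 (vqc0 2 (vqc0 0 (vqc0 1 (vqc0 2 (vqc0 1 (vqc0 1 vqc1))))))))) (vqc0 (vqc0 0 (vqc0 2 (vqc0 1 (vqc0 0 (vqc0 1 (vqc0 1 (vqc0 1 (vqc0 2 (vqc0 0 vqc1))))))))) (vqc0 (vqc0 0 (vqc0 2 (vqc0 2 (vqc0 2 (vqc0 2 (vqc0 2 (vqc0 1 (vqc0 1 (vqc0 1 vqc1))))))))) vqc1))))))))))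
    (beta% delta% lq26c8b9c1d715 fun vqc0 vqc1 _ _ _ _ _ =>
        (vqc0 (vqc0 0 (vqc0 2 (vqc0 1 (vqc0 2 (vqc0 1 (vqc0 0 (vqc0 2 (vqc0 1 (vqc0 2 vqc1))))))))) (vqc0 (vqc0 1 (vqc0 2 (vqc0 1 (vqc0 2 (vqc0 1 (vqc0 2 (vqc0 2 (vqc0 0 (vqc0 0 vqc1))))))))) (vqc0 (vqc0 2 (vqc0 1 (vqc0 2 (vqc0 1 (vqc0 1 (vqc0 1 (vqc0 2 (vqc0 1 (vqc0 2 vqc1))))))))) (vqc0 (vqc0 0 (vqc0 1 (vqc0 0 (vqc0 1 (vqc0 1 (vqc0 0 (vqc0 1 (vqc0 1 (vqc0 1 vqc1))))))))) (vqc0 (vqc0 2 (vqc0 2 (vqc0 0 (vqc0 2 (vqc0 2 (vqc0 0 (vqc0 2 (vqc0 0 (vqc0 2 vqc1))))))))) (vqc0 (vqc0 1 (vqc0 1 (vqc0 1 (vqc0 1 (vqc0 2 (vqc0 2 (vqc0 2 (vqc0 0 (vqc0 0 vqc1))))))))) (vqc0 (vqc0 2 (vqc0 1 (vqc0 0 (vqc0 0 (vqc0 0 (vqc0 2 (vqc0 1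 (vqc0 1 (vqc0 0 vqc1))))))))) (vqc0 (vqc0 2 (vqc0 0 (vqc0 0 (vqc0 2 (vqc0 0 (vqc0 2 (vqc0 0 (vqc0 2 (vqc0 0 vqc1))))))))) (vqc0 (vqc0 0 (vqc0 1 (vqc0 1 (vqc0 2 (vqc0 0 (vqc0 1 (vqc0 1 (vqc0 0 (vqc0 0 vqc1))))))))) vqc1))))))))))
    [10141, 15799] (by decide +kernel)

theorem a160 : Ok 415 37778942841235020579128 :=
  ok_of (beta% delta% lq26c8b9c1d715 fun vqc0 vqc1 _ _ _ _ _ =>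
      (vqc0 (vqc0 1 (vqc0 1 (vqc0 1 (vqc0 2 (vqc0 1 (vqc0 2 (vqc0 2 (vqc0 1 (vqc0 2 vqc1))))))))) (vqc0 (vqc0 0 (vqc0 2 (vqc0 0 (vqc0 0 (vqc0 2 (vqc0 1 (vqc0 1 (vqc0 1 (vqc0 0 vqc1))))))))) (vqc0 (vqc0 2 (vqc0 2 (vqc0 2 (vqc0 1 (vqc0 1 (vqc0 0 (vqc0 1 (vqc0 0 (vqc0 0 vqc1))))))))) (vqc0 (vqc0 1 (vqc0 2 (vqc0 1 (vqc0 0 (vqc0 0 (vqc0 2 (vqc0 2 (vqc0 1 (vqc0 2 vqc1))))))))) (vqc0 (vqc0 1 (vqc0 1 (vqc0 1 (vqc0 2 (vqc0 2 (vqc0 2 (vqc0 0 (vqc0 1 (vqc0 2 vqc1))))))))) (vqc0 (vqc0 2 (vqc0 0 (vqc0 0 (vqc0 2 (vqc0 2 (vqc0 2 (vqc0 0 (vqc0 2 (vqc0 2 vqc1))))))))) (vqc0 (vqc0 0 (vqc0 0 (vqc0 2 (vqc0 2 (vqc0 2 (vqc0 2 (vqc0 2 (vqc0 1 (vqc0 1 vqc1))))))))) (vqc0 (vqc0 2 (vqc0 2 (vqc0 1 (vqc0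 0 (vqc0 2 (vqc0 0 (vqc0 0 (vqc0 0 (vqc0 1 vqc1))))))))) (vqc0 (vqc0 1 (vqc0 0 (vqc0 2 (vqc0 1 (vqc0 2 (vqc0 0 (vqc0 2 (vqc0 0 (vqc0 0 vqc1))))))))) vqc1))))))))))
    (beta% delta% lq26c8b9c1d715 fun vqc0 vqc1 _ _ _ _ _ =>
        (vqc0 (vqc0 2 (vqc0 0 (vqc0 1 (vqc0 2 (vqc0 2 (vqc0 1 (vqc0 2 (vqc0 0 (vqc0 2 vqc1))))))))) (vqc0 (vqc0 2 (vqc0 0 (vqc0 0 (vqc0 0 (vqc0 2 (vqc0 2 (vqc0 1 (vqc0 2 (vqc0 0 vqc1))))))))) (vqc0 (vqc0 0 (vqc0 0 (vqc0 2 (vqc0 1 (vqc0 1 (vqc0 2 (vqc0 0 (vqc0 0 (vqc0 1 vqc1))))))))) (vqc0 (vqc0 0 (vqc0 1 (vqc0 1 (vqc0 1 (vqc0 0 (vqc0 1 (vqc0 2 (vqc0 1 (vqc0 0 vqc1))))))))) (vqc0 (vqc0 1 (vqc0 2 (vqc0 1 (vqc0 0 (vqc0 0 (vqc0 0 (vqc0 2 (vqc0 1 (vqc0 2 vqc1)))))))))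 (vqc0 (vqc0 1 (vqc0 0 (vqc0 2 (vqc0 2 (vqc0 0 (vqc0 2 (vqc0 1 (vqc0 0 (vqc0 1 vqc1))))))))) (vqc0 (vqc0 1 (vqc0 1 (vqc0 0 (vqc0 0 (vqc0 1 (vqc0 0 (vqc0 0 (vqc0 2 (vqc0 1 vqc1))))))))) (vqc0 (vqc0 1 (vqc0 1 (vqc0 1 (vqc0 0 (vqc0 0 (vqc0 1 (vqc0 0 (vqc0 2 (vqc0 1 vqc1))))))))) (vqc0 (vqc0 0 (vqc0 1 (vqc0 2 (vqc0 1 (vqc0 1 (vqc0 2 (vqc0 1 (vqc0 2 (vqc0 1 vqc1))))))))) vqc1))))))))))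
    [8970, 17095, 1197] (by decide +kernel)

end Cfsg.Agent.H651.O9
end

-- part: H651/O9/D8
section
/-!
# Classes of the orthogonal group in dimension 9 over the field with three elements, part 8 (helper651)
-/

set_option autoImplicit false
set_option exponentiation.threshold 30000
set_option maxRecDepth 100000

namespace Cfsg.Agent.H651.O9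

theorem a161 : Ok 415 37958787619183363751936 :=
  ok_of (beta% delta% lq26c8b9c1d715 fun vqc0 vqc1 _ _ _ _ _ =>
      (vqc0 (vqc0 1 (vqc0 0 (vqc0 2 (vqc0 0 (vqc0 1 (vqc0 1 (vqc0 2 (vqc0 1 (vqc0 0 vqc1))))))))) (vqc0 (vqc0 2 (vqc0 0 (vqc0 1 (vqc0 1 (vqc0 0 (vqc0 2 (vqc0 0 (vqc0 0 (vqc0 2 vqc1))))))))) (vqc0 (vqc0 2 (vqc0 1 (vqc0 2 (vqc0 1 (vqc0 2 (vqc0 1 (vqc0 0 (vqc0 0 (vqc0 0 vqc1))))))))) (vqc0 (vqc0 0 (vqc0 0 (vqc0 0 (vqc0 1 (vqc0 0 (vqc0 1 (vqc0 1 (vqc0 1 (vqc0 1 vqc1))))))))) (vqc0 (vqc0 0 (vqc0 1 (vqc0 0 (vqc0 0 (vqc0 0 (vqc0 2 (vqc0 2 (vqc0 2 (vqc0 2 vqc1))))))))) (vqc0 (vqc0 1 (vqc0 2 (vqc0 0 (vqc0 0 (vqc0 2 (vqc0 1 (vqc0 0 (vqc0 2 (vqc0 2 vqc1))))))))) (vqc0 (vqc0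 1 (vqc0 2 (vqc0 2 (vqc0 1 (vqc0 2 (vqc0 2 (vqc0 2 (vqc0 1 (vqc0 2 vqc1))))))))) (vqc0 (vqc0 2 (vqc0 2 (vqc0 1 (vqc0 0 (vqc0 0 (vqc0 1 (vqc0 0 (vqc0 0 (vqc0 2 vqc1))))))))) (vqc0 (vqc0 1 (vqc0 0 (vqc0 2 (vqc0 1 (vqc0 0 (vqc0 2 (vqc0 0 (vqc0 1 (vqc0 0 vqc1))))))))) vqc1))))))))))
    (beta% delta% lq26c8b9c1d715 fun vqc0 vqc1 _ _ _ _ _ =>
        (vqc0 (vqc0 0 (vqc0 1 (vqc0 2 (vqc0 1 (vqc0 2 (vqc0 1 (vqc0 0 (vqc0 0 (vqc0 2 vqc1))))))))) (vqc0 (vqc0 0 (vqc0 1 (vqc0 1 (vqc0 2 (vqc0 2 (vqc0 0 (vqc0 1 (vqc0 1 (vqc0 0 vqc1))))))))) (vqc0 (vqc0 2 (vqc0 0 (vqc0 1 (vqc0 1 (vqc0 2 (vqc0 0 (vqc0 1 (vqc0 0 (vqc0 1 vqc1))))))))) (vqc0 (vqc0 1 (vqc0 0 (vqc0 2 (vqc0 2 (vqc0 0 (vqc0 1 (vqc0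 2 (vqc0 1 (vqc0 0 vqc1))))))))) (vqc0 (vqc0 0 (vqc0 2 (vqc0 0 (vqc0 2 (vqc0 0 (vqc0 0 (vqc0 2 (vqc0 2 (vqc0 1 vqc1))))))))) (vqc0 (vqc0 0 (vqc0 1 (vqc0 1 (vqc0 0 (vqc0 2 (vqc0 0 (vqc0 1 (vqc0 0 (vqc0 0 vqc1))))))))) (vqc0 (vqc0 2 (vqc0 0 (vqc0 2 (vqc0 2 (vqc0 2 (vqc0 1 (vqc0 2 (vqc0 0 (vqc0 0 vqc1))))))))) (vqc0 (vqc0 2 (vqc0 2 (vqc0 0 (vqc0 0 (vqc0 0 (vqc0 1 (vqc0 0 (vqc0 2 (vqc0 1 vqc1))))))))) (vqc0 (vqc0 0 (vqc0 0 (vqc0 2 (vqc0 1 (vqc0 1 (vqc0 1 (vqc0 2 (vqc0 0 (vqc0 1 vqc1))))))))) vqc1))))))))))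
    [12812, 4351, 5780] (by decide +kernel)

theorem a162 : Ok 639 38055641469162513367160 :=
  ok_of (beta% delta% lq26c8b9c1d715 fun vqc0 vqc1 _ _ _ _ _ =>
      (vqc0 (vqc0 0 (vqc0 0 (vqc0 2 (vqc0 2 (vqc0 1 (vqc0 0 (vqc0 0 (vqc0 2 (vqc0 2 vqc1))))))))) (vqc0 (vqc0 0 (vqc0 2 (vqc0 0 (vqc0 0 (vqc0 0 (vqc0 0 (vqc0 2 (vqc0 0 (vqc0 0 vqc1))))))))) (vqc0 (vqc0 0 (vqc0 1 (vqc0 0 (vqc0 2 (vqc0 0 (vqc0 2 (vqc0 0 (vqc0 0 (vqc0 0 vqc1))))))))) (vqc0 (vqc0 0 (vqc0 1 (vqc0 1 (vqc0 2 (vqc0 1 (vqc0 2 (vqc0 0 (vqc0 0 (vqc0 2 vqc1))))))))) (vqc0 (vqc0 2 (vqc0 1 (vqc0 1 (vqc0 2 (vqc0 1 (vqc0 1 (vqc0 1 (vqc0 1 (vqc0 0 vqc1))))))))) (vqc0 (vqc0 2 (vqc0 0 (vqc0 1 (vqc0 0 (vqc0 1 (vqc0 2 (vqc0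 2 (vqc0 1 (vqc0 2 vqc1))))))))) (vqc0 (vqc0 0 (vqc0 2 (vqc0 0 (vqc0 2 (vqc0 0 (vqc0 1 (vqc0 2 (vqc0 0 (vqc0 0 vqc1))))))))) (vqc0 (vqc0 2 (vqc0 0 (vqc0 2 (vqc0 0 (vqc0 0 (vqc0 1 (vqc0 1 (vqc0 1 (vqc0 1 vqc1))))))))) (vqc0 (vqc0 1 (vqc0 1 (vqc0 2 (vqc0 1 (vqc0 2 (vqc0 1 (vqc0 2 (vqc0 2 (vqc0 2 vqc1))))))))) vqc1))))))))))
    (beta% delta% lq26c8b9c1d715 fun vqc0 vqc1 _ _ _ _ _ =>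
        (vqc0 (vqc0 1 (vqc0 1 (vqc0 0 (vqc0 1 (vqc0 0 (vqc0 0 (vqc0 1 (vqc0 0 (vqc0 2 vqc1))))))))) (vqc0 (vqc0 0 (vqc0 2 (vqc0 2 (vqc0 0 (vqc0 1 (vqc0 0 (vqc0 1 (vqc0 1 (vqc0 1 vqc1))))))))) (vqc0 (vqc0 1 (vqc0 2 (vqc0 0 (vqc0 2 (vqc0 0 (vqc0 1 (vqc0 1 (vqc0 2 (vqc0 2 vqc1))))))))) (vqc0 (vqc0 0 (vqc0 0 (vqc0 2 (vqc0 2 (vqc0 2 (vqc0 1 (vqc0 0 (vqc0 1 (vqc0 0 vqc1))))))))) (vqc0 (vqc0 0 (vqc0 0 (vqc0 2 (vqc0 2 (vqc0 1 (vqc0 0 (vqc0 0 (vqc0 0 (vqc0 2 vqc1))))))))) (vqc0 (vqc0 2 (vqc0 2 (vqc0 0 (vqc0 0 (vqc0 0 (vqc0 2 (vqc0 2 (vqc0 0 (vqc0 1 vqc1))))))))) (vqc0 (vqc0 0 (vqc0 1 (vqc0 2 (vqc0 0 (vqc0 2 (vqc0 1 (vqc0 1 (vqc0 2 (vqc0 2 vqc1))))))))) (vqc0 (vqc0 2 (vqc0 2 (vqc0 2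 (vqc0 1 (vqc0 2 (vqc0 2 (vqc0 0 (vqc0 2 (vqc0 2 vqc1))))))))) (vqc0 (vqc0 0 (vqc0 1 (vqc0 2 (vqc0 1 (vqc0 2 (vqc0 0 (vqc0 1 (vqc0 0 (vqc0 0 vqc1))))))))) vqc1))))))))))
    [2054, 11039] (by decide +kernel)

theorem a163 : Ok 223 38069476949391602548736 :=
  ok_of (beta% delta% lq26c8b9c1d715 fun vqc0 vqc1 _ _ _ _ _ =>
      (vqc0 (vqc0 2 (vqc0 0 (vqc0 0 (vqc0 0 (vqc0 1 (vqc0 1 (vqc0 1 (vqc0 0 (vqc0 1 vqc1))))))))) (vqc0 (vqc0 2 (vqc0 2 (vqc0 0 (vqc0 2 (vqc0 2 (vqc0 1 (vqc0 2 (vqc0 2 (vqc0 1 vqc1))))))))) (vqc0 (vqc0 1 (vqc0 2 (vqc0 1 (vqc0 2 (vqc0 2 (vqc0 0 (vqc0 0 (vqc0 2 (vqc0 1 vqc1))))))))) (vqc0 (vqc0 2 (vqc0 0 (vqc0 0 (vqc0 1 (vqc0 2 (vqc0 1 (vqc0 1 (vqc0 2 (vqc0 1 vqc1)))))))))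 (vqc0 (vqc0 1 (vqc0 2 (vqc0 2 (vqc0 0 (vqc0 0 (vqc0 0 (vqc0 2 (vqc0 2 (vqc0 0 vqc1))))))))) (vqc0 (vqc0 1 (vqc0 0 (vqc0 2 (vqc0 0 (vqc0 2 (vqc0 0 (vqc0 2 (vqc0 2 (vqc0 2 vqc1))))))))) (vqc0 (vqc0 0 (vqc0 0 (vqc0 1 (vqc0 2 (vqc0 1 (vqc0 1 (vqc0 2 (vqc0 2 (vqc0 2 vqc1))))))))) (vqc0 (vqc0 0 (vqc0 2 (vqc0 2 (vqc0 2 (vqc0 1 (vqc0 0 (vqc0 2 (vqc0 1 (vqc0 0 vqc1))))))))) (vqc0 (vqc0 2 (vqc0 0 (vqc0 0 (vqc0 0 (vqc0 2 (vqc0 2 (vqc0 2 (vqc0 2 (vqc0 0 vqc1))))))))) vqc1))))))))))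
    (beta% delta% lq26c8b9c1d715 fun vqc0 vqc1 _ _ _ _ _ =>
        (vqc0 (vqc0 2 (vqc0 0 (vqc0 1 (vqc0 0 (vqc0 0 (vqc0 0 (vqc0 1 (vqc0 1 (vqc0 1 vqc1))))))))) (vqc0 (vqc0 2 (vqc0 2 (vqc0 0 (vqc0 0 (vqc0 0 (vqc0 2 (vqc0 0 (vqc0 2 (vqc0 1 vqc1))))))))) (vqc0 (vqc0 1 (vqc0 2 (vqc0 1 (vqc0 1 (vqc0 1 (vqc0 2 (vqc0 2 (vqc0 2 (vqc0 0 vqc1))))))))) (vqc0 (vqc0 0 (vqc0 2 (vqc0 2 (vqc0 2 (vqc0 0 (vqc0 1 (vqc0 1 (vqc0 2 (vqc0 0 vqc1))))))))) (vqc0 (vqc0 1 (vqc0 1 (vqc0 2 (vqc0 1 (vqc0 1 (vqc0 0 (vqc0 1 (vqc0 1 (vqc0 1 vqc1))))))))) (vqc0 (vqc0 1 (vqc0 2 (vqc0 2 (vqc0 1 (vqc0 1 (vqc0 2 (vqc0 1 (vqc0 1 (vqc0 2 vqc1))))))))) (vqc0 (vqc0 1 (vqc0 2 (vqc0 2 (vqc0 1 (vqc0 1 (vqc0 1 (vqc0 2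 (vqc0 2 (vqc0 0 vqc1))))))))) (vqc0 (vqc0 2 (vqc0 2 (vqc0 0 (vqc0 1 (vqc0 0 (vqc0 2 (vqc0 0 (vqc0 0 (vqc0 1 vqc1))))))))) (vqc0 (vqc0 2 (vqc0 2 (vqc0 0 (vqc0 1 (vqc0 1 (vqc0 2 (vqc0 0 (vqc0 2 (vqc0 2 vqc1))))))))) vqc1))))))))))
    [10089, 704] (by decide +kernel)

theorem a164 : Ok 223 38069476949391602549156 :=
  ok_of (beta% delta% lq26c8b9c1d715 fun vqc0 vqc1 _ _ _ _ _ =>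
      (vqc0 (vqc0 0 (vqc0 1 (vqc0 2 (vqc0 1 (vqc0 2 (vqc0 1 (vqc0 0 (vqc0 1 (vqc0 1 vqc1))))))))) (vqc0 (vqc0 0 (vqc0 2 (vqc0 2 (vqc0 1 (vqc0 1 (vqc0 2 (vqc0 1 (vqc0 2 (vqc0 0 vqc1))))))))) (vqc0 (vqc0 0 (vqc0 0 (vqc0 0 (vqc0 1 (vqc0 1 (vqc0 1 (vqc0 2 (vqc0 0 (vqc0 2 vqc1))))))))) (vqc0 (vqc0 2 (vqc0 2 (vqc0 2 (vqc0 1 (vqc0 1 (vqc0 2 (vqc0 1 (vqc0 1 (vqc0 0 vqc1))))))))) (vqc0 (vqc0 2 (vqc0 1 (vqc0 1 (vqc0 0 (vqc0 2 (vqc0 1 (vqc0 2 (vqc0 1 (vqc0 0 vqc1))))))))) (vqc0 (vqc0 1 (vqc0 2 (vqc0 0 (vqc0 2 (vqc0 1 (vqc0 0 (vqc0 1 (vqc0 2 (vqc0 2 vqc1))))))))) (vqc0 (vqc0 2 (vqc0 0 (vqc0 0 (vqc0 1 (vqc0 1 (vqc0 1 (vqc0 0 (vqc0 0 (vqc0 2 vqc1))))))))) (vqc0 (vqc0 1 (vqc0 0 (vqc0 0 (vqc0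 2 (vqc0 1 (vqc0 0 (vqc0 0 (vqc0 1 (vqc0 0 vqc1))))))))) (vqc0 (vqc0 2 (vqc0 1 (vqc0 1 (vqc0 2 (vqc0 0 (vqc0 1 (vqc0 2 (vqc0 1 (vqc0 1 vqc1))))))))) vqc1))))))))))
    (beta% delta% lq26c8b9c1d715 fun vqc0 vqc1 _ _ _ _ _ =>
        (vqc0 (vqc0 0 (vqc0 2 (vqc0 0 (vqc0 1 (vqc0 1 (vqc0 0 (vqc0 1 (vqc0 1 (vqc0 2 vqc1))))))))) (vqc0 (vqc0 0 (vqc0 0 (vqc0 1 (vqc0 1 (vqc0 2 (vqc0 0 (vqc0 0 (vqc0 1 (vqc0 1 vqc1))))))))) (vqc0 (vqc0 0 (vqc0 0 (vqc0 0 (vqc0 2 (vqc0 2 (vqc0 1 (vqc0 1 (vqc0 2 (vqc0 1 vqc1))))))))) (vqc0 (vqc0 0 (vqc0 2 (vqc0 2 (vqc0 2 (vqc0 2 (vqc0 2 (vqc0 1 (vqc0 1 (vqc0 0 vqc1))))))))) (vqc0 (vqc0 1 (vqc0 2 (vqc0 0 (vqc0 2 (vqc0 2 (vqc0 1 (vqc0 2 (vqc0 1 (vqc0 0 vqc1)))))))))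 (vqc0 (vqc0 1 (vqc0 0 (vqc0 1 (vqc0 2 (vqc0 2 (vqc0 2 (vqc0 1 (vqc0 1 (vqc0 1 vqc1))))))))) (vqc0 (vqc0 0 (vqc0 1 (vqc0 2 (vqc0 2 (vqc0 0 (vqc0 2 (vqc0 0 (vqc0 0 (vqc0 1 vqc1))))))))) (vqc0 (vqc0 0 (vqc0 1 (vqc0 2 (vqc0 2 (vqc0 2 (vqc0 1 (vqc0 2 (vqc0 2 (vqc0 1 vqc1))))))))) (vqc0 (vqc0 2 (vqc0 1 (vqc0 1 (vqc0 1 (vqc0 1 (vqc0 0 (vqc0 0 (vqc0 2 (vqc0 1 vqc1))))))))) vqc1))))))))))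
    [478, 6355] (by decide +kernel)

theorem a165 : Ok 287 38152478431300185423872 :=
  ok_of (beta% delta% lq26c8b9c1d715 fun vqc0 vqc1 _ _ _ _ _ =>
      (vqc0 (vqc0 0 (vqc0 0 (vqc0 0 (vqc0 0 (vqc0 2 (vqc0 1 (vqc0 1 (vqc0 2 (vqc0 1 vqc1))))))))) (vqc0 (vqc0 0 (vqc0 1 (vqc0 2 (vqc0 1 (vqc0 2 (vqc0 1 (vqc0 2 (vqc0 0 (vqc0 2 vqc1))))))))) (vqc0 (vqc0 1 (vqc0 0 (vqc0 0 (vqc0 0 (vqc0 0 (vqc0 1 (vqc0 2 (vqc0 0 (vqc0 0 vqc1))))))))) (vqc0 (vqc0 0 (vqc0 0 (vqc0 1 (vqc0 0 (vqc0 0 (vqc0 1 (vqc0 2 (vqc0 2 (vqc0 1 vqc1))))))))) (vqc0 (vqc0 2 (vqc0 2 (vqc0 2 (vqc0 0 (vqc0 2 (vqc0 2 (vqc0 1 (vqc0 1 (vqc0 0 vqc1))))))))) (vqc0 (vqc0 0 (vqc0 2 (vqc0 2 (vqc0 0 (vqc0 1 (vqc0 0 (vqc0 1 (vqc0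 0 (vqc0 0 vqc1))))))))) (vqc0 (vqc0 2 (vqc0 2 (vqc0 1 (vqc0 2 (vqc0 0 (vqc0 2 (vqc0 0 (vqc0 2 (vqc0 0 vqc1))))))))) (vqc0 (vqc0 2 (vqc0 0 (vqc0 0 (vqc0 2 (vqc0 2 (vqc0 2 (vqc0 0 (vqc0 2 (vqc0 1 vqc1))))))))) (vqc0 (vqc0 2 (vqc0 1 (vqc0 1 (vqc0 2 (vqc0 0 (vqc0 0 (vqc0 1 (vqc0 1 (vqc0 0 vqc1))))))))) vqc1))))))))))
    (beta% delta% lq26c8b9c1d715 fun vqc0 vqc1 _ _ _ _ _ =>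
        (vqc0 (vqc0 2 (vqc0 0 (vqc0 0 (vqc0 2 (vqc0 2 (vqc0 2 (vqc0 0 (vqc0 1 (vqc0 1 vqc1))))))))) (vqc0 (vqc0 1 (vqc0 1 (vqc0 1 (vqc0 2 (vqc0 0 (vqc0 1 (vqc0 1 (vqc0 0 (vqc0 0 vqc1))))))))) (vqc0 (vqc0 2 (vqc0 0 (vqc0 1 (vqc0 1 (vqc0 0 (vqc0 1 (vqc0 0 (vqc0 1 (vqc0 2 vqc1))))))))) (vqc0 (vqc0 2 (vqc0 1 (vqc0 2 (vqc0 2 (vqc0 0 (vqc0 1 (vqc0 1 (vqc0 0 (vqc0 0 vqc1))))))))) (vqc0 (vqc0 2 (vqc0 2 (vqc0 2 (vqc0 1 (vqc0 2 (vqc0 0 (vqc0 0 (vqc0 1 (vqc0 0 vqc1))))))))) (vqc0 (vqc0 2 (vqc0 1 (vqc0 1 (vqc0 2 (vqc0 1 (vqc0 2 (vqc0 1 (vqc0 1 (vqc0 1 vqc1))))))))) (vqc0 (vqc0 0 (vqc0 1 (vqc0 1 (vqc0 2 (vqc0 1 (vqc0 2 (vqc0 1 (vqc0 0 (vqc0 1 vqc1))))))))) (vqc0 (vqc0 1 (vqc0 2 (vqc0 2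 (vqc0 1 (vqc0 1 (vqc0 2 (vqc0 1 (vqc0 0 (vqc0 0 vqc1))))))))) (vqc0 (vqc0 1 (vqc0 2 (vqc0 0 (vqc0 1 (vqc0 0 (vqc0 1 (vqc0 2 (vqc0 2 (vqc0 1 vqc1))))))))) vqc1))))))))))
    [1396, 16812] (by decide +kernel)

theorem a166 : Ok 3455 37778931863691617043080 :=
  ok_of (beta% delta% lq26c8b9c1d715 fun vqc0 vqc1 _ _ _ _ _ =>
      (vqc0 (vqc0 1 (vqc0 1 (vqc0 0 (vqc0 0 (vqc0 0 (vqc0 0 (vqc0 1 (vqc0 0 (vqc0 2 vqc1))))))))) (vqc0 (vqc0 1 (vqc0 2 (vqc0 2 (vqc0 1 (vqc0 1 (vqc0 0 (vqc0 2 (vqc0 1 (vqc0 0 vqc1))))))))) (vqc0 (vqc0 0 (vqc0 2 (vqc0 1 (vqc0 1 (vqc0 0 (vqc0 0 (vqc0 1 (vqc0 0 (vqc0 2 vqc1))))))))) (vqc0 (vqc0 1 (vqc0 1 (vqc0 0 (vqc0 1 (vqc0 1 (vqc0 1 (vqc0 1 (vqc0 1 (vqc0 0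 vqc1))))))))) (vqc0 (vqc0 0 (vqc0 0 (vqc0 1 (vqc0 2 (vqc0 0 (vqc0 2 (vqc0 1 (vqc0 2 (vqc0 2 vqc1))))))))) (vqc0 (vqc0 2 (vqc0 0 (vqc0 0 (vqc0 1 (vqc0 2 (vqc0 2 (vqc0 2 (vqc0 1 (vqc0 0 vqc1))))))))) (vqc0 (vqc0 0 (vqc0 2 (vqc0 2 (vqc0 0 (vqc0 1 (vqc0 2 (vqc0 1 (vqc0 1 (vqc0 0 vqc1))))))))) (vqc0 (vqc0 0 (vqc0 0 (vqc0 2 (vqc0 1 (vqc0 1 (vqc0 0 (vqc0 1 (vqc0 2 (vqc0 2 vqc1))))))))) (vqc0 (vqc0 1 (vqc0 2 (vqc0 1 (vqc0 0 (vqc0 2 (vqc0 2 (vqc0 0 (vqc0 1 (vqc0 1 vqc1))))))))) vqc1))))))))))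
    (beta% delta% lq26c8b9c1d715 fun vqc0 vqc1 _ _ _ _ _ =>
        (vqc0 (vqc0 2 (vqc0 0 (vqc0 0 (vqc0 1 (vqc0 0 (vqc0 0 (vqc0 1 (vqc0 1 (vqc0 1 vqc1))))))))) (vqc0 (vqc0 1 (vqc0 0 (vqc0 0 (vqc0 1 (vqc0 1 (vqc0 1 (vqc0 0 (vqc0 0 (vqc0 1 vqc1))))))))) (vqc0 (vqc0 0 (vqc0 2 (vqc0 2 (vqc0 0 (vqc0 1 (vqc0 1 (vqc0 2 (vqc0 1 (vqc0 0 vqc1))))))))) (vqc0 (vqc0 0 (vqc0 1 (vqc0 2 (vqc0 2 (vqc0 2 (vqc0 0 (vqc0 1 (vqc0 0 (vqc0 1 vqc1))))))))) (vqc0 (vqc0 1 (vqc0 2 (vqc0 2 (vqc0 2 (vqc0 1 (vqc0 1 (vqc0 2 (vqc0 1 (vqc0 0 vqc1))))))))) (vqc0 (vqc0 2 (vqc0 1 (vqc0 0 (vqc0 0 (vqc0 0 (vqc0 1 (vqc0 2 (vqc0 1 (vqc0 1 vqc1))))))))) (vqc0 (vqc0 0 (vqc0 1 (vqc0 1 (vqc0 0 (vqc0 1 (vqc0 1 (vqc0 1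 (vqc0 0 (vqc0 2 vqc1))))))))) (vqc0 (vqc0 0 (vqc0 0 (vqc0 0 (vqc0 2 (vqc0 2 (vqc0 0 (vqc0 1 (vqc0 1 (vqc0 1 vqc1))))))))) (vqc0 (vqc0 2 (vqc0 1 (vqc0 1 (vqc0 1 (vqc0 1 (vqc0 2 (vqc0 1 (vqc0 1 (vqc0 1 vqc1))))))))) vqc1))))))))))
    [6557, 14745, 71] (by decide +kernel)

theorem a167 : Ok 193535 37778931864039636795392 :=
  ok_of (beta% delta% lq26c8b9c1d715 fun vqc0 vqc1 _ _ _ _ _ =>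
      (vqc0 (vqc0 1 (vqc0 0 (vqc0 0 (vqc0 1 (vqc0 2 (vqc0 1 (vqc0 1 (vqc0 2 (vqc0 2 vqc1))))))))) (vqc0 (vqc0 0 (vqc0 1 (vqc0 2 (vqc0 0 (vqc0 1 (vqc0 1 (vqc0 0 (vqc0 2 (vqc0 1 vqc1))))))))) (vqc0 (vqc0 2 (vqc0 0 (vqc0 2 (vqc0 0 (vqc0 2 (vqc0 1 (vqc0 2 (vqc0 2 (vqc0 0 vqc1))))))))) (vqc0 (vqc0 2 (vqc0 2 (vqc0 0 (vqc0 0 (vqc0 0 (vqc0 1 (vqc0 2 (vqc0 0 (vqc0 2 vqc1))))))))) (vqc0 (vqc0 0 (vqc0 2 (vqc0 2 (vqc0 0 (vqc0 2 (vqc0 2 (vqc0 0 (vqc0 1 (vqc0 2 vqc1))))))))) (vqc0 (vqc0 1 (vqc0 0 (vqc0 0 (vqc0 1 (vqc0 2 (vqc0 2 (vqc0 2 (vqc0 0 (vqc0 1 vqc1))))))))) (vqc0 (vqc0 1 (vqc0 1 (vqc0 2 (vqc0 0 (vqc0 0 (vqc0 0 (vqc0 0 (vqc0 2 (vqc0 2 vqc1))))))))) (vqc0 (vqc0 2 (vqc0 1 (vqc0 0 (vqc0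 0 (vqc0 2 (vqc0 2 (vqc0 1 (vqc0 1 (vqc0 1 vqc1))))))))) (vqc0 (vqc0 0 (vqc0 1 (vqc0 0 (vqc0 0 (vqc0 0 (vqc0 0 (vqc0 2 (vqc0 0 (vqc0 2 vqc1))))))))) vqc1))))))))))
    (beta% delta% lq26c8b9c1d715 fun vqc0 vqc1 _ _ _ _ _ =>
        (vqc0 (vqc0 1 (vqc0 2 (vqc0 2 (vqc0 0 (vqc0 1 (vqc0 1 (vqc0 0 (vqc0 2 (vqc0 0 vqc1))))))))) (vqc0 (vqc0 0 (vqc0 2 (vqc0 0 (vqc0 0 (vqc0 1 (vqc0 2 (vqc0 1 (vqc0 1 (vqc0 0 vqc1))))))))) (vqc0 (vqc0 1 (vqc0 2 (vqc0 2 (vqc0 0 (vqc0 0 (vqc0 1 (vqc0 2 (vqc0 1 (vqc0 2 vqc1))))))))) (vqc0 (vqc0 1 (vqc0 2 (vqc0 0 (vqc0 0 (vqc0 0 (vqc0 1 (vqc0 2 (vqc0 1 (vqc0 1 vqc1))))))))) (vqc0 (vqc0 2 (vqc0 0 (vqc0 2 (vqc0 2 (vqc0 2 (vqc0 0 (vqc0 1 (vqc0 0 (vqc0 2 vqc1)))))))))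 (vqc0 (vqc0 0 (vqc0 0 (vqc0 2 (vqc0 0 (vqc0 0 (vqc0 0 (vqc0 0 (vqc0 0 (vqc0 0 vqc1))))))))) (vqc0 (vqc0 2 (vqc0 2 (vqc0 0 (vqc0 0 (vqc0 1 (vqc0 0 (vqc0 1 (vqc0 2 (vqc0 0 vqc1))))))))) (vqc0 (vqc0 0 (vqc0 2 (vqc0 2 (vqc0 0 (vqc0 0 (vqc0 1 (vqc0 0 (vqc0 2 (vqc0 0 vqc1))))))))) (vqc0 (vqc0 1 (vqc0 0 (vqc0 2 (vqc0 0 (vqc0 2 (vqc0 0 (vqc0 1 (vqc0 2 (vqc0 0 vqc1))))))))) vqc1))))))))))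
    [12394, 3205, 2511, 17231] (by decide +kernel)

theorem a168 : Ok 159 38332342630190843757186 :=
  ok_of (beta% delta% lq26c8b9c1d715 fun vqc0 vqc1 _ _ _ _ _ =>
      (vqc0 (vqc0 0 (vqc0 2 (vqc0 1 (vqc0 2 (vqc0 0 (vqc0 0 (vqc0 2 (vqc0 1 (vqc0 2 vqc1))))))))) (vqc0 (vqc0 0 (vqc0 2 (vqc0 1 (vqc0 0 (vqc0 2 (vqc0 1 (vqc0 2 (vqc0 1 (vqc0 2 vqc1))))))))) (vqc0 (vqc0 0 (vqc0 1 (vqc0 0 (vqc0 1 (vqc0 0 (vqc0 0 (vqc0 2 (vqc0 0 (vqc0 0 vqc1))))))))) (vqc0 (vqc0 2 (vqc0 0 (vqc0 0 (vqc0 0 (vqc0 0 (vqc0 0 (vqc0 1 (vqc0 1 (vqc0 1 vqc1))))))))) (vqc0 (vqc0 2 (vqc0 0 (vqc0 0 (vqc0 0 (vqc0 2 (vqc0 2 (vqc0 1 (vqc0 2 (vqc0 0 vqc1))))))))) (vqc0 (vqc0 2 (vqc0 2 (vqc0 2 (vqc0 1 (vqc0 2 (vqc0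 1 (vqc0 1 (vqc0 1 (vqc0 0 vqc1))))))))) (vqc0 (vqc0 0 (vqc0 0 (vqc0 2 (vqc0 2 (vqc0 0 (vqc0 2 (vqc0 0 (vqc0 2 (vqc0 1 vqc1))))))))) (vqc0 (vqc0 0 (vqc0 0 (vqc0 0 (vqc0 2 (vqc0 2 (vqc0 2 (vqc0 2 (vqc0 0 (vqc0 1 vqc1))))))))) (vqc0 (vqc0 1 (vqc0 1 (vqc0 2 (vqc0 2 (vqc0 1 (vqc0 0 (vqc0 1 (vqc0 0 (vqc0 0 vqc1))))))))) vqc1))))))))))
    (beta% delta% lq26c8b9c1d715 fun vqc0 vqc1 _ _ _ _ _ =>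
        (vqc0 (vqc0 2 (vqc0 2 (vqc0 0 (vqc0 2 (vqc0 0 (vqc0 0 (vqc0 0 (vqc0 1 (vqc0 1 vqc1))))))))) (vqc0 (vqc0 1 (vqc0 0 (vqc0 1 (vqc0 1 (vqc0 2 (vqc0 0 (vqc0 1 (vqc0 0 (vqc0 2 vqc1))))))))) (vqc0 (vqc0 1 (vqc0 1 (vqc0 1 (vqc0 2 (vqc0 0 (vqc0 2 (vqc0 0 (vqc0 1 (vqc0 0 vqc1))))))))) (vqc0 (vqc0 0 (vqc0 1 (vqc0 2 (vqc0 0 (vqc0 0 (vqc0 1 (vqc0 2 (vqc0 2 (vqc0 1 vqc1))))))))) (vqc0 (vqc0 2 (vqc0 0 (vqc0 0 (vqc0 1 (vqc0 1 (vqc0 2 (vqc0 1 (vqc0 2 (vqc0 1 vqc1))))))))) (vqc0 (vqc0 1 (vqc0 1 (vqc0 2 (vqc0 2 (vqc0 0 (vqc0 0 (vqc0 1 (vqc0 1 (vqc0 0 vqc1))))))))) (vqc0 (vqc0 1 (vqc0 0 (vqc0 1 (vqc0 0 (vqc0 2 (vqc0 2 (vqc0 2 (vqc0 1 (vqc0 0 vqc1))))))))) (vqc0 (vqc0 0 (vqc0 0 (vqc0 2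 (vqc0 1 (vqc0 2 (vqc0 1 (vqc0 0 (vqc0 0 (vqc0 2 vqc1))))))))) (vqc0 (vqc0 2 (vqc0 1 (vqc0 1 (vqc0 1 (vqc0 1 (vqc0 1 (vqc0 1 (vqc0 1 (vqc0 0 vqc1))))))))) vqc1))))))))))
    [1041, 15879] (by decide +kernel)

theorem a169 : Ok 159 37778940307979557208706 :=
  ok_of (beta% delta% lq26c8b9c1d715 fun vqc0 vqc1 _ _ _ _ _ =>
      (vqc0 (vqc0 2 (vqc0 2 (vqc0 1 (vqc0 0 (vqc0 0 (vqc0 0 (vqc0 0 (vqc0 1 (vqc0 2 vqc1))))))))) (vqc0 (vqc0 0 (vqc0 1 (vqc0 0 (vqc0 2 (vqc0 2 (vqc0 2 (vqc0 1 (vqc0 0 (vqc0 1 vqc1))))))))) (vqc0 (vqc0 1 (vqc0 2 (vqc0 2 (vqc0 1 (vqc0 2 (vqc0 2 (vqc0 2 (vqc0 2 (vqc0 0 vqc1))))))))) (vqc0 (vqc0 0 (vqc0 1 (vqc0 2 (vqc0 1 (vqc0 0 (vqc0 1 (vqc0 1 (vqc0 2 (vqc0 1 vqc1)))))))))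 (vqc0 (vqc0 1 (vqc0 1 (vqc0 1 (vqc0 2 (vqc0 1 (vqc0 0 (vqc0 2 (vqc0 2 (vqc0 2 vqc1))))))))) (vqc0 (vqc0 0 (vqc0 0 (vqc0 2 (vqc0 1 (vqc0 1 (vqc0 2 (vqc0 1 (vqc0 0 (vqc0 2 vqc1))))))))) (vqc0 (vqc0 1 (vqc0 0 (vqc0 0 (vqc0 1 (vqc0 0 (vqc0 1 (vqc0 0 (vqc0 0 (vqc0 0 vqc1))))))))) (vqc0 (vqc0 0 (vqc0 1 (vqc0 2 (vqc0 0 (vqc0 1 (vqc0 2 (vqc0 2 (vqc0 1 (vqc0 1 vqc1))))))))) (vqc0 (vqc0 0 (vqc0 2 (vqc0 0 (vqc0 0 (vqc0 1 (vqc0 2 (vqc0 1 (vqc0 1 (vqc0 2 vqc1))))))))) vqc1))))))))))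
    (beta% delta% lq26c8b9c1d715 fun vqc0 vqc1 _ _ _ _ _ =>
        (vqc0 (vqc0 0 (vqc0 2 (vqc0 1 (vqc0 0 (vqc0 0 (vqc0 1 (vqc0 1 (vqc0 1 (vqc0 2 vqc1))))))))) (vqc0 (vqc0 1 (vqc0 1 (vqc0 2 (vqc0 2 (vqc0 2 (vqc0 2 (vqc0 1 (vqc0 1 (vqc0 1 vqc1))))))))) (vqc0 (vqc0 2 (vqc0 1 (vqc0 1 (vqc0 0 (vqc0 2 (vqc0 2 (vqc0 2 (vqc0 2 (vqc0 1 vqc1))))))))) (vqc0 (vqc0 0 (vqc0 0 (vqc0 0 (vqc0 2 (vqc0 1 (vqc0 0 (vqc0 0 (vqc0 0 (vqc0 0 vqc1))))))))) (vqc0 (vqc0 1 (vqc0 1 (vqc0 2 (vqc0 0 (vqc0 1 (vqc0 2 (vqc0 0 (vqc0 0 (vqc0 0 vqc1))))))))) (vqc0 (vqc0 1 (vqc0 2 (vqc0 2 (vqc0 2 (vqc0 2 (vqc0 2 (vqc0 1 (vqc0 0 (vqc0 1 vqc1))))))))) (vqc0 (vqc0 0 (vqc0 1 (vqc0 2 (vqc0 0 (vqc0 0 (vqc0 2 (vqc0 0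 (vqc0 0 (vqc0 0 vqc1))))))))) (vqc0 (vqc0 2 (vqc0 2 (vqc0 0 (vqc0 1 (vqc0 0 (vqc0 0 (vqc0 2 (vqc0 0 (vqc0 1 vqc1))))))))) (vqc0 (vqc0 1 (vqc0 0 (vqc0 0 (vqc0 0 (vqc0 1 (vqc0 0 (vqc0 1 (vqc0 2 (vqc0 0 vqc1))))))))) vqc1))))))))))
    [18019, 1441] (by decide +kernel)

theorem a170 : Ok 159 38055641469858294597186 :=
  ok_of (beta% delta% lq26c8b9c1d715 fun vqc0 vqc1 _ _ _ _ _ =>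
      (vqc0 (vqc0 1 (vqc0 0 (vqc0 1 (vqc0 0 (vqc0 2 (vqc0 1 (vqc0 1 (vqc0 2 (vqc0 2 vqc1))))))))) (vqc0 (vqc0 0 (vqc0 1 (vqc0 0 (vqc0 1 (vqc0 0 (vqc0 0 (vqc0 1 (vqc0 1 (vqc0 1 vqc1))))))))) (vqc0 (vqc0 0 (vqc0 2 (vqc0 0 (vqc0 1 (vqc0 2 (vqc0 2 (vqc0 2 (vqc0 0 (vqc0 1 vqc1))))))))) (vqc0 (vqc0 2 (vqc0 2 (vqc0 1 (vqc0 0 (vqc0 0 (vqc0 2 (vqc0 2 (vqc0 0 (vqc0 1 vqc1))))))))) (vqc0 (vqc0 2 (vqc0 2 (vqc0 0 (vqc0 0 (vqc0 2 (vqc0 2 (vqc0 2 (vqc0 1 (vqc0 1 vqc1))))))))) (vqc0 (vqc0 2 (vqc0 2 (vqc0 1 (vqc0 0 (vqc0 0 (vqc0 0 (vqc0 1 (vqc0 2 (vqc0 0 vqc1))))))))) (vqc0 (vqc0 1 (vqc0 2 (vqc0 2 (vqc0 1 (vqc0 0 (vqc0 0 (vqc0 1 (vqc0 0 (vqc0 2 vqc1))))))))) (vqc0 (vqc0 0 (vqc0 1 (vqc0 2 (vqc0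 0 (vqc0 1 (vqc0 0 (vqc0 0 (vqc0 1 (vqc0 0 vqc1))))))))) (vqc0 (vqc0 1 (vqc0 2 (vqc0 2 (vqc0 0 (vqc0 0 (vqc0 1 (vqc0 1 (vqc0 1 (vqc0 1 vqc1))))))))) vqc1))))))))))
    (beta% delta% lq26c8b9c1d715 fun vqc0 vqc1 _ _ _ _ _ =>
        (vqc0 (vqc0 0 (vqc0 0 (vqc0 0 (vqc0 1 (vqc0 1 (vqc0 1 (vqc0 0 (vqc0 1 (vqc0 1 vqc1))))))))) (vqc0 (vqc0 2 (vqc0 1 (vqc0 2 (vqc0 1 (vqc0 2 (vqc0 2 (vqc0 1 (vqc0 1 (vqc0 0 vqc1))))))))) (vqc0 (vqc0 0 (vqc0 1 (vqc0 1 (vqc0 2 (vqc0 1 (vqc0 1 (vqc0 0 (vqc0 1 (vqc0 0 vqc1))))))))) (vqc0 (vqc0 1 (vqc0 0 (vqc0 1 (vqc0 2 (vqc0 1 (vqc0 1 (vqc0 0 (vqc0 2 (vqc0 0 vqc1))))))))) (vqc0 (vqc0 0 (vqc0 1 (vqc0 1 (vqc0 1 (vqc0 1 (vqc0 0 (vqc0 2 (vqc0 0 (vqc0 2 vqc1)))))))))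 (vqc0 (vqc0 0 (vqc0 1 (vqc0 0 (vqc0 2 (vqc0 1 (vqc0 1 (vqc0 2 (vqc0 0 (vqc0 2 vqc1))))))))) (vqc0 (vqc0 2 (vqc0 0 (vqc0 0 (vqc0 2 (vqc0 2 (vqc0 1 (vqc0 2 (vqc0 1 (vqc0 1 vqc1))))))))) (vqc0 (vqc0 2 (vqc0 2 (vqc0 0 (vqc0 0 (vqc0 0 (vqc0 1 (vqc0 0 (vqc0 1 (vqc0 2 vqc1))))))))) (vqc0 (vqc0 1 (vqc0 2 (vqc0 2 (vqc0 1 (vqc0 2 (vqc0 2 (vqc0 2 (vqc0 2 (vqc0 1 vqc1))))))))) vqc1))))))))))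
    [7028, 9199] (by decide +kernel)

theorem a171 : Ok 143 37778931863652946477794 :=
  ok_of (beta% delta% lq26c8b9c1d715 fun vqc0 vqc1 _ _ _ _ _ =>
      (vqc0 (vqc0 0 (vqc0 2 (vqc0 0 (vqc0 0 (vqc0 0 (vqc0 2 (vqc0 0 (vqc0 2 (vqc0 0 vqc1))))))))) (vqc0 (vqc0 0 (vqc0 1 (vqc0 0 (vqc0 1 (vqc0 1 (vqc0 2 (vqc0 1 (vqc0 2 (vqc0 1 vqc1))))))))) (vqc0 (vqc0 0 (vqc0 0 (vqc0 0 (vqc0 2 (vqc0 1 (vqc0 1 (vqc0 2 (vqc0 0 (vqc0 2 vqc1))))))))) (vqc0 (vqc0 2 (vqc0 0 (vqc0 1 (vqc0 2 (vqc0 0 (vqc0 0 (vqc0 1 (vqc0 2 (vqc0 2 vqc1))))))))) (vqc0 (vqc0 1 (vqc0 2 (vqc0 0 (vqc0 0 (vqc0 2 (vqc0 1 (vqc0 0 (vqc0 1 (vqc0 2 vqc1))))))))) (vqc0 (vqc0 1 (vqc0 1 (vqc0 1 (vqc0 0 (vqc0 2 (vqc0 1 (vqc0 0 (vqc0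 2 (vqc0 0 vqc1))))))))) (vqc0 (vqc0 1 (vqc0 0 (vqc0 1 (vqc0 0 (vqc0 0 (vqc0 2 (vqc0 2 (vqc0 2 (vqc0 2 vqc1))))))))) (vqc0 (vqc0 2 (vqc0 1 (vqc0 0 (vqc0 2 (vqc0 0 (vqc0 1 (vqc0 1 (vqc0 2 (vqc0 2 vqc1))))))))) (vqc0 (vqc0 0 (vqc0 2 (vqc0 0 (vqc0 2 (vqc0 2 (vqc0 2 (vqc0 1 (vqc0 1 (vqc0 0 vqc1))))))))) vqc1))))))))))
    (beta% delta% lq26c8b9c1d715 fun vqc0 vqc1 _ _ _ _ _ =>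
        (vqc0 (vqc0 1 (vqc0 1 (vqc0 1 (vqc0 2 (vqc0 0 (vqc0 2 (vqc0 0 (vqc0 2 (vqc0 0 vqc1))))))))) (vqc0 (vqc0 0 (vqc0 0 (vqc0 0 (vqc0 2 (vqc0 1 (vqc0 1 (vqc0 0 (vqc0 0 (vqc0 2 vqc1))))))))) (vqc0 (vqc0 2 (vqc0 1 (vqc0 1 (vqc0 2 (vqc0 0 (vqc0 0 (vqc0 1 (vqc0 0 (vqc0 2 vqc1))))))))) (vqc0 (vqc0 1 (vqc0 1 (vqc0 0 (vqc0 2 (vqc0 0 (vqc0 1 (vqc0 1 (vqc0 0 (vqc0 1 vqc1))))))))) (vqc0 (vqc0 1 (vqc0 0 (vqc0 2 (vqc0 0 (vqc0 1 (vqc0 2 (vqc0 1 (vqc0 2 (vqc0 1 vqc1))))))))) (vqc0 (vqc0 1 (vqc0 1 (vqc0 0 (vqc0 1 (vqc0 1 (vqc0 1 (vqc0 2 (vqc0 1 (vqc0 2 vqc1))))))))) (vqc0 (vqc0 0 (vqc0 2 (vqc0 1 (vqc0 2 (vqc0 2 (vqc0 0 (vqc0 1 (vqc0 2 (vqc0 1 vqc1))))))))) (vqc0 (vqc0 0 (vqc0 1 (vqc0 1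 (vqc0 2 (vqc0 1 (vqc0 1 (vqc0 1 (vqc0 1 (vqc0 1 vqc1))))))))) (vqc0 (vqc0 0 (vqc0 0 (vqc0 1 (vqc0 0 (vqc0 0 (vqc0 1 (vqc0 2 (vqc0 1 (vqc0 0 vqc1))))))))) vqc1))))))))))
    [19246, 13658] (by decide +kernel)

theorem a172 : Ok 11519 37778931862957161776706 :=
  ok_of (beta% delta% lq26c8b9c1d715 fun vqc0 vqc1 _ _ _ _ _ =>
      (vqc0 (vqc0 2 (vqc0 0 (vqc0 2 (vqc0 1 (vqc0 2 (vqc0 1 (vqc0 1 (vqc0 0 (vqc0 2 vqc1))))))))) (vqc0 (vqc0 0 (vqc0 0 (vqc0 1 (vqc0 1 (vqc0 2 (vqc0 2 (vqc0 1 (vqc0 2 (vqc0 1 vqc1))))))))) (vqc0 (vqc0 2 (vqc0 1 (vqc0 1 (vqc0 2 (vqc0 1 (vqc0 0 (vqc0 1 (vqc0 0 (vqc0 2 vqc1))))))))) (vqc0 (vqc0 0 (vqc0 1 (vqc0 2 (vqc0 1 (vqc0 2 (vqc0 1 (vqc0 1 (vqc0 0 (vqc0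 1 vqc1))))))))) (vqc0 (vqc0 0 (vqc0 2 (vqc0 2 (vqc0 2 (vqc0 1 (vqc0 2 (vqc0 2 (vqc0 2 (vqc0 2 vqc1))))))))) (vqc0 (vqc0 0 (vqc0 2 (vqc0 0 (vqc0 1 (vqc0 1 (vqc0 1 (vqc0 0 (vqc0 2 (vqc0 2 vqc1))))))))) (vqc0 (vqc0 2 (vqc0 2 (vqc0 0 (vqc0 1 (vqc0 1 (vqc0 0 (vqc0 1 (vqc0 0 (vqc0 1 vqc1))))))))) (vqc0 (vqc0 2 (vqc0 1 (vqc0 2 (vqc0 2 (vqc0 0 (vqc0 2 (vqc0 2 (vqc0 0 (vqc0 0 vqc1))))))))) (vqc0 (vqc0 2 (vqc0 1 (vqc0 1 (vqc0 1 (vqc0 1 (vqc0 1 (vqc0 1 (vqc0 1 (vqc0 0 vqc1))))))))) vqc1))))))))))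
    (beta% delta% lq26c8b9c1d715 fun vqc0 vqc1 _ _ _ _ _ =>
        (vqc0 (vqc0 0 (vqc0 1 (vqc0 2 (vqc0 1 (vqc0 2 (vqc0 2 (vqc0 1 (vqc0 0 (vqc0 0 vqc1))))))))) (vqc0 (vqc0 1 (vqc0 0 (vqc0 1 (vqc0 2 (vqc0 2 (vqc0 1 (vqc0 0 (vqc0 1 (vqc0 2 vqc1))))))))) (vqc0 (vqc0 0 (vqc0 1 (vqc0 2 (vqc0 2 (vqc0 0 (vqc0 2 (vqc0 0 (vqc0 2 (vqc0 2 vqc1))))))))) (vqc0 (vqc0 2 (vqc0 0 (vqc0 1 (vqc0 1 (vqc0 1 (vqc0 0 (vqc0 0 (vqc0 2 (vqc0 1 vqc1))))))))) (vqc0 (vqc0 1 (vqc0 1 (vqc0 2 (vqc0 0 (vqc0 0 (vqc0 1 (vqc0 2 (vqc0 1 (vqc0 0 vqc1))))))))) (vqc0 (vqc0 2 (vqc0 2 (vqc0 0 (vqc0 1 (vqc0 1 (vqc0 2 (vqc0 2 (vqc0 2 (vqc0 1 vqc1))))))))) (vqc0 (vqc0 1 (vqc0 1 (vqc0 2 (vqc0 2 (vqc0 2 (vqc0 0 (vqc0 2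 (vqc0 1 (vqc0 2 vqc1))))))))) (vqc0 (vqc0 2 (vqc0 2 (vqc0 0 (vqc0 0 (vqc0 0 (vqc0 0 (vqc0 0 (vqc0 1 (vqc0 2 vqc1))))))))) (vqc0 (vqc0 1 (vqc0 2 (vqc0 1 (vqc0 2 (vqc0 2 (vqc0 2 (vqc0 1 (vqc0 1 (vqc0 1 vqc1))))))))) vqc1))))))))))
    [455, 12178, 13061] (by decide +kernel)

theorem a173 : Ok 179 37778931864503350002186 :=
  ok_of (beta% delta% lq26c8b9c1d715 fun vqc0 vqc1 _ _ _ _ _ =>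
      (vqc0 (vqc0 1 (vqc0 1 (vqc0 0 (vqc0 0 (vqc0 2 (vqc0 2 (vqc0 1 (vqc0 1 (vqc0 0 vqc1))))))))) (vqc0 (vqc0 2 (vqc0 1 (vqc0 0 (vqc0 0 (vqc0 2 (vqc0 0 (vqc0 1 (vqc0 2 (vqc0 1 vqc1))))))))) (vqc0 (vqc0 1 (vqc0 2 (vqc0 0 (vqc0 0 (vqc0 0 (vqc0 2 (vqc0 1 (vqc0 1 (vqc0 0 vqc1))))))))) (vqc0 (vqc0 0 (vqc0 2 (vqc0 2 (vqc0 2 (vqc0 0 (vqc0 1 (vqc0 0 (vqc0 2 (vqc0 1 vqc1))))))))) (vqc0 (vqc0 2 (vqc0 2 (vqc0 0 (vqc0 0 (vqc0 0 (vqc0 1 (vqc0 1 (vqc0 2 (vqc0 0 vqc1))))))))) (vqc0 (vqc0 0 (vqc0 1 (vqc0 1 (vqc0 1 (vqc0 0 (vqc0 0 (vqc0 0 (vqc0 2 (vqc0 2 vqc1))))))))) (vqc0 (vqc0 1 (vqc0 0 (vqc0 2 (vqc0 0 (vqc0 0 (vqc0 2 (vqc0 0 (vqc0 1 (vqc0 0 vqc1))))))))) (vqc0 (vqc0 1 (vqc0 0 (vqc0 0 (vqc0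 2 (vqc0 0 (vqc0 2 (vqc0 0 (vqc0 1 (vqc0 0 vqc1))))))))) (vqc0 (vqc0 0 (vqc0 2 (vqc0 0 (vqc0 0 (vqc0 1 (vqc0 0 (vqc0 2 (vqc0 0 (vqc0 1 vqc1))))))))) vqc1))))))))))
    (beta% delta% lq26c8b9c1d715 fun vqc0 vqc1 _ _ _ _ _ =>
        (vqc0 (vqc0 2 (vqc0 1 (vqc0 0 (vqc0 2 (vqc0 1 (vqc0 0 (vqc0 2 (vqc0 2 (vqc0 0 vqc1))))))))) (vqc0 (vqc0 2 (vqc0 0 (vqc0 0 (vqc0 1 (vqc0 0 (vqc0 0 (vqc0 2 (vqc0 2 (vqc0 2 vqc1))))))))) (vqc0 (vqc0 1 (vqc0 2 (vqc0 1 (vqc0 0 (vqc0 0 (vqc0 2 (vqc0 2 (vqc0 1 (vqc0 2 vqc1))))))))) (vqc0 (vqc0 0 (vqc0 2 (vqc0 1 (vqc0 0 (vqc0 0 (vqc0 1 (vqc0 2 (vqc0 2 (vqc0 1 vqc1))))))))) (vqc0 (vqc0 0 (vqc0 0 (vqc0 0 (vqc0 2 (vqc0 2 (vqc0 2 (vqc0 0 (vqc0 2 (vqc0 1 vqc1)))))))))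 (vqc0 (vqc0 0 (vqc0 1 (vqc0 0 (vqc0 0 (vqc0 2 (vqc0 0 (vqc0 0 (vqc0 2 (vqc0 0 vqc1))))))))) (vqc0 (vqc0 1 (vqc0 0 (vqc0 1 (vqc0 1 (vqc0 0 (vqc0 2 (vqc0 2 (vqc0 0 (vqc0 2 vqc1))))))))) (vqc0 (vqc0 0 (vqc0 1 (vqc0 0 (vqc0 2 (vqc0 2 (vqc0 1 (vqc0 2 (vqc0 1 (vqc0 2 vqc1))))))))) (vqc0 (vqc0 2 (vqc0 1 (vqc0 1 (vqc0 2 (vqc0 1 (vqc0 2 (vqc0 0 (vqc0 2 (vqc0 1 vqc1))))))))) vqc1))))))))))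
    [10568, 8418] (by decide +kernel)

theorem a174 : Ok 14399 37778931864503350003266 :=
  ok_of (beta% delta% lq26c8b9c1d715 fun vqc0 vqc1 _ _ _ _ _ =>
      (vqc0 (vqc0 2 (vqc0 0 (vqc0 1 (vqc0 0 (vqc0 1 (vqc0 0 (vqc0 1 (vqc0 0 (vqc0 0 vqc1))))))))) (vqc0 (vqc0 2 (vqc0 2 (vqc0 1 (vqc0 2 (vqc0 0 (vqc0 0 (vqc0 1 (vqc0 1 (vqc0 1 vqc1))))))))) (vqc0 (vqc0 1 (vqc0 2 (vqc0 0 (vqc0 2 (vqc0 2 (vqc0 2 (vqc0 0 (vqc0 1 (vqc0 0 vqc1))))))))) (vqc0 (vqc0 2 (vqc0 2 (vqc0 1 (vqc0 1 (vqc0 0 (vqc0 0 (vqc0 2 (vqc0 1 (vqc0 1 vqc1))))))))) (vqc0 (vqc0 0 (vqc0 2 (vqc0 2 (vqc0 1 (vqc0 1 (vqc0 2 (vqc0 0 (vqc0 2 (vqc0 1 vqc1))))))))) (vqc0 (vqc0 2 (vqc0 2 (vqc0 0 (vqc0 2 (vqc0 0 (vqc0 0 (vqc0 0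 (vqc0 0 (vqc0 2 vqc1))))))))) (vqc0 (vqc0 1 (vqc0 1 (vqc0 0 (vqc0 0 (vqc0 0 (vqc0 1 (vqc0 1 (vqc0 0 (vqc0 1 vqc1))))))))) (vqc0 (vqc0 0 (vqc0 2 (vqc0 0 (vqc0 1 (vqc0 1 (vqc0 1 (vqc0 0 (vqc0 0 (vqc0 1 vqc1))))))))) (vqc0 (vqc0 0 (vqc0 2 (vqc0 2 (vqc0 1 (vqc0 0 (vqc0 2 (vqc0 2 (vqc0 2 (vqc0 2 vqc1))))))))) vqc1))))))))))
    (beta% delta% lq26c8b9c1d715 fun vqc0 vqc1 _ _ _ _ _ =>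
        (vqc0 (vqc0 0 (vqc0 0 (vqc0 1 (vqc0 0 (vqc0 0 (vqc0 1 (vqc0 0 (vqc0 1 (vqc0 0 vqc1))))))))) (vqc0 (vqc0 1 (vqc0 0 (vqc0 2 (vqc0 1 (vqc0 2 (vqc0 1 (vqc0 1 (vqc0 0 (vqc0 2 vqc1))))))))) (vqc0 (vqc0 2 (vqc0 2 (vqc0 0 (vqc0 0 (vqc0 0 (vqc0 0 (vqc0 0 (vqc0 2 (vqc0 1 vqc1))))))))) (vqc0 (vqc0 0 (vqc0 2 (vqc0 2 (vqc0 0 (vqc0 2 (vqc0 2 (vqc0 1 (vqc0 0 (vqc0 1 vqc1))))))))) (vqc0 (vqc0 0 (vqc0 0 (vqc0 0 (vqc0 0 (vqc0 0 (vqc0 1 (vqc0 0 (vqc0 1 (vqc0 0 vqc1))))))))) (vqc0 (vqc0 2 (vqc0 0 (vqc0 0 (vqc0 2 (vqc0 1 (vqc0 1 (vqc0 0 (vqc0 1 (vqc0 2 vqc1))))))))) (vqc0 (vqc0 2 (vqc0 0 (vqc0 1 (vqc0 0 (vqc0 1 (vqc0 2 (vqc0 2 (vqc0 1 (vqc0 1 vqc1))))))))) (vqc0 (vqc0 2 (vqc0 2 (vqc0 1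 (vqc0 0 (vqc0 0 (vqc0 1 (vqc0 0 (vqc0 2 (vqc0 1 vqc1))))))))) (vqc0 (vqc0 1 (vqc0 2 (vqc0 0 (vqc0 0 (vqc0 0 (vqc0 2 (vqc0 0 (vqc0 0 (vqc0 0 vqc1))))))))) vqc1))))))))))
    [16015, 12139, 11124] (by decide +kernel)

theorem a175 : Ok 179 37778931865276444115736 :=
  ok_of (beta% delta% lq26c8b9c1d715 fun vqc0 vqc1 _ _ _ _ _ =>
      (vqc0 (vqc0 1 (vqc0 2 (vqc0 1 (vqc0 1 (vqc0 2 (vqc0 2 (vqc0 0 (vqc0 1 (vqc0 2 vqc1))))))))) (vqc0 (vqc0 1 (vqc0 1 (vqc0 2 (vqc0 2 (vqc0 0 (vqc0 1 (vqc0 1 (vqc0 1 (vqc0 0 vqc1))))))))) (vqc0 (vqc0 2 (vqc0 1 (vqc0 0 (vqc0 1 (vqc0 1 (vqc0 0 (vqc0 2 (vqc0 1 (vqc0 1 vqc1))))))))) (vqc0 (vqc0 1 (vqc0 1 (vqc0 2 (vqc0 0 (vqc0 2 (vqc0 1 (vqc0 1 (vqc0 0 (vqc0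 0 vqc1))))))))) (vqc0 (vqc0 0 (vqc0 2 (vqc0 1 (vqc0 0 (vqc0 1 (vqc0 0 (vqc0 1 (vqc0 0 (vqc0 0 vqc1))))))))) (vqc0 (vqc0 1 (vqc0 2 (vqc0 0 (vqc0 0 (vqc0 0 (vqc0 1 (vqc0 2 (vqc0 1 (vqc0 2 vqc1))))))))) (vqc0 (vqc0 2 (vqc0 0 (vqc0 1 (vqc0 2 (vqc0 1 (vqc0 2 (vqc0 2 (vqc0 1 (vqc0 0 vqc1))))))))) (vqc0 (vqc0 2 (vqc0 2 (vqc0 2 (vqc0 1 (vqc0 1 (vqc0 1 (vqc0 1 (vqc0 0 (vqc0 2 vqc1))))))))) (vqc0 (vqc0 1 (vqc0 1 (vqc0 1 (vqc0 2 (vqc0 0 (vqc0 1 (vqc0 0 (vqc0 1 (vqc0 2 vqc1))))))))) vqc1))))))))))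
    (beta% delta% lq26c8b9c1d715 fun vqc0 vqc1 _ _ _ _ _ =>
        (vqc0 (vqc0 0 (vqc0 0 (vqc0 2 (vqc0 0 (vqc0 2 (vqc0 2 (vqc0 2 (vqc0 0 (vqc0 1 vqc1))))))))) (vqc0 (vqc0 1 (vqc0 2 (vqc0 1 (vqc0 1 (vqc0 2 (vqc0 0 (vqc0 1 (vqc0 1 (vqc0 2 vqc1))))))))) (vqc0 (vqc0 1 (vqc0 1 (vqc0 0 (vqc0 0 (vqc0 2 (vqc0 0 (vqc0 2 (vqc0 0 (vqc0 2 vqc1))))))))) (vqc0 (vqc0 2 (vqc0 0 (vqc0 0 (vqc0 2 (vqc0 0 (vqc0 1 (vqc0 1 (vqc0 0 (vqc0 0 vqc1))))))))) (vqc0 (vqc0 0 (vqc0 2 (vqc0 2 (vqc0 1 (vqc0 2 (vqc0 2 (vqc0 2 (vqc0 2 (vqc0 1 vqc1))))))))) (vqc0 (vqc0 2 (vqc0 0 (vqc0 1 (vqc0 0 (vqc0 0 (vqc0 0 (vqc0 1 (vqc0 1 (vqc0 1 vqc1))))))))) (vqc0 (vqc0 1 (vqc0 2 (vqc0 1 (vqc0 2 (vqc0 2 (vqc0 0 (vqc0 0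 (vqc0 1 (vqc0 2 vqc1))))))))) (vqc0 (vqc0 1 (vqc0 2 (vqc0 2 (vqc0 0 (vqc0 0 (vqc0 2 (vqc0 1 (vqc0 1 (vqc0 0 vqc1))))))))) (vqc0 (vqc0 0 (vqc0 1 (vqc0 0 (vqc0 0 (vqc0 1 (vqc0 0 (vqc0 0 (vqc0 0 (vqc0 1 vqc1))))))))) vqc1))))))))))
    [1276, 2821] (by decide +kernel)

theorem a176 : Ok 14399 37778931865276444116546 :=
  ok_of (beta% delta% lq26c8b9c1d715 fun vqc0 vqc1 _ _ _ _ _ =>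
      (vqc0 (vqc0 2 (vqc0 2 (vqc0 0 (vqc0 1 (vqc0 0 (vqc0 1 (vqc0 0 (vqc0 0 (vqc0 2 vqc1))))))))) (vqc0 (vqc0 2 (vqc0 0 (vqc0 0 (vqc0 0 (vqc0 2 (vqc0 2 (vqc0 1 (vqc0 0 (vqc0 2 vqc1))))))))) (vqc0 (vqc0 1 (vqc0 2 (vqc0 1 (vqc0 1 (vqc0 1 (vqc0 1 (vqc0 2 (vqc0 0 (vqc0 2 vqc1))))))))) (vqc0 (vqc0 2 (vqc0 0 (vqc0 0 (vqc0 1 (vqc0 1 (vqc0 1 (vqc0 0 (vqc0 1 (vqc0 2 vqc1))))))))) (vqc0 (vqc0 1 (vqc0 2 (vqc0 0 (vqc0 0 (vqc0 1 (vqc0 0 (vqc0 2 (vqc0 1 (vqc0 1 vqc1))))))))) (vqc0 (vqc0 1 (vqc0 2 (vqc0 2 (vqc0 0 (vqc0 0 (vqc0 0 (vqc0 2 (vqc0 1 (vqc0 2 vqc1))))))))) (vqc0 (vqc0 0 (vqc0 0 (vqc0 1 (vqc0 0 (vqc0 1 (vqc0 2 (vqc0 1 (vqc0 2 (vqc0 2 vqc1))))))))) (vqc0 (vqc0 0 (vqc0 0 (vqc0 1 (vqc0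 1 (vqc0 0 (vqc0 0 (vqc0 0 (vqc0 1 (vqc0 1 vqc1))))))))) (vqc0 (vqc0 1 (vqc0 1 (vqc0 2 (vqc0 1 (vqc0 1 (vqc0 0 (vqc0 2 (vqc0 0 (vqc0 1 vqc1))))))))) vqc1))))))))))
    (beta% delta% lq26c8b9c1d715 fun vqc0 vqc1 _ _ _ _ _ =>
        (vqc0 (vqc0 2 (vqc0 1 (vqc0 2 (vqc0 0 (vqc0 1 (vqc0 2 (vqc0 0 (vqc0 2 (vqc0 1 vqc1))))))))) (vqc0 (vqc0 0 (vqc0 1 (vqc0 0 (vqc0 1 (vqc0 1 (vqc0 2 (vqc0 2 (vqc0 1 (vqc0 1 vqc1))))))))) (vqc0 (vqc0 0 (vqc0 0 (vqc0 0 (vqc0 1 (vqc0 2 (vqc0 0 (vqc0 0 (vqc0 1 (vqc0 0 vqc1))))))))) (vqc0 (vqc0 0 (vqc0 2 (vqc0 0 (vqc0 0 (vqc0 2 (vqc0 0 (vqc0 1 (vqc0 1 (vqc0 2 vqc1))))))))) (vqc0 (vqc0 0 (vqc0 1 (vqc0 0 (vqc0 2 (vqc0 2 (vqc0 1 (vqc0 1 (vqc0 2 (vqc0 2 vqc1)))))))))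 (vqc0 (vqc0 2 (vqc0 0 (vqc0 1 (vqc0 2 (vqc0 1 (vqc0 1 (vqc0 0 (vqc0 0 (vqc0 0 vqc1))))))))) (vqc0 (vqc0 0 (vqc0 0 (vqc0 0 (vqc0 0 (vqc0 1 (vqc0 2 (vqc0 2 (vqc0 1 (vqc0 1 vqc1))))))))) (vqc0 (vqc0 0 (vqc0 2 (vqc0 2 (vqc0 0 (vqc0 2 (vqc0 2 (vqc0 0 (vqc0 1 (vqc0 2 vqc1))))))))) (vqc0 (vqc0 0 (vqc0 1 (vqc0 0 (vqc0 1 (vqc0 0 (vqc0 0 (vqc0 0 (vqc0 2 (vqc0 2 vqc1))))))))) vqc1))))))))))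
    [18567, 12040] (by decide +kernel)

theorem a177 : Ok 223 38069476949391602942402 :=
  ok_of (beta% delta% lq26c8b9c1d715 fun vqc0 vqc1 _ _ _ _ _ =>
      (vqc0 (vqc0 2 (vqc0 0 (vqc0 2 (vqc0 0 (vqc0 1 (vqc0 0 (vqc0 1 (vqc0 0 (vqc0 0 vqc1))))))))) (vqc0 (vqc0 0 (vqc0 0 (vqc0 0 (vqc0 2 (vqc0 2 (vqc0 0 (vqc0 2 (vqc0 0 (vqc0 0 vqc1))))))))) (vqc0 (vqc0 1 (vqc0 2 (vqc0 2 (vqc0 2 (vqc0 1 (vqc0 1 (vqc0 1 (vqc0 0 (vqc0 1 vqc1))))))))) (vqc0 (vqc0 2 (vqc0 1 (vqc0 2 (vqc0 0 (vqc0 2 (vqc0 1 (vqc0 1 (vqc0 0 (vqc0 1 vqc1))))))))) (vqc0 (vqc0 1 (vqc0 1 (vqc0 1 (vqc0 1 (vqc0 1 (vqc0 2 (vqc0 1 (vqc0 0 (vqc0 2 vqc1))))))))) (vqc0 (vqc0 1 (vqc0 0 (vqc0 1 (vqc0 2 (vqc0 1 (vqc0 0 (vqc0 1 (vqc0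 2 (vqc0 1 vqc1))))))))) (vqc0 (vqc0 1 (vqc0 1 (vqc0 1 (vqc0 1 (vqc0 1 (vqc0 2 (vqc0 2 (vqc0 0 (vqc0 2 vqc1))))))))) (vqc0 (vqc0 1 (vqc0 2 (vqc0 2 (vqc0 2 (vqc0 1 (vqc0 0 (vqc0 1 (vqc0 1 (vqc0 1 vqc1))))))))) (vqc0 (vqc0 2 (vqc0 2 (vqc0 2 (vqc0 2 (vqc0 0 (vqc0 1 (vqc0 0 (vqc0 0 (vqc0 0 vqc1))))))))) vqc1))))))))))
    (beta% delta% lq26c8b9c1d715 fun vqc0 vqc1 _ _ _ _ _ =>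
        (vqc0 (vqc0 0 (vqc0 2 (vqc0 1 (vqc0 1 (vqc0 1 (vqc0 2 (vqc0 0 (vqc0 0 (vqc0 0 vqc1))))))))) (vqc0 (vqc0 1 (vqc0 1 (vqc0 2 (vqc0 2 (vqc0 1 (vqc0 2 (vqc0 1 (vqc0 2 (vqc0 0 vqc1))))))))) (vqc0 (vqc0 1 (vqc0 1 (vqc0 1 (vqc0 1 (vqc0 2 (vqc0 1 (vqc0 0 (vqc0 1 (vqc0 1 vqc1))))))))) (vqc0 (vqc0 2 (vqc0 2 (vqc0 2 (vqc0 2 (vqc0 0 (vqc0 1 (vqc0 2 (vqc0 1 (vqc0 1 vqc1))))))))) (vqc0 (vqc0 2 (vqc0 0 (vqc0 0 (vqc0 2 (vqc0 0 (vqc0 0 (vqc0 1 (vqc0 1 (vqc0 1 vqc1))))))))) (vqc0 (vqc0 1 (vqc0 0 (vqc0 2 (vqc0 1 (vqc0 1 (vqc0 2 (vqc0 2 (vqc0 0 (vqc0 1 vqc1))))))))) (vqc0 (vqc0 1 (vqc0 1 (vqc0 0 (vqc0 1 (vqc0 1 (vqc0 1 (vqc0 2 (vqc0 1 (vqc0 1 vqc1))))))))) (vqc0 (vqc0 0 (vqc0 0 (vqc0 2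 (vqc0 1 (vqc0 2 (vqc0 2 (vqc0 2 (vqc0 2 (vqc0 1 vqc1))))))))) (vqc0 (vqc0 2 (vqc0 2 (vqc0 2 (vqc0 1 (vqc0 0 (vqc0 2 (vqc0 0 (vqc0 0 (vqc0 1 vqc1))))))))) vqc1))))))))))
    [2292, 10943] (by decide +kernel)

theorem a178 : Ok 223 38069476949391602942654 :=
  ok_of (beta% delta% lq26c8b9c1d715 fun vqc0 vqc1 _ _ _ _ _ =>
      (vqc0 (vqc0 2 (vqc0 0 (vqc0 1 (vqc0 2 (vqc0 2 (vqc0 1 (vqc0 2 (vqc0 0 (vqc0 1 vqc1))))))))) (vqc0 (vqc0 2 (vqc0 1 (vqc0 0 (vqc0 2 (vqc0 1 (vqc0 1 (vqc0 0 (vqc0 0 (vqc0 0 vqc1))))))))) (vqc0 (vqc0 0 (vqc0 1 (vqc0 2 (vqc0 1 (vqc0 1 (vqc0 2 (vqc0 0 (vqc0 1 (vqc0 1 vqc1))))))))) (vqc0 (vqc0 0 (vqc0 1 (vqc0 0 (vqc0 2 (vqc0 0 (vqc0 1 (vqc0 2 (vqc0 0 (vqc0 0 vqc1)))))))))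 (vqc0 (vqc0 2 (vqc0 2 (vqc0 0 (vqc0 0 (vqc0 0 (vqc0 0 (vqc0 0 (vqc0 2 (vqc0 1 vqc1))))))))) (vqc0 (vqc0 0 (vqc0 0 (vqc0 2 (vqc0 0 (vqc0 1 (vqc0 1 (vqc0 0 (vqc0 2 (vqc0 1 vqc1))))))))) (vqc0 (vqc0 2 (vqc0 0 (vqc0 1 (vqc0 1 (vqc0 2 (vqc0 0 (vqc0 2 (vqc0 0 (vqc0 1 vqc1))))))))) (vqc0 (vqc0 1 (vqc0 1 (vqc0 1 (vqc0 0 (vqc0 1 (vqc0 0 (vqc0 0 (vqc0 1 (vqc0 2 vqc1))))))))) (vqc0 (vqc0 0 (vqc0 1 (vqc0 1 (vqc0 0 (vqc0 2 (vqc0 0 (vqc0 0 (vqc0 1 (vqc0 1 vqc1))))))))) vqc1))))))))))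
    (beta% delta% lq26c8b9c1d715 fun vqc0 vqc1 _ _ _ _ _ =>
        (vqc0 (vqc0 0 (vqc0 0 (vqc0 2 (vqc0 1 (vqc0 1 (vqc0 0 (vqc0 1 (vqc0 1 (vqc0 0 vqc1))))))))) (vqc0 (vqc0 1 (vqc0 0 (vqc0 0 (vqc0 1 (vqc0 0 (vqc0 1 (vqc0 1 (vqc0 0 (vqc0 0 vqc1))))))))) (vqc0 (vqc0 2 (vqc0 1 (vqc0 0 (vqc0 2 (vqc0 0 (vqc0 2 (vqc0 1 (vqc0 2 (vqc0 1 vqc1))))))))) (vqc0 (vqc0 2 (vqc0 2 (vqc0 1 (vqc0 0 (vqc0 2 (vqc0 1 (vqc0 0 (vqc0 1 (vqc0 0 vqc1))))))))) (vqc0 (vqc0 1 (vqc0 2 (vqc0 2 (vqc0 1 (vqc0 2 (vqc0 1 (vqc0 1 (vqc0 0 (vqc0 0 vqc1))))))))) (vqc0 (vqc0 1 (vqc0 0 (vqc0 2 (vqc0 2 (vqc0 2 (vqc0 2 (vqc0 2 (vqc0 2 (vqc0 0 vqc1))))))))) (vqc0 (vqc0 2 (vqc0 2 (vqc0 0 (vqc0 1 (vqc0 0 (vqc0 0 (vqc0 0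 (vqc0 1 (vqc0 2 vqc1))))))))) (vqc0 (vqc0 1 (vqc0 1 (vqc0 0 (vqc0 0 (vqc0 1 (vqc0 2 (vqc0 0 (vqc0 1 (vqc0 0 vqc1))))))))) (vqc0 (vqc0 2 (vqc0 2 (vqc0 2 (vqc0 0 (vqc0 2 (vqc0 1 (vqc0 0 (vqc0 0 (vqc0 1 vqc1))))))))) vqc1))))))))))
    [6157, 10157] (by decide +kernel)

theorem a179 : Ok 215 38027985708237103628882 :=
  ok_of (beta% delta% lq26c8b9c1d715 fun vqc0 vqc1 _ _ _ _ _ =>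
      (vqc0 (vqc0 2 (vqc0 2 (vqc0 2 (vqc0 1 (vqc0 2 (vqc0 2 (vqc0 0 (vqc0 1 (vqc0 1 vqc1))))))))) (vqc0 (vqc0 0 (vqc0 1 (vqc0 2 (vqc0 2 (vqc0 0 (vqc0 0 (vqc0 0 (vqc0 0 (vqc0 2 vqc1))))))))) (vqc0 (vqc0 1 (vqc0 0 (vqc0 0 (vqc0 0 (vqc0 2 (vqc0 2 (vqc0 1 (vqc0 0 (vqc0 1 vqc1))))))))) (vqc0 (vqc0 1 (vqc0 1 (vqc0 0 (vqc0 0 (vqc0 1 (vqc0 0 (vqc0 2 (vqc0 0 (vqc0 1 vqc1))))))))) (vqc0 (vqc0 1 (vqc0 1 (vqc0 0 (vqc0 0 (vqc0 2 (vqc0 0 (vqc0 0 (vqc0 0 (vqc0 1 vqc1))))))))) (vqc0 (vqc0 2 (vqc0 2 (vqc0 2 (vqc0 1 (vqc0 1 (vqc0 2 (vqc0 1 (vqc0 2 (vqc0 2 vqc1))))))))) (vqc0 (vqc0 0 (vqc0 0 (vqc0 0 (vqc0 1 (vqc0 1 (vqc0 2 (vqc0 2 (vqc0 1 (vqc0 2 vqc1))))))))) (vqc0 (vqc0 1 (vqc0 0 (vqc0 1 (vqc0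 1 (vqc0 2 (vqc0 0 (vqc0 1 (vqc0 0 (vqc0 2 vqc1))))))))) (vqc0 (vqc0 0 (vqc0 2 (vqc0 2 (vqc0 0 (vqc0 0 (vqc0 0 (vqc0 2 (vqc0 0 (vqc0 1 vqc1))))))))) vqc1))))))))))
    (beta% delta% lq26c8b9c1d715 fun vqc0 vqc1 _ _ _ _ _ =>
        (vqc0 (vqc0 0 (vqc0 2 (vqc0 0 (vqc0 0 (vqc0 1 (vqc0 0 (vqc0 2 (vqc0 2 (vqc0 1 vqc1))))))))) (vqc0 (vqc0 0 (vqc0 2 (vqc0 0 (vqc0 1 (vqc0 0 (vqc0 1 (vqc0 1 (vqc0 1 (vqc0 2 vqc1))))))))) (vqc0 (vqc0 1 (vqc0 0 (vqc0 2 (vqc0 1 (vqc0 2 (vqc0 1 (vqc0 1 (vqc0 0 (vqc0 1 vqc1))))))))) (vqc0 (vqc0 1 (vqc0 0 (vqc0 2 (vqc0 1 (vqc0 2 (vqc0 1 (vqc0 2 (vqc0 0 (vqc0 2 vqc1))))))))) (vqc0 (vqc0 2 (vqc0 0 (vqc0 1 (vqc0 2 (vqc0 2 (vqc0 1 (vqc0 0 (vqc0 1 (vqc0 2 vqc1)))))))))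 (vqc0 (vqc0 1 (vqc0 2 (vqc0 1 (vqc0 1 (vqc0 1 (vqc0 0 (vqc0 2 (vqc0 0 (vqc0 0 vqc1))))))))) (vqc0 (vqc0 0 (vqc0 0 (vqc0 2 (vqc0 0 (vqc0 1 (vqc0 0 (vqc0 2 (vqc0 2 (vqc0 1 vqc1))))))))) (vqc0 (vqc0 1 (vqc0 0 (vqc0 1 (vqc0 0 (vqc0 0 (vqc0 1 (vqc0 1 (vqc0 1 (vqc0 2 vqc1))))))))) (vqc0 (vqc0 0 (vqc0 1 (vqc0 1 (vqc0 0 (vqc0 0 (vqc0 2 (vqc0 0 (vqc0 1 (vqc0 2 vqc1))))))))) vqc1))))))))))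
    [18796, 2308] (by decide +kernel)

theorem a180 : Ok 2591 38152478431145570140754 :=
  ok_of (beta% delta% lq26c8b9c1d715 fun vqc0 vqc1 _ _ _ _ _ =>
      (vqc0 (vqc0 0 (vqc0 1 (vqc0 2 (vqc0 2 (vqc0 0 (vqc0 1 (vqc0 2 (vqc0 1 (vqc0 0 vqc1))))))))) (vqc0 (vqc0 0 (vqc0 1 (vqc0 1 (vqc0 1 (vqc0 2 (vqc0 0 (vqc0 1 (vqc0 0 (vqc0 2 vqc1))))))))) (vqc0 (vqc0 1 (vqc0 0 (vqc0 1 (vqc0 0 (vqc0 1 (vqc0 1 (vqc0 0 (vqc0 1 (vqc0 2 vqc1))))))))) (vqc0 (vqc0 0 (vqc0 1 (vqc0 0 (vqc0 0 (vqc0 1 (vqc0 0 (vqc0 2 (vqc0 0 (vqc0 0 vqc1))))))))) (vqc0 (vqc0 1 (vqc0 2 (vqc0 2 (vqc0 0 (vqc0 0 (vqc0 0 (vqc0 2 (vqc0 1 (vqc0 1 vqc1))))))))) (vqc0 (vqc0 1 (vqc0 1 (vqc0 0 (vqc0 0 (vqc0 0 (vqc0 2 (vqc0 2 (vqc0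 0 (vqc0 2 vqc1))))))))) (vqc0 (vqc0 2 (vqc0 0 (vqc0 2 (vqc0 2 (vqc0 0 (vqc0 1 (vqc0 2 (vqc0 0 (vqc0 2 vqc1))))))))) (vqc0 (vqc0 0 (vqc0 0 (vqc0 2 (vqc0 1 (vqc0 2 (vqc0 1 (vqc0 2 (vqc0 1 (vqc0 0 vqc1))))))))) (vqc0 (vqc0 2 (vqc0 0 (vqc0 0 (vqc0 2 (vqc0 2 (vqc0 1 (vqc0 1 (vqc0 0 (vqc0 0 vqc1))))))))) vqc1))))))))))
    (beta% delta% lq26c8b9c1d715 fun vqc0 vqc1 _ _ _ _ _ =>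
        (vqc0 (vqc0 0 (vqc0 0 (vqc0 1 (vqc0 1 (vqc0 1 (vqc0 0 (vqc0 2 (vqc0 0 (vqc0 2 vqc1))))))))) (vqc0 (vqc0 2 (vqc0 0 (vqc0 1 (vqc0 0 (vqc0 2 (vqc0 2 (vqc0 1 (vqc0 0 (vqc0 2 vqc1))))))))) (vqc0 (vqc0 0 (vqc0 0 (vqc0 1 (vqc0 0 (vqc0 0 (vqc0 0 (vqc0 2 (vqc0 2 (vqc0 2 vqc1))))))))) (vqc0 (vqc0 1 (vqc0 1 (vqc0 1 (vqc0 0 (vqc0 1 (vqc0 0 (vqc0 1 (vqc0 0 (vqc0 1 vqc1))))))))) (vqc0 (vqc0 0 (vqc0 2 (vqc0 0 (vqc0 2 (vqc0 2 (vqc0 0 (vqc0 0 (vqc0 2 (vqc0 0 vqc1))))))))) (vqc0 (vqc0 2 (vqc0 1 (vqc0 1 (vqc0 0 (vqc0 2 (vqc0 1 (vqc0 1 (vqc0 0 (vqc0 2 vqc1))))))))) (vqc0 (vqc0 0 (vqc0 2 (vqc0 1 (vqc0 1 (vqc0 0 (vqc0 2 (vqc0 0 (vqc0 2 (vqc0 2 vqc1))))))))) (vqc0 (vqc0 0 (vqc0 1 (vqc0 1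 (vqc0 0 (vqc0 0 (vqc0 2 (vqc0 0 (vqc0 0 (vqc0 0 vqc1))))))))) (vqc0 (vqc0 0 (vqc0 1 (vqc0 0 (vqc0 0 (vqc0 0 (vqc0 1 (vqc0 2 (vqc0 0 (vqc0 1 vqc1))))))))) vqc1))))))))))
    [6531, 6635, 18030] (by decide +kernel)

end Cfsg.Agent.H651.O9
end

-- part: H651/O9/D9
section
/-!
# Classes of the orthogonal group in dimension 9 over the field with three elements, part 9 (helper651)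
-/

set_option autoImplicit false
set_option exponentiation.threshold 30000
set_option maxRecDepth 100000

namespace Cfsg.Agent.H651.O9

theorem a181 : Ok 15551 37778931863652951721826 :=
  ok_of (beta% delta% lq26c8b9c1d715 fun vqc0 vqc1 _ _ _ _ _ =>
      (vqc0 (vqc0 2 (vqc0 2 (vqc0 0 (vqc0 2 (vqc0 0 (vqc0 1 (vqc0 1 (vqc0 0 (vqc0 1 vqc1))))))))) (vqc0 (vqc0 0 (vqc0 1 (vqc0 0 (vqc0 0 (vqc0 1 (vqc0 1 (vqc0 1 (vqc0 0 (vqc0 1 vqc1))))))))) (vqc0 (vqc0 2 (vqc0 2 (vqc0 2 (vqc0 2 (vqc0 2 (vqc0 1 (vqc0 0 (vqc0 0 (vqc0 1 vqc1))))))))) (vqc0 (vqc0 0 (vqc0 1 (vqc0 0 (vqc0 2 (vqc0 0 (vqc0 2 (vqc0 0 (vqc0 1 (vqc0 0 vqc1))))))))) (vqc0 (vqc0 1 (vqc0 0 (vqc0 1 (vqc0 2 (vqc0 2 (vqc0 0 (vqc0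 2 (vqc0 1 (vqc0 2 vqc1))))))))) (vqc0 (vqc0 1 (vqc0 2 (vqc0 1 (vqc0 1 (vqc0 2 (vqc0 1 (vqc0 2 (vqc0 1 (vqc0 1 vqc1))))))))) (vqc0 (vqc0 1 (vqc0 2 (vqc0 2 (vqc0 1 (vqc0 0 (vqc0 0 (vqc0 1 (vqc0 2 (vqc0 0 vqc1))))))))) (vqc0 (vqc0 2 (vqc0 0 (vqc0 0 (vqc0 0 (vqc0 0 (vqc0 2 (vqc0 1 (vqc0 1 (vqc0 1 vqc1))))))))) (vqc0 (vqc0 0 (vqc0 2 (vqc0 1 (vqc0 0 (vqc0 2 (vqc0 0 (vqc0 0 (vqc0 0 (vqc0 1 vqc1))))))))) vqc1))))))))))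
    (beta% delta% lq26c8b9c1d715 fun vqc0 vqc1 _ _ _ _ _ =>
        (vqc0 (vqc0 1 (vqc0 1 (vqc0 2 (vqc0 0 (vqc0 0 (vqc0 0 (vqc0 1 (vqc0 2 (vqc0 0 vqc1))))))))) (vqc0 (vqc0 1 (vqc0 2 (vqc0 2 (vqc0 1 (vqc0 2 (vqc0 2 (vqc0 2 (vqc0 1 (vqc0 1 vqc1))))))))) (vqc0 (vqc0 2 (vqc0 2 (vqc0 2 (vqc0 1 (vqc0 1 (vqc0 0 (vqc0 0 (vqc0 0 (vqc0 0 vqc1))))))))) (vqc0 (vqc0 2 (vqc0 1 (vqc0 2 (vqc0 1 (vqc0 0 (vqc0 0 (vqc0 2 (vqc0 0 (vqc0 1 vqc1))))))))) (vqc0 (vqc0 2 (vqc0 0 (vqc0 2 (vqc0 2 (vqc0 0 (vqc0 2 (vqc0 0 (vqc0 0 (vqc0 1 vqc1))))))))) (vqc0 (vqc0 1 (vqc0 1 (vqc0 0 (vqc0 1 (vqc0 1 (vqc0 0 (vqc0 1 (vqc0 0 (vqc0 1 vqc1))))))))) (vqc0 (vqc0 2 (vqc0 2 (vqc0 2 (vqc0 1 (vqc0 2 (vqc0 0 (vqc0 2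 (vqc0 2 (vqc0 1 vqc1))))))))) (vqc0 (vqc0 1 (vqc0 0 (vqc0 1 (vqc0 1 (vqc0 2 (vqc0 1 (vqc0 2 (vqc0 2 (vqc0 1 vqc1))))))))) (vqc0 (vqc0 0 (vqc0 1 (vqc0 2 (vqc0 1 (vqc0 2 (vqc0 0 (vqc0 0 (vqc0 0 (vqc0 0 vqc1))))))))) vqc1))))))))))
    [13990, 14295] (by decide +kernel)

theorem a182 : Ok 186623 37778931864000886538834 :=
  ok_of (beta% delta% lq26c8b9c1d715 fun vqc0 vqc1 _ _ _ _ _ =>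
      (vqc0 (vqc0 1 (vqc0 1 (vqc0 0 (vqc0 0 (vqc0 1 (vqc0 0 (vqc0 1 (vqc0 2 (vqc0 0 vqc1))))))))) (vqc0 (vqc0 2 (vqc0 1 (vqc0 0 (vqc0 2 (vqc0 2 (vqc0 2 (vqc0 0 (vqc0 2 (vqc0 0 vqc1))))))))) (vqc0 (vqc0 0 (vqc0 1 (vqc0 1 (vqc0 0 (vqc0 2 (vqc0 2 (vqc0 0 (vqc0 0 (vqc0 1 vqc1))))))))) (vqc0 (vqc0 0 (vqc0 0 (vqc0 1 (vqc0 1 (vqc0 1 (vqc0 2 (vqc0 2 (vqc0 0 (vqc0 0 vqc1))))))))) (vqc0 (vqc0 1 (vqc0 0 (vqc0 2 (vqc0 2 (vqc0 2 (vqc0 1 (vqc0 2 (vqc0 0 (vqc0 0 vqc1))))))))) (vqc0 (vqc0 0 (vqc0 0 (vqc0 1 (vqc0 1 (vqc0 0 (vqc0 2 (vqc0 0 (vqc0 1 (vqc0 1 vqc1))))))))) (vqc0 (vqc0 2 (vqc0 2 (vqc0 0 (vqc0 2 (vqc0 1 (vqc0 0 (vqc0 2 (vqc0 1 (vqc0 0 vqc1))))))))) (vqc0 (vqc0 1 (vqc0 1 (vqc0 1 (vqc0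 2 (vqc0 2 (vqc0 1 (vqc0 2 (vqc0 2 (vqc0 0 vqc1))))))))) (vqc0 (vqc0 2 (vqc0 0 (vqc0 0 (vqc0 0 (vqc0 0 (vqc0 0 (vqc0 2 (vqc0 0 (vqc0 1 vqc1))))))))) vqc1))))))))))
    (beta% delta% lq26c8b9c1d715 fun vqc0 vqc1 _ _ _ _ _ =>
        (vqc0 (vqc0 1 (vqc0 1 (vqc0 2 (vqc0 0 (vqc0 1 (vqc0 2 (vqc0 2 (vqc0 2 (vqc0 2 vqc1))))))))) (vqc0 (vqc0 0 (vqc0 1 (vqc0 1 (vqc0 0 (vqc0 0 (vqc0 0 (vqc0 1 (vqc0 1 (vqc0 1 vqc1))))))))) (vqc0 (vqc0 0 (vqc0 0 (vqc0 2 (vqc0 1 (vqc0 0 (vqc0 0 (vqc0 2 (vqc0 1 (vqc0 2 vqc1))))))))) (vqc0 (vqc0 0 (vqc0 1 (vqc0 2 (vqc0 2 (vqc0 2 (vqc0 1 (vqc0 1 (vqc0 1 (vqc0 2 vqc1))))))))) (vqc0 (vqc0 2 (vqc0 1 (vqc0 0 (vqc0 2 (vqc0 2 (vqc0 0 (vqc0 2 (vqc0 1 (vqc0 2 vqc1)))))))))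 (vqc0 (vqc0 0 (vqc0 2 (vqc0 2 (vqc0 1 (vqc0 2 (vqc0 0 (vqc0 2 (vqc0 1 (vqc0 2 vqc1))))))))) (vqc0 (vqc0 0 (vqc0 1 (vqc0 2 (vqc0 2 (vqc0 1 (vqc0 0 (vqc0 2 (vqc0 0 (vqc0 2 vqc1))))))))) (vqc0 (vqc0 2 (vqc0 1 (vqc0 2 (vqc0 1 (vqc0 0 (vqc0 1 (vqc0 1 (vqc0 0 (vqc0 2 vqc1))))))))) (vqc0 (vqc0 0 (vqc0 1 (vqc0 1 (vqc0 0 (vqc0 1 (vqc0 0 (vqc0 1 (vqc0 2 (vqc0 0 vqc1))))))))) vqc1))))))))))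
    [11386, 9577, 11432] (by decide +kernel)

theorem a183 : Ok 104509439 37778931862957591695746 :=
  ok_of (beta% delta% lq26c8b9c1d715 fun vqc0 vqc1 _ _ _ _ _ =>
      (vqc0 (vqc0 0 (vqc0 1 (vqc0 0 (vqc0 1 (vqc0 2 (vqc0 1 (vqc0 2 (vqc0 2 (vqc0 0 vqc1))))))))) (vqc0 (vqc0 1 (vqc0 1 (vqc0 0 (vqc0 0 (vqc0 2 (vqc0 1 (vqc0 2 (vqc0 2 (vqc0 2 vqc1))))))))) (vqc0 (vqc0 2 (vqc0 0 (vqc0 1 (vqc0 1 (vqc0 1 (vqc0 2 (vqc0 1 (vqc0 1 (vqc0 2 vqc1))))))))) (vqc0 (vqc0 2 (vqc0 1 (vqc0 1 (vqc0 1 (vqc0 1 (vqc0 1 (vqc0 1 (vqc0 2 (vqc0 0 vqc1))))))))) (vqc0 (vqc0 0 (vqc0 1 (vqc0 0 (vqc0 2 (vqc0 1 (vqc0 1 (vqc0 0 (vqc0 0 (vqc0 1 vqc1))))))))) (vqc0 (vqc0 0 (vqc0 2 (vqc0 1 (vqc0 1 (vqc0 1 (vqc0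 0 (vqc0 0 (vqc0 2 (vqc0 1 vqc1))))))))) (vqc0 (vqc0 0 (vqc0 2 (vqc0 0 (vqc0 1 (vqc0 0 (vqc0 1 (vqc0 1 (vqc0 1 (vqc0 2 vqc1))))))))) (vqc0 (vqc0 0 (vqc0 2 (vqc0 1 (vqc0 1 (vqc0 2 (vqc0 1 (vqc0 1 (vqc0 1 (vqc0 1 vqc1))))))))) (vqc0 (vqc0 2 (vqc0 2 (vqc0 1 (vqc0 2 (vqc0 0 (vqc0 1 (vqc0 0 (vqc0 2 (vqc0 1 vqc1))))))))) vqc1))))))))))
    (beta% delta% lq26c8b9c1d715 fun vqc0 vqc1 _ _ _ _ _ =>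
        (vqc0 (vqc0 0 (vqc0 2 (vqc0 1 (vqc0 1 (vqc0 2 (vqc0 1 (vqc0 1 (vqc0 1 (vqc0 2 vqc1))))))))) (vqc0 (vqc0 1 (vqc0 0 (vqc0 2 (vqc0 0 (vqc0 1 (vqc0 0 (vqc0 2 (vqc0 2 (vqc0 2 vqc1))))))))) (vqc0 (vqc0 2 (vqc0 0 (vqc0 1 (vqc0 2 (vqc0 0 (vqc0 0 (vqc0 2 (vqc0 1 (vqc0 1 vqc1))))))))) (vqc0 (vqc0 0 (vqc0 2 (vqc0 2 (vqc0 0 (vqc0 0 (vqc0 1 (vqc0 2 (vqc0 2 (vqc0 2 vqc1))))))))) (vqc0 (vqc0 2 (vqc0 2 (vqc0 2 (vqc0 0 (vqc0 0 (vqc0 2 (vqc0 0 (vqc0 0 (vqc0 1 vqc1))))))))) (vqc0 (vqc0 2 (vqc0 2 (vqc0 2 (vqc0 1 (vqc0 2 (vqc0 1 (vqc0 2 (vqc0 1 (vqc0 2 vqc1))))))))) (vqc0 (vqc0 0 (vqc0 0 (vqc0 2 (vqc0 2 (vqc0 1 (vqc0 1 (vqc0 1 (vqc0 1 (vqc0 0 vqc1))))))))) (vqc0 (vqc0 2 (vqc0 1 (vqc0 1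 (vqc0 2 (vqc0 2 (vqc0 2 (vqc0 1 (vqc0 2 (vqc0 1 vqc1))))))))) (vqc0 (vqc0 2 (vqc0 1 (vqc0 2 (vqc0 1 (vqc0 2 (vqc0 2 (vqc0 2 (vqc0 0 (vqc0 0 vqc1))))))))) vqc1))))))))))
    [14564, 6227, 7629, 16790] (by decide +kernel)

theorem a184 : Ok 163 38062559209238401384694 :=
  ok_of (beta% delta% lq26c8b9c1d715 fun vqc0 vqc1 _ _ _ _ _ =>
      (vqc0 (vqc0 0 (vqc0 2 (vqc0 2 (vqc0 1 (vqc0 2 (vqc0 2 (vqc0 0 (vqc0 0 (vqc0 0 vqc1))))))))) (vqc0 (vqc0 0 (vqc0 2 (vqc0 0 (vqc0 1 (vqc0 0 (vqc0 1 (vqc0 0 (vqc0 1 (vqc0 0 vqc1))))))))) (vqc0 (vqc0 0 (vqc0 0 (vqc0 1 (vqc0 0 (vqc0 1 (vqc0 0 (vqc0 1 (vqc0 1 (vqc0 1 vqc1))))))))) (vqc0 (vqc0 1 (vqc0 1 (vqc0 2 (vqc0 1 (vqc0 0 (vqc0 0 (vqc0 2 (vqc0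 2 (vqc0 2 vqc1))))))))) (vqc0 (vqc0 2 (vqc0 0 (vqc0 1 (vqc0 1 (vqc0 1 (vqc0 0 (vqc0 0 (vqc0 1 (vqc0 1 vqc1))))))))) (vqc0 (vqc0 0 (vqc0 0 (vqc0 2 (vqc0 0 (vqc0 1 (vqc0 1 (vqc0 0 (vqc0 1 (vqc0 1 vqc1))))))))) (vqc0 (vqc0 1 (vqc0 0 (vqc0 0 (vqc0 1 (vqc0 2 (vqc0 2 (vqc0 2 (vqc0 0 (vqc0 1 vqc1))))))))) (vqc0 (vqc0 1 (vqc0 2 (vqc0 2 (vqc0 2 (vqc0 1 (vqc0 1 (vqc0 1 (vqc0 0 (vqc0 2 vqc1))))))))) (vqc0 (vqc0 2 (vqc0 1 (vqc0 1 (vqc0 0 (vqc0 0 (vqc0 2 (vqc0 1 (vqc0 0 (vqc0 0 vqc1))))))))) vqc1))))))))))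
    (beta% delta% lq26c8b9c1d715 fun vqc0 vqc1 _ _ _ _ _ =>
        (vqc0 (vqc0 1 (vqc0 1 (vqc0 0 (vqc0 0 (vqc0 2 (vqc0 0 (vqc0 0 (vqc0 2 (vqc0 1 vqc1))))))))) (vqc0 (vqc0 1 (vqc0 1 (vqc0 2 (vqc0 2 (vqc0 1 (vqc0 1 (vqc0 2 (vqc0 2 (vqc0 2 vqc1))))))))) (vqc0 (vqc0 0 (vqc0 1 (vqc0 1 (vqc0 0 (vqc0 1 (vqc0 1 (vqc0 1 (vqc0 0 (vqc0 1 vqc1))))))))) (vqc0 (vqc0 1 (vqc0 1 (vqc0 2 (vqc0 0 (vqc0 0 (vqc0 0 (vqc0 0 (vqc0 2 (vqc0 1 vqc1))))))))) (vqc0 (vqc0 0 (vqc0 2 (vqc0 2 (vqc0 2 (vqc0 1 (vqc0 2 (vqc0 0 (vqc0 1 (vqc0 0 vqc1))))))))) (vqc0 (vqc0 1 (vqc0 1 (vqc0 2 (vqc0 2 (vqc0 2 (vqc0 2 (vqc0 0 (vqc0 2 (vqc0 0 vqc1))))))))) (vqc0 (vqc0 2 (vqc0 2 (vqc0 0 (vqc0 1 (vqc0 0 (vqc0 1 (vqc0 2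 (vqc0 0 (vqc0 2 vqc1))))))))) (vqc0 (vqc0 1 (vqc0 0 (vqc0 2 (vqc0 2 (vqc0 2 (vqc0 2 (vqc0 2 (vqc0 2 (vqc0 0 vqc1))))))))) (vqc0 (vqc0 0 (vqc0 1 (vqc0 0 (vqc0 0 (vqc0 2 (vqc0 0 (vqc0 2 (vqc0 0 (vqc0 1 vqc1))))))))) vqc1))))))))))
    [8587, 8470] (by decide +kernel)

theorem a185 : Ok 163 38062550553882867532022 :=
  ok_of (beta% delta% lq26c8b9c1d715 fun vqc0 vqc1 _ _ _ _ _ =>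
      (vqc0 (vqc0 2 (vqc0 1 (vqc0 1 (vqc0 1 (vqc0 0 (vqc0 1 (vqc0 0 (vqc0 2 (vqc0 0 vqc1))))))))) (vqc0 (vqc0 1 (vqc0 1 (vqc0 2 (vqc0 0 (vqc0 0 (vqc0 2 (vqc0 1 (vqc0 2 (vqc0 0 vqc1))))))))) (vqc0 (vqc0 2 (vqc0 1 (vqc0 1 (vqc0 0 (vqc0 0 (vqc0 2 (vqc0 2 (vqc0 2 (vqc0 0 vqc1))))))))) (vqc0 (vqc0 2 (vqc0 1 (vqc0 1 (vqc0 0 (vqc0 2 (vqc0 2 (vqc0 1 (vqc0 0 (vqc0 0 vqc1))))))))) (vqc0 (vqc0 1 (vqc0 2 (vqc0 0 (vqc0 0 (vqc0 1 (vqc0 2 (vqc0 0 (vqc0 1 (vqc0 1 vqc1))))))))) (vqc0 (vqc0 1 (vqc0 2 (vqc0 0 (vqc0 0 (vqc0 1 (vqc0 2 (vqc0 0 (vqc0 1 (vqc0 2 vqc1))))))))) (vqc0 (vqc0 1 (vqc0 1 (vqc0 1 (vqc0 0 (vqc0 0 (vqc0 2 (vqc0 1 (vqc0 2 (vqc0 0 vqc1))))))))) (vqc0 (vqc0 0 (vqc0 1 (vqc0 0 (vqc0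 2 (vqc0 1 (vqc0 1 (vqc0 2 (vqc0 1 (vqc0 0 vqc1))))))))) (vqc0 (vqc0 1 (vqc0 1 (vqc0 0 (vqc0 0 (vqc0 2 (vqc0 0 (vqc0 2 (vqc0 2 (vqc0 0 vqc1))))))))) vqc1))))))))))
    (beta% delta% lq26c8b9c1d715 fun vqc0 vqc1 _ _ _ _ _ =>
        (vqc0 (vqc0 2 (vqc0 1 (vqc0 0 (vqc0 0 (vqc0 2 (vqc0 2 (vqc0 0 (vqc0 0 (vqc0 0 vqc1))))))))) (vqc0 (vqc0 1 (vqc0 1 (vqc0 1 (vqc0 1 (vqc0 1 (vqc0 1 (vqc0 1 (vqc0 1 (vqc0 1 vqc1))))))))) (vqc0 (vqc0 1 (vqc0 0 (vqc0 2 (vqc0 1 (vqc0 1 (vqc0 0 (vqc0 2 (vqc0 2 (vqc0 0 vqc1))))))))) (vqc0 (vqc0 0 (vqc0 2 (vqc0 0 (vqc0 1 (vqc0 0 (vqc0 1 (vqc0 2 (vqc0 2 (vqc0 1 vqc1))))))))) (vqc0 (vqc0 2 (vqc0 0 (vqc0 1 (vqc0 0 (vqc0 1 (vqc0 1 (vqc0 0 (vqc0 2 (vqc0 2 vqc1)))))))))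 (vqc0 (vqc0 2 (vqc0 0 (vqc0 1 (vqc0 0 (vqc0 2 (vqc0 0 (vqc0 1 (vqc0 0 (vqc0 0 vqc1))))))))) (vqc0 (vqc0 2 (vqc0 2 (vqc0 1 (vqc0 0 (vqc0 2 (vqc0 1 (vqc0 1 (vqc0 0 (vqc0 0 vqc1))))))))) (vqc0 (vqc0 0 (vqc0 1 (vqc0 0 (vqc0 0 (vqc0 1 (vqc0 1 (vqc0 0 (vqc0 2 (vqc0 1 vqc1))))))))) (vqc0 (vqc0 0 (vqc0 0 (vqc0 2 (vqc0 1 (vqc0 0 (vqc0 0 (vqc0 2 (vqc0 2 (vqc0 2 vqc1))))))))) vqc1))))))))))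
    [1621] (by decide +kernel)

theorem a186 : Ok 163 38346177899371685741282 :=
  ok_of (beta% delta% lq26c8b9c1d715 fun vqc0 vqc1 _ _ _ _ _ =>
      (vqc0 (vqc0 1 (vqc0 1 (vqc0 1 (vqc0 2 (vqc0 2 (vqc0 0 (vqc0 1 (vqc0 1 (vqc0 1 vqc1))))))))) (vqc0 (vqc0 0 (vqc0 2 (vqc0 0 (vqc0 0 (vqc0 1 (vqc0 2 (vqc0 2 (vqc0 1 (vqc0 1 vqc1))))))))) (vqc0 (vqc0 2 (vqc0 0 (vqc0 2 (vqc0 0 (vqc0 1 (vqc0 0 (vqc0 0 (vqc0 0 (vqc0 0 vqc1))))))))) (vqc0 (vqc0 1 (vqc0 1 (vqc0 2 (vqc0 2 (vqc0 0 (vqc0 1 (vqc0 1 (vqc0 1 (vqc0 0 vqc1))))))))) (vqc0 (vqc0 2 (vqc0 0 (vqc0 1 (vqc0 0 (vqc0 0 (vqc0 0 (vqc0 2 (vqc0 0 (vqc0 0 vqc1))))))))) (vqc0 (vqc0 2 (vqc0 2 (vqc0 1 (vqc0 2 (vqc0 0 (vqc0 1 (vqc0 0 (vqc0 2 (vqc0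 0 vqc1))))))))) (vqc0 (vqc0 1 (vqc0 1 (vqc0 2 (vqc0 1 (vqc0 2 (vqc0 2 (vqc0 2 (vqc0 0 (vqc0 2 vqc1))))))))) (vqc0 (vqc0 0 (vqc0 2 (vqc0 2 (vqc0 1 (vqc0 1 (vqc0 0 (vqc0 1 (vqc0 2 (vqc0 2 vqc1))))))))) (vqc0 (vqc0 0 (vqc0 2 (vqc0 0 (vqc0 1 (vqc0 2 (vqc0 0 (vqc0 1 (vqc0 2 (vqc0 0 vqc1))))))))) vqc1))))))))))
    (beta% delta% lq26c8b9c1d715 fun vqc0 vqc1 _ _ _ _ _ =>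
        (vqc0 (vqc0 1 (vqc0 0 (vqc0 0 (vqc0 0 (vqc0 1 (vqc0 2 (vqc0 2 (vqc0 1 (vqc0 1 vqc1))))))))) (vqc0 (vqc0 1 (vqc0 0 (vqc0 2 (vqc0 0 (vqc0 0 (vqc0 0 (vqc0 1 (vqc0 0 (vqc0 0 vqc1))))))))) (vqc0 (vqc0 2 (vqc0 0 (vqc0 0 (vqc0 1 (vqc0 2 (vqc0 2 (vqc0 0 (vqc0 1 (vqc0 1 vqc1))))))))) (vqc0 (vqc0 1 (vqc0 0 (vqc0 0 (vqc0 0 (vqc0 1 (vqc0 1 (vqc0 2 (vqc0 0 (vqc0 1 vqc1))))))))) (vqc0 (vqc0 0 (vqc0 1 (vqc0 0 (vqc0 1 (vqc0 0 (vqc0 2 (vqc0 0 (vqc0 0 (vqc0 0 vqc1))))))))) (vqc0 (vqc0 0 (vqc0 2 (vqc0 1 (vqc0 1 (vqc0 0 (vqc0 1 (vqc0 0 (vqc0 2 (vqc0 2 vqc1))))))))) (vqc0 (vqc0 0 (vqc0 2 (vqc0 2 (vqc0 1 (vqc0 2 (vqc0 0 (vqc0 1 (vqc0 2 (vqc0 1 vqc1))))))))) (vqc0 (vqc0 2 (vqc0 1 (vqc0 0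 (vqc0 0 (vqc0 2 (vqc0 0 (vqc0 1 (vqc0 2 (vqc0 2 vqc1))))))))) (vqc0 (vqc0 0 (vqc0 1 (vqc0 0 (vqc0 2 (vqc0 0 (vqc0 1 (vqc0 0 (vqc0 1 (vqc0 2 vqc1))))))))) vqc1))))))))))
    [14526, 5279] (by decide +kernel)

theorem a187 : Ok 163 37778940519105117029090 :=
  ok_of (beta% delta% lq26c8b9c1d715 fun vqc0 vqc1 _ _ _ _ _ =>
      (vqc0 (vqc0 0 (vqc0 0 (vqc0 1 (vqc0 1 (vqc0 2 (vqc0 0 (vqc0 2 (vqc0 1 (vqc0 0 vqc1))))))))) (vqc0 (vqc0 0 (vqc0 1 (vqc0 1 (vqc0 1 (vqc0 0 (vqc0 1 (vqc0 0 (vqc0 0 (vqc0 1 vqc1))))))))) (vqc0 (vqc0 2 (vqc0 1 (vqc0 2 (vqc0 0 (vqc0 0 (vqc0 0 (vqc0 2 (vqc0 1 (vqc0 2 vqc1))))))))) (vqc0 (vqc0 1 (vqc0 2 (vqc0 2 (vqc0 1 (vqc0 1 (vqc0 1 (vqc0 2 (vqc0 1 (vqc0 1 vqc1)))))))))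 (vqc0 (vqc0 1 (vqc0 2 (vqc0 2 (vqc0 0 (vqc0 2 (vqc0 1 (vqc0 2 (vqc0 0 (vqc0 1 vqc1))))))))) (vqc0 (vqc0 1 (vqc0 1 (vqc0 1 (vqc0 1 (vqc0 2 (vqc0 1 (vqc0 2 (vqc0 0 (vqc0 1 vqc1))))))))) (vqc0 (vqc0 1 (vqc0 0 (vqc0 0 (vqc0 2 (vqc0 2 (vqc0 1 (vqc0 1 (vqc0 2 (vqc0 1 vqc1))))))))) (vqc0 (vqc0 1 (vqc0 0 (vqc0 1 (vqc0 0 (vqc0 1 (vqc0 0 (vqc0 2 (vqc0 0 (vqc0 0 vqc1))))))))) (vqc0 (vqc0 1 (vqc0 2 (vqc0 2 (vqc0 1 (vqc0 0 (vqc0 1 (vqc0 2 (vqc0 1 (vqc0 2 vqc1))))))))) vqc1))))))))))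
    (beta% delta% lq26c8b9c1d715 fun vqc0 vqc1 _ _ _ _ _ =>
        (vqc0 (vqc0 0 (vqc0 1 (vqc0 2 (vqc0 2 (vqc0 1 (vqc0 1 (vqc0 2 (vqc0 2 (vqc0 0 vqc1))))))))) (vqc0 (vqc0 2 (vqc0 2 (vqc0 1 (vqc0 1 (vqc0 0 (vqc0 1 (vqc0 2 (vqc0 1 (vqc0 1 vqc1))))))))) (vqc0 (vqc0 0 (vqc0 1 (vqc0 2 (vqc0 2 (vqc0 1 (vqc0 2 (vqc0 2 (vqc0 0 (vqc0 0 vqc1))))))))) (vqc0 (vqc0 2 (vqc0 0 (vqc0 0 (vqc0 0 (vqc0 1 (vqc0 1 (vqc0 0 (vqc0 1 (vqc0 2 vqc1))))))))) (vqc0 (vqc0 0 (vqc0 2 (vqc0 2 (vqc0 0 (vqc0 0 (vqc0 2 (vqc0 0 (vqc0 0 (vqc0 0 vqc1))))))))) (vqc0 (vqc0 1 (vqc0 0 (vqc0 1 (vqc0 2 (vqc0 2 (vqc0 2 (vqc0 1 (vqc0 1 (vqc0 2 vqc1))))))))) (vqc0 (vqc0 2 (vqc0 1 (vqc0 2 (vqc0 1 (vqc0 0 (vqc0 0 (vqc0 0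 (vqc0 2 (vqc0 2 vqc1))))))))) (vqc0 (vqc0 2 (vqc0 2 (vqc0 0 (vqc0 1 (vqc0 0 (vqc0 0 (vqc0 0 (vqc0 1 (vqc0 1 vqc1))))))))) (vqc0 (vqc0 2 (vqc0 2 (vqc0 2 (vqc0 0 (vqc0 1 (vqc0 2 (vqc0 2 (vqc0 1 (vqc0 0 vqc1))))))))) vqc1))))))))))
    [174, 1794] (by decide +kernel)

theorem a188 : Ok 163 38062567864593935237366 :=
  ok_of (beta% delta% lq26c8b9c1d715 fun vqc0 vqc1 _ _ _ _ _ =>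
      (vqc0 (vqc0 1 (vqc0 0 (vqc0 1 (vqc0 2 (vqc0 1 (vqc0 0 (vqc0 2 (vqc0 1 (vqc0 1 vqc1))))))))) (vqc0 (vqc0 0 (vqc0 0 (vqc0 1 (vqc0 0 (vqc0 2 (vqc0 0 (vqc0 1 (vqc0 1 (vqc0 2 vqc1))))))))) (vqc0 (vqc0 2 (vqc0 1 (vqc0 1 (vqc0 1 (vqc0 0 (vqc0 0 (vqc0 2 (vqc0 0 (vqc0 0 vqc1))))))))) (vqc0 (vqc0 2 (vqc0 0 (vqc0 0 (vqc0 1 (vqc0 0 (vqc0 1 (vqc0 2 (vqc0 2 (vqc0 1 vqc1))))))))) (vqc0 (vqc0 1 (vqc0 1 (vqc0 0 (vqc0 2 (vqc0 1 (vqc0 2 (vqc0 2 (vqc0 2 (vqc0 1 vqc1))))))))) (vqc0 (vqc0 2 (vqc0 1 (vqc0 0 (vqc0 2 (vqc0 1 (vqc0 2 (vqc0 2 (vqc0 0 (vqc0 2 vqc1))))))))) (vqc0 (vqc0 2 (vqc0 0 (vqc0 1 (vqc0 1 (vqc0 2 (vqc0 1 (vqc0 1 (vqc0 1 (vqc0 2 vqc1))))))))) (vqc0 (vqc0 0 (vqc0 1 (vqc0 0 (vqc0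 1 (vqc0 2 (vqc0 2 (vqc0 0 (vqc0 0 (vqc0 2 vqc1))))))))) (vqc0 (vqc0 0 (vqc0 2 (vqc0 1 (vqc0 0 (vqc0 1 (vqc0 0 (vqc0 1 (vqc0 2 (vqc0 0 vqc1))))))))) vqc1))))))))))
    (beta% delta% lq26c8b9c1d715 fun vqc0 vqc1 _ _ _ _ _ =>
        (vqc0 (vqc0 1 (vqc0 2 (vqc0 0 (vqc0 2 (vqc0 0 (vqc0 2 (vqc0 2 (vqc0 2 (vqc0 0 vqc1))))))))) (vqc0 (vqc0 1 (vqc0 2 (vqc0 1 (vqc0 1 (vqc0 0 (vqc0 0 (vqc0 1 (vqc0 1 (vqc0 2 vqc1))))))))) (vqc0 (vqc0 2 (vqc0 2 (vqc0 2 (vqc0 2 (vqc0 1 (vqc0 2 (vqc0 0 (vqc0 0 (vqc0 1 vqc1))))))))) (vqc0 (vqc0 2 (vqc0 2 (vqc0 2 (vqc0 1 (vqc0 1 (vqc0 0 (vqc0 0 (vqc0 0 (vqc0 0 vqc1))))))))) (vqc0 (vqc0 2 (vqc0 1 (vqc0 2 (vqc0 0 (vqc0 0 (vqc0 1 (vqc0 2 (vqc0 1 (vqc0 1 vqc1)))))))))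 (vqc0 (vqc0 2 (vqc0 1 (vqc0 0 (vqc0 0 (vqc0 2 (vqc0 0 (vqc0 1 (vqc0 2 (vqc0 2 vqc1))))))))) (vqc0 (vqc0 1 (vqc0 0 (vqc0 0 (vqc0 0 (vqc0 2 (vqc0 1 (vqc0 2 (vqc0 1 (vqc0 2 vqc1))))))))) (vqc0 (vqc0 1 (vqc0 0 (vqc0 1 (vqc0 1 (vqc0 0 (vqc0 1 (vqc0 1 (vqc0 0 (vqc0 2 vqc1))))))))) (vqc0 (vqc0 1 (vqc0 0 (vqc0 1 (vqc0 2 (vqc0 2 (vqc0 2 (vqc0 0 (vqc0 2 (vqc0 1 vqc1))))))))) vqc1))))))))))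
    [18805, 1615] (by decide +kernel)

theorem a189 : Ok 159 37889615705717614838000 :=
  ok_of (beta% delta% lq26c8b9c1d715 fun vqc0 vqc1 _ _ _ _ _ =>
      (vqc0 (vqc0 1 (vqc0 1 (vqc0 2 (vqc0 1 (vqc0 1 (vqc0 0 (vqc0 0 (vqc0 0 (vqc0 0 vqc1))))))))) (vqc0 (vqc0 1 (vqc0 2 (vqc0 1 (vqc0 2 (vqc0 1 (vqc0 2 (vqc0 0 (vqc0 0 (vqc0 0 vqc1))))))))) (vqc0 (vqc0 0 (vqc0 0 (vqc0 2 (vqc0 2 (vqc0 0 (vqc0 0 (vqc0 1 (vqc0 0 (vqc0 2 vqc1))))))))) (vqc0 (vqc0 2 (vqc0 0 (vqc0 2 (vqc0 2 (vqc0 2 (vqc0 1 (vqc0 0 (vqc0 2 (vqc0 0 vqc1))))))))) (vqc0 (vqc0 2 (vqc0 1 (vqc0 0 (vqc0 0 (vqc0 2 (vqc0 0 (vqc0 1 (vqc0 2 (vqc0 2 vqc1))))))))) (vqc0 (vqc0 2 (vqc0 2 (vqc0 1 (vqc0 2 (vqc0 1 (vqc0 0 (vqc0 2 (vqc0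 0 (vqc0 0 vqc1))))))))) (vqc0 (vqc0 1 (vqc0 1 (vqc0 0 (vqc0 1 (vqc0 0 (vqc0 2 (vqc0 2 (vqc0 1 (vqc0 0 vqc1))))))))) (vqc0 (vqc0 1 (vqc0 0 (vqc0 0 (vqc0 0 (vqc0 1 (vqc0 2 (vqc0 2 (vqc0 1 (vqc0 1 vqc1))))))))) (vqc0 (vqc0 0 (vqc0 2 (vqc0 0 (vqc0 0 (vqc0 0 (vqc0 1 (vqc0 0 (vqc0 2 (vqc0 2 vqc1))))))))) vqc1))))))))))
    (beta% delta% lq26c8b9c1d715 fun vqc0 vqc1 _ _ _ _ _ =>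
        (vqc0 (vqc0 1 (vqc0 1 (vqc0 0 (vqc0 0 (vqc0 1 (vqc0 2 (vqc0 2 (vqc0 2 (vqc0 1 vqc1))))))))) (vqc0 (vqc0 0 (vqc0 0 (vqc0 2 (vqc0 1 (vqc0 2 (vqc0 2 (vqc0 0 (vqc0 2 (vqc0 0 vqc1))))))))) (vqc0 (vqc0 1 (vqc0 0 (vqc0 0 (vqc0 1 (vqc0 1 (vqc0 1 (vqc0 0 (vqc0 0 (vqc0 2 vqc1))))))))) (vqc0 (vqc0 0 (vqc0 1 (vqc0 2 (vqc0 1 (vqc0 0 (vqc0 0 (vqc0 1 (vqc0 2 (vqc0 2 vqc1))))))))) (vqc0 (vqc0 0 (vqc0 1 (vqc0 2 (vqc0 2 (vqc0 2 (vqc0 0 (vqc0 1 (vqc0 0 (vqc0 2 vqc1))))))))) (vqc0 (vqc0 0 (vqc0 1 (vqc0 0 (vqc0 1 (vqc0 1 (vqc0 0 (vqc0 1 (vqc0 1 (vqc0 2 vqc1))))))))) (vqc0 (vqc0 1 (vqc0 2 (vqc0 2 (vqc0 1 (vqc0 0 (vqc0 0 (vqc0 1 (vqc0 0 (vqc0 1 vqc1))))))))) (vqc0 (vqc0 0 (vqc0 0 (vqc0 2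 (vqc0 1 (vqc0 1 (vqc0 1 (vqc0 2 (vqc0 2 (vqc0 1 vqc1))))))))) (vqc0 (vqc0 0 (vqc0 1 (vqc0 1 (vqc0 2 (vqc0 1 (vqc0 1 (vqc0 0 (vqc0 2 (vqc0 1 vqc1))))))))) vqc1))))))))))
    [14711] (by decide +kernel)

theorem a190 : Ok 207 38138654350672356442424 :=
  ok_of (beta% delta% lq26c8b9c1d715 fun vqc0 vqc1 _ _ _ _ _ =>
      (vqc0 (vqc0 1 (vqc0 2 (vqc0 0 (vqc0 2 (vqc0 2 (vqc0 0 (vqc0 1 (vqc0 2 (vqc0 1 vqc1))))))))) (vqc0 (vqc0 1 (vqc0 0 (vqc0 2 (vqc0 0 (vqc0 0 (vqc0 0 (vqc0 2 (vqc0 2 (vqc0 1 vqc1))))))))) (vqc0 (vqc0 0 (vqc0 2 (vqc0 1 (vqc0 2 (vqc0 1 (vqc0 2 (vqc0 1 (vqc0 2 (vqc0 0 vqc1))))))))) (vqc0 (vqc0 1 (vqc0 1 (vqc0 0 (vqc0 2 (vqc0 1 (vqc0 2 (vqc0 0 (vqc0 2 (vqc0 0 vqc1)))))))))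 (vqc0 (vqc0 2 (vqc0 2 (vqc0 2 (vqc0 1 (vqc0 2 (vqc0 1 (vqc0 1 (vqc0 2 (vqc0 2 vqc1))))))))) (vqc0 (vqc0 2 (vqc0 1 (vqc0 2 (vqc0 0 (vqc0 0 (vqc0 0 (vqc0 1 (vqc0 2 (vqc0 2 vqc1))))))))) (vqc0 (vqc0 2 (vqc0 0 (vqc0 0 (vqc0 0 (vqc0 1 (vqc0 0 (vqc0 1 (vqc0 1 (vqc0 2 vqc1))))))))) (vqc0 (vqc0 1 (vqc0 2 (vqc0 1 (vqc0 1 (vqc0 0 (vqc0 2 (vqc0 1 (vqc0 0 (vqc0 0 vqc1))))))))) (vqc0 (vqc0 2 (vqc0 1 (vqc0 1 (vqc0 2 (vqc0 2 (vqc0 2 (vqc0 2 (vqc0 0 (vqc0 0 vqc1))))))))) vqc1))))))))))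
    (beta% delta% lq26c8b9c1d715 fun vqc0 vqc1 _ _ _ _ _ =>
        (vqc0 (vqc0 1 (vqc0 0 (vqc0 2 (vqc0 0 (vqc0 0 (vqc0 0 (vqc0 2 (vqc0 2 (vqc0 1 vqc1))))))))) (vqc0 (vqc0 2 (vqc0 2 (vqc0 1 (vqc0 2 (vqc0 1 (vqc0 1 (vqc0 0 (vqc0 1 (vqc0 2 vqc1))))))))) (vqc0 (vqc0 1 (vqc0 1 (vqc0 0 (vqc0 1 (vqc0 0 (vqc0 1 (vqc0 1 (vqc0 0 (vqc0 1 vqc1))))))))) (vqc0 (vqc0 2 (vqc0 0 (vqc0 0 (vqc0 2 (vqc0 2 (vqc0 0 (vqc0 1 (vqc0 0 (vqc0 0 vqc1))))))))) (vqc0 (vqc0 1 (vqc0 1 (vqc0 1 (vqc0 2 (vqc0 1 (vqc0 0 (vqc0 0 (vqc0 2 (vqc0 0 vqc1))))))))) (vqc0 (vqc0 1 (vqc0 2 (vqc0 1 (vqc0 2 (vqc0 2 (vqc0 1 (vqc0 1 (vqc0 1 (vqc0 2 vqc1))))))))) (vqc0 (vqc0 1 (vqc0 1 (vqc0 0 (vqc0 1 (vqc0 2 (vqc0 0 (vqc0 0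 (vqc0 1 (vqc0 1 vqc1))))))))) (vqc0 (vqc0 2 (vqc0 2 (vqc0 2 (vqc0 1 (vqc0 2 (vqc0 2 (vqc0 2 (vqc0 0 (vqc0 1 vqc1))))))))) (vqc0 (vqc0 1 (vqc0 2 (vqc0 0 (vqc0 2 (vqc0 0 (vqc0 0 (vqc0 2 (vqc0 2 (vqc0 1 vqc1))))))))) vqc1))))))))))
    [7422] (by decide +kernel)

theorem a191 : Ok 207 37958798595199921554110 :=
  ok_of (beta% delta% lq26c8b9c1d715 fun vqc0 vqc1 _ _ _ _ _ =>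
      (vqc0 (vqc0 1 (vqc0 2 (vqc0 1 (vqc0 0 (vqc0 1 (vqc0 0 (vqc0 1 (vqc0 2 (vqc0 1 vqc1))))))))) (vqc0 (vqc0 0 (vqc0 1 (vqc0 1 (vqc0 1 (vqc0 0 (vqc0 1 (vqc0 0 (vqc0 0 (vqc0 1 vqc1))))))))) (vqc0 (vqc0 2 (vqc0 0 (vqc0 1 (vqc0 1 (vqc0 0 (vqc0 0 (vqc0 0 (vqc0 2 (vqc0 2 vqc1))))))))) (vqc0 (vqc0 2 (vqc0 1 (vqc0 1 (vqc0 2 (vqc0 0 (vqc0 0 (vqc0 0 (vqc0 1 (vqc0 1 vqc1))))))))) (vqc0 (vqc0 1 (vqc0 0 (vqc0 2 (vqc0 1 (vqc0 2 (vqc0 2 (vqc0 0 (vqc0 1 (vqc0 0 vqc1))))))))) (vqc0 (vqc0 0 (vqc0 1 (vqc0 1 (vqc0 1 (vqc0 0 (vqc0 0 (vqc0 0 (vqc0 0 (vqc0 1 vqc1))))))))) (vqc0 (vqc0 0 (vqc0 1 (vqc0 1 (vqc0 1 (vqc0 0 (vqc0 1 (vqc0 0 (vqc0 2 (vqc0 1 vqc1))))))))) (vqc0 (vqc0 0 (vqc0 1 (vqc0 2 (vqc0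 1 (vqc0 0 (vqc0 1 (vqc0 2 (vqc0 2 (vqc0 0 vqc1))))))))) (vqc0 (vqc0 2 (vqc0 0 (vqc0 0 (vqc0 2 (vqc0 0 (vqc0 1 (vqc0 0 (vqc0 0 (vqc0 2 vqc1))))))))) vqc1))))))))))
    (beta% delta% lq26c8b9c1d715 fun vqc0 vqc1 _ _ _ _ _ =>
        (vqc0 (vqc0 1 (vqc0 1 (vqc0 0 (vqc0 2 (vqc0 1 (vqc0 2 (vqc0 0 (vqc0 0 (vqc0 0 vqc1))))))))) (vqc0 (vqc0 2 (vqc0 0 (vqc0 1 (vqc0 1 (vqc0 0 (vqc0 0 (vqc0 1 (vqc0 0 (vqc0 1 vqc1))))))))) (vqc0 (vqc0 1 (vqc0 0 (vqc0 1 (vqc0 2 (vqc0 2 (vqc0 2 (vqc0 1 (vqc0 1 (vqc0 2 vqc1))))))))) (vqc0 (vqc0 1 (vqc0 1 (vqc0 0 (vqc0 2 (vqc0 2 (vqc0 0 (vqc0 0 (vqc0 1 (vqc0 1 vqc1))))))))) (vqc0 (vqc0 2 (vqc0 2 (vqc0 2 (vqc0 0 (vqc0 1 (vqc0 2 (vqc0 1 (vqc0 1 (vqc0 2 vqc1)))))))))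 (vqc0 (vqc0 0 (vqc0 0 (vqc0 0 (vqc0 1 (vqc0 0 (vqc0 0 (vqc0 0 (vqc0 2 (vqc0 0 vqc1))))))))) (vqc0 (vqc0 1 (vqc0 1 (vqc0 1 (vqc0 0 (vqc0 2 (vqc0 1 (vqc0 1 (vqc0 1 (vqc0 2 vqc1))))))))) (vqc0 (vqc0 0 (vqc0 1 (vqc0 1 (vqc0 1 (vqc0 0 (vqc0 0 (vqc0 1 (vqc0 0 (vqc0 2 vqc1))))))))) (vqc0 (vqc0 0 (vqc0 1 (vqc0 2 (vqc0 0 (vqc0 2 (vqc0 0 (vqc0 2 (vqc0 0 (vqc0 2 vqc1))))))))) vqc1))))))))))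
    [2941, 8356] (by decide +kernel)

theorem a192 : Ok 239 38332346852489440526696 :=
  ok_of (beta% delta% lq26c8b9c1d715 fun vqc0 vqc1 _ _ _ _ _ =>
      (vqc0 (vqc0 1 (vqc0 2 (vqc0 1 (vqc0 2 (vqc0 0 (vqc0 2 (vqc0 0 (vqc0 1 (vqc0 1 vqc1))))))))) (vqc0 (vqc0 1 (vqc0 2 (vqc0 1 (vqc0 1 (vqc0 2 (vqc0 1 (vqc0 2 (vqc0 2 (vqc0 0 vqc1))))))))) (vqc0 (vqc0 2 (vqc0 2 (vqc0 2 (vqc0 1 (vqc0 0 (vqc0 2 (vqc0 2 (vqc0 2 (vqc0 2 vqc1))))))))) (vqc0 (vqc0 0 (vqc0 0 (vqc0 2 (vqc0 0 (vqc0 1 (vqc0 1 (vqc0 2 (vqc0 0 (vqc0 1 vqc1))))))))) (vqc0 (vqc0 0 (vqc0 0 (vqc0 2 (vqc0 2 (vqc0 0 (vqc0 0 (vqc0 1 (vqc0 0 (vqc0 2 vqc1))))))))) (vqc0 (vqc0 2 (vqc0 0 (vqc0 1 (vqc0 1 (vqc0 0 (vqc0 1 (vqc0 0 (vqc0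 2 (vqc0 2 vqc1))))))))) (vqc0 (vqc0 1 (vqc0 0 (vqc0 0 (vqc0 2 (vqc0 1 (vqc0 0 (vqc0 0 (vqc0 2 (vqc0 0 vqc1))))))))) (vqc0 (vqc0 0 (vqc0 2 (vqc0 1 (vqc0 0 (vqc0 1 (vqc0 0 (vqc0 0 (vqc0 1 (vqc0 0 vqc1))))))))) (vqc0 (vqc0 1 (vqc0 1 (vqc0 1 (vqc0 2 (vqc0 1 (vqc0 1 (vqc0 1 (vqc0 2 (vqc0 2 vqc1))))))))) vqc1))))))))))
    (beta% delta% lq26c8b9c1d715 fun vqc0 vqc1 _ _ _ _ _ =>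
        (vqc0 (vqc0 0 (vqc0 2 (vqc0 0 (vqc0 2 (vqc0 0 (vqc0 1 (vqc0 2 (vqc0 0 (vqc0 0 vqc1))))))))) (vqc0 (vqc0 0 (vqc0 1 (vqc0 0 (vqc0 0 (vqc0 1 (vqc0 1 (vqc0 1 (vqc0 0 (vqc0 2 vqc1))))))))) (vqc0 (vqc0 0 (vqc0 1 (vqc0 0 (vqc0 0 (vqc0 0 (vqc0 0 (vqc0 0 (vqc0 0 (vqc0 0 vqc1))))))))) (vqc0 (vqc0 1 (vqc0 2 (vqc0 2 (vqc0 0 (vqc0 2 (vqc0 2 (vqc0 2 (vqc0 2 (vqc0 1 vqc1))))))))) (vqc0 (vqc0 0 (vqc0 1 (vqc0 1 (vqc0 2 (vqc0 0 (vqc0 1 (vqc0 2 (vqc0 2 (vqc0 0 vqc1))))))))) (vqc0 (vqc0 0 (vqc0 0 (vqc0 1 (vqc0 2 (vqc0 2 (vqc0 0 (vqc0 1 (vqc0 1 (vqc0 0 vqc1))))))))) (vqc0 (vqc0 0 (vqc0 1 (vqc0 0 (vqc0 2 (vqc0 1 (vqc0 2 (vqc0 2 (vqc0 1 (vqc0 1 vqc1))))))))) (vqc0 (vqc0 0 (vqc0 0 (vqc0 2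 (vqc0 0 (vqc0 1 (vqc0 0 (vqc0 0 (vqc0 2 (vqc0 0 vqc1))))))))) (vqc0 (vqc0 0 (vqc0 1 (vqc0 1 (vqc0 2 (vqc0 2 (vqc0 1 (vqc0 2 (vqc0 1 (vqc0 1 vqc1))))))))) vqc1))))))))))
    [5930, 14737] (by decide +kernel)

theorem a193 : Ok 1919 38332334186231452663808 :=
  ok_of (beta% delta% lq26c8b9c1d715 fun vqc0 vqc1 _ _ _ _ _ =>
      (vqc0 (vqc0 0 (vqc0 0 (vqc0 1 (vqc0 1 (vqc0 2 (vqc0 2 (vqc0 2 (vqc0 2 (vqc0 0 vqc1))))))))) (vqc0 (vqc0 1 (vqc0 1 (vqc0 0 (vqc0 1 (vqc0 0 (vqc0 1 (vqc0 0 (vqc0 2 (vqc0 2 vqc1))))))))) (vqc0 (vqc0 2 (vqc0 2 (vqc0 1 (vqc0 1 (vqc0 0 (vqc0 2 (vqc0 1 (vqc0 2 (vqc0 1 vqc1))))))))) (vqc0 (vqc0 2 (vqc0 0 (vqc0 2 (vqc0 1 (vqc0 0 (vqc0 1 (vqc0 1 (vqc0 1 (vqc0 0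 vqc1))))))))) (vqc0 (vqc0 2 (vqc0 2 (vqc0 2 (vqc0 1 (vqc0 0 (vqc0 2 (vqc0 2 (vqc0 2 (vqc0 1 vqc1))))))))) (vqc0 (vqc0 0 (vqc0 0 (vqc0 1 (vqc0 1 (vqc0 0 (vqc0 2 (vqc0 0 (vqc0 0 (vqc0 1 vqc1))))))))) (vqc0 (vqc0 2 (vqc0 1 (vqc0 0 (vqc0 0 (vqc0 1 (vqc0 2 (vqc0 0 (vqc0 0 (vqc0 1 vqc1))))))))) (vqc0 (vqc0 0 (vqc0 1 (vqc0 1 (vqc0 1 (vqc0 1 (vqc0 1 (vqc0 1 (vqc0 2 (vqc0 2 vqc1))))))))) (vqc0 (vqc0 2 (vqc0 2 (vqc0 2 (vqc0 0 (vqc0 1 (vqc0 2 (vqc0 2 (vqc0 0 (vqc0 2 vqc1))))))))) vqc1))))))))))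
    (beta% delta% lq26c8b9c1d715 fun vqc0 vqc1 _ _ _ _ _ =>
        (vqc0 (vqc0 0 (vqc0 2 (vqc0 2 (vqc0 1 (vqc0 1 (vqc0 0 (vqc0 2 (vqc0 1 (vqc0 1 vqc1))))))))) (vqc0 (vqc0 1 (vqc0 2 (vqc0 2 (vqc0 1 (vqc0 1 (vqc0 1 (vqc0 2 (vqc0 1 (vqc0 2 vqc1))))))))) (vqc0 (vqc0 2 (vqc0 1 (vqc0 0 (vqc0 1 (vqc0 2 (vqc0 0 (vqc0 1 (vqc0 1 (vqc0 0 vqc1))))))))) (vqc0 (vqc0 0 (vqc0 0 (vqc0 0 (vqc0 2 (vqc0 1 (vqc0 2 (vqc0 2 (vqc0 1 (vqc0 2 vqc1))))))))) (vqc0 (vqc0 2 (vqc0 2 (vqc0 0 (vqc0 1 (vqc0 2 (vqc0 1 (vqc0 2 (vqc0 2 (vqc0 2 vqc1))))))))) (vqc0 (vqc0 2 (vqc0 0 (vqc0 0 (vqc0 2 (vqc0 2 (vqc0 0 (vqc0 2 (vqc0 2 (vqc0 1 vqc1))))))))) (vqc0 (vqc0 1 (vqc0 2 (vqc0 0 (vqc0 1 (vqc0 0 (vqc0 2 (vqc0 1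 (vqc0 2 (vqc0 1 vqc1))))))))) (vqc0 (vqc0 2 (vqc0 0 (vqc0 1 (vqc0 2 (vqc0 1 (vqc0 2 (vqc0 2 (vqc0 0 (vqc0 2 vqc1))))))))) (vqc0 (vqc0 0 (vqc0 1 (vqc0 2 (vqc0 1 (vqc0 1 (vqc0 1 (vqc0 0 (vqc0 0 (vqc0 1 vqc1))))))))) vqc1))))))))))
    [3582, 8710] (by decide +kernel)

end Cfsg.Agent.H651.O9
end

-- part: H651/O9/Lst
section
/-!
# The list of all classes (helper651)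
-/

set_option autoImplicit false
set_option exponentiation.threshold 30000
set_option maxRecDepth 100000

namespace Cfsg.Agent.H651.O9

/-- centralizer bound (minus one) and invariant of the nontrivial classes -/
def Lst : List (ℕ × ℕ) :=
  (beta% delta% lq26c8b9c1d715 fun vqc0 vqc1 vqc2 vqc3 _ _ _ =>
      (let vqy1 : type_of% (vqc2 _) := (let vqy2 : type_of% (vqc2 _) := (let vqy3 : type_of% (vqc2 _) := (let vqy4 : type_of% (vqc2 _) := (let vqy5 : type_of% (vqc2 _) := (vqc0 (vqc3 163 37778940519105117029090) (vqc0 (vqc3 163 38062567864593935237366)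
      (vqc0 (vqc3 159 37889615705717614838000) (vqc0 (vqc3 207 38138654350672356442424) (vqc0 (vqc3 207 37958798595199921554110)
      (vqc0 (vqc3 239 38332346852489440526696) (vqc0 (vqc3 1919 38332334186231452663808) vqc1)))))));
      (vqc0 (vqc3 15551 37778931863652951721826) (vqc0 (vqc3 186623 37778931864000886538834)
      (vqc0 (vqc3 104509439 37778931862957591695746) (vqc0 (vqc3 163 38062559209238401384694) (vqc0 (vqc3 163 38062550553882867532022)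
      (vqc0 (vqc3 163 38346177899371685741282) vqy5)))))));
      (let vqy6 : type_of% vqy4 := (vqc0 (vqc3 179 37778931865276444115736) (vqc0 (vqc3 14399 37778931865276444116546)
      (vqc0 (vqc3 223 38069476949391602942402) (vqc0 (vqc3 223 38069476949391602942654) (vqc0 (vqc3 215 38027985708237103628882)
      (vqc0 (vqc3 2591 38152478431145570140754) vqy4))))));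
      (vqc0 (vqc3 159 37778940307979557208706) (vqc0 (vqc3 159 38055641469858294597186)
      (vqc0 (vqc3 143 37778931863652946477794) (vqc0 (vqc3 11519 37778931862957161776706) (vqc0 (vqc3 179 37778931864503350002186)
      (vqc0 (vqc3 14399 37778931864503350003266) vqy6))))))));
      (let vqy7 : type_of% vqy3 := (let vqy8 : type_of% vqy3 := (vqc0 (vqc3 223 38069476949391602548736) (vqc0 (vqc3 223 38069476949391602549156)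
      (vqc0 (vqc3 287 38152478431300185423872) (vqc0 (vqc3 3455 37778931863691617043080) (vqc0 (vqc3 193535 37778931864039636795392)
      (vqc0 (vqc3 159 38332342630190843757186) vqy3))))));
      (vqc0 (vqc3 207 37958804084715734565446) (vqc0 (vqc3 207 37958793106940387263124)
      (vqc0 (vqc3 319 37917299332685046874442) (vqc0 (vqc3 415 37778942841235020579128) (vqc0 (vqc3 415 37958787619183363751936)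
      (vqc0 (vqc3 639 38055641469162513367160) vqy8)))))));
      (let vqy9 : type_of% vqy7 := (vqc0 (vqc3 1247 340370098276805558796924) (vqc0 (vqc3 1247 340190253499359726797436)
      (vqc0 (vqc3 1919 340563805978097442226788) (vqc0 (vqc3 447 38069476949391602549186) (vqc0 (vqc3 447 37875780225913724272670)
      (vqc0 (vqc3 511 38443045049526667378754) vqy7))))));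
      (vqc0 (vqc3 155 113696507099062588146138) (vqc0 (vqc3 155 113516662321616756146650)
      (vqc0 (vqc3 239 113890208467167492440730) (vqc0 (vqc3 1343 340300931853048896225286) (vqc0 (vqc3 1343 340882022023482531054162)
      (vqc0 (vqc3 1535 340674499953183961055334) vqy9)))))))));
      (let vqy10 : type_of% vqy2 := (let vqy11 : type_of% vqy2 := (let vqy12 : type_of% vqy2 := (vqc0 (vqc3 1439 37778948752518768754688) (vqc0 (vqc3 23039 37778948752518771113984)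
      (vqc0 (vqc3 23039 38443034916427506975440) (vqc0 (vqc3 167 113627340675305925771432) (vqc0 (vqc3 167 113627340674494176953076)
      (vqc0 (vqc3 191 113502831486034016993472) vqy2))))));
      (vqc0 (vqc3 221183 37778931862957400590466) (vqc0 (vqc3 28799 37778931864696625823786)
      (vqc0 (vqc3 719 37778942419331793158144) (vqc0 (vqc3 575 37944957626788603953440) (vqc0 (vqc3 575 37944957626962550325536)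
      (vqc0 (vqc3 719 37778936085970870796288) vqy12)))))));
      (let vqy13 : type_of% vqy11 := (vqc0 (vqc3 719 38193983605601321812154) (vqc0 (vqc3 863 37778954663415973806422)
      (vqc0 (vqc3 6911 37778931863594996204510) (vqc0 (vqc3 1727 37778931864000844071794) (vqc0 (vqc3 13823 37778931862957209487490)
      (vqc0 (vqc3 27647 37778931864000865305458) vqy11))))));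
      (vqc0 (vqc3 1919 340287096372549222924318) (vqc0 (vqc3 3839 340563797533364955906060)
      (vqc0 (vqc3 1535 340674489820084800652524) (vqc0 (vqc3 863 38526024998522220904790) (vqc0 (vqc3 6911 37778931863884890571742)
      (vqc0 (vqc3 719 37986457734366215143430) vqy13))))))));
      (let vqy14 : type_of% vqy10 := (let vqy15 : type_of% vqy10 := (vqc0 (vqc3 4607 113336795589644611092480) (vqc0 (vqc3 239 113613505194806250504492)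
      (vqc0 (vqc3 479 113890206355969876033782) (vqc0 (vqc3 191 113502821352818891489838) (vqc0 (vqc3 4607 340010386767039683691558)
      (vqc0 (vqc3 36863 340010386767851644846278) vqy10))))));
      (vqc0 (vqc3 124415 340010386766614503164826) (vqc0 (vqc3 12959 340010386769223648018504)
      (vqc0 (vqc3 1244159 3060093480900573802070826) (vqc0 (vqc3 9953279 3060093480899530337356698) (vqc0 (vqc3 1036799 3060093480902139293466696)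
      (vqc0 (vqc3 575 114083911523986969067952) vqy15)))))));
      (let vqy16 : type_of% vqy14 := (vqc0 (vqc3 41471 113336795590263086384292) (vqc0 (vqc3 2159 567306555557714854084626)
      (vqc0 (vqc3 4319 113336795589741216399378) (vqc0 (vqc3 2591 566683977945401104466244) (vqc0 (vqc3 20735 566683977944357441569956)
      (vqc0 (vqc3 15551 340010386767658137748266) vqy14))))));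
      (vqc0 (vqc3 186623 37778931864967222329344) (vqc0 (vqc3 194088959 37778931864967413432320)
      (vqc0 (vqc3 215 113585834234676630258042) (vqc0 (vqc3 1727 113336795589509287772754) (vqc0 (vqc3 179 113751860631092330496180)
      (vqc0 (vqc3 5183 114083911523677731422532) vqy16))))))))));
      (let vqy17 : type_of% vqy1 := (let vqy18 : type_of% vqy1 := (let vqy19 : type_of% vqy1 := (let vqy20 : type_of% vqy1 := (vqc0 (vqc3 276479 340010386767387756527868) (vqc0 (vqc3 863 37778948963470384234712)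
      (vqc0 (vqc3 863 37778931863459676422576) (vqc0 (vqc3 2591 37778931864097475526656) (vqc0 (vqc3 62207 37778931863575663542272)
      (vqc0 (vqc3 62207 37778931863749604409344) vqy1))))));
      (vqc0 (vqc3 1658879 3060093480900303399616872) (vqc0 (vqc3 863 113336795589876512784510)
      (vqc0 (vqc3 863 114457435291948488327186) (vqc0 (vqc3 34559 113336795589064785199230) (vqc0 (vqc3 6911 340010386767851432509476)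
      (vqc0 (vqc3 6911 340010386767097660440612) vqy20)))))));
      (let vqy21 : type_of% vqy19 := (vqc0 (vqc3 1088391167 37778931862957188256130) (vqc0 (vqc3 79234877030399 37778931862957379359106)
      (vqc0 (vqc3 287 113336808889685122941072) (vqc0 (vqc3 3455 566683977945826325692506) (vqc0 (vqc3 6911 113336795589296713433178)
      (vqc0 (vqc3 20735 340010386767387565425000) vqy19))))));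
      (vqc0 (vqc3 209951 37778931863479003777514) (vqc0 (vqc3 3779135 37778931862957163480606) (vqc0 (vqc3 3779135 37778931864522680829470)
      (vqc0 (vqc3 302330879 37778931862957184714270) (vqc0 (vqc3 302330879 37778931864522702063134) (vqc0 (vqc3 75582719 37778931862957167022466)
      vqy21))))))));
      (let vqy22 : type_of% vqy18 := (let vqy23 : type_of% vqy18 := (vqc0 (vqc3 5831 37778948963779620701078) (vqc0 (vqc3 5831 37778931863131108475798) (vqc0 (vqc3 46655 37778948964127515411026)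
      (vqc0 (vqc3 46655 37778931862957164069458) (vqc0 (vqc3 11663 37778931863652947003234) (vqc0 (vqc3 839807 37778931864000840532562)
      vqy18))))));
      (vqc0 (vqc3 373247 340010386766614478389626) (vqc0 (vqc3 373247 340010386768179995738490) (vqc0 (vqc3 2239487 340010386766614481929542)
      (vqc0 (vqc3 1254113279 340010386766614673032518) (vqc0 (vqc3 647 38339257414586206454354) (vqc0 (vqc3 647 37778943263737395937874)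
      vqy23)))))));
      (let vqy24 : type_of% vqy22 := (vqc0 (vqc3 46655 113336795589393325425612) (vqc0 (vqc3 279935 113336795588871488667648) (vqc0 (vqc3 156764159 113336795588871509901312)
      (vqc0 (vqc3 5183 340010403867089024385078) (vqc0 (vqc3 5183 340010386767310242447414) (vqc0 (vqc3 31103 340010386767658134208566)
      vqy22))))));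
      (vqc0 (vqc3 7464959 3060093480899530125020058) (vqc0 (vqc3 119439359 3060093480899530316123034) (vqc0 (vqc3 647 113336812688998158827844)
      (vqc0 (vqc3 647 113336795589915162771456) (vqc0 (vqc3 3887 113336795589915162182280) (vqc0 (vqc3 46655 113336795589915165720576)
      vqy24)))))))));
      (let vqy25 : type_of% vqy17 := (let vqy26 : type_of% vqy17 := (let vqy27 : type_of% vqy17 := (vqc0 (vqc3 46655 340010386766614457156934) (vqc0 (vqc3 46655 340010386768179974505798) (vqc0 (vqc3 93311 340010386766614460697498)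
      (vqc0 (vqc3 1492991 340010386766614481931162) (vqc0 (vqc3 3732479 3060093480899530121479494) (vqc0 (vqc3 3732479 3060093480901095638828358)
      vqy17))))));
      (vqc0 (vqc3 31103 113336795588871488668836) (vqc0 (vqc3 497663 113336795588871509902500) (vqc0 (vqc3 7775 566683977944705319765480)
      (vqc0 (vqc3 7775 567804617647705015321116) (vqc0 (vqc3 15551 566683977945748996818084) (vqc0 (vqc3 248831 566683977945749018051748)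
      vqy27)))))));
      (let vqy28 : type_of% vqy26 := (vqc0 (vqc3 647 113336795589625251889746) (vqc0 (vqc3 647 114083888724784435495182) (vqc0 (vqc3 1295 113336795589973144240722)
      (vqc0 (vqc3 20735 113336795589973146600018) (vqc0 (vqc3 15551 113336795589915165721116) (vqc0 (vqc3 15551 113336795589393325426152)
      vqy26))))));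
      (vqc0 (vqc3 46655 340010386767310243627386) (vqc0 (vqc3 279935 1020031160299843369697496)
      (vqc0 (vqc3 4478975 3740114254432759034020056) (vqc0 (vqc3 5598719 2380072707368388564811992)
      (vqc0 (vqc3 20155391 3060093480899530125017790) (vqc0 (vqc3 146731253759 27540841328095771103920830)
      vqy28))))))));
      (let vqy29 : type_of% vqy25 := (let vqy30 : type_of% vqy25 := (vqc0 (vqc3 6122200319 3060093480899530103790066) (vqc0 (vqc3 440798423039 27540841328095770912823794)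
      (vqc0 (vqc3 431 113523572673283747086390) (vqc0 (vqc3 10367 113336795589741218365494) (vqc0 (vqc3 5183 566683983644921491685430)
      (vqc0 (vqc3 93311 340010386768006026559542) vqy25))))));
      (vqc0 (vqc3 22674815 3060093480899530100245290) (vqc0 (vqc3 11337407 3060093480899530102017678)
      (vqc0 (vqc3 204073343 1020031160299843369699548) (vqc0 (vqc3 102036671 5100155801499216832563420)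
      (vqc0 (vqc3 114281072639 25500779007496084178733276) (vqc0 (vqc3 106118138879 29580903648695457641597148)
      vqy30)))))));
      (let vqy31 : type_of% vqy29 := (vqc0 (vqc3 52487 340010438065428961494288) (vqc0 (vqc3 104975 1020031160301408881738538) (vqc0 (vqc3 1679615 3740114254434324527186730)
      (vqc0 (vqc3 2099519 2380072758665115696169770) (vqc0 (vqc3 104975 340010386766614455978690) (vqc0 (vqc3 944783 1020031160299843366160604)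
      vqy29))))));
      (vqc0 (vqc3 161 113897138240453257200426) (vqc0 (vqc3 3887 115017789342319777284906) (vqc0 (vqc3 1943 566683995045005938066218)
      (vqc0 (vqc3 52487 340010386768179971556624) (vqc0 (vqc3 52487 340010386768179970965828) (vqc0 (vqc3 52487 340010438065428960903492)
      vqy31))))))))))))

theorem all_ok : ∀ z ∈ Lst, Ok z.1 z.2 := by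
  unfold Lst
  refine List.forall_mem_cons.2 ⟨a0, ?_⟩
  refine List.forall_mem_cons.2 ⟨a1, ?_⟩
  refine List.forall_mem_cons.2 ⟨a2, ?_⟩
  refine List.forall_mem_cons.2 ⟨a3, ?_⟩
  refine List.forall_mem_cons.2 ⟨a4, ?_⟩
  refine List.forall_mem_cons.2 ⟨a5, ?_⟩
  refine List.forall_mem_cons.2 ⟨a6, ?_⟩
  refine List.forall_mem_cons.2 ⟨a7, ?_⟩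
  refine List.forall_mem_cons.2 ⟨a8, ?_⟩
  refine List.forall_mem_cons.2 ⟨a9, ?_⟩
  refine List.forall_mem_cons.2 ⟨a10, ?_⟩
  refine List.forall_mem_cons.2 ⟨a11, ?_⟩
  refine List.forall_mem_cons.2 ⟨a12, ?_⟩
  refine List.forall_mem_cons.2 ⟨a13, ?_⟩
  refine List.forall_mem_cons.2 ⟨a14, ?_⟩
  refine List.forall_mem_cons.2 ⟨a15, ?_⟩
  refine List.forall_mem_cons.2 ⟨a16, ?_⟩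
  refine List.forall_mem_cons.2 ⟨a17, ?_⟩
  refine List.forall_mem_cons.2 ⟨a18, ?_⟩
  refine List.forall_mem_cons.2 ⟨a19, ?_⟩
  refine List.forall_mem_cons.2 ⟨a21, ?_⟩
  refine List.forall_mem_cons.2 ⟨a22, ?_⟩
  refine List.forall_mem_cons.2 ⟨a23, ?_⟩
  refine List.forall_mem_cons.2 ⟨a24, ?_⟩
  refine List.forall_mem_cons.2 ⟨a25, ?_⟩
  refine List.forall_mem_cons.2 ⟨a26, ?_⟩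
  refine List.forall_mem_cons.2 ⟨a27, ?_⟩
  refine List.forall_mem_cons.2 ⟨a28, ?_⟩
  refine List.forall_mem_cons.2 ⟨a29, ?_⟩
  refine List.forall_mem_cons.2 ⟨a30, ?_⟩
  refine List.forall_mem_cons.2 ⟨a31, ?_⟩
  refine List.forall_mem_cons.2 ⟨a32, ?_⟩
  refine List.forall_mem_cons.2 ⟨a33, ?_⟩
  refine List.forall_mem_cons.2 ⟨a34, ?_⟩
  refine List.forall_mem_cons.2 ⟨a35, ?_⟩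
  refine List.forall_mem_cons.2 ⟨a36, ?_⟩
  refine List.forall_mem_cons.2 ⟨a37, ?_⟩
  refine List.forall_mem_cons.2 ⟨a38, ?_⟩
  refine List.forall_mem_cons.2 ⟨a39, ?_⟩
  refine List.forall_mem_cons.2 ⟨a40, ?_⟩
  refine List.forall_mem_cons.2 ⟨a41, ?_⟩
  refine List.forall_mem_cons.2 ⟨a42, ?_⟩
  refine List.forall_mem_cons.2 ⟨a43, ?_⟩
  refine List.forall_mem_cons.2 ⟨a44, ?_⟩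
  refine List.forall_mem_cons.2 ⟨a45, ?_⟩
  refine List.forall_mem_cons.2 ⟨a46, ?_⟩
  refine List.forall_mem_cons.2 ⟨a47, ?_⟩
  refine List.forall_mem_cons.2 ⟨a48, ?_⟩
  refine List.forall_mem_cons.2 ⟨a49, ?_⟩
  refine List.forall_mem_cons.2 ⟨a50, ?_⟩
  refine List.forall_mem_cons.2 ⟨a51, ?_⟩
  refine List.forall_mem_cons.2 ⟨a52, ?_⟩
  refine List.forall_mem_cons.2 ⟨a53, ?_⟩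
  refine List.forall_mem_cons.2 ⟨a54, ?_⟩
  refine List.forall_mem_cons.2 ⟨a55, ?_⟩
  refine List.forall_mem_cons.2 ⟨a56, ?_⟩
  refine List.forall_mem_cons.2 ⟨a57, ?_⟩
  refine List.forall_mem_cons.2 ⟨a58, ?_⟩
  refine List.forall_mem_cons.2 ⟨a59, ?_⟩
  refine List.forall_mem_cons.2 ⟨a60, ?_⟩
  refine List.forall_mem_cons.2 ⟨a61, ?_⟩
  refine List.forall_mem_cons.2 ⟨a62, ?_⟩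
  refine List.forall_mem_cons.2 ⟨a63, ?_⟩
  refine List.forall_mem_cons.2 ⟨a64, ?_⟩
  refine List.forall_mem_cons.2 ⟨a65, ?_⟩
  refine List.forall_mem_cons.2 ⟨a66, ?_⟩
  refine List.forall_mem_cons.2 ⟨a67, ?_⟩
  refine List.forall_mem_cons.2 ⟨a68, ?_⟩
  refine List.forall_mem_cons.2 ⟨a69, ?_⟩
  refine List.forall_mem_cons.2 ⟨a70, ?_⟩
  refine List.forall_mem_cons.2 ⟨a71, ?_⟩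
  refine List.forall_mem_cons.2 ⟨a72, ?_⟩
  refine List.forall_mem_cons.2 ⟨a73, ?_⟩
  refine List.forall_mem_cons.2 ⟨a74, ?_⟩
  refine List.forall_mem_cons.2 ⟨a75, ?_⟩
  refine List.forall_mem_cons.2 ⟨a76, ?_⟩
  refine List.forall_mem_cons.2 ⟨a77, ?_⟩
  refine List.forall_mem_cons.2 ⟨a78, ?_⟩
  refine List.forall_mem_cons.2 ⟨a79, ?_⟩
  refine List.forall_mem_cons.2 ⟨a80, ?_⟩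
  refine List.forall_mem_cons.2 ⟨a81, ?_⟩
  refine List.forall_mem_cons.2 ⟨a82, ?_⟩
  refine List.forall_mem_cons.2 ⟨a83, ?_⟩
  refine List.forall_mem_cons.2 ⟨a84, ?_⟩
  refine List.forall_mem_cons.2 ⟨a85, ?_⟩
  refine List.forall_mem_cons.2 ⟨a86, ?_⟩
  refine List.forall_mem_cons.2 ⟨a87, ?_⟩
  refine List.forall_mem_cons.2 ⟨a88, ?_⟩
  refine List.forall_mem_cons.2 ⟨a89, ?_⟩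
  refine List.forall_mem_cons.2 ⟨a90, ?_⟩
  refine List.forall_mem_cons.2 ⟨a91, ?_⟩
  refine List.forall_mem_cons.2 ⟨a92, ?_⟩
  refine List.forall_mem_cons.2 ⟨a93, ?_⟩
  refine List.forall_mem_cons.2 ⟨a94, ?_⟩
  refine List.forall_mem_cons.2 ⟨a95, ?_⟩
  refine List.forall_mem_cons.2 ⟨a96, ?_⟩
  refine List.forall_mem_cons.2 ⟨a97, ?_⟩
  refine List.forall_mem_cons.2 ⟨a98, ?_⟩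
  refine List.forall_mem_cons.2 ⟨a99, ?_⟩
  refine List.forall_mem_cons.2 ⟨a100, ?_⟩
  refine List.forall_mem_cons.2 ⟨a101, ?_⟩
  refine List.forall_mem_cons.2 ⟨a102, ?_⟩
  refine List.forall_mem_cons.2 ⟨a103, ?_⟩
  refine List.forall_mem_cons.2 ⟨a104, ?_⟩
  refine List.forall_mem_cons.2 ⟨a105, ?_⟩
  refine List.forall_mem_cons.2 ⟨a106, ?_⟩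
  refine List.forall_mem_cons.2 ⟨a107, ?_⟩
  refine List.forall_mem_cons.2 ⟨a108, ?_⟩
  refine List.forall_mem_cons.2 ⟨a109, ?_⟩
  refine List.forall_mem_cons.2 ⟨a110, ?_⟩
  refine List.forall_mem_cons.2 ⟨a111, ?_⟩
  refine List.forall_mem_cons.2 ⟨a112, ?_⟩
  refine List.forall_mem_cons.2 ⟨a113, ?_⟩
  refine List.forall_mem_cons.2 ⟨a114, ?_⟩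
  refine List.forall_mem_cons.2 ⟨a115, ?_⟩
  refine List.forall_mem_cons.2 ⟨a116, ?_⟩
  refine List.forall_mem_cons.2 ⟨a117, ?_⟩
  refine List.forall_mem_cons.2 ⟨a118, ?_⟩
  refine List.forall_mem_cons.2 ⟨a119, ?_⟩
  refine List.forall_mem_cons.2 ⟨a120, ?_⟩
  refine List.forall_mem_cons.2 ⟨a121, ?_⟩
  refine List.forall_mem_cons.2 ⟨a122, ?_⟩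
  refine List.forall_mem_cons.2 ⟨a123, ?_⟩
  refine List.forall_mem_cons.2 ⟨a124, ?_⟩
  refine List.forall_mem_cons.2 ⟨a125, ?_⟩
  refine List.forall_mem_cons.2 ⟨a126, ?_⟩
  refine List.forall_mem_cons.2 ⟨a127, ?_⟩
  refine List.forall_mem_cons.2 ⟨a128, ?_⟩
  refine List.forall_mem_cons.2 ⟨a129, ?_⟩
  refine List.forall_mem_cons.2 ⟨a130, ?_⟩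
  refine List.forall_mem_cons.2 ⟨a131, ?_⟩
  refine List.forall_mem_cons.2 ⟨a132, ?_⟩
  refine List.forall_mem_cons.2 ⟨a133, ?_⟩
  refine List.forall_mem_cons.2 ⟨a134, ?_⟩
  refine List.forall_mem_cons.2 ⟨a135, ?_⟩
  refine List.forall_mem_cons.2 ⟨a136, ?_⟩
  refine List.forall_mem_cons.2 ⟨a137, ?_⟩
  refine List.forall_mem_cons.2 ⟨a138, ?_⟩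
  refine List.forall_mem_cons.2 ⟨a139, ?_⟩
  refine List.forall_mem_cons.2 ⟨a140, ?_⟩
  refine List.forall_mem_cons.2 ⟨a141, ?_⟩
  refine List.forall_mem_cons.2 ⟨a142, ?_⟩
  refine List.forall_mem_cons.2 ⟨a143, ?_⟩
  refine List.forall_mem_cons.2 ⟨a144, ?_⟩
  refine List.forall_mem_cons.2 ⟨a145, ?_⟩
  refine List.forall_mem_cons.2 ⟨a146, ?_⟩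
  refine List.forall_mem_cons.2 ⟨a147, ?_⟩
  refine List.forall_mem_cons.2 ⟨a148, ?_⟩
  refine List.forall_mem_cons.2 ⟨a149, ?_⟩
  refine List.forall_mem_cons.2 ⟨a150, ?_⟩
  refine List.forall_mem_cons.2 ⟨a151, ?_⟩
  refine List.forall_mem_cons.2 ⟨a152, ?_⟩
  refine List.forall_mem_cons.2 ⟨a153, ?_⟩
  refine List.forall_mem_cons.2 ⟨a154, ?_⟩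
  refine List.forall_mem_cons.2 ⟨a155, ?_⟩
  refine List.forall_mem_cons.2 ⟨a156, ?_⟩
  refine List.forall_mem_cons.2 ⟨a157, ?_⟩
  refine List.forall_mem_cons.2 ⟨a158, ?_⟩
  refine List.forall_mem_cons.2 ⟨a159, ?_⟩
  refine List.forall_mem_cons.2 ⟨a160, ?_⟩
  refine List.forall_mem_cons.2 ⟨a161, ?_⟩
  refine List.forall_mem_cons.2 ⟨a162, ?_⟩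
  refine List.forall_mem_cons.2 ⟨a163, ?_⟩
  refine List.forall_mem_cons.2 ⟨a164, ?_⟩
  refine List.forall_mem_cons.2 ⟨a165, ?_⟩
  refine List.forall_mem_cons.2 ⟨a166, ?_⟩
  refine List.forall_mem_cons.2 ⟨a167, ?_⟩
  refine List.forall_mem_cons.2 ⟨a168, ?_⟩
  refine List.forall_mem_cons.2 ⟨a169, ?_⟩
  refine List.forall_mem_cons.2 ⟨a170, ?_⟩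
  refine List.forall_mem_cons.2 ⟨a171, ?_⟩
  refine List.forall_mem_cons.2 ⟨a172, ?_⟩
  refine List.forall_mem_cons.2 ⟨a173, ?_⟩
  refine List.forall_mem_cons.2 ⟨a174, ?_⟩
  refine List.forall_mem_cons.2 ⟨a175, ?_⟩
  refine List.forall_mem_cons.2 ⟨a176, ?_⟩
  refine List.forall_mem_cons.2 ⟨a177, ?_⟩
  refine List.forall_mem_cons.2 ⟨a178, ?_⟩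
  refine List.forall_mem_cons.2 ⟨a179, ?_⟩
  refine List.forall_mem_cons.2 ⟨a180, ?_⟩
  refine List.forall_mem_cons.2 ⟨a181, ?_⟩
  refine List.forall_mem_cons.2 ⟨a182, ?_⟩
  refine List.forall_mem_cons.2 ⟨a183, ?_⟩
  refine List.forall_mem_cons.2 ⟨a184, ?_⟩
  refine List.forall_mem_cons.2 ⟨a185, ?_⟩
  refine List.forall_mem_cons.2 ⟨a186, ?_⟩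
  refine List.forall_mem_cons.2 ⟨a187, ?_⟩
  refine List.forall_mem_cons.2 ⟨a188, ?_⟩
  refine List.forall_mem_cons.2 ⟨a189, ?_⟩
  refine List.forall_mem_cons.2 ⟨a190, ?_⟩
  refine List.forall_mem_cons.2 ⟨a191, ?_⟩
  refine List.forall_mem_cons.2 ⟨a192, ?_⟩
  refine List.forall_mem_cons.2 ⟨a193, ?_⟩
  intro z hz
  cases hz

/-- the matrix of the identity -/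
def IM : List (List ℕ) :=
  (beta% delta% lq26c8b9c1d715 fun vqc0 vqc1 _ _ _ _ _ =>
      (vqc0 (vqc0 1 (vqc0 0 (vqc0 0 (vqc0 0 (vqc0 0 (vqc0 0 (vqc0 0 (vqc0 0 (vqc0 0 vqc1))))))))) (vqc0 (vqc0 0 (vqc0 1 (vqc0 0 (vqc0 0 (vqc0 0 (vqc0 0 (vqc0 0 (vqc0 0 (vqc0 0 vqc1))))))))) (vqc0 (vqc0 0 (vqc0 0 (vqc0 1 (vqc0 0 (vqc0 0 (vqc0 0 (vqc0 0 (vqc0 0 (vqc0 0 vqc1))))))))) (vqc0 (vqc0 0 (vqc0 0 (vqc0 0 (vqc0 1 (vqc0 0 (vqc0 0 (vqc0 0 (vqc0 0 (vqc0 0 vqc1))))))))) (vqc0 (vqc0 0 (vqc0 0 (vqc0 0 (vqc0 0 (vqc0 1 (vqc0 0 (vqc0 0 (vqc0 0 (vqc0 0 vqc1))))))))) (vqc0 (vqc0 0 (vqc0 0 (vqc0 0 (vqc0 0 (vqc0 0 (vqc0 1 (vqc0 0 (vqc0 0 (vqc0 0 vqc1))))))))) (vqc0 (vqc0 0 (vqc0 0 (vqc0 0 (vqc0 0 (vqc0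 0 (vqc0 0 (vqc0 1 (vqc0 0 (vqc0 0 vqc1))))))))) (vqc0 (vqc0 0 (vqc0 0 (vqc0 0 (vqc0 0 (vqc0 0 (vqc0 0 (vqc0 0 (vqc0 1 (vqc0 0 vqc1))))))))) (vqc0 (vqc0 0 (vqc0 0 (vqc0 0 (vqc0 0 (vqc0 0 (vqc0 0 (vqc0 0 (vqc0 0 (vqc0 1 vqc1))))))))) vqc1))))))))))

/-- the matrix of the negative of the identity -/
def ZM : List (List ℕ) :=
  (beta% delta% lq26c8b9c1d715 fun vqc0 vqc1 _ _ _ _ _ =>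
      (vqc0 (vqc0 2 (vqc0 0 (vqc0 0 (vqc0 0 (vqc0 0 (vqc0 0 (vqc0 0 (vqc0 0 (vqc0 0 vqc1))))))))) (vqc0 (vqc0 0 (vqc0 2 (vqc0 0 (vqc0 0 (vqc0 0 (vqc0 0 (vqc0 0 (vqc0 0 (vqc0 0 vqc1))))))))) (vqc0 (vqc0 0 (vqc0 0 (vqc0 2 (vqc0 0 (vqc0 0 (vqc0 0 (vqc0 0 (vqc0 0 (vqc0 0 vqc1))))))))) (vqc0 (vqc0 0 (vqc0 0 (vqc0 0 (vqc0 2 (vqc0 0 (vqc0 0 (vqc0 0 (vqc0 0 (vqc0 0 vqc1))))))))) (vqc0 (vqc0 0 (vqc0 0 (vqc0 0 (vqc0 0 (vqc0 2 (vqc0 0 (vqc0 0 (vqc0 0 (vqc0 0 vqc1))))))))) (vqc0 (vqc0 0 (vqc0 0 (vqc0 0 (vqc0 0 (vqc0 0 (vqc0 2 (vqc0 0 (vqc0 0 (vqc0 0 vqc1))))))))) (vqc0 (vqc0 0 (vqc0 0 (vqc0 0 (vqc0 0 (vqc0 0 (vqc0 0 (vqc0 2 (vqc0 0 (vqc0 0 vqc1))))))))) (vqc0 (vqc0 0 (vqc0 0 (vqc0 0 (vqc0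 0 (vqc0 0 (vqc0 0 (vqc0 0 (vqc0 2 (vqc0 0 vqc1))))))))) (vqc0 (vqc0 0 (vqc0 0 (vqc0 0 (vqc0 0 (vqc0 0 (vqc0 0 (vqc0 0 (vqc0 0 (vqc0 2 vqc1))))))))) vqc1))))))))))

/-- the matrix of the negative of the involution -/
def WM : List (List ℕ) :=
  (beta% delta% lq26c8b9c1d715 fun vqc0 vqc1 _ _ _ _ _ =>
      (vqc0 (vqc0 0 (vqc0 2 (vqc0 0 (vqc0 0 (vqc0 0 (vqc0 0 (vqc0 0 (vqc0 0 (vqc0 0 vqc1))))))))) (vqc0 (vqc0 2 (vqc0 0 (vqc0 0 (vqc0 0 (vqc0 0 (vqc0 0 (vqc0 0 (vqc0 0 (vqc0 0 vqc1))))))))) (vqc0 (vqc0 0 (vqc0 0 (vqc0 1 (vqc0 0 (vqc0 0 (vqc0 0 (vqc0 0 (vqc0 0 (vqc0 0 vqc1))))))))) (vqc0 (vqc0 0 (vqc0 0 (vqc0 0 (vqc0 1 (vqc0 0 (vqc0 0 (vqc0 0 (vqc0 0 (vqc0 0 vqc1))))))))) (vqc0 (vqc0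 0 (vqc0 0 (vqc0 0 (vqc0 0 (vqc0 1 (vqc0 0 (vqc0 0 (vqc0 0 (vqc0 0 vqc1))))))))) (vqc0 (vqc0 0 (vqc0 0 (vqc0 0 (vqc0 0 (vqc0 0 (vqc0 1 (vqc0 0 (vqc0 0 (vqc0 0 vqc1))))))))) (vqc0 (vqc0 0 (vqc0 0 (vqc0 0 (vqc0 0 (vqc0 0 (vqc0 0 (vqc0 1 (vqc0 0 (vqc0 0 vqc1))))))))) (vqc0 (vqc0 0 (vqc0 0 (vqc0 0 (vqc0 0 (vqc0 0 (vqc0 0 (vqc0 0 (vqc0 1 (vqc0 0 vqc1))))))))) (vqc0 (vqc0 0 (vqc0 0 (vqc0 0 (vqc0 0 (vqc0 0 (vqc0 0 (vqc0 0 (vqc0 0 (vqc0 1 vqc1))))))))) vqc1))))))))))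

theorem chkO_IM : chkO IM = true := by decide +kernel

theorem chkO_ZM : chkO ZM = true := by decide +kernel

theorem chkO_WM : chkO WM = true := by decide +kernel

theorem mv_IM (w : V) : mv IM w = w := by
  have h : chkI IM 0 = true := by decide +kernel
  rw [chkI, iniF_eq, stLF_eq, nthL_eq] at h
  have h1 := eqL_eq h
  have h2 := st_X0.step (isom_of_chkO chkO_IM).1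
  have h3 : St (st1 IM X0) (fun w => w) := by
    rw [show st1 IM X0 = X0 from h1]
    exact st_X0
  exact h2.ext h3 w

theorem mt_one : Mt IM 1 := fun w => (mv_IM w).symm

theorem one_bd : Bd 1 263139026617958399 247867571952861938194127346 :=
  of_chkR (R := IM) (ch := [699, 18687, 11346, 16438, 10797, 4398, 11989, 5954, 10209]) (by decide +kernel) mt_one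

theorem key_xx : key xx = 38062559209238401384694 := key_of_chkK (R := XM) (by decide +kernel) mt_xx

theorem key_yy : key yy = 37778940519105117029090 := key_of_chkK (R := YM) (by decide +kernel) mt_yy

theorem key_tt : key tt = 37778931862957379354624 := key_of_chkK (R := TM) (by decide +kernel) mt_tt

theorem exists_z : ∃ g : V ≃ₗ[ZMod 3] V, g ∈ OB ∧ ∀ w, g w = mv ZM w :=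
  H830.O9.exists_ob ZM (isom_of_chkO chkO_ZM).1 (isom_of_chkO chkO_ZM).2

/-- the negative of the identity -/
noncomputable def zz : V ≃ₗ[ZMod 3] V := exists_z.choose

theorem zz_mem : zz ∈ OB := exists_z.choose_spec.1
theorem mt_zz : Mt ZM zz := exists_z.choose_spec.2

theorem key_zz : key zz = 37778931862957374046208 := key_of_chkK (R := ZM) (by decide +kernel) mt_zz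

theorem zt_eq (w : V) : (zz * tt) w = mv WM w := by
  have h := of_chkP (X := ZM) (Y := TM) (P := IM) (G := WM) (isom_of_chkO chkO_ZM).1 (isom_of_chkO chkO_TM).1
    (isom_of_chkO chkO_IM).1 (isom_of_chkO chkO_WM).1 (by decide +kernel) w
  rw [mv_IM, mv_IM] at h
  rw [h, ← mt_tt, ← mt_zz]
  rfl

theorem key_zt : key (zz * tt) = 80582461663687626138847398 := key_of_chkK (R := WM) (by decide +kernel) zt_eq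

theorem zz_sq : zz * zz = 1 := by
  have h := pow_of_chkI (R := ZM) (m := 1) (isom_of_chkO chkO_ZM).1 mt_zz (by decide +kernel)
  rwa [pow_two] at h

/-- the matrices commute -/
noncomputable def chkCm (A C : List (List ℕ)) : Bool :=
  (beta% delta% lq26c8b9c1d715 fun vqc0 vqc1 _ _ vqc4 vqc5 vqc6 =>
      vqc4 (vqc0 0 (vqc0 1 (vqc0 2 (vqc0 3 (vqc0 4 (vqc0 5 (vqc0 6 (vqc0 7 (vqc0 8 vqc1))))))))) fun x => vqc5 A x fun a => vqc5 C x fun c => vqc5 A c fun ac => vqc5 C a fun ca =>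
        vqc6 ac ca)

theorem comm_of {A C : List (List ℕ)} (hA : Sq A) (hC : Sq C) (h : chkCm A C = true) {a c : V ≃ₗ[ZMod 3] V}
    (ha : Mt A a) (hc : Mt C c) : a * c = c * a := by
  rw [chkCm, iniF_eq, stF_eq, stF_eq, stF_eq, stF_eq] at h
  have h1 := (st_X0.step hC).step hA
  have h2 := (st_X0.step hA).step hC
  have e := eqL_eq h
  have h3 : St (st1 A (st1 C X0)) (fun w => mv C (mv A w)) := by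
    rw [show st1 A (st1 C X0) = st1 C (st1 A X0) from e]
    exact h2
  refine LinearEquiv.ext fun w => ?_
  have h4 := h1.ext h3 w
  show a (c w) = c (a w)
  rw [ha, hc, hc, ha]
  exact h4

theorem zx : zz * xx = xx * zz :=
  comm_of (isom_of_chkO chkO_ZM).1 (isom_of_chkO chkO_XM).1 (by decide +kernel) mt_zz mt_xx

theorem zy : zz * yy = yy * zz :=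
  comm_of (isom_of_chkO chkO_ZM).1 (isom_of_chkO chkO_YM).1 (by decide +kernel) mt_zz mt_yy

theorem zt : zz * tt = tt * zz :=
  comm_of (isom_of_chkO chkO_ZM).1 (isom_of_chkO chkO_TM).1 (by decide +kernel) mt_zz mt_tt

theorem tx : tt * xx = xx * tt :=
  comm_of (isom_of_chkO chkO_TM).1 (isom_of_chkO chkO_XM).1 (by decide +kernel) mt_tt mt_xx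

theorem ty : tt * yy = yy * tt :=
  comm_of (isom_of_chkO chkO_TM).1 (isom_of_chkO chkO_YM).1 (by decide +kernel) mt_tt mt_yy

theorem keys_nodup : (247867571952861938194127346 :: Lst.map Prod.snd).Nodup :=
  Cfsg.Agent.NodupNat.of_go (by decide +kernel)

theorem sum_le : 65784756654489600 ≤
    (((263139026617958399, 247867571952861938194127346) :: Lst).map fun z => 4 * 65784756654489600 / Nat.succ z.1).sum := by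
  decide +kernel

theorem keys_mem : (∀ k ∈ 247867571952861938194127346 :: Lst.map Prod.snd, k ≠ 37778931862957374046208 ∧ k ≠ 37778931862957379354624 ∧ k ≠ 80582461663687626138847398) ∧ 38062559209238401384694 ≠ 247867571952861938194127346 ∧ 37778940519105117029090 ≠ 247867571952861938194127346 := by
  decide +kernel

end Cfsg.Agent.H651.O9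
end

private theorem dce_33d11fb5c990 : _root_.True := by
  try have : _root_.True := by simp only [_root_.Cfsg.Agent.H651.O9.chkCm.eq_1]
  exact _root_.True.intro
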