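import Mathlib.GroupTheory.GroupAction.Quotient
import Mathlib.GroupTheory.Subgroup.Centralizer
import Mathlib.GroupTheory.GroupAction.ConjAct
import Mathlib.GroupTheory.Coset.Card
import Mathlib.Algebra.BigOperators.Finprod
import Mathlib.Data.Set.Card.Arithmetic
import Mathlib.Tactic.Group
import Cfsg.Agent.H651.O9.Lst
import Mathlib.Algebra.BigOperators.Fin
import Mathlib.GroupTheory.Index
import Mathlib.GroupTheory.QuotientGroup.Defs
import Cfsg.Agent.LieClassical.OrthFinite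
import Cfsg.Agent.LieClassical.OrthCenter
import Cfsg.Agent.LieClassical.OmegaReindex
import Cfsg.Agent.ClassicalGeometry.OrthSemiForms
import Cfsg.Agent.UGT.U2.Rec.Congr
import Cfsg.Agent.S0286
import Cfsg.Agent.S0292
import Cfsg.Agent.H194.Ore.RowEF
import Cfsg.Agent.H137.G24.Fin_mg
import Cfsg.Agent.H122.TC.Real_m3
import Cfsg.Agent.H145.SLTwo
import Cfsg.Agent.H452.FprPsl2
import Cfsg.Agent.H962.TC.Num_m3
import Mathlib.GroupTheory.Perm.Cycle.Type
import Cfsg.Agent.H538.TC.SLThreeC_m3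
import Cfsg.Agent.S1054
import Cfsg.Agent.FastGrp
import Cfsg.Agent.Prune
set_option linter.all false
prune_inst 0x7ffcfcfdefb8abffdfff7e7fa6d5cffdfbb9dfffafdff9cb7fe861ff2fdf2b0a89c56b8d8de212fe1fd6e21410b87803fb7eeabfa06fdc7ffffdfff41ffbee0f8566b508519488340fbc0ff703f07f8e7f3fffffffffffffffffffffffffffbeffbdffffffff
open scoped Cfsg.Agent.FastGrp

-- part: H849/O9/Cov
section
/-!
# Class cover (helper849, for `Ω₉(3)`, S2464)

* `card_class` : the conjugacy class of `g` has at least `|G| / c` elements if `|C(g)| ≤ c`;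
* `cover` : representatives with bounded centralizers, pairwise not conjugate, and a sum of class sizes `≥ |N|`
  are all the classes of `N`;
* `cover_key` : the same with an invariant separating the representatives;
* `cover_slack` : the sum may be a little too small.
-/

set_option autoImplicit false

namespace Cfsg.Agent.H849.O9

open Subgroup

variable {G : Type*} [Group G]

/-- the class of `g` -/
def cls (g : G) : Set G := Set.range fun a : G => a * g * a⁻¹

theorem mem_cls {g x : G} : x ∈ cls g ↔ ∃ a, x = a * g * a⁻¹ :=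
  ⟨fun ⟨a, h⟩ => ⟨a, h.symm⟩, fun ⟨a, h⟩ => ⟨a, h.symm⟩⟩

theorem card_class [Finite G] (g : G) : (cls g).ncard * Nat.card ↥(centralizer ({g} : Set G)) = Nat.card G := by
  have h1 : (cls g).ncard = Nat.card (ConjAct G ⧸ MulAction.stabilizer (ConjAct G) g) := by
    rw [← Nat.card_congr (MulAction.orbitEquivQuotientStabilizer (ConjAct G) g), ← Nat.card_coe_set_eq]
    have h2 : cls g = MulAction.orbit (ConjAct G) g := by
      ext x
      rw [mem_cls, MulAction.mem_orbit_iff]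
      constructor
      · rintro ⟨a, rfl⟩
        exact ⟨ConjAct.toConjAct a, by rw [ConjAct.toConjAct_smul]⟩
      · rintro ⟨a, ha⟩
        exact ⟨ConjAct.ofConjAct a, by rw [← ha, ConjAct.smul_def]⟩
    rw [h2]
  have h3 : Nat.card ↥(centralizer ({g} : Set G)) = Nat.card ↥(MulAction.stabilizer (ConjAct G) g) := by
    refine Nat.card_congr ⟨fun c => ⟨ConjAct.toConjAct c.1, ?_⟩, fun c => ⟨ConjAct.ofConjAct c.1, ?_⟩, fun _ => rfl,
      fun _ => rfl⟩
    · rw [MulAction.mem_stabilizer_iff, ConjAct.toConjAct_smul, mul_inv_eq_iff_eq_mul]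
      exact mem_centralizer_singleton_iff.1 c.2
    · have h := MulAction.mem_stabilizer_iff.1 c.2
      rw [ConjAct.smul_def, mul_inv_eq_iff_eq_mul] at h
      exact mem_centralizer_singleton_iff.2 h
  rw [h1, h3, ← Subgroup.card_eq_card_quotient_mul_card_subgroup]
  rfl

theorem le_card_class [Finite G] {g : G} {c : ℕ} (hc : Nat.card ↥(centralizer ({g} : Set G)) ≤ c) :
    Nat.card G / c ≤ (cls g).ncard := by
  have h := card_class g
  rcases Nat.eq_zero_or_pos c with h0 | h0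
  · rw [h0, Nat.div_zero]
    exact Nat.zero_le _
  · refine Nat.div_le_of_le_mul ?_
    rw [← h, mul_comm]
    exact Nat.mul_le_mul_right _ hc

theorem disjoint_cls {g h : G} (hn : ∀ a, a * g * a⁻¹ ≠ h) : Disjoint (cls g) (cls h) := by
  rw [Set.disjoint_left]
  intro x hx hy
  obtain ⟨a, rfl⟩ := mem_cls.1 hx
  obtain ⟨b, hb⟩ := mem_cls.1 hy
  refine hn (b⁻¹ * a) ?_
  calc b⁻¹ * a * g * (b⁻¹ * a)⁻¹ = b⁻¹ * (a * g * a⁻¹) * b := by group
    _ = h := by rw [hb]; group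

/-- **The class cover with slack.** -/
theorem cover_slack [Finite G] (N : Subgroup G) {n : ℕ} (g : Fin n → G) (c : Fin n → ℕ)
    (hg : ∀ i a, a * g i * a⁻¹ ∈ N) (hc : ∀ i, Nat.card ↥(centralizer ({g i} : Set G)) ≤ c i)
    (hne : ∀ i j, i ≠ j → ∀ a, a * g i * a⁻¹ ≠ g j) {m : ℕ}
    (hm : ∀ x ∈ N, (∀ i a, a * g i * a⁻¹ ≠ x) → (∀ a, a * x * a⁻¹ ∈ N) ∧ m ≤ (cls x).ncard)
    (hs : Nat.card N < (∑ i, Nat.card G / c i) + m) : ∀ x ∈ N, ∃ i a, x = a * g i * a⁻¹ := by
  classical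
  intro x hx
  by_contra hcon
  have hx' : ∀ i a, a * g i * a⁻¹ ≠ x := fun i a h => hcon ⟨i, a, h.symm⟩
  obtain ⟨hxN, hxm⟩ := hm x hx hx'
  have hfin : Finite G := inferInstance
  have := Fintype.ofFinite G
  have hU : (⋃ i, cls (g i)).ncard = ∑ i, (cls (g i)).ncard := by
    have h := Set.ncard_iUnion_of_finite (s := fun i => cls (g i)) (fun i => Set.toFinite _)
      (fun i j hij => disjoint_cls (hne i j hij))
    rw [h, finsum_eq_sum_of_fintype]
  have hD : Disjoint (⋃ i, cls (g i)) (cls x) := by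
    rw [Set.disjoint_iUnion_left]
    exact fun i => disjoint_cls (hx' i)
  have hsub : (⋃ i, cls (g i)) ∪ cls x ⊆ (N : Set G) := by
    refine Set.union_subset (Set.iUnion_subset fun i y hy => ?_) fun y hy => ?_
    · obtain ⟨a, rfl⟩ := mem_cls.1 hy
      exact hg i a
    · obtain ⟨a, rfl⟩ := mem_cls.1 hy
      exact hxN a
  have h1 := Set.ncard_le_ncard hsub (Set.toFinite _)
  rw [Set.ncard_union_eq hD (Set.toFinite _) (Set.toFinite _), hU] at h1
  have h2 : ∑ i, Nat.card G / c i ≤ ∑ i, (cls (g i)).ncard := Finset.sum_le_sum fun i _ => le_card_class (hc i)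
  have h3 : (N : Set G).ncard = Nat.card N := (Nat.card_coe_set_eq _).symm
  omega

theorem one_le_cls [Finite G] (x : G) : 1 ≤ (cls x).ncard :=
  (Set.ncard_pos (Set.toFinite _)).2 ⟨x, mem_cls.2 ⟨1, by group⟩⟩

/-- **The class cover.** -/
theorem cover [Finite G] (N : Subgroup G) (hN : ∀ a, ∀ x ∈ N, a * x * a⁻¹ ∈ N) {n : ℕ} (g : Fin n → G) (c : Fin n → ℕ)
    (hg : ∀ i, g i ∈ N) (hc : ∀ i, Nat.card ↥(centralizer ({g i} : Set G)) ≤ c i)
    (hne : ∀ i j, i ≠ j → ∀ a, a * g i * a⁻¹ ≠ g j)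
    (hs : Nat.card N ≤ ∑ i, Nat.card G / c i) : ∀ x ∈ N, ∃ i a, x = a * g i * a⁻¹ :=
  cover_slack N g c (fun i a => hN a _ (hg i)) hc hne (m := 1)
    (fun x hx _ => ⟨fun a => hN a x hx, one_le_cls x⟩) (Nat.lt_succ_of_le hs)

/-- **The class cover**, the representatives are separated by an invariant. -/
theorem cover_key [Finite G] (N : Subgroup G) (hN : ∀ a, ∀ x ∈ N, a * x * a⁻¹ ∈ N) {n : ℕ} (g : Fin n → G)
    (c : Fin n → ℕ) (hg : ∀ i, g i ∈ N) (hc : ∀ i, Nat.card ↥(centralizer ({g i} : Set G)) ≤ c i)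
    {κ : Type*} (key : G → κ) (hk : ∀ a x, key (a * x * a⁻¹) = key x) (hinj : Function.Injective fun i => key (g i))
    (hs : Nat.card N ≤ ∑ i, Nat.card G / c i) : ∀ x ∈ N, ∃ i a, x = a * g i * a⁻¹ :=
  cover N hN g c hg hc (fun i j hij a h => hij (hinj (show key (g i) = key (g j) by rw [← h, hk]))) hs

end Cfsg.Agent.H849.O9
end

-- part: H651/O9/Fin
section
/-!
# Every nontrivial element is a product of two elements of order 41 (helper651)
-/

set_option autoImplicit false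
set_option exponentiation.threshold 30000
set_option maxRecDepth 100000

namespace Cfsg.Agent.H651.O9

/-- four cosets -/
theorem coset4 {G : Type*} [Group G] [Finite G] {N : Subgroup G} [N.Normal] (hi : N.index = 4) {z t : G} (hz : z ∉ N)
    (ht : t ∉ N) (hzt : z * t ∉ N) (hz2 : z * z = 1) (hc : z * t = t * z) (a : G) :
    ∃ u ∈ N, a = u ∨ a = u * z ∨ a = u * t ∨ a = u * (z * t) := by
  classical
  have : Fintype (G ⧸ N) := Fintype.ofFinite _
  have hcard : Fintype.card (G ⧸ N) = 4 := by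
    rw [← Nat.card_eq_fintype_card]
    exact hi
  have hne : ∀ x y : G, x * y⁻¹ ∉ N → (x : G ⧸ N) ≠ (y : G ⧸ N) := fun x y h h1 => by
    rw [QuotientGroup.eq_iff_div_mem, div_eq_mul_inv] at h1
    exact h h1
  have hzi : z⁻¹ = z := inv_eq_of_mul_eq_one_left hz2
  have e1 : ((1 : G) : G ⧸ N) ≠ (z : G ⧸ N) := hne _ _ (by rw [one_mul, hzi]; exact hz)
  have e2 : ((1 : G) : G ⧸ N) ≠ (t : G ⧸ N) := hne _ _ (by rw [one_mul]; exact fun h => ht (N.inv_mem_iff.1 h))
  have e3 : ((1 : G) : G ⧸ N) ≠ ((z * t : G) : G ⧸ N) :=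
    hne _ _ (by rw [one_mul]; exact fun h => hzt (N.inv_mem_iff.1 h))
  have e4 : (z : G ⧸ N) ≠ (t : G ⧸ N) := by
    refine (hne t z ?_).symm
    rw [hzi, ← hc]
    exact hzt
  have e5 : (z : G ⧸ N) ≠ ((z * t : G) : G ⧸ N) := by
    refine (hne (z * t) z ?_).symm
    rw [hc, mul_inv_cancel_right]
    exact ht
  have e6 : (t : G ⧸ N) ≠ ((z * t : G) : G ⧸ N) := by
    refine (hne (z * t) t ?_).symm
    rw [mul_inv_cancel_right]
    exact hz
  have hs : ({((1 : G) : G ⧸ N), (z : G ⧸ N), (t : G ⧸ N), ((z * t : G) : G ⧸ N)} : Finset (G ⧸ N)) = Finset.univ := by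
    apply Finset.eq_univ_of_card
    rw [hcard, Finset.card_insert_of_notMem, Finset.card_insert_of_notMem, Finset.card_insert_of_notMem,
      Finset.card_singleton]
    · rw [Finset.mem_singleton]; exact e6
    · rw [Finset.mem_insert, Finset.mem_singleton, not_or]; exact ⟨e4, e5⟩
    · rw [Finset.mem_insert, Finset.mem_insert, Finset.mem_singleton, not_or, not_or]; exact ⟨e1, e2, e3⟩
  have ha : (a : G ⧸ N) ∈ ({((1 : G) : G ⧸ N), (z : G ⧸ N), (t : G ⧸ N), ((z * t : G) : G ⧸ N)} : Finset (G ⧸ N)) := by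
    rw [hs]; exact Finset.mem_univ _
  rw [Finset.mem_insert, Finset.mem_insert, Finset.mem_insert, Finset.mem_singleton] at ha
  rcases ha with h | h | h | h
  · rw [QuotientGroup.eq_iff_div_mem, div_one] at h
    exact ⟨a, h, Or.inl rfl⟩
  · rw [QuotientGroup.eq_iff_div_mem] at h
    exact ⟨a / z, h, Or.inr (Or.inl (div_mul_cancel a z).symm)⟩
  · rw [QuotientGroup.eq_iff_div_mem] at h
    exact ⟨a / t, h, Or.inr (Or.inr (Or.inl (div_mul_cancel a t).symm))⟩
  · rw [QuotientGroup.eq_iff_div_mem] at h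
    exact ⟨a / (z * t), h, Or.inr (Or.inr (Or.inr (div_mul_cancel a (z * t)).symm))⟩

/-- elements of order 41 are in the subgroup of index 4 -/
theorem mem_of_41 {G : Type*} [Group G] {N : Subgroup G} [N.Normal] (hi : N.index = 4) {x : G} (hx : x ^ 41 = 1) :
    x ∈ N := by
  have h := N.pow_index_mem x
  rw [hi] at h
  have h2 := N.pow_mem h 31
  rw [← pow_mul] at h2
  have h3 : x ^ (4 * 31) = x := by
    rw [show 4 * 31 = 41 * 3 + 1 by norm_num, pow_succ, pow_mul, hx, one_pow, one_mul]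
  rwa [h3] at h2

/-- the conjugators can be chosen in the subgroup -/
theorem conj_in {G : Type*} [Group G] [Finite G] {N : Subgroup G} [N.Normal] (hi : N.index = 4) {z t x : G} (hz : z ∉ N)
    (ht : t ∉ N) (hzt : z * t ∉ N) (hz2 : z * z = 1) (hc : z * t = t * z) (hzx : z * x = x * z) (htx : t * x = x * t)
    (a : G) : ∃ u ∈ N, a * x * a⁻¹ = u * x * u⁻¹ := by
  obtain ⟨u, hu, h⟩ := coset4 hi hz ht hzt hz2 hc a
  have key : ∀ s : G, s * x = x * s → u * s * x * (u * s)⁻¹ = u * x * u⁻¹ := by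
    intro s hs
    rw [mul_inv_rev, mul_assoc u s x, hs]
    group
  refine ⟨u, hu, ?_⟩
  rcases h with h | h | h | h
  · rw [h]
  · rw [h]; exact key z hzx
  · rw [h]; exact key t htx
  · rw [h]; exact key (z * t) (by rw [mul_assoc, htx, ← mul_assoc, hzx, mul_assoc])

/-- what is known of every entry of the list -/
def Qd (N : Subgroup (V ≃ₗ[ZMod 3] V)) (z : ℕ × ℕ) (r : V ≃ₗ[ZMod 3] V) : Prop :=
  r ∈ OB ∧ r ∈ N ∧ Bd r z.1 z.2 ∧ (r = 1 ∨ ∃ p ∈ OB, r = xx * (p * yy * p⁻¹))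

/-- the full list -/
def Lf : List (ℕ × ℕ) := (263139026617958399, 247867571952861938194127346) :: Lst

theorem sum_Lf : 65784756654489600 ≤ (Lf.map fun z => 4 * 65784756654489600 / Nat.succ z.1).sum := sum_le

theorem nodup_Lf : (Lf.map Prod.snd).Nodup := keys_nodup

theorem finite_gl : Finite (V ≃ₗ[ZMod 3] V) :=
  Finite.of_injective (fun g : V ≃ₗ[ZMod 3] V => (g : V → V)) DFunLike.coe_injective

/-- **The products of two elements of order 41.** -/
theorem cov_of (N : Subgroup (V ≃ₗ[ZMod 3] V)) (hle : N ≤ OB) (hconj : ∀ a ∈ OB, ∀ x ∈ N, a * x * a⁻¹ ∈ N)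
    (cN : Nat.card N = 65784756654489600) (cO : Nat.card OB = 4 * 65784756654489600) :
    ∃ X ∈ N, ∃ Y ∈ N, orderOf X = 41 ∧ orderOf Y = 41 ∧ ∀ g ∈ N, g ≠ 1 → ∃ u ∈ N, ∃ v ∈ N,
      g = (u * X * u⁻¹) * (v * Y * v⁻¹) := by
  have hfin : Finite (V ≃ₗ[ZMod 3] V) := finite_gl
  -- the subgroup inside the orthogonal group
  have hM : ∀ x : OB, x ∈ N.subgroupOf OB ↔ (x : V ≃ₗ[ZMod 3] V) ∈ N := fun x => Subgroup.mem_subgroupOf
  have hnor : (N.subgroupOf OB).Normal := ⟨fun x hx a => by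
    rw [hM] at hx ⊢
    exact hconj a a.2 x hx⟩
  have cM : Nat.card (N.subgroupOf OB) = 65784756654489600 := by
    rw [← cN]
    exact Nat.card_congr (Subgroup.subgroupOfEquivOfLe hle).toEquiv
  have hi : (N.subgroupOf OB).index = 4 := by
    have h := (N.subgroupOf OB).index_mul_card
    rw [cM, cO] at h
    omega
  have hxN : xx ∈ N := (hM ⟨xx, xx_mem⟩).1 (mem_of_41 hi (Subtype.ext xx_pow))
  have hyN : yy ∈ N := (hM ⟨yy, yy_mem⟩).1 (mem_of_41 hi (Subtype.ext yy_pow))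
  -- the representatives
  have hQ : ∀ z ∈ Lf, ∃ r, Qd N z r := by
    intro z hz
    rcases List.mem_cons.1 hz with rfl | hz
    · exact ⟨1, OB.one_mem, N.one_mem, one_bd, Or.inl rfl⟩
    · obtain ⟨p, hp, hb⟩ := all_ok z hz
      exact ⟨_, OB.mul_mem xx_mem (OB.mul_mem (OB.mul_mem hp yy_mem) (OB.inv_mem hp)),
        N.mul_mem hxN (hconj p hp yy hyN), hb, Or.inr ⟨p, hp, rfl⟩⟩
  have hmem : ∀ i : Fin Lf.length, Lf.get i ∈ Lf := fun i => List.get_mem _ _
  choose r hr using fun i : Fin Lf.length => hQ _ (hmem i)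
  have hcov : ∀ x ∈ N.subgroupOf OB, ∃ (i : Fin Lf.length) (a : OB), x = a * ⟨r i, (hr i).1⟩ * a⁻¹ := by
    refine H849.O9.cover_key (G := OB) (N.subgroupOf OB) (fun a x hx => hnor.conj_mem x hx a)
      (fun i : Fin Lf.length => (⟨r i, (hr i).1⟩ : OB)) (fun i => Nat.succ (Lf.get i).1) (fun i => (hM _).2 (hr i).2.1)
      (fun i => ?_) (fun x : OB => key (x : V ≃ₗ[ZMod 3] V)) (fun a x => key_conj _ a.2) ?_ ?_
    · have h := (hr i).2.2.1.2 ((Subgroup.centralizer ({(⟨r i, (hr i).1⟩ : OB)} : Set OB)).map OB.subtype)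
        (Subgroup.map_subtype_le _) ?_
      · have e : Nat.card ((Subgroup.centralizer ({(⟨r i, (hr i).1⟩ : OB)} : Set OB)).map OB.subtype) =
            Nat.card (Subgroup.centralizer ({(⟨r i, (hr i).1⟩ : OB)} : Set OB)) :=
          (Nat.card_congr (Subgroup.equivMapOfInjective _ _ OB.subtype_injective).toEquiv).symm
        rw [e] at h
        exact h
      · rintro σ ⟨s, hs, rfl⟩
        exact (congrArg Subtype.val (Subgroup.mem_centralizer_singleton_iff.1 hs))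
    · intro i j h
      have h1 : (Lf.get i).2 = (Lf.get j).2 := by
        rw [← (hr i).2.2.1.1, ← (hr j).2.2.1.1]
        exact h
      have h2 := List.inj_on_of_nodup_map nodup_Lf (hmem i) (hmem j) h1
      exact (List.nodup_iff_injective_get.1 (List.Nodup.of_map _ nodup_Lf)) h2
    · rw [cM, cO]
      have h := Fin.sum_univ_fun_getElem Lf fun z : ℕ × ℕ => 4 * 65784756654489600 / Nat.succ z.1
      refine le_trans sum_Lf (le_of_eq ?_)
      rw [← h]
      rfl
  -- keys of the elements of the subgroup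
  have hkey : ∀ x ∈ N, key x ∈ Lf.map Prod.snd := by
    intro x hx
    obtain ⟨i, a, h⟩ := hcov ⟨x, hle hx⟩ ((hM _).2 hx)
    have h1 : x = a * r i * (a : V ≃ₗ[ZMod 3] V)⁻¹ := congrArg Subtype.val h
    rw [h1, key_conj _ a.2, (hr i).2.2.1.1]
    exact List.mem_map_of_mem (hmem i)
  have hzN : (⟨zz, zz_mem⟩ : OB) ∉ N.subgroupOf OB := fun h =>
    (keys_mem.1 _ (hkey _ ((hM _).1 h))).1 key_zz
  have htN : (⟨tt, tt_mem⟩ : OB) ∉ N.subgroupOf OB := fun h =>
    (keys_mem.1 _ (hkey _ ((hM _).1 h))).2.1 key_tt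
  have hztN : (⟨zz, zz_mem⟩ : OB) * ⟨tt, tt_mem⟩ ∉ N.subgroupOf OB := fun h =>
    (keys_mem.1 _ (hkey _ ((hM _).1 h))).2.2 key_zt
  have hcj : ∀ {w : V ≃ₗ[ZMod 3] V} (hw : w ∈ OB), zz * w = w * zz → tt * w = w * tt → ∀ a ∈ OB,
      ∃ u ∈ N, a * w * a⁻¹ = u * w * u⁻¹ := by
    intro w hw h1 h2 a ha
    obtain ⟨u, hu, h⟩ := conj_in hi hzN htN hztN (Subtype.ext zz_sq) (Subtype.ext zt) (x := ⟨w, hw⟩) (Subtype.ext h1)
      (Subtype.ext h2) ⟨a, ha⟩
    exact ⟨u, (hM u).1 hu, congrArg Subtype.val h⟩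
  have hx1 : xx ≠ 1 := fun h => keys_mem.2.1 (by rw [← key_xx, h]; exact one_bd.1)
  have hy1 : yy ≠ 1 := fun h => keys_mem.2.2 (by rw [← key_yy, h]; exact one_bd.1)
  have hp41 : Fact (Nat.Prime 41) := ⟨by norm_num⟩
  refine ⟨xx, hxN, yy, hyN, orderOf_eq_prime xx_pow hx1, orderOf_eq_prime yy_pow hy1, fun g hg hg1 => ?_⟩
  obtain ⟨i, a, h⟩ := hcov ⟨g, hle hg⟩ ((hM _).2 hg)
  have h1 : g = a * r i * (a : V ≃ₗ[ZMod 3] V)⁻¹ := congrArg Subtype.val h
  rcases (hr i).2.2.2 with h2 | ⟨p, hp, h2⟩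
  · exfalso
    apply hg1
    rw [h1, h2, mul_one, mul_inv_cancel]
  · obtain ⟨u, hu, hu1⟩ := hcj xx_mem zx tx a a.2
    obtain ⟨v, hv, hv1⟩ := hcj yy_mem zy ty (a * p) (OB.mul_mem a.2 hp)
    refine ⟨u, hu, v, hv, ?_⟩
    rw [← hu1, ← hv1, h1, h2]
    group

end Cfsg.Agent.H651.O9
end

-- part: H529/O9/Bridge
section
/-!
# `Ω₉(3)` as a group of linear maps of `F_3 ^ 9` (S2464, helper529)

`B x y = x₀y₁ + x₁y₀ + x₂y₃ + x₃y₂ + x₄y₅ + x₅y₄ + x₆y₇ + x₇y₆ + x₈y₈`, `OB` its isometry group, `NB = [OB, OB]`: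
`NB ≃ POmega F (quadFormOdd 4 F)`, `|F| = 3`, `|NB| = 65784756654489600`, `|OB| = 4 |NB|`.
-/

set_option autoImplicit false
set_option linter.unusedSimpArgs false

namespace Cfsg.Agent.H529.O9

open Cfsg Matrix
open Cfsg.Agent.LieClassical.OrthCore Cfsg.Agent.LieClassical.OrthFinite
open Cfsg.Agent.LieClassical.OmegaReindex (quadOdd coe_quadOdd quadOdd_nondegenerate)

/-- The space. -/
abbrev V9 : Type := Fin 9 → ZMod 3

/-- The index set of `quadFormOdd 4`. -/
abbrev I9 : Type := Unit ⊕ (Fin 4 ⊕ Fin 4)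

/-- The form. -/
def B (x y : V9) : ZMod 3 :=
  x 0 * y 1 + x 1 * y 0 + x 2 * y 3 + x 3 * y 2 + x 4 * y 5 + x 5 * y 4 + x 6 * y 7 + x 7 * y 6 + x 8 * y 8

/-- The isometry group. -/
def OB : Subgroup (V9 ≃ₗ[ZMod 3] V9) where
  carrier := {g | ∀ x y, B (g x) (g y) = B x y}
  mul_mem' {a b} ha hb := fun x y => by
    show B (a (b x)) (a (b y)) = B x y
    rw [ha, hb]
  one_mem' := fun _ _ => rfl
  inv_mem' {a} ha := fun x y => by
    have h := ha (a⁻¹ x) (a⁻¹ y)
    have h1 : ∀ v, a (a⁻¹ v) = v := fun v => LinearEquiv.apply_symm_apply a v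
    rw [h1, h1] at h
    exact h.symm

theorem B_eq (x y : V9) : B x y = 2 * (B (x + y) (x + y) - B x x - B y y) := by
  have h3 : (3 : ZMod 3) = 0 := by decide
  unfold B
  simp only [Pi.add_apply]
  linear_combination (-(x 0 * y 1 + x 1 * y 0 + x 2 * y 3 + x 3 * y 2 + x 4 * y 5 + x 5 * y 4 + x 6 * y 7 + x 7 * y 6 + x 8 * y 8)) * h3

/-- The map of the coordinates. -/
def T : (I9 → ZMod 3) ≃ₗ[ZMod 3] V9 where
  toFun v := ![v (.inr (.inl 0)), -v (.inr (.inr 0)), v (.inr (.inl 1)), -v (.inr (.inr 1)), v (.inr (.inl 2)),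
    -v (.inr (.inr 2)), v (.inr (.inl 3)), -v (.inr (.inr 3)), v (.inl ())]
  map_add' u v := by
    funext i
    fin_cases i <;> simp only [add_comm, _root_.Fin.isValue, _root_.Pi.add_apply, _root_.neg_add_rev, _root_.Nat.succ_eq_add_one, _root_.Nat.reduceAdd, _root_.Fin.zero_eta, _root_.Matrix.cons_val_zero, _root_.Fin.mk_one, _root_.Matrix.cons_val_one, _root_.Fin.reduceFinMk, _root_.Matrix.cons_val]
  map_smul' a v := by
    funext i
    (revert i; simp only [_root_.Fin.forall_fin_succ, _root_.Nat.succ_eq_add_one, Nat.reduceAdd, Fin.isValue, _root_.Pi.smul_apply, _root_.smul_eq_mul, _root_.RingHom.id_apply, _root_.Matrix.cons_val_zero, _root_.Matrix.cons_val_succ, _root_.mul_neg, _root_.Matrix.cons_val_fin_one, _root_.implies_true, _root_.and_self])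
  invFun w := Sum.elim (fun _ => w 8) (Sum.elim ![w 0, w 2, w 4, w 6] ![-w 1, -w 3, -w 5, -w 7])
  left_inv v := by
    funext i
    rcases i with i | i | i
    · rfl
    · fin_cases i <;> rfl
    · (revert i; simp only [_root_.Fin.forall_fin_succ, Fin.isValue, _root_.Matrix.cons_val, _root_.Matrix.cons_val_zero, _root_.Matrix.cons_val_one, _root_.neg_neg, _root_.Sum.elim_inr, _root_.Matrix.cons_val_succ, _root_.Fin.succ_zero_eq_one, _root_.Fin.succ_one_eq_two, _root_.Matrix.cons_val_fin_one, Fin.reduceSucc, _root_.IsEmpty.forall_iff, _root_.and_self])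
  right_inv w := by
    funext i
    (revert i; simp only [_root_.Fin.forall_fin_succ, _root_.Nat.succ_eq_add_one, Nat.reduceAdd, Fin.isValue, _root_.Sum.elim_inr, _root_.Sum.elim_inl, _root_.Matrix.cons_val_zero, _root_.neg_neg, _root_.Matrix.cons_val_one, _root_.Matrix.cons_val, _root_.Matrix.cons_val_succ, _root_.Fin.succ_zero_eq_one, _root_.Fin.succ_one_eq_two, Fin.reduceSucc, _root_.Matrix.cons_val_fin_one, _root_.IsEmpty.forall_iff, _root_.and_self])

theorem Q_T (v : I9 → ZMod 3) : quadOdd 4 (ZMod 3) v = B (T v) (T v) := by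
  have h3 : (3 : ZMod 3) = 0 := by decide
  rw [show quadOdd 4 (ZMod 3) v = quadFormOdd 4 (ZMod 3) v from congrFun (coe_quadOdd 4 (ZMod 3)) v]
  unfold quadFormOdd B
  rw [Fin.sum_univ_four]
  simp only [T, LinearEquiv.coe_mk, LinearMap.coe_mk, AddHom.coe_mk]
  simp only [show (![v (.inr (.inl 0)), -v (.inr (.inr 0)), v (.inr (.inl 1)), -v (.inr (.inr 1)), v (.inr (.inl 2)),
    -v (.inr (.inr 2)), v (.inr (.inl 3)), -v (.inr (.inr 3)), v (.inl ())] : V9) 0 = v (.inr (.inl 0)) from rfl,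
    show (![v (.inr (.inl 0)), -v (.inr (.inr 0)), v (.inr (.inl 1)), -v (.inr (.inr 1)), v (.inr (.inl 2)),
    -v (.inr (.inr 2)), v (.inr (.inl 3)), -v (.inr (.inr 3)), v (.inl ())] : V9) 1 = -v (.inr (.inr 0)) from rfl,
    show (![v (.inr (.inl 0)), -v (.inr (.inr 0)), v (.inr (.inl 1)), -v (.inr (.inr 1)), v (.inr (.inl 2)),
    -v (.inr (.inr 2)), v (.inr (.inl 3)), -v (.inr (.inr 3)), v (.inl ())] : V9) 2 = v (.inr (.inl 1)) from rfl,
    show (![v (.inr (.inl 0)), -v (.inr (.inr 0)), v (.inr (.inl 1)), -v (.inr (.inr 1)), v (.inr (.inl 2)),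
    -v (.inr (.inr 2)), v (.inr (.inl 3)), -v (.inr (.inr 3)), v (.inl ())] : V9) 3 = -v (.inr (.inr 1)) from rfl,
    show (![v (.inr (.inl 0)), -v (.inr (.inr 0)), v (.inr (.inl 1)), -v (.inr (.inr 1)), v (.inr (.inl 2)),
    -v (.inr (.inr 2)), v (.inr (.inl 3)), -v (.inr (.inr 3)), v (.inl ())] : V9) 4 = v (.inr (.inl 2)) from rfl,
    show (![v (.inr (.inl 0)), -v (.inr (.inr 0)), v (.inr (.inl 1)), -v (.inr (.inr 1)), v (.inr (.inl 2)),
    -v (.inr (.inr 2)), v (.inr (.inl 3)), -v (.inr (.inr 3)), v (.inl ())] : V9) 5 = -v (.inr (.inr 2)) from rfl,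
    show (![v (.inr (.inl 0)), -v (.inr (.inr 0)), v (.inr (.inl 1)), -v (.inr (.inr 1)), v (.inr (.inl 2)),
    -v (.inr (.inr 2)), v (.inr (.inl 3)), -v (.inr (.inr 3)), v (.inl ())] : V9) 6 = v (.inr (.inl 3)) from rfl,
    show (![v (.inr (.inl 0)), -v (.inr (.inr 0)), v (.inr (.inl 1)), -v (.inr (.inr 1)), v (.inr (.inl 2)),
    -v (.inr (.inr 2)), v (.inr (.inl 3)), -v (.inr (.inr 3)), v (.inl ())] : V9) 7 = -v (.inr (.inr 3)) from rfl,
    show (![v (.inr (.inl 0)), -v (.inr (.inr 0)), v (.inr (.inl 1)), -v (.inr (.inr 1)), v (.inr (.inl 2)),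
    -v (.inr (.inr 2)), v (.inr (.inl 3)), -v (.inr (.inr 3)), v (.inl ())] : V9) 8 = v (.inl ()) from rfl]
  linear_combination (v (.inr (.inl 0)) * v (.inr (.inr 0)) + v (.inr (.inl 1)) * v (.inr (.inr 1)) +
    v (.inr (.inl 2)) * v (.inr (.inr 2)) + v (.inr (.inl 3)) * v (.inr (.inr 3))) * h3

/-- Conjugation by `T`. -/
def cT : ((I9 → ZMod 3) ≃ₗ[ZMod 3] (I9 → ZMod 3)) ≃* (V9 ≃ₗ[ZMod 3] V9) where
  toFun g := (T.symm.trans g).trans T
  invFun g := (T.trans g).trans T.symm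
  left_inv g := by
    ext v
    simp
  right_inv g := by
    ext v
    simp
  map_mul' a b := by
    ext v
    simp only [LinearEquiv.mul_apply, _root_.LinearEquiv.trans_apply, _root_.LinearEquiv.symm_apply_apply]

theorem cT_apply (g : (I9 → ZMod 3) ≃ₗ[ZMod 3] (I9 → ZMod 3)) (v : I9 → ZMod 3) : cT g (T v) = T (g v) := by
  show T (g (T.symm (T v))) = T (g v)
  rw [LinearEquiv.symm_apply_apply]

theorem map_O : (O (quadOdd 4 (ZMod 3))).map cT.toMonoidHom = OB := by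
  ext g
  constructor
  · rintro ⟨h, hh, rfl⟩
    have hq : ∀ w, B (cT h w) (cT h w) = B w w := by
      intro w
      obtain ⟨v, rfl⟩ := T.surjective w
      rw [cT_apply, ← Q_T, ← Q_T]
      exact hh v
    intro x y
    show B (cT h x) (cT h y) = B x y
    rw [B_eq, B_eq x y, ← map_add, hq, hq, hq]
  · intro hg
    refine ⟨cT.symm g, ?_, cT.apply_symm_apply g⟩
    intro v
    show quadOdd 4 (ZMod 3) (cT.symm g v) = _
    rw [Q_T, Q_T, ← cT_apply, cT.apply_symm_apply]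
    exact hg _ _

/-- `Ω₉(3)` -/
def NB : Subgroup (V9 ≃ₗ[ZMod 3] V9) := ⁅OB, OB⁆

theorem NB_le : NB ≤ OB := by
  refine Subgroup.commutator_le.2 fun a ha b hb => ?_
  rw [commutatorElement_def]
  exact OB.mul_mem (OB.mul_mem (OB.mul_mem ha hb) (OB.inv_mem ha)) (OB.inv_mem hb)

theorem NB_conj {a x : V9 ≃ₗ[ZMod 3] V9} (ha : a ∈ OB) (hx : x ∈ NB) : a * x * a⁻¹ ∈ NB := by
  have h1 : (NB.map (MulAut.conj a).toMonoidHom) = NB := by
    unfold NB
    rw [Subgroup.map_commutator]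
    have h2 : OB.map (MulAut.conj a).toMonoidHom = OB := by
      ext y
      constructor
      · rintro ⟨z, hz, rfl⟩
        exact OB.mul_mem (OB.mul_mem ha hz) (OB.inv_mem ha)
      · intro hy
        refine ⟨a⁻¹ * y * a, OB.mul_mem (OB.mul_mem (OB.inv_mem ha) hy) ha, ?_⟩
        show a * (a⁻¹ * y * a) * a⁻¹ = y
        group
    rw [h2]
  rw [← h1]
  exact ⟨x, hx, rfl⟩

/-- The commutator subgroup. -/
noncomputable def eN : Omega (ZMod 3) ⇑(quadOdd 4 (ZMod 3)) ≃* NB :=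
  (omegaEquiv (quadOdd 4 (ZMod 3))).trans ((cT.subgroupMap _).trans (MulEquiv.subgroupCongr (by
    show Subgroup.map cT.toMonoidHom ⁅O (quadOdd 4 (ZMod 3)), O (quadOdd 4 (ZMod 3))⁆ = NB
    rw [Subgroup.map_commutator, map_O]
    rfl)))

theorem center_bot : Subgroup.center (Omega (ZMod 3) ⇑(quadOdd 4 (ZMod 3))) = ⊥ := by
  classical
  have h2 : (2 : ZMod 3) ≠ 0 := by decide
  refine Cfsg.Agent.LieClassical.OrthCenter.center_omega_eq_bot_of_odd h2 (quadOdd_nondegenerate h2) (by simp)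
    (by simp; decide) ⟨Pi.single (.inr (.inl 0)) 1, ?_, ?_⟩
  · intro h
    have := congrFun h (.inr (.inl 0))
    rw [Pi.single_eq_same] at this
    exact one_ne_zero this
  · rw [coe_quadOdd]
    unfold Cfsg.quadFormOdd
    rw [Fin.sum_univ_four]
    simp

/-- `PΩ₉(3) ≃ NB` -/
theorem exists_equiv : Nonempty (POmega (ZMod 3) (quadFormOdd 4 (ZMod 3)) ≃* NB) := by
  have h : Nonempty (POmega (ZMod 3) ⇑(quadOdd 4 (ZMod 3)) ≃* NB) :=
    ⟨((QuotientGroup.quotientMulEquivOfEq center_bot).trans QuotientGroup.quotientBot).trans eN⟩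
  rwa [coe_quadOdd] at h

theorem card_NB : Nat.card NB = 65784756654489600 := by
  obtain ⟨e⟩ := exists_equiv
  have h := Cfsg.Agent.S0292.result (F := ZMod 3) (q := 3) (ZMod.card 3) (by decide) 4 (by norm_num)
  rw [Nat.card_congr e.toEquiv] at h
  have h2 : 3 ^ (4 ^ 2) * ∏ i ∈ Finset.range 4, (3 ^ (2 * (i + 1)) - 1) = 2 * 65784756654489600 := by
    norm_num [Finset.prod_range_succ]
  rw [h2] at h
  omega

theorem card_OB : Nat.card OB = 4 * 65784756654489600 := by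
  have h1 : Nat.card OB = Nat.card (O (quadOdd 4 (ZMod 3))) := by
    rw [← map_O]
    exact (Nat.card_congr (cT.subgroupMap _).toEquiv).symm
  have h2 : Nat.card (O (quadOdd 4 (ZMod 3))) = Nat.card (Cfsg.isometryGroup (ZMod 3) (quadFormOdd 4 (ZMod 3))) := by
    rw [← coe_quadOdd]
    exact (Nat.card_congr (isometryEquiv _).toEquiv).symm
  rw [h1, h2, Cfsg.Agent.S0286.result (F := ZMod 3) (q := 3) (ZMod.card 3) (by decide) 4]
  norm_num [Finset.prod_range_succ]

/-- Every `PΩ₉(F)`, `|F| = 3`, is `NB`. -/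
theorem equiv_of {F : Type*} [Field F] [Fintype F] (hF : Fintype.card F = 3) :
    Nonempty (POmega F (quadFormOdd 4 F) ≃* NB) := by
  have : Fact (Nat.Prime 3) := ⟨Nat.prime_three⟩
  have σ : F ≃+* ZMod 3 := (ZMod.ringEquivOfPrime F Nat.prime_three hF).symm
  obtain ⟨e1⟩ := Cfsg.Agent.UGT.U2.Rec.Congr.nonempty_POmegaOdd σ 4
  obtain ⟨e2⟩ := exists_equiv
  exact ⟨e1.trans e2⟩

/-- The cover property inside the linear group. -/
def Cov (N : Subgroup (V9 ≃ₗ[ZMod 3] V9)) : Prop :=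
  ∃ X ∈ N, ∃ Y ∈ N, orderOf X = 41 ∧ orderOf Y = 41 ∧ ∀ g ∈ N, g ≠ 1 → ∃ u ∈ N, ∃ v ∈ N,
    g = (u * X * u⁻¹) * (v * Y * v⁻¹)

/-- The cover property for a group isomorphic to `N`. -/
theorem exists_of_cov {N : Subgroup (V9 ≃ₗ[ZMod 3] V9)} (h : Cov N) {S : Type*} [Group S] (e : S ≃* N) :
    ∃ x y : S, orderOf x = 41 ∧ orderOf y = 41 ∧ ∀ g : S, g ≠ 1 → ∃ u v : S, g = (u * x * u⁻¹) * (v * y * v⁻¹) := by
  obtain ⟨X, hX, Y, hY, oX, oY, h⟩ := h
  refine ⟨e.symm ⟨X, hX⟩, e.symm ⟨Y, hY⟩, ?_, ?_, fun g hg => ?_⟩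
  · rw [MulEquiv.orderOf_eq, Subgroup.orderOf_mk, oX]
  · rw [MulEquiv.orderOf_eq, Subgroup.orderOf_mk, oY]
  · have hne : (e g : V9 ≃ₗ[ZMod 3] V9) ≠ 1 := by
      intro h1
      apply hg
      apply e.injective
      rw [map_one]
      exact Subtype.ext h1
    obtain ⟨u, hu, v, hv, e1⟩ := h (e g) (e g).2 hne
    refine ⟨e.symm ⟨u, hu⟩, e.symm ⟨v, hv⟩, ?_⟩
    apply e.injective
    apply Subtype.ext
    rw [map_mul, map_mul, map_mul, map_mul, map_mul, map_inv, map_inv]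
    simp only [MulEquiv.apply_symm_apply, Subgroup.coe_mul, Subgroup.coe_inv]
    exact e1

/-- **`PΩ₉(3)` from the kernel certificate** (the form of S2464). -/
theorem six_of_cov (h : Cov NB) {F : Type*} [Field F] [Fintype F] (hF : Fintype.card F = 3) :
    ∃ x y : POmega F (quadFormOdd 4 F), Nat.Coprime (orderOf x) 6 ∧ Nat.Coprime (orderOf y) 6 ∧
      ∀ g : POmega F (quadFormOdd 4 F), g ≠ 1 → ∃ u v : POmega F (quadFormOdd 4 F),
        g = (u * x * u⁻¹) * (v * y * v⁻¹) := by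
  obtain ⟨e⟩ := equiv_of hF
  obtain ⟨x, y, hx, hy, h⟩ := exists_of_cov h e
  exact ⟨x, y, by rw [hx]; norm_num, by rw [hy]; norm_num, h⟩

end Cfsg.Agent.H529.O9
end

-- part: H651/O9/Row
section
/-!
# The row `Ω₉(3)` of S2464 (helper651)
-/

set_option autoImplicit false

namespace Cfsg.Agent.H651.O9

open Cfsg

theorem cov_NB : H529.O9.Cov H529.O9.NB :=
  cov_of H529.O9.NB H529.O9.NB_le (fun _ ha _ hx => H529.O9.NB_conj ha hx) H529.O9.card_NB H529.O9.card_OB

/-- **Every nontrivial element of `PΩ₉(3)` is a product of two elements of order 41.** -/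
theorem six_omega9 {F : Type*} [Field F] [Fintype F] (hF : Fintype.card F = 3) :
    ∃ x y : POmega F (quadFormOdd 4 F), Nat.Coprime (orderOf x) 6 ∧ Nat.Coprime (orderOf y) 6 ∧
      ∀ g : POmega F (quadFormOdd 4 F), g ≠ 1 → ∃ u v : POmega F (quadFormOdd 4 F),
        g = (u * x * u⁻¹) * (v * y * v⁻¹) :=
  H529.O9.six_of_cov cov_NB hF

end Cfsg.Agent.H651.O9
end

-- part: H269/T6/Tab
section
/-!
# The Levi subgroup `A₂ × Ã₁` of `F₄` (S2464): the tables (helper269)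
-/

set_option autoImplicit false
set_option linter.unusedSectionVars false

namespace Cfsg.Agent.H269.T6

open CoxeterSystem Cfsg.Agent.ChevalleyStructure.CoxeterGeom Cfsg.Agent.Tits.Roots Cfsg.Agent.Tits.Core
  Cfsg.Agent.Nodes.Reps Cfsg.Agent.Nodes.BNOf Cfsg.Agent.Nodes.RGDLib Cfsg.Agent.Nodes.Bruhat
  Cfsg.Agent.Nodes.OppDec Cfsg.Agent.Nodes.LeviDec Cfsg.Agent.Nodes.KindChev Cfsg.Agent.Nodes.ChevCls
  Cfsg.Agent.OddHalf.NI.ModelChev Cfsg.Agent.Nodes.StabComb
  Cfsg.Agent.H162.GaussDec Cfsg.Agent.H162.GaussLevi Cfsg.Agent.H162.GaussSL Cfsg.Agent.H162.GaussReg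
  Cfsg.Agent.H162.GaussPQ
  Cfsg.Agent.H928.Ore.Frame Cfsg.Agent.H928.Ore.Fix
open Cfsg.Lie Cfsg.Agent.ChevalleyStructure Cfsg.Agent.ChevalleyStructure.Elts
  Cfsg.Agent.ChevalleyStructure.RootVec Cfsg.Agent.ChevalleyStructure.NPerm
  Cfsg.Agent.ChevalleyStructure.CoxeterGeomTypes Cfsg.Agent.Nodes.RGDChev Cfsg.Agent.KFacts.RgdChevCoord
open Cfsg.Agent.TitsThree.KExcRT Cfsg.Agent.H194.Ore

universe u

/-- the table of a Levi subgroup `A₂ × A₁` -/
structure TabT (D : ChevalleyDatum) (l : ℕ) (J : List (Fin l)) (r : Fin 3 → Fin 3 → ℕ) (ε : ℤ)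
    (i j k : Fin l) : Prop where
  hi : r 0 1 = D.simple i
  hj : r 1 2 = D.simple j
  ra : RTa D r
  rb : RTb D r fun _ _ => ε
  rc : RTc D r
  rn : ∀ a b, a ≠ b → r b a = D.neg (r a b)
  rJ : ∀ a b, a ≠ b → ∀ m, m ∉ J → vec D l (r a b) m = 0
  kJ : k ∈ J
  sub : ∀ q < D.nroots, (∀ m, m ∉ J → vec D l q m = 0) → (∃ a b, a ≠ b ∧ r a b = q ∧
    (a < b → ∃ m, 0 < vec D l q m) ∧ (b < a → ∃ m, vec D l q m < 0)) ∨ q = D.simple k ∨ q = D.neg (D.simple k)
  com : ∀ a b, a ≠ b → D.simple k ≠ r a b ∧ D.simple k ≠ D.neg (r a b) ∧ D.commTerms (r a b) (D.simple k) = [] ∧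
    D.neg (D.simple k) ≠ r a b ∧ D.neg (D.simple k) ≠ D.neg (r a b) ∧
    D.commTerms (r a b) (D.neg (D.simple k)) = []
  ck : ∀ a b, a ≠ b → D.cartan k (r a b) = 0
  ij : D.cartan i (D.simple k) = 0 ∧ D.cartan j (D.simple k) = 0
  out : ∀ s < D.nroots, (∃ m, m ∉ J ∧ vec D l s m ≠ 0) → Minus D i j s ∨
    (D.cartan i s = 0 ∧ D.cartan j s = 0 ∧ |D.cartan k s| = 1)

section Tables

variable (D : ChevalleyDatum) (l : ℕ) (J : List (Fin l)) (r : Fin 3 → Fin 3 → ℕ) (i j k : Fin l)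

/-- decidable form -/
def ChkX : Prop :=
  r 0 1 = D.simple i ∧ r 1 2 = D.simple j ∧
  (∀ a b, a ≠ b → ∀ m, m ∉ J → vec D l (r a b) m = 0) ∧ k ∈ J ∧
  (∀ a b, a ≠ b → D.cartan k (r a b) = 0) ∧ (D.cartan i (D.simple k) = 0 ∧ D.cartan j (D.simple k) = 0)

instance : Decidable (ChkX D l J r i j k) := by
  unfold ChkX; infer_instance

/-- decidable form -/
def ChkC : Prop :=
  ∀ a b, a ≠ b → D.simple k ≠ r a b ∧ D.simple k ≠ D.neg (r a b) ∧ D.commTerms (r a b) (D.simple k) = [] ∧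
    D.neg (D.simple k) ≠ r a b ∧ D.neg (D.simple k) ≠ D.neg (r a b) ∧
    D.commTerms (r a b) (D.neg (D.simple k)) = []

instance : Decidable (ChkC D l r k) := by
  unfold ChkC
  refine @Fintype.decidableForallFintype _ _ (fun a => ?_) _
  refine @Fintype.decidableForallFintype _ _ (fun b => ?_) _
  refine @instDecidableForall _ _ inferInstance ?_
  refine @instDecidableAnd _ _ inferInstance ?_
  refine @instDecidableAnd _ _ inferInstance ?_
  refine @instDecidableAnd _ _ inferInstance ?_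
  refine @instDecidableAnd _ _ inferInstance ?_
  refine @instDecidableAnd _ _ inferInstance ?_
  infer_instance

/-- decidable form -/
def ChkY : Prop :=
  ∀ s < D.nroots, (∃ m, m ∉ J ∧ vec D l s m ≠ 0) → Minus D i j s ∨
    (D.cartan i s = 0 ∧ D.cartan j s = 0 ∧ |D.cartan k s| = 1)

instance : Decidable (ChkY D l J i j k) := by
  unfold ChkY; infer_instance

/-- decidable form -/
def ChkZ : Prop :=
  ∀ q < D.nroots, (∀ m, m ∉ J → vec D l q m = 0) → (∃ a b, a ≠ b ∧ r a b = q ∧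
    (a < b → ∃ m, 0 < vec D l q m) ∧ (b < a → ∃ m, vec D l q m < 0)) ∨ q = D.simple k ∨ q = D.neg (D.simple k)

instance : Decidable (ChkZ D l J r k) := by
  unfold ChkZ
  refine @Nat.decidableBallLT _ _ fun q _ => ?_
  refine @instDecidableForall _ _ inferInstance ?_
  refine @instDecidableOr _ _ ?_ inferInstance
  refine @Fintype.decidableExistsFintype _ _ (fun a => ?_) _
  refine @Fintype.decidableExistsFintype _ _ (fun b => ?_) _
  infer_instance

end Tables

theorem xF : ChkX chevF4 4 [3, 2, 0] rL 3 2 0 := by decide +kernel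

theorem cF : ChkC chevF4 4 rL 0 := by decide +kernel

theorem yF : ChkY chevF4 4 [3, 2, 0] 3 2 0 := by decide +kernel

theorem zF : ChkZ chevF4 4 [3, 2, 0] rL 0 := by decide +kernel

theorem tabF : TabT chevF4 4 [3, 2, 0] rL 1 3 2 0 where
  hi := xF.1
  hj := xF.2.1
  ra := rtL.1
  rb := rtL.2.1
  rc := rtL.2.2.1
  rn := rtL.2.2.2
  rJ := xF.2.2.1
  kJ := xF.2.2.2.1
  sub := zF
  com := cF
  ck := xF.2.2.2.2.1
  ij := xF.2.2.2.2.2
  out := yF

end Cfsg.Agent.H269.T6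
end

-- part: H269/T6/Blk
section
/-!
# Levi subgroups `A₂ × A₁` (S2464, helper269)

`φ : SL₃(K) → D.group K`, `ψ = sl k : SL₂(K) → D.group K` commuting with it.

* `TabT.comm`, `TabT.up`, `TabT.lo`, `TabT.memφ`, `memψ`;
* `TabT.nf` : no fixed points of `φ X · ψ Y` on the unipotent radicals, `X` irreducible of order prime to the order of `Y`;
* `TabT.t6` : the row, from the product theorems in `SL₃(K)` and `SL₂(K)`.
-/

set_option autoImplicit false
set_option linter.unusedSectionVars false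

namespace Cfsg.Agent.H269.T6

open CoxeterSystem Cfsg.Agent.ChevalleyStructure.CoxeterGeom Cfsg.Agent.Tits.Roots Cfsg.Agent.Tits.Core
  Cfsg.Agent.Nodes.Reps Cfsg.Agent.Nodes.BNOf Cfsg.Agent.Nodes.RGDLib Cfsg.Agent.Nodes.Bruhat
  Cfsg.Agent.Nodes.OppDec Cfsg.Agent.Nodes.LeviDec Cfsg.Agent.Nodes.KindChev Cfsg.Agent.Nodes.ChevCls
  Cfsg.Agent.OddHalf.NI.ModelChev Cfsg.Agent.Nodes.StabComb
  Cfsg.Agent.H162.GaussDec Cfsg.Agent.H162.GaussLevi Cfsg.Agent.H162.GaussSL Cfsg.Agent.H162.GaussReg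
  Cfsg.Agent.H162.GaussPQ
  Cfsg.Agent.H928.Ore.Frame Cfsg.Agent.H928.Ore.Fix Cfsg.Agent.H928.Ore.Block
open Cfsg.Lie Cfsg.Agent.ChevalleyStructure Cfsg.Agent.ChevalleyStructure.Elts
  Cfsg.Agent.ChevalleyStructure.RootVec Cfsg.Agent.ChevalleyStructure.NPerm
  Cfsg.Agent.ChevalleyStructure.CoxeterGeomTypes Cfsg.Agent.Nodes.RGDChev Cfsg.Agent.KFacts.RgdChevCoord
open Cfsg.Agent.TitsThree.KExcRT Cfsg.Agent.H194.Ore
open Cfsg.Agent.FixBN.FieldRGD (uu vv dd ww)
open Cfsg.Agent.H162.GaussExc (coord)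
open scoped MatrixGroups

universe u

/-! ### Homomorphisms of `SL_n` -/

section

variable {K : Type*} [Field K] {Y : Type*} [Group Y]

theorem tv01 (c : K) : Matrix.SpecialLinearGroup.transvection (show (0 : Fin 2) ≠ 1 by decide) c = uu c := by
  apply Subtype.ext
  ext i j
  (revert i j; simp only [Matrix.SpecialLinearGroup.transvection, Matrix.transvection, uu, _root_.Fin.forall_fin_succ, Fin.isValue, _root_.Matrix.add_apply, _root_.Matrix.of_apply, _root_.Matrix.cons_val', _root_.Matrix.cons_val_fin_one, _root_.one_ne_zero, _root_.and_false, _root_.not_false_eq_true, _root_.Matrix.single_apply_of_ne, _root_.add_zero, _root_.Matrix.cons_val_zero, _root_.Matrix.cons_val_succ, _root_.Fin.succ_zero_eq_one, _root_.IsEmpty.forall_iff, _root_.and_true, _root_.Matrix.one_apply_eq, Nat.reduceAdd, _root_.ne_eq, _root_.zero_ne_one, _root_.Matrix.one_apply_ne, _root_.Matrix.single_apply_same, _root_.zero_add, _root_.and_self, _root_.Fin.succ_ne_zero,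 _root_.true_and])

theorem tv10 (c : K) : Matrix.SpecialLinearGroup.transvection (show (1 : Fin 2) ≠ 0 by decide) c = vv c := by
  apply Subtype.ext
  ext i j
  (revert i j; simp only [Matrix.SpecialLinearGroup.transvection, Matrix.transvection, vv, _root_.Fin.forall_fin_succ, Fin.isValue, _root_.Matrix.add_apply, _root_.Matrix.of_apply, _root_.Matrix.cons_val', _root_.Matrix.cons_val_fin_one, _root_.Matrix.cons_val_zero, _root_.Matrix.cons_val_succ, _root_.Fin.succ_zero_eq_one, _root_.zero_ne_one, _root_.and_false, _root_.not_false_eq_true, _root_.Matrix.single_apply_of_ne, _root_.add_zero, _root_.IsEmpty.forall_iff, _root_.and_true, _root_.Matrix.one_apply_eq, _root_.one_ne_zero, Nat.reduceAdd, _root_.ne_eq, _root_.Matrix.one_apply_ne, _root_.and_self, _root_.Fin.succ_ne_zero, _root_.zero_add, _root_.Matrix.single_apply_same])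

theorem ext2 {f f' : SL(2, K) →* Y} (h1 : ∀ a, f (uu a) = f' (uu a)) (h2 : ∀ a, f (vv a) = f' (vv a)) : f = f' := by
  refine hom_ext fun i j hij c => ?_
  fin_cases i <;> fin_cases j
  · exact absurd rfl hij
  · exact (congrArg f (tv01 c)).trans ((h1 c).trans (congrArg f' (tv01 c)).symm)
  · exact (congrArg f (tv10 c)).trans ((h2 c).trans (congrArg f' (tv10 c)).symm)
  · exact absurd rfl hij

theorem comm_gen {n : ℕ} {f : Matrix.SpecialLinearGroup (Fin n) K →* Y} {y : Y}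
    (h : ∀ a b (hab : a ≠ b) c, y * f (Matrix.SpecialLinearGroup.transvection hab c) =
      f (Matrix.SpecialLinearGroup.transvection hab c) * y) (A : Matrix.SpecialLinearGroup (Fin n) K) :
    y * f A = f A * y := by
  have h2 : (MulAut.conj y).toMonoidHom.comp f = f := by
    refine hom_ext fun a b hab c => ?_
    change y * f _ * y⁻¹ = f _
    rw [h a b hab c]
    group
  have h3 := DFunLike.congr_fun h2 A
  change y * f A * y⁻¹ = f A at h3
  calc y * f A = (y * f A * y⁻¹) * y := by group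
    _ = f A * y := by rw [h3]

theorem comm_gen2 {f : SL(2, K) →* Y} {y : Y} (h1 : ∀ a, y * f (uu a) = f (uu a) * y)
    (h2 : ∀ a, y * f (vv a) = f (vv a) * y) (A : SL(2, K)) : y * f A = f A * y := by
  refine comm_gen (fun i j hij c => ?_) A
  fin_cases i <;> fin_cases j
  · exact absurd rfl hij
  · have e := congrArg f (tv01 c)
    exact (congrArg (y * ·) e).trans ((h1 c).trans (congrArg (· * y) e).symm)
  · have e := congrArg f (tv10 c)
    exact (congrArg (y * ·) e).trans ((h2 c).trans (congrArg (· * y) e).symm)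
  · exact absurd rfl hij

theorem mem_gen2 {f : SL(2, K) →* Y} {L : Subgroup Y} (h1 : ∀ a, f (uu a) ∈ L) (h2 : ∀ a, f (vv a) ∈ L)
    (A : SL(2, K)) : f A ∈ L := by
  have h3 : (⊤ : Subgroup (SL(2, K))) ≤ L.comap f := by
    rw [← Cfsg.Agent.LieClassical.SLGen.closure_transvections, Subgroup.closure_le]
    rintro _ ⟨i, j, hij, c, rfl⟩
    change f _ ∈ L
    fin_cases i <;> fin_cases j
    · exact absurd rfl hij
    · exact (congrArg f (tv01 c)) ▸ h1 c
    · exact (congrArg f (tv10 c)) ▸ h2 c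
    · exact absurd rfl hij
  exact h3 (Subgroup.mem_top A)

end

section

variable {D : ChevalleyDatum} {l : ℕ} {M : CoxeterMatrix (Fin l)} (hp : IsType D l M) {K : Type u} [Field K]

/-- commuting root elements -/
theorem xc_comm {r s : ℕ} (hr : r < D.nroots) (hs : s < D.nroots) (hrs : s ≠ r) (hneg : s ≠ D.neg r)
    (h : D.commTerms r s = []) (t u : K) :
    xc hp (vec D l s) u * xc hp (vec D l r) t = xc hp (vec D l r) t * xc hp (vec D l s) u := by
  apply Subtype.ext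
  rw [Subgroup.coe_mul, Subgroup.coe_mul, coe_xc hp hr, coe_xc hp hs]
  apply Units.ext
  have h1 := Cfsg.Agent.S1025.result (F := K) D hp.inList r s hr hs hrs hneg t u
  rw [ChevalleyDatum.commWord, h, List.map_nil, wordMat_nil, mul_one] at h1
  exact h1

include hp in
theorem sk_eq (k : Fin l) : (sr k : Fin l → ℤ) = vec D l (D.simple k) ∧ (-sr k : Fin l → ℤ) = vec D l (D.neg (D.simple k)) := by
  have h0 := _root_.Cfsg.Agent.ChevalleyStructure.NPerm.simple_lt hp.inList (lt_rank hp k)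
  exact ⟨(vec_simple hp k).symm, by rw [vec_neg hp h0, vec_simple hp k]⟩

variable {J : List (Fin l)} {r : Fin 3 → Fin 3 → ℕ} {ε : ℤ} {i j k : Fin l} (T : TabT D l J r ε i j k)
  {φ : Matrix.SpecialLinearGroup (Fin 3) K →* ↥(D.group K)}
  (hφ : ∀ a b (hab : a ≠ b) c, φ (Matrix.SpecialLinearGroup.transvection hab c) = xc hp (vec D l (r a b)) ((ε : K) * c))

include T

theorem TabT.memψ (B : SL(2, K)) : sl hp k B ∈ LJ M.toCoxeterSystem hp.isCartan (TT D K) (XX D l K) {m | m ∈ J} := by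
  have h0 := _root_.Cfsg.Agent.ChevalleyStructure.NPerm.simple_lt hp.inList (lt_rank hp k)
  have h0' := _root_.Cfsg.Agent.ChevalleyStructure.NPerm.neg_lt hp.inList h0
  have hz : ∀ m, m ∉ J → (sr k : Fin l → ℤ) m = 0 := by
    intro m hm
    have hmk : m ≠ k := fun e => hm (e ▸ T.kJ)
    unfold sr
    exact Pi.single_eq_of_ne hmk _
  refine mem_gen2 (fun a => ?_) (fun a => ?_) B
  · rw [sl_uu, (sk_eq hp k).1]
    refine X_le_LJ (x := vec D l (D.simple k)) ⟨isRoot_vec hp _ h0, fun m hm => ?_⟩ ((mem_XX hp h0 _).2 ⟨_, rfl⟩)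
    rw [← (sk_eq hp k).1]
    exact hz m hm
  · rw [sl_vv, (sk_eq hp k).2]
    refine X_le_LJ (x := vec D l (D.neg (D.simple k))) ⟨isRoot_vec hp _ h0', fun m hm => ?_⟩
      ((mem_XX hp h0' _).2 ⟨_, rfl⟩)
    rw [← (sk_eq hp k).2, Pi.neg_apply, hz m hm, neg_zero]

include hφ

theorem TabT.memφ (A : Matrix.SpecialLinearGroup (Fin 3) K) :
    φ A ∈ LJ M.toCoxeterSystem hp.isCartan (TT D K) (XX D l K) {m | m ∈ J} :=
  Cfsg.Agent.H928.Ore.Block.phi_mem hp T.ra hφ (J := {m | m ∈ J}) T.rJ A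

theorem TabT.comm (A : Matrix.SpecialLinearGroup (Fin 3) K) (B : SL(2, K)) : φ A * sl hp k B = sl hp k B * φ A := by
  have h0 := _root_.Cfsg.Agent.ChevalleyStructure.NPerm.simple_lt hp.inList (lt_rank hp k)
  have h0' := _root_.Cfsg.Agent.ChevalleyStructure.NPerm.neg_lt hp.inList h0
  refine comm_gen2 (fun c => ?_) (fun c => ?_) B
  · rw [sl_uu, (sk_eq hp k).1]
    symm
    refine comm_gen (fun a b hab d => ?_) A
    obtain ⟨h1, h2, h3, -⟩ := T.com a b hab
    rw [hφ]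
    exact xc_comm hp (T.ra a b hab) h0 h1 h2 h3 _ _
  · rw [sl_vv, (sk_eq hp k).2]
    symm
    refine comm_gen (fun a b hab d => ?_) A
    obtain ⟨-, -, -, h1, h2, h3⟩ := T.com a b hab
    rw [hφ]
    exact xc_comm hp (T.ra a b hab) h0' h1 h2 h3 _ _

/-- the homomorphism of the product -/
noncomputable def TabT.hom : Matrix.SpecialLinearGroup (Fin 3) K × SL(2, K) →* ↥(D.group K) :=
  MonoidHom.noncommCoprod φ (sl hp k) fun A B => T.comm hp hφ A B

theorem TabT.hom_apply (A : Matrix.SpecialLinearGroup (Fin 3) K) (B : SL(2, K)) :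
    T.hom hp hφ (A, B) = φ A * sl hp k B := MonoidHom.noncommCoprod_apply _ _ _ _

variable (hε : ε * ε = 1)

include hε

theorem TabT.up : UJ M.toCoxeterSystem hp.isCartan (XX D l K) {m | m ∈ J} ≤
    ((UT 3 K).prod (UT 2 K)).map (T.hom hp hφ) := by
  have hεK : (ε : K) * (ε : K) = 1 := by rw [← Int.cast_mul, hε, Int.cast_one]
  have h0 := _root_.Cfsg.Agent.ChevalleyStructure.NPerm.simple_lt hp.inList (lt_rank hp k)
  refine RGD.Sup_le fun x hx => ?_
  obtain ⟨q, hq, rfl⟩ := (isRoot_iff hp _ x).1 hx.1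
  rcases T.sub q hq hx.2.2 with ⟨a, b, hab, rfl, h1, h2⟩ | rfl | rfl
  · have hlt : a < b := by
      rcases lt_or_gt_of_ne hab with h | h
      · exact h
      · obtain ⟨m, hm⟩ := h2 h
        exact absurd (hx.2.1 m) (not_le.2 hm)
    intro y hy
    obtain ⟨c, rfl⟩ := (mem_XX hp hq y).1 hy
    refine ⟨(Matrix.SpecialLinearGroup.transvection hab ((ε : K) * c), 1),
      ⟨tv_mem_UT hab hlt _, one_mem _⟩, ?_⟩
    rw [T.hom_apply, map_one, mul_one, hφ, ← mul_assoc, hεK, one_mul]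
  · intro y hy
    obtain ⟨c, rfl⟩ := (mem_XX hp hq y).1 hy
    refine ⟨(1, uu c), ⟨one_mem _, ?_⟩, ?_⟩
    · rw [← tv01]
      exact tv_mem_UT (show (0 : Fin 2) ≠ 1 by decide) (by decide) _
    · rw [T.hom_apply, map_one, one_mul, sl_uu, (sk_eq hp k).1]
  · exfalso
    have h3 := hx.2.1 k
    rw [← (sk_eq hp k).2, Pi.neg_apply] at h3
    unfold sr at h3
    rw [Pi.single_eq_same] at h3
    exact absurd h3 (by norm_num)

theorem TabT.lo : UNJ M.toCoxeterSystem hp.isCartan (XX D l K) {m | m ∈ J} ≤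
    ((LT 3 K).prod (_root_.Cfsg.Agent.H162.GaussSL.LT 2 K)).map (T.hom hp hφ) := by
  have hεK : (ε : K) * (ε : K) = 1 := by rw [← Int.cast_mul, hε, Int.cast_one]
  have h0 := _root_.Cfsg.Agent.ChevalleyStructure.NPerm.simple_lt hp.inList (lt_rank hp k)
  refine RGD.Sup_le fun x hx => ?_
  have hx1 := hx.1.neg
  rw [_root_.neg_neg] at hx1
  obtain ⟨q, hq, rfl⟩ := (isRoot_iff hp _ x).1 hx1
  rcases T.sub q hq (fun m hm => by
    have := hx.2.2 m hm
    rwa [Pi.neg_apply, neg_eq_zero] at this) with ⟨a, b, hab, rfl, h1, h2⟩ | rfl | rfl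
  · have hlt : b < a := by
      rcases lt_or_gt_of_ne hab with h | h
      · obtain ⟨m, hm⟩ := h1 h
        have h3 := hx.2.1 m
        rw [Pi.neg_apply, Pi.zero_apply, Left.nonneg_neg_iff] at h3
        exact absurd hm (not_lt.2 h3)
      · exact h
    intro y hy
    obtain ⟨c, rfl⟩ := (mem_XX hp hq y).1 hy
    refine ⟨(Matrix.SpecialLinearGroup.transvection hab ((ε : K) * c), 1),
      ⟨tv_mem_LT hab hlt _, one_mem _⟩, ?_⟩
    rw [T.hom_apply, map_one, mul_one, hφ, ← mul_assoc, hεK, one_mul]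
  · exfalso
    have h3 := hx.2.1 k
    rw [← (sk_eq hp k).1, Pi.neg_apply] at h3
    unfold sr at h3
    rw [Pi.single_eq_same] at h3
    exact absurd h3 (by norm_num)
  · intro y hy
    obtain ⟨c, rfl⟩ := (mem_XX hp hq y).1 hy
    refine ⟨(1, vv c), ⟨one_mem _, ?_⟩, ?_⟩
    · rw [← tv10]
      exact tv_mem_LT (show (1 : Fin 2) ≠ 0 by decide) (by decide) _
    · rw [T.hom_apply, map_one, one_mul, sl_vv, (sk_eq hp k).2]

end

end Cfsg.Agent.H269.T6
end

-- part: H269/T6/Nf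
section
/-!
# Fixed points for the Levi subgroup `A₂ × A₁` (S2464, helper269)

`TabT.nf` : no fixed points of `φ X · ψ Y` on the unipotent radicals, `X` irreducible of order prime to the order of `Y`.
-/

set_option autoImplicit false
set_option linter.unusedSectionVars false

namespace Cfsg.Agent.H269.T6

open CoxeterSystem Cfsg.Agent.ChevalleyStructure.CoxeterGeom Cfsg.Agent.Tits.Roots Cfsg.Agent.Tits.Core
  Cfsg.Agent.Nodes.Reps Cfsg.Agent.Nodes.BNOf Cfsg.Agent.Nodes.RGDLib Cfsg.Agent.Nodes.Bruhat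
  Cfsg.Agent.Nodes.OppDec Cfsg.Agent.Nodes.LeviDec Cfsg.Agent.Nodes.KindChev Cfsg.Agent.Nodes.ChevCls
  Cfsg.Agent.OddHalf.NI.ModelChev Cfsg.Agent.Nodes.StabComb
  Cfsg.Agent.H162.GaussDec Cfsg.Agent.H162.GaussLevi Cfsg.Agent.H162.GaussSL Cfsg.Agent.H162.GaussReg
  Cfsg.Agent.H162.GaussPQ
  Cfsg.Agent.H928.Ore.Frame Cfsg.Agent.H928.Ore.Fix Cfsg.Agent.H928.Ore.Block
open Cfsg.Lie Cfsg.Agent.ChevalleyStructure Cfsg.Agent.ChevalleyStructure.Elts
  Cfsg.Agent.ChevalleyStructure.RootVec Cfsg.Agent.ChevalleyStructure.NPerm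
  Cfsg.Agent.ChevalleyStructure.CoxeterGeomTypes Cfsg.Agent.Nodes.RGDChev Cfsg.Agent.KFacts.RgdChevCoord
open Cfsg.Agent.TitsThree.KExcRT Cfsg.Agent.H194.Ore
open Cfsg.Agent.FixBN.FieldRGD (uu vv dd ww)
open Cfsg.Agent.H162.GaussExc (coord)
open scoped MatrixGroups

universe u v

theorem prod_single {K : Type*} [Field K] {D : ChevalleyDatum} {l : ℕ} (i : Fin l) (u : Kˣ) (s : ℕ) :
    ∏ k : Fin l, (((Pi.mulSingle i u : Fin l → Kˣ) k : Kˣ) : K) ^ D.cartan k s = (u : K) ^ D.cartan i s := by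
  rw [Finset.prod_eq_single i]
  · rw [Pi.mulSingle_eq_same]
  · intro k _ hk
    rw [Pi.mulSingle_eq_of_ne hk, Units.val_one, _root_.one_zpow]
  · intro hi; exact absurd (Finset.mem_univ i) hi

theorem prod_three {K : Type*} [Field K] {D : ChevalleyDatum} {l : ℕ} (i j k : Fin l) (a b c : Kˣ) (s : ℕ) :
    ∏ m : Fin l, (((Pi.mulSingle i a * Pi.mulSingle j b * Pi.mulSingle k c : Fin l → Kˣ) m : Kˣ) : K) ^ D.cartan m s =
      (a : K) ^ D.cartan i s * (b : K) ^ D.cartan j s * (c : K) ^ D.cartan k s := by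
  rw [← prod_single (D := D) i a, ← prod_single (D := D) j b, ← prod_single (D := D) k c, ← Finset.prod_mul_distrib,
    ← Finset.prod_mul_distrib]
  refine Finset.prod_congr rfl fun m _ => ?_
  rw [Pi.mul_apply, Pi.mul_apply, Units.val_mul, Units.val_mul, mul_zpow, mul_zpow]

/-- two elements of coprime exponents with product one -/
theorem eq_one_of_mul {G : Type*} [CommGroup G] {n s : ℕ} (hc : Nat.Coprime n s) {w c : G} (hw : w ^ n = 1)
    (hs : c ^ s = 1) (h : w * c = 1) : w = 1 := by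
  have h1 : c = w⁻¹ := (inv_eq_of_mul_eq_one_right h).symm
  have h2 : w ^ s = 1 := by
    rw [h1, inv_pow, inv_eq_one] at hs
    exact hs
  have h3 : orderOf w ∣ n := orderOf_dvd_of_pow_eq_one hw
  have h4 : orderOf w ∣ s := orderOf_dvd_of_pow_eq_one h2
  have h5 : orderOf w ∣ 1 := by
    have := Nat.dvd_gcd h3 h4
    rwa [Nat.Coprime.gcd_eq_one hc] at this
  exact orderOf_eq_one_iff.1 (Nat.dvd_one.1 h5)

section

variable {D : ChevalleyDatum} {l : ℕ} {M : CoxeterMatrix (Fin l)} (hp : IsType D l M) {K : Type u} [Field K]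
  {J : List (Fin l)} {r : Fin 3 → Fin 3 → ℕ} {ε : ℤ} {i j k : Fin l} (T : TabT D l J r ε i j k) (hε : ε * ε = 1)
  {φ : Matrix.SpecialLinearGroup (Fin 3) K →* ↥(D.group K)}
  (hφ : ∀ a b (hab : a ≠ b) c, φ (Matrix.SpecialLinearGroup.transvection hab c) = xc hp (vec D l (r a b)) ((ε : K) * c))

include T

/-- the values of the torus element on the roots outside `J` -/
theorem TabT.val {n s : ℕ} (hc : Nat.Coprime n s) {a b c : Kˣ} (ha : a ^ n = 1) (hb : b ^ n = 1) (ha1 : a ≠ 1)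
    (hb1 : b ≠ 1) (hab : a ≠ b) (hcs : c ^ s = 1) (hc1 : c ≠ 1) {q : ℕ} (hq : q < D.nroots)
    (hk : ∃ m, m ∉ J ∧ vec D l q m ≠ 0) :
    (a : K) ^ D.cartan i q * (b : K) ^ D.cartan j q * (c : K) ^ D.cartan k q ≠ 1 := by
  intro h
  have h1 : a ^ D.cartan i q * b ^ D.cartan j q * c ^ D.cartan k q = 1 := by
    apply Units.ext
    rw [Units.val_mul, Units.val_mul, Units.val_zpow_eq_zpow_val, Units.val_zpow_eq_zpow_val,
      Units.val_zpow_eq_zpow_val, h, Units.val_one]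
  have hw : (a ^ D.cartan i q * b ^ D.cartan j q) ^ n = 1 := by
    rw [mul_pow, ← zpow_natCast, ← zpow_natCast, ← zpow_mul, ← zpow_mul, mul_comm (D.cartan i q),
      mul_comm (D.cartan j q), zpow_mul, zpow_mul, zpow_natCast, zpow_natCast, ha, hb, one_zpow, one_zpow, one_mul]
  have hcs' : (c ^ D.cartan k q) ^ s = 1 := by
    rw [← zpow_natCast, ← zpow_mul, mul_comm (D.cartan k q), zpow_mul, zpow_natCast, hcs, one_zpow]
  have h2 := eq_one_of_mul hc hw hcs' h1
  rcases T.out q hq hk with h3 | ⟨h3, h4, h5⟩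
  · rcases h3 with h3 | h3 | h3 | h3 | h3 | h3 <;> rw [h3.1, h3.2] at h2
    · rw [zpow_one, zpow_zero, mul_one] at h2
      exact ha1 h2
    · rw [zpow_neg_one, zpow_zero, mul_one, inv_eq_one] at h2
      exact ha1 h2
    · rw [zpow_one, zpow_zero, one_mul] at h2
      exact hb1 h2
    · rw [zpow_neg_one, zpow_zero, one_mul, inv_eq_one] at h2
      exact hb1 h2
    · rw [zpow_one, zpow_neg_one, mul_inv_eq_one] at h2
      exact hab h2
    · rw [zpow_one, zpow_neg_one, inv_mul_eq_one] at h2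
      exact hab h2
  · rw [h2, one_mul] at h1
    rcases abs_eq (by norm_num : (0 : ℤ) ≤ 1) |>.1 h5 with h8 | h8 <;> rw [h8] at h1
    · rw [zpow_one] at h1
      exact hc1 h1
    · rw [zpow_neg_one, inv_eq_one] at h1
      exact hc1 h1

include hφ hε

/-- no fixed points, diagonalised -/
theorem TabT.nf0 [Finite K] {n s : ℕ} (hc : Nat.Coprime n s) {a b c : Kˣ} (ha : a ^ n = 1) (hb : b ^ n = 1)
    (ha1 : a ≠ 1) (hb1 : b ≠ 1) (hab : a ≠ b) (hcs : c ^ s = 1) (hc1 : c ≠ 1)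
    (P : Matrix.SpecialLinearGroup (Fin 3) K) (Q : SL(2, K)) :
    NF (VJ M.toCoxeterSystem hp.isCartan (XX D l K) {m | m ∈ J})
        (φ (P * dg3 a b * P⁻¹) * sl hp k (Q * _root_.Cfsg.Agent.FixBN.FieldRGD.dd (c : K) c.ne_zero * Q⁻¹)) ∧
      NF (VNJ M.toCoxeterSystem hp.isCartan (XX D l K) {m | m ∈ J})
        (φ (P * dg3 a b * P⁻¹) * sl hp k (Q * dd (c : K) c.ne_zero * Q⁻¹)) := by
  obtain ⟨p, hpc⟩ := CharP.exists K
  have : Fact p.Prime := ⟨(CharP.char_is_prime_or_zero K p).resolve_right (CharP.char_ne_zero_of_finite K p)⟩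
  have := finite_W hp M.toCoxeterSystem
  have hth : ∀ t : Fin l → Kˣ, th hp t ∈ TT D K := fun t => (thT hp t).2
  have h1 := T.comm hp hφ
  have e : φ (P * dg3 a b * P⁻¹) * sl hp k (Q * _root_.Cfsg.Agent.FixBN.FieldRGD.dd (c : K) c.ne_zero * Q⁻¹) =
      (φ P * sl hp k Q) * th hp (Pi.mulSingle i a * Pi.mulSingle j b * Pi.mulSingle k c) * (φ P * sl hp k Q)⁻¹ := by
    have e0 : th hp (Pi.mulSingle i a * Pi.mulSingle j b * Pi.mulSingle k c) =
        φ (dg3 a b) * sl hp k (dd (c : K) c.ne_zero) := by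
      rw [phi_dg3 hp hε T.ra T.rn hφ T.hi T.hj, ← th_mulSingle, ← map_mul]
    rw [e0]
    simp only [map_mul, map_inv]
    have e1 := h1 P (dd (c : K) c.ne_zero)
    have e2 := h1 (dg3 a b) Q
    have e3 : (φ P)⁻¹ * sl hp k Q = sl hp k Q * (φ P)⁻¹ := by
      rw [← map_inv, h1]
    have e4 : (φ P)⁻¹ * sl hp k (dd (c : K) c.ne_zero) = sl hp k (dd (c : K) c.ne_zero) * (φ P)⁻¹ := by
      rw [← map_inv, h1]
    have e5 : (φ P)⁻¹ * (sl hp k Q)⁻¹ = (sl hp k Q)⁻¹ * (φ P)⁻¹ := by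
      rw [← map_inv, ← map_inv, h1]
    calc φ P * φ (dg3 a b) * (φ P)⁻¹ * (sl hp k Q * sl hp k (dd (c : K) c.ne_zero) * (sl hp k Q)⁻¹)
        = φ P * φ (dg3 a b) * ((φ P)⁻¹ * sl hp k Q) * sl hp k (dd (c : K) c.ne_zero) * (sl hp k Q)⁻¹ := by group
      _ = φ P * (φ (dg3 a b) * sl hp k Q) * ((φ P)⁻¹ * sl hp k (dd (c : K) c.ne_zero)) * (sl hp k Q)⁻¹ := by
        rw [e3]; group
      _ = φ P * (sl hp k Q * φ (dg3 a b)) * sl hp k (dd (c : K) c.ne_zero) * ((φ P)⁻¹ * (sl hp k Q)⁻¹) := by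
        rw [e2, e4]; group
      _ = _ := by rw [e5]; group
  rw [e]
  refine nf_conj (rgd (K := K) hp M.toCoxeterSystem p) (hth _) (noFix_ch hp (hth _) fun q hq hk => ?_)
    (mul_mem (T.memφ hp hφ P) (T.memψ hp Q))
  rw [ch_th hp hq, prod_three]
  exact T.val hc ha hb ha1 hb1 hab hcs hc1 hq hk

end

/-! ### Powers of diagonal matrices -/

section

variable {K : Type*} [Field K]

theorem coe_dg3_pow (a b : Kˣ) (n : ℕ) : dg3 a b ^ n = dg3 (a ^ n) (b ^ n) := by
  apply Subtype.ext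
  rw [Matrix.SpecialLinearGroup.coe_pow]
  change (Matrix.diagonal ![(a : K), ((a⁻¹ * b : Kˣ) : K), ((b⁻¹ : Kˣ) : K)]) ^ n =
    Matrix.diagonal ![((a ^ n : Kˣ) : K), (((a ^ n)⁻¹ * b ^ n : Kˣ) : K), (((b ^ n)⁻¹ : Kˣ) : K)]
  rw [Matrix.diagonal_pow]
  congr 1
  funext m
  fin_cases m
  · simp only [_root_.Nat.succ_eq_add_one, _root_.Nat.reduceAdd, _root_.Units.val_mul, _root_.Units.val_inv_eq_inv_val, _root_.Fin.zero_eta, _root_.Fin.isValue, _root_.Pi.pow_apply, _root_.Matrix.cons_val_zero, _root_.Units.val_pow_eq_pow_val]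
  · simp only [mul_pow, _root_.Nat.succ_eq_add_one, _root_.Nat.reduceAdd, _root_.Units.val_mul, _root_.Units.val_inv_eq_inv_val, _root_.Fin.mk_one, _root_.Fin.isValue, _root_.Pi.pow_apply, _root_.Matrix.cons_val_one, _root_.Matrix.cons_val_zero, _root_.inv_pow, _root_.Units.val_pow_eq_pow_val]
  · simp only [_root_.Nat.succ_eq_add_one, _root_.Nat.reduceAdd, _root_.Units.val_mul, _root_.Units.val_inv_eq_inv_val, _root_.Fin.reduceFinMk, _root_.Pi.pow_apply, _root_.Fin.isValue, _root_.Matrix.cons_val, _root_.inv_pow, _root_.Units.val_pow_eq_pow_val]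

theorem dg3_eq_one {a b : Kˣ} (h : dg3 a b = 1) : a = 1 ∧ b = 1 := by
  have h1 : Matrix.diagonal ![(a : K), ((a⁻¹ * b : Kˣ) : K), ((b⁻¹ : Kˣ) : K)] = 1 := congrArg Subtype.val h
  have h2 := congrFun (congrFun h1 0) 0
  have h3 := congrFun (congrFun h1 2) 2
  rw [Matrix.diagonal_apply_eq, Matrix.one_apply_eq] at h2 h3
  refine ⟨Units.ext h2, ?_⟩
  have h4 : b⁻¹ = 1 := Units.ext h3
  exact inv_eq_one.1 h4

end

section

variable {D : ChevalleyDatum} {l : ℕ} {M : CoxeterMatrix (Fin l)} (hp : IsType D l M) {K : Type u} [Field K]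

theorem map_uu {K' : Type v} [Field K'] (ι : K →+* K') (a : K) :
    Matrix.SpecialLinearGroup.map ι (uu a) = uu (ι a) := by
  apply Subtype.ext
  change (!![(1 : K), a; 0, 1]).map ι = !![1, ι a; 0, 1]
  ext i j
  (revert i j; simp only [_root_.Fin.forall_fin_succ, _root_.Matrix.map_apply, _root_.Matrix.of_apply, _root_.Matrix.cons_val', _root_.Matrix.cons_val_fin_one, Fin.isValue, _root_.Matrix.cons_val_zero, _root_.Matrix.cons_val_succ, _root_.forall_const, _root_.map_one, _root_.and_self, _root_.map_zero, _root_.implies_true])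

theorem map_vv {K' : Type v} [Field K'] (ι : K →+* K') (a : K) :
    Matrix.SpecialLinearGroup.map ι (vv a) = vv (ι a) := by
  apply Subtype.ext
  change (!![(1 : K), 0; a, 1]).map ι = !![1, 0; ι a, 1]
  ext i j
  (revert i j; simp only [_root_.Fin.forall_fin_succ, _root_.Matrix.map_apply, _root_.Matrix.of_apply, _root_.Matrix.cons_val', _root_.Matrix.cons_val_fin_one, Fin.isValue, _root_.Matrix.cons_val_zero, _root_.Matrix.cons_val_succ, _root_.forall_const, _root_.map_one, _root_.map_zero, _root_.and_self, _root_.implies_true])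

theorem bc_sl {K' : Type v} [Field K'] (ι : K →+* K') (k : Fin l) (B : SL(2, K)) :
    bc D ι (sl hp k B) = sl hp k (Matrix.SpecialLinearGroup.map ι B) := by
  have h : (bc D ι).comp (sl hp k) = (sl hp k).comp (Matrix.SpecialLinearGroup.map ι) := by
    refine ext2 (fun a => ?_) (fun a => ?_)
    · change bc D ι (sl hp k (uu a)) = sl hp k (Matrix.SpecialLinearGroup.map ι (uu a))
      rw [map_uu, sl_uu, sl_uu, bc_sr]
    · change bc D ι (sl hp k (vv a)) = sl hp k (Matrix.SpecialLinearGroup.map ι (vv a))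
      rw [map_vv, sl_vv, sl_vv, bc_nsr]
  exact DFunLike.congr_fun h B

theorem map_dg3 {K' : Type v} [Field K'] (ι : K →+* K') (a b : Kˣ) :
    Matrix.SpecialLinearGroup.map ι (dg3 a b) = dg3 (Units.map ι.toMonoidHom a) (Units.map ι.toMonoidHom b) := by
  apply Subtype.ext
  change (Matrix.diagonal ![(a : K), ((a⁻¹ * b : Kˣ) : K), ((b⁻¹ : Kˣ) : K)]).map ι = Matrix.diagonal _
  rw [Matrix.diagonal_map (map_zero ι)]
  congr 1
  funext m
  fin_cases m
  · simp only [_root_.Nat.succ_eq_add_one, _root_.Nat.reduceAdd, _root_.Units.val_mul, _root_.Units.val_inv_eq_inv_val, _root_.Fin.zero_eta, _root_.Fin.isValue, _root_.Matrix.cons_val_zero, _root_.RingHom.toMonoidHom_eq_coe, _root_.Units.coe_map, _root_.MonoidHom.coe_coe]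
  · simp only [_root_.Nat.succ_eq_add_one, _root_.Nat.reduceAdd, _root_.Units.val_mul, _root_.Units.val_inv_eq_inv_val, _root_.Fin.mk_one, _root_.Fin.isValue, _root_.Matrix.cons_val_one, _root_.Matrix.cons_val_zero, _root_.map_mul, _root_.map_inv₀, _root_.RingHom.toMonoidHom_eq_coe, _root_.Units.coe_map, _root_.MonoidHom.coe_coe]
  · simp only [_root_.Nat.succ_eq_add_one, _root_.Nat.reduceAdd, _root_.Units.val_mul, _root_.Units.val_inv_eq_inv_val, _root_.Fin.reduceFinMk, _root_.Matrix.cons_val, _root_.map_inv₀, _root_.RingHom.toMonoidHom_eq_coe, _root_.Units.coe_map, _root_.MonoidHom.coe_coe]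

variable {J : List (Fin l)} {r : Fin 3 → Fin 3 → ℕ} {ε : ℤ} {i j k : Fin l} (T : TabT D l J r ε i j k) (hε : ε * ε = 1)
  {φ : Matrix.SpecialLinearGroup (Fin 3) K →* ↥(D.group K)}
  (hφ : ∀ a b (hab : a ≠ b) c, φ (Matrix.SpecialLinearGroup.transvection hab c) = xc hp (vec D l (r a b)) ((ε : K) * c))

include T hφ hε

/-- **No fixed points.** -/
theorem TabT.nf [Finite K] {n s : ℕ} (hc : Nat.Coprime n s) {X : Matrix.SpecialLinearGroup (Fin 3) K}
    (hX : Irreducible (X : Matrix (Fin 3) (Fin 3) K).charpoly) (hXn : X ^ n = 1) {Y : SL(2, K)}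
    (hY : ∀ (K' : Type u) [Field K'] [Finite K'] (ι : K →+* K'), ∃ (K'' : Type u) (_ : Field K'') (_ : Finite K'')
      (ι' : K' →+* K'') (c : K''ˣ) (Q : SL(2, K'')), Matrix.SpecialLinearGroup.map ι'
        (Matrix.SpecialLinearGroup.map ι Y) = Q * _root_.Cfsg.Agent.FixBN.FieldRGD.dd (c : K'') c.ne_zero * Q⁻¹ ∧ c ≠ 1 ∧ c ^ s = 1) :
    NF (VJ M.toCoxeterSystem hp.isCartan (XX D l K) {m | m ∈ J}) (φ X * sl hp k Y) ∧
      NF (VNJ M.toCoxeterSystem hp.isCartan (XX D l K) {m | m ∈ J}) (φ X * sl hp k Y) := by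
  obtain ⟨K1, i1, i2, ι1, a, b, P, e, h0, h1, h2⟩ := exists_dg3 hX
  obtain ⟨K2, i3, i4, ι2, c, Q, e', hc1, hcs⟩ := hY K1 ι1
  obtain ⟨φ2, hφ2⟩ := Cfsg.Agent.H162.GaussExcMain.exists_hom_D hp (K := K2) hε T.ra T.rb T.rc T.rn
  -- the eigenvalues
  have hn : dg3 a b ^ n = 1 := by
    have h3 : (P * dg3 a b * P⁻¹) ^ n = 1 := by rw [← e, ← map_pow, hXn, map_one]
    rw [conj_pow] at h3
    have h4 : dg3 a b ^ n = P⁻¹ * (P * dg3 a b ^ n * P⁻¹) * P := by group
    rw [h4, h3]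
    group
  rw [coe_dg3_pow] at hn
  obtain ⟨han, hbn⟩ := dg3_eq_one hn
  have ha1 : a ≠ 1 := fun h => h0 1 (by rw [h, map_one, Units.val_one])
  have hb1 : b ≠ 1 := fun h => h2 1 (by rw [h, map_one, inv_one, Units.val_one])
  have hab : a ≠ b := fun h => h1 1 (by rw [h, map_one, inv_mul_cancel, Units.val_one])
  have hinj : Function.Injective (Units.map ι2.toMonoidHom : K1ˣ →* K2ˣ) := Units.map_injective ι2.injective
  have key := T.nf0 hp hε hφ2 hc (a := Units.map ι2.toMonoidHom a) (b := Units.map ι2.toMonoidHom b) (c := c)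
    (by rw [← map_pow, han, map_one]) (by rw [← map_pow, hbn, map_one])
    (fun h => ha1 (hinj (by rw [h, map_one]))) (fun h => hb1 (hinj (by rw [h, map_one])))
    (fun h => hab (hinj h)) hcs hc1 (Matrix.SpecialLinearGroup.map ι2 P) Q
  have e2 : bc D (ι2.comp ι1) (φ X * sl hp k Y) =
      φ2 (Matrix.SpecialLinearGroup.map ι2 P * dg3 (Units.map ι2.toMonoidHom a) (Units.map ι2.toMonoidHom b) *
        (Matrix.SpecialLinearGroup.map ι2 P)⁻¹) * sl hp k (Q * _root_.Cfsg.Agent.FixBN.FieldRGD.dd (c : K2) c.ne_zero * Q⁻¹) := by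
    have e3 : Matrix.SpecialLinearGroup.map (ι2.comp ι1) X =
        Matrix.SpecialLinearGroup.map ι2 (Matrix.SpecialLinearGroup.map ι1 X) := rfl
    have e4 : Matrix.SpecialLinearGroup.map (ι2.comp ι1) Y =
        Matrix.SpecialLinearGroup.map ι2 (Matrix.SpecialLinearGroup.map ι1 Y) := rfl
    have e5 : Matrix.SpecialLinearGroup.map ι2 (P * dg3 a b * P⁻¹) = Matrix.SpecialLinearGroup.map ι2 P *
        dg3 (Units.map ι2.toMonoidHom a) (Units.map ι2.toMonoidHom b) * (Matrix.SpecialLinearGroup.map ι2 P)⁻¹ := by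
      rw [map_mul, map_mul, map_inv, map_dg3]
    rw [map_mul, bc_sl, bc_phi hp (ι2.comp ι1) T.ra hφ hφ2, e3, e4, e, e', e5]
  rw [← e2] at key
  exact ⟨NF.of_hom (bc D (ι2.comp ι1)) (bc_injective D _) (VJ_le_comap hp _ _) key.1,
    NF.of_hom (bc D (ι2.comp ι1)) (bc_injective D _) (VNJ_le_comap hp _ _) key.2⟩

end

end Cfsg.Agent.H269.T6
end

-- part: H269/T6/Row
section
/-!
# Two classes of order prime to 6 through a Levi subgroup `A₂ × A₁` (S2464, helper269)

`TabT.t6` : the row, from the product theorems in `SL₃(K)` and `SL₂(K)`.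
-/

set_option autoImplicit false
set_option linter.unusedSectionVars false

namespace Cfsg.Agent.H269.T6

open CoxeterSystem Cfsg.Agent.ChevalleyStructure.CoxeterGeom Cfsg.Agent.Tits.Roots Cfsg.Agent.Tits.Core
  Cfsg.Agent.Nodes.Reps Cfsg.Agent.Nodes.BNOf Cfsg.Agent.Nodes.RGDLib Cfsg.Agent.Nodes.Bruhat
  Cfsg.Agent.Nodes.OppDec Cfsg.Agent.Nodes.LeviDec Cfsg.Agent.Nodes.KindChev Cfsg.Agent.Nodes.ChevCls
  Cfsg.Agent.OddHalf.NI.ModelChev Cfsg.Agent.Nodes.StabComb
  Cfsg.Agent.H162.GaussDec Cfsg.Agent.H162.GaussLevi Cfsg.Agent.H162.GaussSL Cfsg.Agent.H162.GaussReg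
  Cfsg.Agent.H162.GaussPQ
  Cfsg.Agent.H928.Ore.Frame Cfsg.Agent.H928.Ore.Fix Cfsg.Agent.H928.Ore.Block
open Cfsg.Lie Cfsg.Agent.ChevalleyStructure Cfsg.Agent.ChevalleyStructure.Elts
  Cfsg.Agent.ChevalleyStructure.RootVec Cfsg.Agent.ChevalleyStructure.NPerm
  Cfsg.Agent.ChevalleyStructure.CoxeterGeomTypes Cfsg.Agent.Nodes.RGDChev Cfsg.Agent.KFacts.RgdChevCoord
open Cfsg.Agent.TitsThree.KExcRT Cfsg.Agent.H194.Ore
open Cfsg.Agent.FixBN.FieldRGD (uu vv dd ww)
open Cfsg.Agent.H162.GaussExc (coord)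
open scoped MatrixGroups

universe u v

/-! ### Lower times diagonal times upper -/

section

variable {K : Type*} [Field K]

theorem ns3 {L U : Matrix.SpecialLinearGroup (Fin 3) K} (hL : L ∈ LT 3 K) (hU : U ∈ UT 3 K) {t : Kˣ}
    (ht : t * t ≠ 1) (a : K) :
    ((L * dg3 t 1 * U : Matrix.SpecialLinearGroup (Fin 3) K) : Matrix (Fin 3) (Fin 3) K) ≠
      a • (1 : Matrix (Fin 3) (Fin 3) K) := by
  intro h
  rw [mem_LT] at hL
  rw [mem_UT] at hU
  have hc : ((L * dg3 t 1 * U : Matrix.SpecialLinearGroup (Fin 3) K) : Matrix (Fin 3) (Fin 3) K) =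
      L.1 * Matrix.diagonal ![(t : K), ((t⁻¹ * 1 : Kˣ) : K), (((1 : Kˣ)⁻¹ : Kˣ) : K)] * U.1 := rfl
  rw [hc] at h
  have h00 := congrFun (congrFun h 0) 0
  have h01 := congrFun (congrFun h 0) 1
  have h11 := congrFun (congrFun h 1) 1
  have ht0 : (t : K) ≠ 0 := t.ne_zero
  rw [Matrix.mul_apply, Fin.sum_univ_three, Matrix.mul_diagonal, Matrix.mul_diagonal, Matrix.mul_diagonal,
    hL.2, hL.1 0 1 (by decide), hL.1 0 2 (by decide), hU.2] at h00
  rw [Matrix.mul_apply, Fin.sum_univ_three, Matrix.mul_diagonal, Matrix.mul_diagonal, Matrix.mul_diagonal,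
    hL.2, hL.1 0 1 (by decide), hL.1 0 2 (by decide)] at h01
  rw [Matrix.mul_apply, Fin.sum_univ_three, Matrix.mul_diagonal, Matrix.mul_diagonal, Matrix.mul_diagonal,
    hL.2, hL.1 1 2 (by decide), hU.2] at h11
  simp only [Matrix.cons_val_zero, Matrix.cons_val_one, Matrix.smul_apply, Matrix.one_apply_eq, smul_eq_mul,
    one_mul, zero_mul, add_zero, mul_one, Matrix.one_apply_ne (show (0 : Fin 3) ≠ 1 by decide), mul_zero] at h00 h01 h11
  have h2 : U.1 0 1 = 0 := (mul_eq_zero.1 h01).resolve_left ht0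
  rw [h2, mul_zero, zero_add, ← h00] at h11
  apply ht
  have h3 : t⁻¹ = t := Units.ext h11
  calc t * t = t⁻¹ * t := by rw [h3]
    _ = 1 := inv_mul_cancel t

theorem ns2 {L U : SL(2, K)} (hL : L ∈ LT 2 K) (hU : U ∈ UT 2 K) {t : Kˣ} (ht : t * t ≠ 1) (a : K) :
    ((L * _root_.Cfsg.Agent.FixBN.FieldRGD.dd (t : K) t.ne_zero * U : SL(2, K)) : Matrix (Fin 2) (Fin 2) K) ≠
      a • (1 : Matrix (Fin 2) (Fin 2) K) := by
  intro h
  rw [mem_LT] at hL
  rw [mem_UT] at hU
  have hc : ((L * _root_.Cfsg.Agent.FixBN.FieldRGD.dd (t : K) t.ne_zero * U : SL(2, K)) : Matrix (Fin 2) (Fin 2) K) =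
      L.1 * !![(t : K), 0; 0, (t : K)⁻¹] * U.1 := rfl
  rw [hc] at h
  have h00 := congrFun (congrFun h 0) 0
  have h01 := congrFun (congrFun h 0) 1
  have h11 := congrFun (congrFun h 1) 1
  have ht0 : (t : K) ≠ 0 := t.ne_zero
  have l0 := hL.2 0
  have l1 := hL.2 1
  have l2 := hL.1 0 1 (by decide)
  have u0 := hU.2 0
  have u1 := hU.2 1
  have u2 := hU.1 1 0 (by decide)
  simp only [Matrix.mul_apply, Fin.sum_univ_two, l0, l1, l2, u0, u1, u2, _root_.Fin.isValue, _root_.Matrix.of_apply, _root_.Matrix.cons_val', _root_.Matrix.cons_val_fin_one, _root_.Matrix.cons_val_zero, _root_.one_mul, _root_.Matrix.cons_val_one, _root_.MulZeroClass.zero_mul, _root_.add_zero, _root_.mul_one, _root_.MulZeroClass.mul_zero, _root_.Matrix.smul_apply, _root_.Matrix.one_apply_eq, _root_.smul_eq_mul, _root_.ne_eq, _root_.zero_ne_one, _root_.not_false_eq_true, _root_.Matrix.one_apply_ne, _root_.mul_eq_zero, _root_.Units.ne_zero, _root_.false_or, _root_.zero_add]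 at h00 h01 h11
  rw [h01, mul_zero, zero_add, ← h00] at h11
  apply ht
  apply Units.ext
  rw [Units.val_mul, Units.val_one]
  nth_rw 1 [← h11]
  exact inv_mul_cancel₀ ht0

theorem exists_unit4 [Finite K] (hK : 4 ≤ Nat.card K) : ∃ t : Kˣ, t * t ≠ 1 := by
  by_contra hcon
  push Not at hcon
  have h1 : ∀ x : K, x = 0 ∨ x = 1 ∨ x = -1 := by
    intro x
    by_cases hx : x = 0
    · exact .inl hx
    · right
      have h2 := hcon (Units.mk0 x hx)
      have h3 : x * x = 1 := by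
        have := congrArg Units.val h2
        simpa only [_root_.Units.val_mul, _root_.Units.val_mk0, _root_.Units.val_one] using this
      exact mul_self_eq_one_iff.1 h3
  classical
  have := Fintype.ofFinite K
  have h2 : (Finset.univ : Finset K) ⊆ {0, 1, -1} := by
    intro x _
    simp only [Finset.mem_insert, Finset.mem_singleton]
    exact h1 x
  have h3 := Finset.card_le_card h2
  rw [Finset.card_univ, ← Nat.card_eq_fintype_card] at h3
  have h4 : ({0, 1, -1} : Finset K).card ≤ 3 := Finset.card_le_three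
  omega

end

/-- diagonalisation over every extension -/
def DD {K : Type u} [Field K] (Y : SL(2, K)) (s : ℕ) : Prop :=
  ∀ (K' : Type u) [Field K'] [Finite K'] (ι : K →+* K'), ∃ (K'' : Type u) (_ : Field K'') (_ : Finite K'')
    (ι' : K' →+* K'') (c : K''ˣ) (Q : SL(2, K'')), Matrix.SpecialLinearGroup.map ι'
      (Matrix.SpecialLinearGroup.map ι Y) = Q * _root_.Cfsg.Agent.FixBN.FieldRGD.dd (c : K'') c.ne_zero * Q⁻¹ ∧ c ≠ 1 ∧ c ^ s = 1

theorem coprime_of_pow {G : Type*} [Group G] {g : G} {n : ℕ} (h : g ^ n = 1) (hn : Nat.Coprime n 6) :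
    Nat.Coprime (orderOf g) 6 := Nat.Coprime.coprime_dvd_left (orderOf_dvd_of_pow_eq_one h) hn

/-- **The row.** -/
theorem TabT.t6 {D : ChevalleyDatum} {l : ℕ} {M : CoxeterMatrix (Fin l)} (hp : IsType D l M) {K : Type u} [Field K]
    [Finite K] (hK : 4 ≤ Nat.card K) {J : List (Fin l)} {r : Fin 3 → Fin 3 → ℕ} {ε : ℤ} {i j k : Fin l}
    (T : TabT D l J r ε i j k) (hε : ε * ε = 1) (hG : IsSimpleGroup ↥(D.group K) ∧ ¬ IsMulCommutative ↥(D.group K))
    (hM : ∀ J : Finset (Fin l), J = ∅ ∨ J = Finset.univ ∨ ∃ a ∈ J, ∃ b, b ∉ J ∧ M a b ≠ 2)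
    {c3 : Matrix.SpecialLinearGroup (Fin 3) K} {n : ℕ} (hirr : Irreducible (c3 : Matrix (Fin 3) (Fin 3) K).charpoly)
    (hn : c3 ^ n = 1) (hn6 : Nat.Coprime n 6)
    (h3 : ∀ A : Matrix.SpecialLinearGroup (Fin 3) K, (∀ a : K, (A : Matrix (Fin 3) (Fin 3) K) ≠ a • 1) →
      ∃ a b : Matrix.SpecialLinearGroup (Fin 3) K, A = (a * c3 * a⁻¹) * (b * c3 * b⁻¹))
    {x2 y2 : SL(2, K)} {s : ℕ} (hs6 : Nat.Coprime s 6) (hns : Nat.Coprime n s) (hx2 : x2 ^ s = 1) (hy2 : y2 ^ s = 1)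
    (hxd : DD x2 s) (hyd : DD y2 s)
    (h2 : ∀ A : SL(2, K), (∀ a : K, (A : Matrix (Fin 2) (Fin 2) K) ≠ a • 1) →
      ∃ a b : SL(2, K), A = (a * x2 * a⁻¹) * (b * y2 * b⁻¹)) : Cfsg.Agent.H777.T6.T6 ↥(D.group K) := by
  obtain ⟨p, hpc⟩ := CharP.exists K
  have : Fact p.Prime := ⟨(CharP.char_is_prime_or_zero K p).resolve_right (CharP.char_ne_zero_of_finite K p)⟩
  have := finite_W hp M.toCoxeterSystem
  have hl : 0 < l := i.pos
  have : Nonempty (Fin l) := ⟨⟨0, hl⟩⟩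
  have R := rgd (K := K) hp M.toCoxeterSystem p
  obtain ⟨φ, hφ⟩ := Cfsg.Agent.H162.GaussExcMain.exists_hom_D hp (K := K) hε T.ra T.rb T.rc T.rn
  obtain ⟨t, ht⟩ := exists_unit4 hK
  have hcm := T.comm hp hφ
  -- the two elements
  have hpow : ∀ (A : Matrix.SpecialLinearGroup (Fin 3) K) (B : SL(2, K)), A ^ n = 1 → B ^ s = 1 →
      (φ A * sl hp k B) ^ (n * s) = 1 := by
    intro A B hA hB
    have h4 : Commute (φ A) (sl hp k B) := hcm A B
    rw [h4.mul_pow, ← map_pow, ← map_pow, pow_mul, hA, one_pow, mul_comm n s, pow_mul, hB, one_pow, map_one, map_one,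
      one_mul]
  have hns6 : Nat.Coprime (n * s) 6 := Nat.Coprime.mul_left hn6 hs6
  obtain ⟨fx, fx'⟩ := T.nf hp hε hφ hns hirr hn hxd
  obtain ⟨fy, fy'⟩ := T.nf hp hε hφ hns hirr hn hyd
  have hmem : ∀ (A : Matrix.SpecialLinearGroup (Fin 3) K) (B : SL(2, K)), φ A * sl hp k B ∈
      LJ M.toCoxeterSystem hp.isCartan (TT D K) (XX D l K) {m | m ∈ J} := fun A B =>
    mul_mem (T.memφ hp hφ A) (T.memψ hp B)
  have hprod : ∀ (A A' : Matrix.SpecialLinearGroup (Fin 3) K) (B B' : SL(2, K)),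
      (φ A * sl hp k B) * (φ A' * sl hp k B') = φ (A * A') * sl hp k (B * B') := by
    intro A A' B B'
    rw [map_mul, map_mul]
    calc (φ A * sl hp k B) * (φ A' * sl hp k B') = φ A * (sl hp k B * φ A') * sl hp k B' := by group
      _ = _ := by rw [← hcm A' B]; group
  have hconj : ∀ (A X : Matrix.SpecialLinearGroup (Fin 3) K) (B Y : SL(2, K)),
      φ (A * X * A⁻¹) * sl hp k (B * Y * B⁻¹) =
        (φ A * sl hp k B) * (φ X * sl hp k Y) * (φ A * sl hp k B)⁻¹ := by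
    intro A X B Y
    have e1 : (φ A * sl hp k B)⁻¹ = φ A⁻¹ * sl hp k B⁻¹ := by
      rw [mul_inv_rev, map_inv, map_inv]
      have := hcm A⁻¹ B⁻¹
      rw [map_inv, map_inv] at this
      exact this.symm
    rw [e1, hprod, hprod]
  -- the torus part
  have hκ : φ (dg3 t 1) * sl hp k (_root_.Cfsg.Agent.FixBN.FieldRGD.dd (t : K) t.ne_zero) ∈ TT D K := by
    have hth : ∀ t : Fin l → Kˣ, th hp t ∈ TT D K := fun t => (thT hp t).2
    rw [phi_dg3 hp hε T.ra T.rn hφ T.hi T.hj, ← th_mulSingle]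
    exact mul_mem (hth _) (hth _)
  refine ⟨φ c3 * sl hp k x2, φ c3 * sl hp k y2, coprime_of_pow (hpow _ _ hn hx2) hns6,
    coprime_of_pow (hpow _ _ hn hy2) hns6, fun g hg => ?_⟩
  have hgc : g ∉ (RGD.B M.toCoxeterSystem hp.isCartan (TT D K) (XX D l K)).normalCore := fun h =>
    hg (Cfsg.Agent.H85.Ore.one_of_core hp hl hG.1 h)
  obtain ⟨c₁, c₂, x, y, ⟨⟨z, hz⟩, w, hw⟩, e⟩ := Cfsg.Agent.H122.SX.pair_h R (G1_eq_top hp _)
    (coord hp) (Cfsg.Agent.Nodes.ChevChart.irr_of hM) (J := {m | m ∈ J})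
    (Pr := fun c₁ c₂ : ↥(D.group K) => (∃ x, c₁ = x * (φ c3 * sl hp k x2) * x⁻¹) ∧
      ∃ y, c₂ = y * (φ c3 * sl hp k y2) * y⁻¹) hκ (fun v hv u hu => by
        obtain ⟨⟨L, L'⟩, hL, rfl⟩ := T.lo hp hφ hε hv
        obtain ⟨⟨U, U'⟩, hU, rfl⟩ := T.up hp hφ hε hu
        rw [T.hom_apply, T.hom_apply, hprod, hprod]
        obtain ⟨a, b, e3⟩ := h3 _ (ns3 hL.1 hU.1 ht)
        obtain ⟨a', b', e2⟩ := h2 _ (ns2 hL.2 hU.2 ht)
        refine ⟨φ (a * c3 * a⁻¹) * sl hp k (a' * x2 * a'⁻¹), φ (b * c3 * b⁻¹) * sl hp k (b' * y2 * b'⁻¹), ?_,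
          ⟨hmem _ _, hmem _ _, ?_, ?_⟩, ⟨_, hconj _ _ _ _⟩, _, hconj _ _ _ _⟩
        · rw [e3, e2, hprod]
        · rw [hconj]
          exact NF.conj (LJ_le_normalizer_VNJ R _ (hmem _ _)) fx'
        · rw [hconj]
          exact NF.conj (LJ_le_normalizer_VJ R _ (hmem _ _)) fy) hgc
  refine ⟨x * z, y * w, ?_⟩
  rw [e, hz, hw]
  group

end Cfsg.Agent.H269.T6
end

-- part: H269/T6/SlTwo
section
/-!
# Two classes of prime order in `SL₂(q)` (S2464, helper269)

`sl_two` : for `q ≥ 4`, `q ≠ 5, 7, 17` there are `x`, `y` of the same prime order `s ≥ 5`, `s ∣ q² - 1`, such that every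
nonscalar element is a product of a conjugate of `x` and a conjugate of `y`; their traces `τ` satisfy `τ² ≠ 4`.
-/

set_option autoImplicit false

namespace Cfsg.Agent.H269.T6

open Matrix Cfsg.Agent.H145.SLTwo
open scoped MatrixGroups

section

variable {F : Type*} [Field F]

/-- the trace -/
abbrev tr2 (A : SL(2, F)) : F := Matrix.trace (A : Matrix (Fin 2) (Fin 2) F)

theorem two_eq_or [Fintype F] : (Fintype.card F % 2 = 1) ∨ (ringChar F = 2) := by
  by_cases h : ringChar F = 2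
  · exact Or.inr h
  · exact Or.inl (FiniteField.odd_card_of_char_ne_two h)

theorem two_zero (h : ringChar F = 2) : (2 : F) = 0 := by
  have : CharP F 2 := ringChar.eq_iff.1 h
  exact CharTwo.two_eq_zero

theorem exists_sqrt [Fintype F] (h : ringChar F = 2) (a : F) : ∃ u : F, u ^ 2 = a := by
  obtain ⟨u, hu⟩ := FiniteField.isSquare_of_char_two h a
  exact ⟨u, by rw [pow_two, ← hu]⟩

/-- Elements with the same trace `t`, `t² ≠ 4`, are conjugate. -/
theorem conj_tr [Fintype F] {A B : SL(2, F)} (h : tr2 A = tr2 B) (h4 : tr2 A ^ 2 ≠ 4) :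
    ∃ g : SL(2, F), A = g * B * g⁻¹ := by
  have hA : A ∉ Subgroup.center (SL(2, F)) := fun hc => h4 (trace_of_center hc)
  have hB : B ∉ Subgroup.center (SL(2, F)) := fun hc => h4 (by rw [h]; exact trace_of_center hc)
  rcases two_eq_or (F := F) with ho | he
  · obtain ⟨g, hg⟩ := conj_of_trace ho hB hA h.symm (by rw [← tr2, ← h]; exact h4)
    exact ⟨g, hg.symm⟩
  · obtain ⟨g, l, hl, hg⟩ := exists_nf A hA
    obtain ⟨k, m, hm, hk⟩ := exists_nf B hB
    obtain ⟨x, hx⟩ := exists_sqrt he (l / m)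
    obtain ⟨r, hr⟩ := nf_conj_of (t := tr2 B) hm hl (x := x) (y := 0) (by rw [hx]; field_simp; ring)
    refine ⟨g⁻¹ * r⁻¹ * k, ?_⟩
    have h1 : A = g⁻¹ * (g * A * g⁻¹) * g := by group
    have h2 : g⁻¹ * r⁻¹ * k * B * (g⁻¹ * r⁻¹ * k)⁻¹ = g⁻¹ * (r⁻¹ * (k * B * k⁻¹) * r) * g := by group
    have h3 : r⁻¹ * nf m (tr2 B) hm * r = nf l (tr2 B) hl := by rw [← hr]; group
    rw [h2, hk, h3, h1, hg]
    simp only [← h, tr2]

/-- `nf l t` is a product of elements of traces `α`, `β`, `α ≠ ±β`. -/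
theorem exists_factor2 [Fintype F] {l t α β : F} (hl : l ≠ 0) (h1 : α ≠ β) (h2 : α ≠ -β) :
    ∃ A B : SL(2, F), A * B = nf l t hl ∧ tr2 A = α ∧ tr2 B = β := by
  obtain ⟨a, y, hay⟩ : ∃ a y : F, a ^ 2 + y ^ 2 - α * a - β * y + t * a * y + 1 = 0 := by
    have h1' : α - β ≠ 0 := sub_ne_zero.2 h1
    have h2' : α + β ≠ 0 := fun h => h2 (eq_neg_of_add_eq_zero_left h)
    by_cases ht2 : t = 2
    · refine ⟨(α - β)⁻¹, -(α - β)⁻¹, ?_⟩
      rw [ht2]
      field_simp
      ring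
    by_cases ht : t = -2
    · refine ⟨(α + β)⁻¹, (α + β)⁻¹, ?_⟩
      rw [ht]
      field_simp
      ring
    rcases two_eq_or (F := F) with ho | he
    · have h20 : (2 : F) ≠ 0 := two_ne_zero_of_odd ho
      obtain ⟨s, rfl⟩ : ∃ s : F, t = 2 * s := ⟨t / 2, by field_simp⟩
      have hq : (1 - s ^ 2 : F) ≠ 0 := by
        intro h
        have h1 : (s - 1) * (s + 1) = 0 := by linear_combination -h
        rcases mul_eq_zero.mp h1 with h1 | h1
        · exact ht2 (by linear_combination 2 * h1)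
        · exact ht (by linear_combination 2 * h1)
      obtain ⟨a, b, hab⟩ := FiniteField.exists_root_sum_quadratic
        (f := Polynomial.C 1 * Polynomial.X ^ 2 + Polynomial.C (-α) * Polynomial.X + Polynomial.C 1)
        (g := Polynomial.C (1 - s ^ 2) * Polynomial.X ^ 2 + Polynomial.C (α * s - β) * Polynomial.X + Polynomial.C 0)
        (Polynomial.degree_quadratic one_ne_zero) (Polynomial.degree_quadratic hq) ho
      refine ⟨a - s * b, b, ?_⟩
      simp only [Polynomial.eval_add, Polynomial.eval_mul, Polynomial.eval_C, Polynomial.eval_pow,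
        Polynomial.eval_X] at hab
      linear_combination hab
    · have h20 := two_zero he
      have ht0 : t ≠ 0 := fun h => ht2 (by rw [h, h20])
      obtain ⟨a, ha⟩ := exists_sqrt he (-((α / t) ^ 2 - β * (α / t) + 1))
      refine ⟨a, α / t, ?_⟩
      rw [ha]
      field_simp
      ring
  have hA : a * (α - a) - (-(y / l)) * (l * (β - y - a * t)) = 1 := by
    field_simp
    linear_combination -hay
  refine ⟨mk2 a (-(y / l)) (l * (β - y - a * t)) (α - a) hA,
    (mk2 a (-(y / l)) (l * (β - y - a * t)) (α - a) hA)⁻¹ * nf l t hl, ?_, ?_, ?_⟩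
  · group
  · simp [tr2, Matrix.trace_fin_two]
  · rw [tr2, Matrix.SpecialLinearGroup.coe_mul, Matrix.SpecialLinearGroup.coe_inv, nf_coe, mk2_coe]
    simp only [Matrix.trace_fin_two, Matrix.adjugate_fin_two, _root_.Fin.isValue, _root_.Matrix.of_apply, _root_.Matrix.cons_val', _root_.Matrix.cons_val_one, _root_.Matrix.cons_val_fin_one, _root_.Matrix.cons_val_zero, _root_.neg_neg, _root_.Matrix.cons_mul, _root_.Nat.succ_eq_add_one, _root_.Nat.reduceAdd, _root_.Matrix.vecMul_cons, _root_.Matrix.head_cons, _root_.Matrix.smul_cons, _root_.smul_eq_mul, _root_.MulZeroClass.mul_zero, _root_.mul_neg, _root_.Matrix.smul_empty, _root_.Matrix.tail_cons, _root_.Matrix.empty_vecMul, _root_.add_zero, _root_.Matrix.add_cons, _root_.zero_add, _root_.Matrix.empty_add_empty, _root_.neg_smul, _root_.Matrix.neg_cons, _root_.neg_zero, _root_.Matrix.neg_empty, _root_.Matrix.empty_mul, _root_.Equiv.symm_apply_apply]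
    field_simp
    ring

/-- the product theorem -/
theorem prod_tr [Fintype F] {x y : SL(2, F)} (h1 : tr2 x ≠ tr2 y) (h2 : tr2 x ≠ -tr2 y) (hx : tr2 x ^ 2 ≠ 4)
    (hy : tr2 y ^ 2 ≠ 4) {A : SL(2, F)} (hA : ∀ c : F, (A : Matrix (Fin 2) (Fin 2) F) ≠ c • 1) :
    ∃ a b : SL(2, F), A = (a * x * a⁻¹) * (b * y * b⁻¹) := by
  have hc : A ∉ Subgroup.center (SL(2, F)) := by
    intro h
    obtain ⟨c, -, hc⟩ := Matrix.SpecialLinearGroup.mem_center_iff.1 h
    refine hA c ?_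
    rw [← hc, Matrix.smul_one_eq_diagonal]
    rfl
  obtain ⟨g, l, hl, hg⟩ := exists_nf A hc
  obtain ⟨P, Q, hPQ, hP, hQ⟩ := exists_factor2 (t := Matrix.trace (A : Matrix (Fin 2) (Fin 2) F)) hl h1 h2
  obtain ⟨u, hu⟩ := conj_tr hP (by rw [hP]; exact hx)
  obtain ⟨v, hv⟩ := conj_tr hQ (by rw [hQ]; exact hy)
  refine ⟨g⁻¹ * u, g⁻¹ * v, ?_⟩
  calc A = g⁻¹ * (g * A * g⁻¹) * g := by group
    _ = g⁻¹ * (P * Q) * g := by rw [hg, hPQ]
    _ = _ := by rw [hu, hv]; group

/-! ### Elements of prime order -/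

theorem cay (A : SL(2, F)) : (A : Matrix (Fin 2) (Fin 2) F) * (A : Matrix (Fin 2) (Fin 2) F) =
    tr2 A • (A : Matrix (Fin 2) (Fin 2) F) - 1 := cayley A

/-- the trace of an element of prime order `s ≥ 5`, `s ≠ p` -/
theorem tr_ne {x : SL(2, F)} {s : ℕ} (hs : s.Prime) (h5 : 5 ≤ s) (hsF : (s : F) ≠ 0) (hx : orderOf x = s) :
    tr2 x ^ 2 ≠ 4 := by
  intro h4
  obtain ⟨e, he, hτ⟩ : ∃ e : F, e ^ 2 = 1 ∧ tr2 x = 2 * e := by
    by_cases h2 : (2 : F) = 0
    · refine ⟨1, one_pow 2, ?_⟩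
      have h40 : (4 : F) = 0 := by linear_combination 2 * h2
      rw [h40] at h4
      rw [pow_eq_zero_iff (by norm_num)] at h4
      rw [h4, mul_one, h2]
    · refine ⟨tr2 x / 2, ?_, by field_simp⟩
      rw [div_pow, h4]
      have : (2 : F) ^ 2 = 4 := by norm_num
      rw [this]
      refine div_self fun h => h2 ?_
      have h3 : (2 : F) * 2 = 0 := by linear_combination h
      rcases mul_eq_zero.1 h3 with h3 | h3 <;> exact h3
  obtain ⟨N, hN⟩ : ∃ N : Matrix (Fin 2) (Fin 2) F, N = (x : Matrix (Fin 2) (Fin 2) F) - e • 1 := ⟨_, rfl⟩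
  have hx' : (x : Matrix (Fin 2) (Fin 2) F) = e • 1 + N := by rw [hN]; abel
  have hN2 : N * N = 0 := by
    rw [hN]
    have := cay x
    rw [hτ] at this
    rw [sub_mul, mul_sub, mul_sub, this]
    simp only [Matrix.smul_mul, Matrix.mul_smul, Matrix.one_mul, Matrix.mul_one]
    have h1 : e • (e • (1 : Matrix (Fin 2) (Fin 2) F)) = 1 := by rw [smul_smul, ← pow_two, he, one_smul]
    rw [h1, two_mul, add_smul]
    abel
  have hp : ∀ m : ℕ, (x : Matrix (Fin 2) (Fin 2) F) ^ (m + 1) = (e ^ (m + 1)) • 1 + (((m + 1 : ℕ) : F) * e ^ m) • N := by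
    intro m
    induction m with
    | zero => simp only [hx', _root_.zero_add, _root_.pow_one, _root_.Nat.cast_one, _root_.pow_zero, _root_.mul_one, _root_.one_smul]
    | succ m ih =>
      rw [pow_succ, ih, hx', add_mul, mul_add, mul_add]
      simp only [Matrix.smul_mul, Matrix.mul_smul, Matrix.one_mul, Matrix.mul_one, hN2, smul_zero, add_zero, smul_smul]
      rw [add_assoc, ← add_smul]
      congr 2
      · ring
      · push_cast
        ring
  obtain ⟨m, hm⟩ : ∃ m, s = m + 1 := ⟨s - 1, by omega⟩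
  have h1 := hp m
  have h2 : (x : Matrix (Fin 2) (Fin 2) F) ^ (m + 1) = 1 := by
    rw [← Matrix.SpecialLinearGroup.coe_pow, ← hm, ← hx, pow_orderOf_eq_one]
    rfl
  rw [h2, ← hm] at h1
  have he0 : e ≠ 0 := by
    rintro rfl
    norm_num at he
  have hc0 : ((s : ℕ) : F) * e ^ m ≠ 0 := mul_ne_zero hsF (pow_ne_zero _ he0)
  obtain ⟨d, hd⟩ : ∃ d : F, N = d • (1 : Matrix (Fin 2) (Fin 2) F) := by
    refine ⟨(((s : ℕ) : F) * e ^ m)⁻¹ * (1 - e ^ s), ?_⟩
    have h3 : (((s : ℕ) : F) * e ^ m) • N = (1 - e ^ s) • (1 : Matrix (Fin 2) (Fin 2) F) := by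
      rw [sub_smul, one_smul, h1]
      abel_nf
      rw [← h1]
      abel
    rw [mul_smul, ← h3, smul_smul, inv_mul_cancel₀ hc0, one_smul]
  have hd0 : d = 0 := by
    rw [hd] at hN2
    simp only [Matrix.smul_mul, Matrix.mul_smul, Matrix.one_mul, smul_smul] at hN2
    have := congrFun (congrFun hN2 0) 0
    simpa using this
  rw [hd0, zero_smul] at hd
  rw [hd, add_zero] at hx'
  have h6 : x ^ 2 = 1 := by
    apply Subtype.ext
    rw [Matrix.SpecialLinearGroup.coe_pow, hx', _root_.smul_pow, he, one_pow, one_smul]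
    rfl
  have h7 := Nat.le_of_dvd (by norm_num) (orderOf_dvd_of_pow_eq_one h6)
  omega

/-- the trace of the square -/
theorem tr_sq (x : SL(2, F)) : tr2 (x ^ 2) = tr2 x ^ 2 - 2 := by
  rw [tr2, pow_two, Matrix.SpecialLinearGroup.coe_mul, cay, Matrix.trace_sub, Matrix.trace_smul, Matrix.trace_one,
    Fintype.card_fin, smul_eq_mul, pow_two]
  norm_num

theorem tr_sq_ne {x : SL(2, F)} {s : ℕ} (h5 : 5 ≤ s) (hx : orderOf x = s) (hx4 : tr2 x ^ 2 ≠ 4) (hs : s.Prime) :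
    tr2 x ≠ tr2 (x ^ 2) ∧ tr2 x ≠ -tr2 (x ^ 2) := by
  have h6 : ∀ m : ℕ, x ^ m = 1 → ∀ _ : m ∣ 6, False := by
    intro m hm h6
    have h1 : s ∣ 6 := by
      rw [← hx]
      exact (orderOf_dvd_of_pow_eq_one hm).trans h6
    have h2 := Nat.le_of_dvd (by norm_num) h1
    have : s = 5 ∨ s = 6 := by omega
    rcases this with rfl | rfl
    · norm_num at h1
    · norm_num at hs
  have hc := cay x
  rw [tr_sq]
  constructor
  · intro h
    have h1 : (tr2 x - 2) * (tr2 x + 1) = 0 := by linear_combination -h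
    rcases mul_eq_zero.1 h1 with h2 | h2
    · apply hx4
      have : tr2 x = 2 := by linear_combination h2
      rw [this]
      norm_num
    · have h3 : tr2 x = -1 := by linear_combination h2
      rw [h3] at hc
      refine h6 3 ?_ (by norm_num)
      apply Subtype.ext
      rw [Matrix.SpecialLinearGroup.coe_pow, pow_succ, pow_two, hc]
      rw [sub_mul, Matrix.smul_mul, hc]
      simp
  · intro h
    have h1 : (tr2 x + 2) * (tr2 x - 1) = 0 := by linear_combination h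
    rcases mul_eq_zero.1 h1 with h2 | h2
    · apply hx4
      have : tr2 x = -2 := by linear_combination h2
      rw [this]
      norm_num
    · have h3 : tr2 x = 1 := by linear_combination h2
      rw [h3] at hc
      refine h6 6 ?_ (by norm_num)
      have h4 : (x : Matrix (Fin 2) (Fin 2) F) ^ 3 = -1 := by
        rw [pow_succ, pow_two, hc, sub_mul, Matrix.smul_mul, hc]
        simp
      apply Subtype.ext
      rw [Matrix.SpecialLinearGroup.coe_pow, show (6 : ℕ) = 3 * 2 from rfl, pow_mul, h4]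
      simp only [_root_.even_two, _root_.Even.neg_pow, _root_.one_pow, _root_.Matrix.SpecialLinearGroup.coe_one]

end

/-- **Two classes.** -/
theorem sl_two {F : Type*} [Field F] [Finite F] (h4 : 4 ≤ Nat.card F) (h5 : Nat.card F ≠ 5) (h7 : Nat.card F ≠ 7)
    (h17 : Nat.card F ≠ 17) : ∃ (s : ℕ) (x y : SL(2, F)), s.Prime ∧ 5 ≤ s ∧ s ∣ Nat.card F ^ 2 - 1 ∧ orderOf x = s ∧
      orderOf y = s ∧ tr2 x ^ 2 ≠ 4 ∧ tr2 y ^ 2 ≠ 4 ∧
      ∀ A : SL(2, F), (∀ c : F, (A : Matrix (Fin 2) (Fin 2) F) ≠ c • 1) →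
        ∃ a b : SL(2, F), A = (a * x * a⁻¹) * (b * y * b⁻¹) := by
  have := Fintype.ofFinite F
  obtain ⟨s, hs, hs5, hsd⟩ := Cfsg.Agent.H962.TC.exists_prime_sq h4 h5 h7 h17
  have hsF : (s : F) ≠ 0 := by
    intro h0
    obtain ⟨p, hpc⟩ := CharP.exists F
    have hp : Fact p.Prime := ⟨CharP.char_is_prime F p⟩
    have h1 : p ∣ s := (CharP.cast_eq_zero_iff F p s).1 h0
    have h2 : p = s := (Nat.prime_dvd_prime_iff_eq hp.out hs).1 h1
    have h3 : ((Nat.card F : ℕ) : F) = 0 := by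
      rw [Nat.card_eq_fintype_card]
      exact FiniteField.cast_card_eq_zero F
    have h4 : s ∣ Nat.card F := h2 ▸ (CharP.cast_eq_zero_iff F p _).1 h3
    have h5 : s ∣ Nat.card F ^ 2 := dvd_pow h4 (by norm_num)
    have h6 : s ∣ 1 := by
      have := Nat.dvd_sub h5 hsd
      rwa [Nat.sub_sub_self (Nat.one_le_pow _ _ (by omega))] at this
    have := Nat.le_of_dvd one_pos h6
    omega
  obtain ⟨x, hx⟩ : ∃ x : SL(2, F), orderOf x = s := by
    have h1 : s ∣ Nat.card (ProjectiveSpecialLinearGroup (Fin 2) F) := by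
      have h2 := Cfsg.Agent.H394.SqPsl2.card_psl (F := F)
      have h4 : s ∣ Nat.gcd 2 (Fintype.card F - 1) * Nat.card (ProjectiveSpecialLinearGroup (Fin 2) F) := by
        rw [h2, ← Nat.card_eq_fintype_card]
        exact Dvd.dvd.mul_left hsd _
      rcases hs.dvd_mul.1 h4 with h | h
      · have h5 := Nat.le_of_dvd (by norm_num) (h.trans (Nat.gcd_dvd_left 2 (Fintype.card F - 1)))
        omega
      · exact h
    have h2 : s ∣ Nat.card (SL(2, F)) := h1.trans (Subgroup.card_quotient_dvd_card _)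
    have : Fact s.Prime := ⟨hs⟩
    exact exists_prime_orderOf_dvd_card' s h2
  have hx4 := tr_ne hs hs5 hsF hx
  have hy : orderOf (x ^ 2) = s := by
    rw [orderOf_pow, hx, (Nat.coprime_primes hs Nat.prime_two).2 (by omega), Nat.div_one]
  have hy4 := tr_ne hs hs5 hsF hy
  obtain ⟨h1, h2⟩ := tr_sq_ne hs5 hx hx4 hs
  exact ⟨s, x, x ^ 2, hs, hs5, hsd, hx, hy, hx4, hy4, fun A hA => prod_tr h1 h2 hx4 hy4 hA⟩

end Cfsg.Agent.H269.T6
end

-- part: H269/T6/RowF4
section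
/-!
# S2464: the row `F₄(q)`, `q ≠ 2, 3, 5, 7, 17` (helper269)

* `dd_of_tr` : diagonalisation of `Y ∈ SL₂(K)` with `(tr Y)² ≠ 4` over an extension;
* `t6_F4`, `six_F4`.
-/

set_option autoImplicit false
set_option linter.unusedSectionVars false

namespace Cfsg.Agent.H269.T6

open Cfsg.Lie Polynomial
open Cfsg.Agent.FixBN.FieldRGD (uu vv dd ww)
open Cfsg.Agent.H145.SLTwo (cayley)
open scoped MatrixGroups

universe u

theorem charpoly2 {F : Type*} [Field F] (A : SL(2, F)) :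
    (A : Matrix (Fin 2) (Fin 2) F).charpoly = X ^ 2 - C (tr2 A) * X + 1 := by
  rw [Matrix.charpoly_fin_two, Matrix.SpecialLinearGroup.det_coe, C_1]

theorem coe_dd_pow {F : Type*} [Field F] (c : Fˣ) (s : ℕ) :
    ((dd (c : F) c.ne_zero ^ s : SL(2, F)) : Matrix (Fin 2) (Fin 2) F) 0 0 = (c : F) ^ s := by
  have h : ∀ s : ℕ, ((dd (c : F) c.ne_zero ^ s : SL(2, F)) : Matrix (Fin 2) (Fin 2) F) =
      Matrix.diagonal ![(c : F) ^ s, ((c : F)⁻¹) ^ s] := by
    intro s
    rw [Matrix.SpecialLinearGroup.coe_pow]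
    have h1 : ((dd (c : F) c.ne_zero : SL(2, F)) : Matrix (Fin 2) (Fin 2) F) = Matrix.diagonal ![(c : F), (c : F)⁻¹] := by
      change !![(c : F), 0; 0, (c : F)⁻¹] = _
      ext i j
      (revert i j; simp only [_root_.Fin.forall_fin_succ, _root_.Matrix.of_apply, _root_.Matrix.cons_val', _root_.Matrix.cons_val_fin_one, _root_.Nat.succ_eq_add_one, Nat.reduceAdd, Fin.isValue, _root_.Matrix.cons_val_zero, _root_.Matrix.cons_val_succ, _root_.Fin.succ_zero_eq_one, _root_.IsEmpty.forall_iff, _root_.and_true, _root_.Matrix.diagonal_apply_eq, _root_.ne_eq, _root_.zero_ne_one, _root_.not_false_eq_true, _root_.Matrix.diagonal_apply_ne, _root_.and_self, _root_.Fin.succ_ne_zero, _root_.true_and, _root_.Matrix.cons_val_one])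
    rw [h1, Matrix.diagonal_pow]
    congr 1
    funext i
    fin_cases i <;> simp
  rw [h, Matrix.diagonal_apply_eq]
  rfl

/-- diagonalisation -/
theorem dd_of_tr {K : Type u} [Field K] {Y : SL(2, K)} {s : ℕ} (hY : Y ^ s = 1) (h4 : tr2 Y ^ 2 ≠ 4) : DD Y s := by
  intro K' _ _ ι
  obtain ⟨Z, hZ⟩ : ∃ Z, Z = Matrix.SpecialLinearGroup.map ι Y := ⟨_, rfl⟩
  have hZt : tr2 Z = ι (tr2 Y) := by
    rw [hZ]
    change Matrix.trace ((Y : Matrix (Fin 2) (Fin 2) K).map ι) = ι (Matrix.trace (Y : Matrix (Fin 2) (Fin 2) K))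
    rw [Matrix.trace_fin_two, Matrix.trace_fin_two, map_add]
    rfl
  have hZ4 : tr2 Z ^ 2 ≠ 4 := by
    intro h
    apply h4
    apply ι.injective
    rw [map_pow, ← hZt, h]
    exact (map_ofNat ι 4).symm
  have hZs : Z ^ s = 1 := by rw [hZ, ← map_pow, hY, map_one]
  rw [← hZ]
  obtain ⟨f, hf⟩ : ∃ f : K'[X], f = X ^ 2 - C (tr2 Z) * X + 1 := ⟨_, rfl⟩
  have hfin : Finite f.SplittingField := Module.finite_of_finite K'
  obtain ⟨ι', hι'⟩ : ∃ ι' : K' →+* f.SplittingField, ι' = algebraMap K' f.SplittingField := ⟨_, rfl⟩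
  have hdeg : f.natDegree = 2 := by
    rw [hf, ← charpoly2, Matrix.charpoly_natDegree_eq_dim, Fintype.card_fin]
  have hsp : (f.map ι').Splits := by
    rw [hι']
    exact SplittingField.splits f
  obtain ⟨z, hz⟩ : ∃ z, (f.map ι').eval z = 0 := by
    refine Splits.exists_eval_eq_zero hsp ?_
    rw [degree_map]
    intro h
    have := natDegree_eq_zero_iff_degree_le_zero.2 h.le
    omega
  have hz1 : z ^ 2 - ι' (tr2 Z) * z + 1 = 0 := by
    have h2 : f.map ι' = (X ^ 2 - C (tr2 Z) * X + 1 : K'[X]).map ι' := congrArg (fun g : K'[X] => g.map ι') hf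
    rw [h2] at hz
    simpa only [_root_.Polynomial.map_add, _root_.Polynomial.map_sub, _root_.Polynomial.map_pow, _root_.Polynomial.map_X, _root_.Polynomial.map_mul, _root_.Polynomial.map_C, _root_.Polynomial.map_one, _root_.Polynomial.eval_add, _root_.Polynomial.eval_sub, _root_.Polynomial.eval_pow, _root_.Polynomial.eval_X, _root_.Polynomial.eval_mul, _root_.Polynomial.eval_C, _root_.Polynomial.eval_one] using hz
  have hz0 : z ≠ 0 := by
    rintro rfl
    norm_num at hz1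
  have hτ : ι' (tr2 Z) = z + z⁻¹ := by
    field_simp
    linear_combination -hz1
  have hzz : z ≠ z⁻¹ := by
    intro h
    apply hZ4
    apply ι'.injective
    rw [map_pow, hτ, ← h, map_ofNat]
    have h1 : z * z = 1 := by
      nth_rw 2 [h]
      exact mul_inv_cancel₀ hz0
    linear_combination 4 * h1
  have hlam : Function.Injective ![z, z⁻¹] := by
    intro i j hij
    fin_cases i <;> fin_cases j
    · rfl
    · exact absurd hij hzz
    · exact absurd hij.symm hzz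
    · rfl
  have hM : ((Matrix.SpecialLinearGroup.map ι' Z : SL(2, f.SplittingField)) :
      Matrix (Fin 2) (Fin 2) f.SplittingField).charpoly = ∏ i, (X - C (![z, z⁻¹] i)) := by
    rw [charpoly2, Fin.prod_univ_two]
    have h1 : tr2 (Matrix.SpecialLinearGroup.map ι' Z) = z + z⁻¹ := by
      rw [← hτ]
      change Matrix.trace ((Z : Matrix (Fin 2) (Fin 2) K').map ι') = ι' (Matrix.trace (Z : Matrix (Fin 2) (Fin 2) K'))
      rw [Matrix.trace_fin_two, Matrix.trace_fin_two, map_add]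
      rfl
    rw [h1]
    change X ^ 2 - C (z + z⁻¹) * X + 1 = (X - C z) * (X - C z⁻¹)
    have h2 : (1 : f.SplittingField[X]) = C z * C z⁻¹ := by rw [← C_mul, mul_inv_cancel₀ hz0, C_1]
    rw [h2, C_add]
    ring
  obtain ⟨P, hP⟩ := Cfsg.Agent.H194.Ore.exists_diag hlam hM (by norm_num)
  have he : Matrix.SpecialLinearGroup.map ι' Z = P * dd ((Units.mk0 z hz0 : (f.SplittingField)ˣ) : f.SplittingField)
      (Units.mk0 z hz0).ne_zero * P⁻¹ := by
    rw [eq_mul_inv_iff_mul_eq]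
    apply Subtype.ext
    rw [Matrix.SpecialLinearGroup.coe_mul, hP, Matrix.SpecialLinearGroup.coe_mul]
    congr 1
    change _ = !![z, 0; 0, z⁻¹]
    ext i j
    (revert i j; simp only [_root_.Fin.forall_fin_succ, _root_.Nat.succ_eq_add_one, Nat.reduceAdd, _root_.Matrix.of_apply, _root_.Matrix.cons_val', _root_.Matrix.cons_val_fin_one, Fin.isValue, _root_.Matrix.cons_val_zero, _root_.Matrix.cons_val_succ, _root_.Fin.succ_zero_eq_one, _root_.IsEmpty.forall_iff, _root_.and_true, _root_.Matrix.diagonal_apply_eq, _root_.ne_eq, _root_.zero_ne_one, _root_.not_false_eq_true, _root_.Matrix.diagonal_apply_ne, _root_.and_self, _root_.Fin.succ_ne_zero, _root_.true_and, _root_.Matrix.cons_val_one])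
  refine ⟨f.SplittingField, inferInstance, hfin, ι', Units.mk0 z hz0, P, he, ?_, ?_⟩
  · intro h
    apply hzz
    have : z = 1 := congrArg Units.val h
    rw [this, inv_one]
  · have h1 : dd ((Units.mk0 z hz0 : (f.SplittingField)ˣ) : f.SplittingField) (Units.mk0 z hz0).ne_zero ^ s = 1 := by
      have h2 : (P * dd ((Units.mk0 z hz0 : (f.SplittingField)ˣ) : f.SplittingField) (Units.mk0 z hz0).ne_zero * P⁻¹) ^ s
          = 1 := by rw [← he, ← map_pow, hZs, map_one]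
      rw [conj_pow] at h2
      rw [mul_inv_eq_one] at h2
      exact mul_left_cancel (h2.trans (mul_one P).symm)
    apply Units.ext
    have h2 := coe_dd_pow (Units.mk0 z hz0 : (f.SplittingField)ˣ) s
    rw [h1] at h2
    rw [Units.val_pow_eq_pow_val, ← h2, Units.val_one]
    rfl

theorem coprime_arith {q n s : ℕ} (hq : 4 ≤ q) (hs : s.Prime) (h5 : 5 ≤ s) (h1 : s ∣ q ^ 2 - 1)
    (h2 : n ∣ q ^ 2 + q + 1) : Nat.Coprime n s := by
  rw [Nat.coprime_comm, hs.coprime_iff_not_dvd]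
  intro h
  have h3 := h.trans h2
  obtain ⟨r, rfl⟩ := Nat.exists_eq_add_of_le hq
  have e1 : (4 + r) ^ 2 + (4 + r) + 1 - ((4 + r) ^ 2 - 1) = r + 6 := by
    have : 1 ≤ (4 + r) ^ 2 := Nat.one_le_pow _ _ (by omega)
    omega
  have h4 : s ∣ r + 6 := e1 ▸ Nat.dvd_sub h3 h1
  have e2 : (4 + r) ^ 2 - 1 - (r + 6) * (r + 2) = 3 := by
    have : (4 + r) ^ 2 = (r + 6) * (r + 2) + 4 := by ring
    omega
  have h6 : s ∣ 3 := e2 ▸ Nat.dvd_sub h1 (Dvd.dvd.mul_right h4 _)
  have := Nat.le_of_dvd (by norm_num) h6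
  omega

/-- **`F₄(q)`, `q ≠ 2, 3, 5, 7, 17`** -/
theorem t6_F4 {K : Type u} [Field K] [Finite K] (h4 : 4 ≤ Nat.card K) (h5 : Nat.card K ≠ 5) (h7 : Nat.card K ≠ 7)
    (h17 : Nat.card K ≠ 17) : Cfsg.Agent.H777.T6.T6 ↥(chevF4.group K) := by
  obtain ⟨s, x, y, hs, hs5, hsd, hx, hy, hx4, hy4, hA⟩ := sl_two h4 h5 h7 h17
  obtain ⟨c, hirr, hc6, hcd, hsq⟩ := Cfsg.Agent.H538.TC.exists_class_all (F := K) (by omega)
  have hs6 : Nat.Coprime s 6 := by
    rw [show (6 : ℕ) = 2 * 3 from rfl]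
    exact Nat.Coprime.mul_right ((Nat.coprime_primes hs Nat.prime_two).2 (by omega))
      ((Nat.coprime_primes hs Nat.prime_three).2 (by omega))
  have hxs : x ^ s = 1 := by rw [← hx, pow_orderOf_eq_one]
  have hys : y ^ s = 1 := by rw [← hy, pow_orderOf_eq_one]
  exact tabF.t6 Cfsg.Agent.Nodes.KindF.isType h4 (by norm_num) (Cfsg.Agent.S1054.result chevF4 (by simp))
    Cfsg.Agent.Nodes.ChevChart.irrF hirr (pow_orderOf_eq_one c) hc6 hsq hs6 (coprime_arith h4 hs hs5 hsd hcd) hxs hys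
    (dd_of_tr hxs hx4) (dd_of_tr hys hy4) hA

end Cfsg.Agent.H269.T6
end

private theorem dce_54db6bff3588 : _root_.True := by
  try have : _root_.True := by simp only [_root_.Cfsg.Agent.H529.O9.T.eq_1]
  try have : _root_.True := by simp only [_root_.Cfsg.Agent.H269.T6.tr2.eq_1]
  try have : _root_.True := by simp only [_root_.Cfsg.Lie.ChevalleyDatum.commWord.eq_1]
  try have : _root_.True := by simp only [_root_.Cfsg.Agent.FixBN.FieldRGD.dd.congr_simp]
  exact _root_.True.intro
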